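import Cfsg.Agent.H56.MonsterLeech

/-!
Elements of `Co0` fixing a short vector or the standard frame modulo twice the lattice.
-/

set_option autoImplicit false

namespace H56M

open Cfsg Finset H95

theorem negOne_mul_self : negOne * negOne = 1 :=
  co0_ext fun v => by rw [mul_smul, negOne_smul, negOne_smul, neg_neg, one_smul]

theorem eight_ne_neg (i j : GolayPt) : eight i ≠ -eight j := by
  intro h
  have := congrArg (fun v : leechLattice => (v : GolayPt → ℤ) i) h
  by_cases hij : j = i
  · subst hij; simp [eight] at this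
  · simp [eight, Ne.symm hij] at this

theorem eight_injective : Function.Injective eight := by
  intro i j h
  by_contra hij
  have := congrArg (fun v : leechLattice => (v : GolayPt → ℤ) i) h
  simp [eight, hij] at this

theorem eight_pm_inj {i j : GolayPt} {w : leechLattice} (hi : w = eight i ∨ w = -eight i)
    (hj : w = eight j ∨ w = -eight j) : i = j := by
  rcases hi with rfl | rfl <;> rcases hj with h | h
  · exact eight_injective h
  · exact absurd h (eight_ne_neg i j)
  · exact absurd h.symm (eight_ne_neg j i)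
  · exact eight_injective (neg_injective h)

theorem mono_eight {σ : Equiv.Perm GolayPt} {c : Finset GolayPt} (hσ : σ ∈ M24)
    (hc : c ∈ supports (golayCode : Set (GolayPt → ZMod 2))) (i : GolayPt) :
    mono σ c hσ hc • eight i = eight (σ i) ∨ mono σ c hσ hc • eight i = -eight (σ i) := by
  have e : ((mono σ c hσ hc • eight i : leechLattice) : GolayPt → ℤ)
      = Pi.single (σ i) (if σ i ∈ c then -8 else 8) := by
    rw [mono_smul]; exact signedPerm_single σ c i 8
  by_cases h : σ i ∈ c
  · right; apply Subtype.ext; rw [e, if_pos h, Pi.single_neg]; rfl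
  · left; apply Subtype.ext; rw [e, if_neg h]; rfl

theorem cls_eight (i : GolayPt) : cls (eight i) = cls (eight none) :=
  (cls_eq.mpr (eight_sub_mem_twice none i)).symm

theorem mono_of_fix_frame {g : Co0} (h : cls (g • eight none) = cls (eight none)) :
    ∃ (σ : Equiv.Perm GolayPt) (c : Finset GolayPt) (hσ : σ ∈ M24)
      (hc : c ∈ supports (golayCode : Set (GolayPt → ZMod 2))), g = mono σ c hσ hc := by
  refine exists_mono_of_eight fun i => ?_
  have hc : cls (g • eight i) = cls (eight none) := (cls_smul_congr g (cls_eight i)).trans h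
  obtain ⟨j, hj | hj⟩ := cross_std (by rw [co0_dot, eight_norm]) (cls_eq.mp hc.symm)
  · exact ⟨j, 8, Or.inl rfl, by rw [hj]; rfl⟩
  · exact ⟨j, -8, Or.inr rfl, by rw [hj]; exact (Pi.single_neg j 8).symm⟩

theorem fix_frame_mono {σ : Equiv.Perm GolayPt} {c : Finset GolayPt} (hσ : σ ∈ M24)
    (hc : c ∈ supports (golayCode : Set (GolayPt → ZMod 2))) :
    cls (mono σ c hσ hc • eight none) = cls (eight none) := by
  rcases mono_eight hσ hc none with h | h <;> rw [h]
  · exact cls_eight _
  · rw [cls_neg]; exact cls_eight _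

theorem cls_vBase_smul {g : Co0} (h : cls (g • vBase) = cls vBase) :
    g • vBase = vBase ∨ g • vBase = -vBase :=
  eq_or_neg_of_cls (by rw [co0_dot, vBase_norm]; norm_num) (by rw [vBase_norm]; norm_num) h
    (Or.inr (by rw [vBase_norm]; norm_num))

theorem perm_eq_one_of_fix {σ : Equiv.Perm GolayPt} (hσ : σ ∈ M24)
    (h : ∀ i, i ≠ none → i ≠ some 0 → σ i = i) : σ = 1 := by
  classical
  have hn : σ none = none := by
    by_contra hne
    have h0 : σ none = some 0 := by
      by_contra hne'
      exact hne (σ.injective (h _ hne hne'))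
    have h1 : σ (some 0) = none := by
      by_contra hne'
      have hne0 : σ (some 0) ≠ some 0 := fun e => by
        have := σ.injective (h0.trans e.symm); simp at this
      exact hne0 (σ.injective (h _ hne' hne0))
    obtain ⟨a, ha, hv⟩ := exists_code_small ({none, some 0} : Finset GolayPt)
      (le_trans card_le_two (by norm_num)) (Pi.single none 1)
    have hb := sub_mem (perm_symm_mem_code hσ ha) ha
    set b : GolayPt → ZMod 2 := (fun i => a (σ.symm i)) - a with hbdef
    have hsupp : support₂ b ⊆ {none, some 0} := by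
      intro i hi
      simp only [support₂, mem_filter, mem_univ, true_and, hbdef, Pi.sub_apply, ne_eq] at hi
      by_contra hn'
      simp only [mem_insert, mem_singleton, not_or] at hn'
      apply hi
      have : σ.symm i = i := by rw [Equiv.symm_apply_eq, h i hn'.1 hn'.2]
      rw [this, sub_self]
    have hb0 : b ≠ 0 := by
      intro e
      have e' := congrFun e none
      simp only [hbdef, Pi.sub_apply, Pi.zero_apply, (Equiv.symm_apply_eq σ).mpr h1.symm] at e'
      rw [hv none (by simp), hv (some 0) (by simp)] at e'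
      simp at e'
    have h8 := golayOK.like.min8 b hb hb0
    rw [hammingNorm_eq_support₂] at h8
    have h2 := (card_le_card hsupp).trans card_le_two
    omega
  refine Equiv.ext fun i => ?_
  show σ i = i
  by_cases h1 : i = none
  · rw [h1, hn]
  · by_cases h2 : i = some 0
    · subst h2
      by_contra hne
      have hne' : σ (some 0) ≠ none := fun e => by
        have := σ.injective (e.trans hn.symm); simp at this
      exact hne (σ.injective (h _ hne' hne))
    · exact h i h1 h2

theorem quad_fix {σ : Equiv.Perm GolayPt} {c : Finset GolayPt} (hσ : σ ∈ M24)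
    (hc : c ∈ supports (golayCode : Set (GolayPt → ZMod 2))) {i j : GolayPt} (hij : i ≠ j)
    (h : mono σ c hσ hc • quad i j hij 1 1 (Or.inl rfl) (Or.inl rfl)
          = quad i j hij 1 1 (Or.inl rfl) (Or.inl rfl)
        ∨ mono σ c hσ hc • quad i j hij 1 1 (Or.inl rfl) (Or.inl rfl)
          = -quad i j hij 1 1 (Or.inl rfl) (Or.inl rfl)
        ∨ mono σ c hσ hc • quad i j hij 1 1 (Or.inl rfl) (Or.inl rfl)
          = quad i j hij 1 (-1) (Or.inl rfl) (Or.inr rfl)
        ∨ mono σ c hσ hc • quad i j hij 1 1 (Or.inl rfl) (Or.inl rfl)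
          = -quad i j hij 1 (-1) (Or.inl rfl) (Or.inr rfl)) :
    (σ i = i ∨ σ i = j) ∧ ((σ i = i ∧ σ j = j) →
      (mono σ c hσ hc • quad i j hij 1 1 (Or.inl rfl) (Or.inl rfl)
          = quad i j hij 1 1 (Or.inl rfl) (Or.inl rfl)
        ∨ mono σ c hσ hc • quad i j hij 1 1 (Or.inl rfl) (Or.inl rfl)
          = -quad i j hij 1 1 (Or.inl rfl) (Or.inl rfl)) → (i ∈ c ↔ j ∈ c)) := by
  have e : ∀ k, ((mono σ c hσ hc • quad i j hij 1 1 (Or.inl rfl) (Or.inl rfl) : leechLattice)
      : GolayPt → ℤ) (σ k) = if σ k ∈ c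
        then -((Pi.single i 4 + Pi.single j 4 : GolayPt → ℤ) k)
        else (Pi.single i 4 + Pi.single j 4 : GolayPt → ℤ) k := by
    intro k
    rw [mono_smul]
    simp [signedPerm, quad]
  constructor
  · by_contra hn
    simp only [not_or] at hn
    have e1 := e i
    rcases h with h | h | h | h <;> rw [h] at e1 <;>
      simp [quad, hij, hn.1, hn.2, Pi.single_apply] at e1 <;>
      split at e1 <;> omega
  · rintro ⟨hi, hj⟩ h2
    have e1 := e i
    have e2 := e j
    rw [hi] at e1; rw [hj] at e2
    rcases h2 with h2 | h2 <;> rw [h2] at e1 e2 <;>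
      simp [quad, hij, hij.symm] at e1 e2 <;>
      by_cases a : i ∈ c <;> by_cases b : j ∈ c <;> simp [a, b] at e1 e2 ⊢

theorem exists_third (S : Finset GolayPt) (hS : S.card ≤ 23) : ∃ k, k ∉ S := by
  by_contra h
  push Not at h
  have := card_le_card (fun i (_ : i ∈ univ) => h i)
  rw [card_univ, show Fintype.card GolayPt = 24 from rfl] at this
  omega

/-- A code word containing all or none of the points outside two points. -/
theorem code_two_cases {c : Finset GolayPt}
    (hc : c ∈ supports (golayCode : Set (GolayPt → ZMod 2)))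
    (h : ∀ i j, i ≠ none → i ≠ some 0 → j ≠ none → j ≠ some 0 → (i ∈ c ↔ j ∈ c)) :
    c = ∅ ∨ c = univ := by
  classical
  have small : ∀ d : Finset GolayPt, ind d ∈ golayCode → d ⊆ {none, some 0} → d = ∅ := by
    intro d hd hsub
    by_contra hne
    have h0 : ind d ≠ 0 := fun e => hne (by rw [← support₂_ind d, e]; simp [support₂])
    have := golayOK.like.min8 _ hd h0
    rw [hammingNorm_eq_support₂, support₂_ind] at this
    have h2 := (card_le_card hsub).trans card_le_two
    omega
  obtain ⟨k, hk⟩ := exists_third {none, some 0} (le_trans card_le_two (by norm_num))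
  simp only [mem_insert, mem_singleton, not_or] at hk
  by_cases hkc : k ∈ c
  · right
    have hd : ind (univ \ c) ∈ golayCode := by
      have : ind (univ \ c) = ind c + 1 := by
        funext i; by_cases hi : i ∈ c <;> simp [ind, hi] <;> decide
      rw [this]; exact add_mem (mem_supports_iff.mp hc) one_mem_code
    have := small _ hd (fun i hi => by
      simp only [mem_sdiff, mem_univ, true_and] at hi
      by_contra hn
      simp only [mem_insert, mem_singleton, not_or] at hn
      exact hi ((h k i hk.1 hk.2 hn.1 hn.2).mp hkc))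
    rw [sdiff_eq_empty_iff_subset] at this
    exact univ_subset_iff.mp this
  · left
    exact small c (mem_supports_iff.mp hc) (fun i hi => by
      by_contra hn
      simp only [mem_insert, mem_singleton, not_or] at hn
      exact hkc ((h i k hn.1 hn.2 hk.1 hk.2).mp hi))

theorem mono_one_empty {h1 : (1 : Equiv.Perm GolayPt) ∈ M24}
    {h2 : (∅ : Finset GolayPt) ∈ supports (golayCode : Set (GolayPt → ZMod 2))} :
    mono 1 ∅ h1 h2 = 1 :=
  co0_ext fun v => Subtype.ext (by rw [mono_smul, one_smul]; funext i; simp [signedPerm]; rfl)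

theorem mono_one_univ {h1 : (1 : Equiv.Perm GolayPt) ∈ M24}
    {h2 : (univ : Finset GolayPt) ∈ supports (golayCode : Set (GolayPt → ZMod 2))} :
    mono 1 univ h1 h2 = negOne :=
  co0_ext fun v => Subtype.ext (by rw [mono_smul, negOne_smul]; funext i; simp [signedPerm]; rfl)

theorem scalar_of_fix_orth {g : Co0} (hgv : g • vBase = vBase ∨ g • vBase = -vBase)
    (h : ∀ w, ldot w w = 32 → ldot vBase w = 0 → g • w = w ∨ g • w = -w) :
    g = 1 ∨ g = negOne := by
  classical
  have hs : (none : GolayPt) ≠ some 0 := by simp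
  have hv : ∀ k, k ≠ none → k ≠ some 0 → (vBase : GolayPt → ℤ) k = 0 := fun k h1 h2 => by
    rw [coe_vBase]; simp [h1, h2]
  have horth : ∀ i j (hij : i ≠ j) (s t : ℤ) (hs' : s = 1 ∨ s = -1) (ht : t = 1 ∨ t = -1),
      i ≠ none → i ≠ some 0 → j ≠ none → j ≠ some 0 →
      g • quad i j hij s t hs' ht = quad i j hij s t hs' ht
        ∨ g • quad i j hij s t hs' ht = -quad i j hij s t hs' ht := by
    intro i j hij s t hs' ht h1 h2 h3 h4
    refine h _ (quad_norm _ _ _) ?_
    rw [ldot_quad, hv i h1 h2, hv j h3 h4]; ring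
  have hsum : ∀ i j (hij : i ≠ j), eight i = quad i j hij 1 1 (Or.inl rfl) (Or.inl rfl)
      + quad i j hij 1 (-1) (Or.inl rfl) (Or.inr rfl) := by
    intro i j hij
    apply Subtype.ext
    show Pi.single i 8 = (Pi.single i (4 * 1) + Pi.single j (4 * 1)
      + (Pi.single i (4 * 1) + Pi.single j (4 * -1)) : GolayPt → ℤ)
    rw [add_add_add_comm, ← Pi.single_add, ← Pi.single_add]
    simp
  have hdiff : ∀ i j (hij : i ≠ j), eight j = quad i j hij 1 1 (Or.inl rfl) (Or.inl rfl)
      + -quad i j hij 1 (-1) (Or.inl rfl) (Or.inr rfl) := by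
    intro i j hij
    apply Subtype.ext
    show Pi.single j 8 = (Pi.single i (4 * 1) + Pi.single j (4 * 1)
      + -(Pi.single i (4 * 1) + Pi.single j (4 * -1)) : GolayPt → ℤ)
    rw [neg_add, add_add_add_comm, ← Pi.single_neg, ← Pi.single_neg, ← Pi.single_add,
      ← Pi.single_add]
    simp
  have himg : ∀ i j (hij : i ≠ j),
      (g • quad i j hij 1 1 (Or.inl rfl) (Or.inl rfl) = quad i j hij 1 1 (Or.inl rfl) (Or.inl rfl)
        ∨ g • quad i j hij 1 1 (Or.inl rfl) (Or.inl rfl)
          = -quad i j hij 1 1 (Or.inl rfl) (Or.inl rfl)) →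
      (g • quad i j hij 1 (-1) (Or.inl rfl) (Or.inr rfl)
          = quad i j hij 1 (-1) (Or.inl rfl) (Or.inr rfl)
        ∨ g • quad i j hij 1 (-1) (Or.inl rfl) (Or.inr rfl)
          = -quad i j hij 1 (-1) (Or.inl rfl) (Or.inr rfl)) →
      ∃ k, (k = i ∨ k = j) ∧ (g • eight i = eight k ∨ g • eight i = -eight k) := by
    intro i j hij h1 h2
    rw [hsum i j hij, co0_add]
    rcases h1 with h1 | h1 <;> rcases h2 with h2 | h2 <;> rw [h1, h2]
    · exact ⟨i, Or.inl rfl, Or.inl (hsum i j hij).symm⟩
    · exact ⟨j, Or.inr rfl, Or.inl (hdiff i j hij).symm⟩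
    · exact ⟨j, Or.inr rfl, Or.inr (by rw [hdiff i j hij]; abel)⟩
    · exact ⟨i, Or.inl rfl, Or.inr (by rw [hsum i j hij]; abel)⟩
  have hfix : ∀ i, i ≠ none → i ≠ some 0 → (g • eight i = eight i ∨ g • eight i = -eight i) := by
    intro i h1 h2
    obtain ⟨j, hj⟩ := exists_third {none, some 0, i} (le_trans card_le_three (by norm_num))
    obtain ⟨j', hj'⟩ := exists_third {none, some 0, i, j} (le_trans card_le_four (by norm_num))
    simp only [mem_insert, mem_singleton, not_or] at hj hj'
    have hij : i ≠ j := Ne.symm hj.2.2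
    have hij' : i ≠ j' := Ne.symm hj'.2.2.1
    obtain ⟨k, hk, hgk⟩ := himg i j hij (horth i j hij 1 1 _ _ h1 h2 hj.1 hj.2.1)
      (horth i j hij 1 (-1) _ _ h1 h2 hj.1 hj.2.1)
    obtain ⟨k', hk', hgk'⟩ := himg i j' hij' (horth i j' hij' 1 1 _ _ h1 h2 hj'.1 hj'.2.1)
      (horth i j' hij' 1 (-1) _ _ h1 h2 hj'.1 hj'.2.1)
    have hkk := eight_pm_inj hgk hgk'
    subst hkk
    rcases hk with rfl | rfl
    · exact hgk
    · rcases hk' with rfl | rfl
      · exact hgk
      · exact absurd rfl hj'.2.2.2
  obtain ⟨σ, c, hσ, hc, rfl⟩ := exists_mono_of_eight (g := g) (fun i => by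
    obtain ⟨k, hk⟩ : ∃ k, g • eight i = eight k ∨ g • eight i = -eight k := by
      by_cases h1 : i = none
      · subst h1
        obtain ⟨k, -, hk⟩ := himg none (some 0) hs hgv (h zBase zBase_norm vBase_zBase)
        exact ⟨k, hk⟩
      · by_cases h2 : i = some 0
        · subst h2
          have e : eight (some 0) = vBase + -zBase := hdiff none (some 0) hs
          have e' : eight none = vBase + zBase := hsum none (some 0) hs
          rw [e, co0_add, co0_neg]
          rcases hgv with h1 | h1 <;> rcases h zBase zBase_norm vBase_zBase with h3 | h3 <;>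
            rw [h1, h3]
          · exact ⟨some 0, Or.inl e.symm⟩
          · exact ⟨none, Or.inl (by rw [e']; abel)⟩
          · exact ⟨none, Or.inr (by rw [e']; abel)⟩
          · exact ⟨some 0, Or.inr (by rw [e]; abel)⟩
        · exact ⟨i, hfix i h1 h2⟩
    rcases hk with hk | hk
    · exact ⟨k, 8, Or.inl rfl, by rw [hk]; rfl⟩
    · exact ⟨k, -8, Or.inr rfl, by rw [hk]; exact (Pi.single_neg k 8).symm⟩)
  have hσ1 : σ = 1 := perm_eq_one_of_fix hσ fun i h1 h2 =>
    eight_pm_inj (mono_eight hσ hc i) (hfix i h1 h2)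
  subst hσ1
  rcases code_two_cases hc (fun i j h1 h2 h3 h4 => by
    by_cases hij : i = j
    · rw [hij]
    · have := horth i j hij 1 1 (Or.inl rfl) (Or.inl rfl) h1 h2 h3 h4
      exact (quad_fix hσ hc hij (by
        rcases this with h | h
        exacts [Or.inl h, Or.inr (Or.inl h)])).2 ⟨rfl, rfl⟩ this) with rfl | rfl
  · exact Or.inl mono_one_empty
  · exact Or.inr mono_one_univ

/-- acting trivially on the orthogonal of a short vector modulo it -/
theorem scalar_of_kernel32 {g : Co0} (hgv : cls (g • vBase) = cls vBase)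
    (h : ∀ w, bf vBase w = 0 → cls (g • w) = cls w ∨ cls (g • w) = cls w + cls vBase) :
    g = 1 ∨ g = negOne := by
  refine scalar_of_fix_orth (cls_vBase_smul hgv) fun w hw h0 => ?_
  rcases h w (by rw [bf_eq_zero, h0]; norm_num) with h1 | h1
  · exact eq_or_neg_of_cls (by rw [co0_dot, hw]; norm_num) (by rw [hw]; norm_num) h1
      (Or.inr (by rw [hw]; norm_num))
  · rw [← cls_add] at h1
    have h64 : ldot (w + vBase) (w + vBase) = 64 := by
      rw [leechLike.norm_add, hw, vBase_norm, ldot_comm w vBase, h0]; norm_num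
    rcases eq_or_neg_of_cls (by rw [co0_dot, hw]; norm_num) (by rw [h64]) h1
      (Or.inl (by rw [co0_dot, hw]; norm_num)) with h2 | h2 <;>
      · have := co0_dot g w w
        rw [h2] at this
        first | rw [leechLike.norm_neg, h64, hw] at this | rw [h64, hw] at this
        omega

/-- the permutation part of a code set meeting every octad in a code word -/
theorem cases_of_octads {c : Finset GolayPt}
    (h : ∀ o ∈ golayCode, hammingNorm o = 8 → ind (support₂ o ∩ c) ∈ golayCode) :
    c = ∅ ∨ c = univ := by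
  classical
  have key : ∀ o ∈ golayCode, hammingNorm o = 8 → support₂ o ∩ c = ∅ ∨ support₂ o ⊆ c := by
    intro o ho h8
    by_cases h0 : support₂ o ∩ c = ∅
    · exact Or.inl h0
    · right
      have hd := h o ho h8
      have hne : ind (support₂ o ∩ c) ≠ 0 := fun e => h0 (by
        rw [← support₂_ind (support₂ o ∩ c), e]; simp [support₂])
      have h8' := golayOK.like.min8 _ hd hne
      rw [hammingNorm_eq_support₂, support₂_ind] at h8'
      have := eq_of_subset_of_card_le (inter_subset_left (s₁ := support₂ o) (s₂ := c)) (by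
        rw [← hammingNorm_eq_support₂, h8]; exact h8')
      exact inter_eq_left.mp this
  obtain ⟨o, ho, h8⟩ : ∃ o ∈ golayCode, hammingNorm o = 8 := by
    by_contra hn
    push Not at hn
    have h1 := one_mem_code
    rw [← golayOK.like.span_octads] at h1
    have : ∀ v ∈ Submodule.span (ZMod 2) {o | o ∈ golayCode ∧ hammingNorm o = 8}, v = 0 := by
      intro v hv
      induction hv using Submodule.span_induction with
      | mem x hx => exact absurd hx.2 (hn x hx.1)
      | zero => rfl
      | add a b _ _ ha hb => rw [ha, hb, add_zero]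
      | smul r a _ ha => rw [ha, smul_zero]
    have := congrFun (this _ h1) none
    simp at this
  obtain ⟨a, ha⟩ : ∃ a, a ∈ support₂ o := card_pos.mp (by rw [← hammingNorm_eq_support₂, h8]; norm_num)
  obtain ⟨b, hb, hba⟩ := exists_mem_ne (s := support₂ o)
    (by rw [← hammingNorm_eq_support₂, h8]; norm_num) a
  have link : ∀ i j, i ∈ c → j ∈ c := by
    intro i j hi
    by_cases hij : i = j
    · exact hij ▸ hi
    obtain ⟨τ, hτ, hτa, hτb⟩ := m24_move_two hba.symm hij
    have ho' := perm_symm_mem_code hτ ho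
    have h8' : hammingNorm (fun k => o (τ.symm k)) = 8 := by
      rw [← h8, hammingNorm_eq_support₂, hammingNorm_eq_support₂]
      rw [← card_map τ.toEmbedding (s := support₂ o)]
      congr 1
      ext k
      simp only [support₂, mem_filter, mem_univ, true_and, mem_map_equiv]
    have hmi : i ∈ support₂ (fun k => o (τ.symm k)) := by
      simpa [support₂, ← hτa] using ha
    have hmj : j ∈ support₂ (fun k => o (τ.symm k)) := by
      simpa [support₂, ← hτb] using hb
    rcases key _ ho' h8' with he | he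
    · exact absurd (mem_inter.mpr ⟨hmi, hi⟩) (by rw [he]; simp)
    · exact he hmj
  by_cases hne : c.Nonempty
  · obtain ⟨i, hi⟩ := hne
    exact Or.inr (univ_subset_iff.mp fun j _ => link i j hi)
  · exact Or.inl (not_nonempty_iff_eq_empty.mp hne)

/-- twice an octad as a lattice vector -/
theorem double_mem {o : GolayPt → ZMod 2} (ho : o ∈ golayCode) :
    (fun i => 2 * ((o i).val : ℤ)) ∈ leechLattice :=
  mem_of_form (z := 0) (m := 0) ho (fun i => by simp) (by
    rw [← mul_sum, sum_val]; have := golayOK.four_dvd ho; omega)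

/-- acting trivially on the orthogonal of the frame modulo it -/
theorem scalar_of_kernel64 {g : Co0} (hg : cls (g • eight none) = cls (eight none))
    (h : ∀ x, bf (eight none) x = 0 → cls (g • x) = cls x ∨ cls (g • x) = cls x + cls (eight none)) :
    g = 1 ∨ g = negOne := by
  classical
  obtain ⟨σ, c, hσ, hc, rfl⟩ := mono_of_fix_frame hg
  have heven : ∀ x : leechLattice, 2 ∣ (x : GolayPt → ℤ) none → bf (eight none) x = 0 := fun x hx => by
    rw [bf_comm]; exact (bf_eight x none).mpr hx
  have hpair : ∀ i j, i ≠ j → (σ i = i ∨ σ i = j) := by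
    intro i j hij
    refine (quad_fix hσ hc hij ?_).1
    have hq : 2 ∣ ((quad i j hij 1 1 (Or.inl rfl) (Or.inl rfl) : leechLattice) : GolayPt → ℤ) none := by
      show 2 ∣ (Pi.single i (4 * 1) + Pi.single j (4 * 1) : GolayPt → ℤ) none
      rw [Pi.add_apply, Pi.single_apply, Pi.single_apply]; split <;> split <;> norm_num
    have hn : ∀ w, ldot w w = 32 → cls (mono σ c hσ hc • quad i j hij 1 1 (Or.inl rfl) (Or.inl rfl))
        = cls w → mono σ c hσ hc • quad i j hij 1 1 (Or.inl rfl) (Or.inl rfl) = w
          ∨ mono σ c hσ hc • quad i j hij 1 1 (Or.inl rfl) (Or.inl rfl) = -w := fun w hw he =>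
      eq_or_neg_of_cls (by rw [co0_dot, quad_norm]; norm_num) (by rw [hw]; norm_num) he
        (Or.inr (by rw [hw]; norm_num))
    rcases h _ (heven _ hq) with h1 | h1
    · rcases hn _ (quad_norm _ _ _) h1 with h2 | h2
      · exact Or.inl h2
      · exact Or.inr (Or.inl h2)
    · have e : cls (quad i j hij 1 1 (Or.inl rfl) (Or.inl rfl)) + cls (eight none)
          = cls (quad i j hij 1 (-1) (Or.inl rfl) (Or.inr rfl)) := by
        rw [← cls_eight j, ← cls_sub]
        congr 1
        apply Subtype.ext
        show (Pi.single i (4 * 1) + Pi.single j (4 * 1) : GolayPt → ℤ) - Pi.single j 8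
          = Pi.single i (4 * 1) + Pi.single j (4 * -1)
        rw [add_sub_assoc, ← Pi.single_sub]; norm_num
      rw [e] at h1
      rcases hn _ (quad_norm _ _ _) h1 with h2 | h2
      · exact Or.inr (Or.inr (Or.inl h2))
      · exact Or.inr (Or.inr (Or.inr h2))
  have hσ1 : σ = 1 := Equiv.ext fun i => by
    obtain ⟨j, hj⟩ := exists_third {i} (by simp)
    obtain ⟨k, hk⟩ := exists_third {i, j} (le_trans card_le_two (by norm_num))
    simp only [mem_insert, mem_singleton, not_or] at hj hk
    rcases hpair i j (Ne.symm hj) with h1 | h1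
    · exact h1
    · rcases hpair i k (Ne.symm hk.1) with h2 | h2
      · exact h2
      · exact absurd (h2.symm.trans h1) hk.2
  subst hσ1
  rcases cases_of_octads (c := c) (fun o ho h8 => by
    set x : leechLattice := ⟨_, double_mem ho⟩ with hxdef
    have hxe : 2 ∣ (x : GolayPt → ℤ) none := ⟨_, rfl⟩
    refine code_of_four (x := x - mono 1 c hσ hc • x) (fun i => ?_) ?_
    · rw [AddSubgroup.coe_sub, Pi.sub_apply, mono_smul]
      show 2 * ((o i).val : ℤ) - (if i ∈ c then -(2 * ((o i).val : ℤ)) else 2 * ((o i).val : ℤ)) = _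
      rcases zmod2_cases (o i) with e | e <;> rw [e] <;> by_cases hi : i ∈ c <;>
        simp [support₂, e, hi, show ((1 : ZMod 2).val : ℤ) = 1 from rfl]
    · rw [cls_sub]
      rcases h x (heven x hxe) with h1 | h1 <;> rw [h1]
      · exact Or.inl (cls_add_self _)
      · exact Or.inr (by rw [← add_assoc, cls_add_self, zero_add])) with rfl | rfl
  · exact Or.inl mono_one_empty
  · exact Or.inr mono_one_univ

/-! ### normal 2-subgroups of the stabilisers -/

theorem inv_mem_fix {g : Co0} {v : leechLattice} (h : cls (g • v) = cls v) :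
    cls (g⁻¹ • v) = cls v := by
  have := cls_smul_congr g⁻¹ h
  rw [inv_smul_smul] at this
  exact this.symm

/-- a 2-subgroup normalised by the stabiliser of a short vector is scalar -/
theorem no_two_normal32 (N : Subgroup Co0) (hN : IsPGroup 2 N)
    (hfix : ∀ n ∈ N, cls (n • vBase) = cls vBase)
    (hnorm : ∀ g : Co0, cls (g • vBase) = cls vBase → ∀ n ∈ N, g⁻¹ * n * g ∈ N) :
    ∀ n ∈ N, n = 1 ∨ n = negOne := by
  classical
  have hsm : ∀ n ∈ N, ∀ w, ldot w w = 32 → ldot vBase w = 0 →
      ldot (n • w) (n • w) = 32 ∧ ldot vBase (n • w) = 0 := by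
    intro n hn w hw h0
    refine ⟨by rw [co0_dot, hw], ?_⟩
    rcases cls_vBase_smul (hfix n hn) with h | h
    · rw [← h, co0_dot, h0]
    · rw [show vBase = -(n • vBase) by rw [h, neg_neg], leechLike.neg_left, co0_dot, h0, neg_zero]
  set S := ((leechLike.finite_norm (N := 32) (by norm_num)).subset
    (fun w (hw : w ∈ minWith vBase 0) => hw.1)).toFinset with hSdef
  have mS : ∀ w, w ∈ S ↔ ldot w w = 32 ∧ ldot vBase w = 0 := fun w => Set.Finite.mem_toFinset _
  have hScard : S.card = 93150 := by
    rw [← (census_min golayUnique vBase_norm).2.2]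
    exact (Set.ncard_eq_toFinset_card _ _).symm
  set Ω := S.image cls with hΩdef
  have hΩ : Ω.card = 46575 := by
    have : 2 * Ω.card = S.card := two_mul_card_image S 32 (by norm_num) (by norm_num) (fun v hv => ((mS v).mp hv).1)
      (fun v hv => (mS _).mpr ⟨by rw [leechLike.norm_neg]; exact ((mS v).mp hv).1,
        by rw [leechLike.neg_right, ((mS v).mp hv).2, neg_zero]⟩)
    omega
  let act : N → Cls → Cls := fun n a => QuotientAddGroup.map (twice leechLattice) (twice leechLattice)
    (co0Hom (n : Co0)) (fun v hv => smul_twice _ hv) a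
  have hact : ∀ (n : N) v, act n (cls v) = cls ((n : Co0) • v) := fun n v => rfl
  have hmem : ∀ (n : N) (a : Cls), a ∈ Ω → act n a ∈ Ω := by
    intro n a ha
    obtain ⟨w, hw, rfl⟩ := mem_image.mp ha
    rw [hact]
    exact mem_image.mpr ⟨_, (mS _).mpr (hsm n n.2 w ((mS w).mp hw).1 ((mS w).mp hw).2), rfl⟩
  letI : MulAction N Ω :=
    { smul := fun n a => ⟨act n a, hmem n a a.2⟩
      one_smul := fun a => Subtype.ext (by
        obtain ⟨w, -, hwa⟩ := mem_image.mp a.2
        show act 1 (a : Cls) = a
        rw [← hwa, hact, OneMemClass.coe_one, one_smul])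
      mul_smul := fun m n a => Subtype.ext (by
        obtain ⟨w, -, hwa⟩ := mem_image.mp a.2
        show act (m * n) (a : Cls) = act m (act n a)
        rw [← hwa, hact, hact, hact, Subgroup.coe_mul, mul_smul]) }
  have : Fact (Nat.Prime 2) := ⟨Nat.prime_two⟩
  have : Finite N := by have := co0_finite; infer_instance
  obtain ⟨a, ha⟩ := hN.nonempty_fixed_point_of_prime_not_dvd_card Ω (by
    rw [Nat.card_eq_fintype_card, Fintype.card_coe, hΩ]; norm_num)
  obtain ⟨w0, hw0, hw0a⟩ := mem_image.mp a.2
  have hfix0 : ∀ n ∈ N, cls (n • w0) = cls w0 := by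
    intro n hn
    have := congrArg Subtype.val (ha ⟨n, hn⟩)
    change act ⟨n, hn⟩ (a : Cls) = a at this
    rwa [← hw0a, hact] at this
  intro n hn
  refine scalar_of_fix_orth (cls_vBase_smul (hfix n hn)) fun w hw h0 => ?_
  obtain ⟨g, hg1, hg2⟩ := orth_pair_transitive golayUnique vBase_norm ((mS w0).mp hw0).1
    ((mS w0).mp hw0).2 vBase_norm hw h0
  have h1 := hfix0 _ (hnorm g (by rw [hg1]) n hn)
  have h2 := cls_smul_congr g h1
  rw [hg2, ← mul_smul, show g * (g⁻¹ * n * g) = n * g by group, mul_smul, hg2] at h2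
  exact eq_or_neg_of_cls (by rw [co0_dot, hw]; norm_num) (by rw [hw]; norm_num) h2
    (Or.inr (by rw [hw]; norm_num))

/-- the normal 2-subgroups of `M24` are trivial -/
theorem m24_two_normal {T : Subgroup M24} [T.Normal] (hT : IsPGroup 2 T) : T = ⊥ := by
  classical
  rw [Subgroup.eq_bot_iff_forall]
  intro t ht
  apply Subtype.ext
  refine Equiv.ext fun a => ?_
  show (t : Equiv.Perm GolayPt) a = a
  by_contra hne
  set b := (t : Equiv.Perm GolayPt) a
  have : Fact (Nat.Prime 2) := ⟨Nat.prime_two⟩
  have : Finite T := inferInstance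
  have horb : ∀ x, x ∈ MulAction.orbit T a := by
    intro x
    by_cases hx : x = a
    · rw [hx]; exact MulAction.mem_orbit_self a
    obtain ⟨σ, hσ, hσa, hσb⟩ := m24_move_two (p := a) (q := b) (p' := a) (q' := x)
      (Ne.symm hne) (Ne.symm hx)
    have hmem : (⟨σ, hσ⟩ : M24) * t * (⟨σ, hσ⟩ : M24)⁻¹ ∈ T :=
      (inferInstance : T.Normal).conj_mem t ht _
    refine ⟨⟨_, hmem⟩, ?_⟩
    show σ ((t : Equiv.Perm GolayPt) (σ⁻¹ a)) = x
    rw [show σ⁻¹ a = a by rw [Equiv.Perm.inv_def, Equiv.symm_apply_eq, hσa]]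
    exact hσb
  obtain ⟨n, hn⟩ := hT.card_orbit a
  have h24 : Nat.card (MulAction.orbit T a) = 24 := by
    rw [Set.eq_univ_of_forall horb, Nat.card_coe_set_eq, Set.ncard_univ, Nat.card_eq_fintype_card]
    rfl
  rw [h24] at hn
  have h3 : 3 ∣ 2 ^ n := ⟨8, by rw [← hn]⟩
  exact absurd (Nat.prime_three.dvd_of_dvd_pow h3) (by norm_num)

/-- a 2-subgroup normalised by the frame stabiliser consists of sign changes -/
theorem two_normal64 (N : Subgroup Co0) (hN : IsPGroup 2 N)
    (hfix : ∀ n ∈ N, cls (n • eight none) = cls (eight none))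
    (hnorm : ∀ g : Co0, cls (g • eight none) = cls (eight none) → ∀ n ∈ N, g⁻¹ * n * g ∈ N) :
    ∀ n ∈ N, ∃ (c : Finset GolayPt) (hc : c ∈ supports (golayCode : Set (GolayPt → ZMod 2))),
      n = mono 1 c (one_mem _) hc := by
  classical
  choose σ c hσ hc hn using fun n : N => mono_of_fix_frame (hfix n n.2)
  have hperm : ∀ (n : N) i, (n : Co0) • eight i = eight (σ n i) ∨ (n : Co0) • eight i = -eight (σ n i) :=
    fun n i => by rw [hn n]; exact mono_eight _ _ i
  let φ : N →* M24 := MonoidHom.mk' (fun n => ⟨σ n, hσ n⟩) fun m n => Subtype.ext (Equiv.ext fun i => by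
    refine eight_pm_inj (hperm (m * n) i) ?_
    show _ = eight (σ m (σ n i)) ∨ _ = -eight (σ m (σ n i))
    rw [Subgroup.coe_mul, mul_smul]
    rcases hperm n i with h | h <;> rcases hperm m (σ n i) with h' | h'
    · exact Or.inl (by rw [h, h'])
    · exact Or.inr (by rw [h, h'])
    · exact Or.inr (by rw [h, co0_neg, h'])
    · exact Or.inl (by rw [h, co0_neg, h', neg_neg]))
  have : φ.range.Normal := ⟨by
    rintro _ ⟨n, rfl⟩ τ
    have he : (∅ : Finset GolayPt) ∈ supports (golayCode : Set (GolayPt → ZMod 2)) :=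
      ⟨0, zero_mem _, by ext i; simp [support₂]⟩
    have hm := hnorm (mono (τ⁻¹ : M24) ∅ (τ⁻¹ : M24).2 he) (fix_frame_mono _ _) n n.2
    refine ⟨⟨_, hm⟩, Subtype.ext (Equiv.ext fun i => ?_)⟩
    set g := mono ((τ⁻¹ : M24) : Equiv.Perm GolayPt) ∅ (τ⁻¹ : M24).2 he with hg
    have hgi : ∀ i, g • eight i = eight ((τ : Equiv.Perm GolayPt)⁻¹ i) := fun i => by
      apply Subtype.ext
      rw [hg, mono_smul]
      show signedPerm _ ∅ (Pi.single i 8) = _
      rw [signedPerm_single]; simp [eight]
    have hgi' : ∀ i, g⁻¹ • eight i = eight ((τ : Equiv.Perm GolayPt) i) := fun i => by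
      rw [inv_smul_eq_iff, hgi]; simp
    refine eight_pm_inj (hperm ⟨_, hm⟩ i) ?_
    show _ = eight ((τ : Equiv.Perm GolayPt) (σ n ((τ : Equiv.Perm GolayPt)⁻¹ i))) ∨ _
    rw [mul_smul, mul_smul, hgi]
    rcases hperm n ((τ : Equiv.Perm GolayPt)⁻¹ i) with h | h
    · exact Or.inl (by rw [h, hgi'])
    · exact Or.inr (by rw [h, co0_neg, hgi']; rfl)⟩
  have hbot := m24_two_normal (T := φ.range) (hN.of_surjective φ.rangeRestrict φ.rangeRestrict_surjective)
  intro n hn'
  have hmem : φ ⟨n, hn'⟩ ∈ φ.range := ⟨_, rfl⟩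
  rw [hbot, Subgroup.mem_bot] at hmem
  have h1 : σ ⟨n, hn'⟩ = (1 : Equiv.Perm GolayPt) := congrArg Subtype.val hmem
  refine ⟨c ⟨n, hn'⟩, hc ⟨n, hn'⟩, ?_⟩
  refine (hn ⟨n, hn'⟩).trans ?_
  congr 1

theorem exists_code_weight : ∃ o ∈ golayCode, o none ≠ 0 ∧ o (some 0) = 0 := by
  obtain ⟨a, ha, h⟩ := exists_code_small ({none, some 0} : Finset GolayPt)
    (le_trans card_le_two (by norm_num)) (Pi.single none 1)
  exact ⟨a, ha, by rw [h none (by simp)]; simp, by rw [h (some 0) (by simp)]; simp⟩

/-- a class fixed modulo the frame by all sign changes is divisible by four -/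
theorem mem_L4_of_signs {x : leechLattice}
    (h : ∀ (c : Finset GolayPt) (hc : c ∈ supports (golayCode : Set (GolayPt → ZMod 2))),
      cls (mono 1 c (one_mem _) hc • x) = cls x
        ∨ cls (mono 1 c (one_mem _) hc • x) = cls x + cls (eight none)) :
    ∃ y ∈ L4, cls x = cls y := by
  classical
  obtain ⟨m, hm, a, ha, z, hz, hs⟩ := exists_form x.2
  have hd : ∀ (c : Finset GolayPt) (hc : c ∈ supports (golayCode : Set (GolayPt → ZMod 2))),
      ∃ d : leechLattice, (∀ i, (d : GolayPt → ℤ) i = if i ∈ c then 2 * (x : GolayPt → ℤ) i else 0) ∧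
        (cls d = 0 ∨ cls d = cls (eight none)) := by
    intro c hc
    refine ⟨x - mono 1 c (one_mem _) hc • x, fun i => ?_, ?_⟩
    · rw [AddSubgroup.coe_sub, Pi.sub_apply, mono_smul]
      show _ - (if i ∈ c then -(x : GolayPt → ℤ) i else (x : GolayPt → ℤ) i) = _
      by_cases hi : i ∈ c <;> simp [hi] <;> ring
    · rw [cls_sub]
      rcases h c hc with h1 | h1 <;> rw [h1]
      · exact Or.inl (cls_add_self _)
      · exact Or.inr (by rw [← add_assoc, cls_add_self, zero_add])
  have hm0 : 2 ∣ m := by
    by_contra hodd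
    obtain ⟨o, ho, ho1, ho0⟩ := exists_code_weight
    obtain ⟨d, hd1, hd2⟩ := hd (support₂ o) ⟨o, ho, rfl⟩
    have dn := hd1 none
    have d0 := hd1 (some 0)
    rw [if_pos (by simp [support₂, ho1])] at dn
    rw [if_neg (by simp [support₂, ho0])] at d0
    have hzn := hz none
    rcases hd2 with h2 | h2
    · obtain ⟨y, hy⟩ := mem_twice.mp ((QuotientAddGroup.eq_zero_iff _).mp h2)
      have e := parity_leech y.2 none (some 0)
      rw [hy] at dn d0
      simp [two_nsmul] at dn d0
      omega
    · obtain ⟨y, hy⟩ := mem_twice.mp (cls_eq.mp h2)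
      have e := parity_leech y.2 none (some 0)
      have hy' : d = 2 • y + eight none := by rw [← hy]; abel
      rw [hy'] at dn d0
      simp [two_nsmul, eight] at dn d0
      omega
  obtain rfl : m = 0 := by omega
  set a' : GolayPt → ZMod 2 := a
  set z' : GolayPt → ℤ := z
  have hz' : ∀ i, (x : GolayPt → ℤ) i = 0 + 2 * ((a' i).val : ℤ) + 4 * z' i := hz
  refine exists_L4_of_word hz' rfl ?_
  rcases cases_of_octads (c := support₂ a') (fun o ho h8 => by
    obtain ⟨d, hd1, hd2⟩ := hd (support₂ o) ⟨o, ho, rfl⟩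
    -- `d` differs from `4 ind (support a' ∩ support o)` by twice a lattice vector
    set s := (∑ i ∈ support₂ o, z' i)
    have hmemd : ∀ i, i ∈ support₂ o ∩ support₂ a' ↔ o i ≠ 0 ∧ a' i ≠ 0 := fun i => by
      simp [support₂]
    have hw : (fun i => if i ∈ support₂ o then 4 * z' i - (if i = none then 4 * s else 0)
        else -(if i = none then 4 * s else 0)) ∈ leechLattice := by
      refine mem_of_form (z := fun i => (if i ∈ support₂ o then z' i else 0)
        - (if i = none then s else 0)) (m := 0) (zero_mem golayCode) (fun i => ?_) ?_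
      · simp only [Pi.zero_apply, ZMod.val_zero]; push_cast; split <;> split <;> ring
      · have e : ∀ i, (if i ∈ support₂ o then 4 * z' i - (if i = none then 4 * s else 0)
            else -(if i = none then 4 * s else 0))
            = (if i ∈ support₂ o then 4 * z' i else 0) - (if i = none then 4 * s else 0) := fun i => by
          split <;> ring
        rw [sum_congr rfl (fun i _ => e i), sum_sub_distrib, sum_ite_mem, univ_inter, ← mul_sum,
          sum_ite_eq', if_pos (mem_univ _)]
        simp [s]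
    refine code_of_four (x := d - 2 • (⟨_, hw⟩ : leechLattice) - s • eight none) (fun i => ?_) ?_
    · rw [AddSubgroup.coe_sub, AddSubgroup.coe_sub, Pi.sub_apply, Pi.sub_apply, hd1 i, hz' i]
      show _ - (2 • fun i => _ : GolayPt → ℤ) i - (s • (Pi.single none 8 : GolayPt → ℤ)) i = _
      rw [Pi.smul_apply, Pi.smul_apply, nsmul_eq_mul, smul_eq_mul, Pi.single_apply]
      simp only [hmemd]
      rcases zmod2_cases (a' i) with e | e <;> simp only [e, ne_eq, not_true, and_false, if_false,
        show ((1 : ZMod 2).val : ℤ) = 1 from rfl, show ((0 : ZMod 2).val : ℤ) = 0 from rfl]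
      all_goals
        by_cases ho' : o i = 0 <;> simp [support₂, ho', e] <;> split_ifs <;> ring
    · have hs' : cls (s • eight none) = 0 ∨ cls (s • eight none) = cls (eight none) := by
        rcases Int.even_or_odd s with ⟨k, hk⟩ | ⟨k, hk⟩
        · left; rw [hk, add_smul, cls_add]; exact cls_add_self _
        · right; rw [hk, add_smul, one_smul, cls_add, two_mul, add_smul, cls_add, cls_add_self,
            zero_add]
      have h2 : cls (2 • (⟨_, hw⟩ : leechLattice)) = 0 :=
        (QuotientAddGroup.eq_zero_iff _).mpr (mem_twice.mpr ⟨_, rfl⟩)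
      rw [cls_sub, cls_sub, h2, add_zero]
      rcases hd2 with a1 | a1 <;> rcases hs' with a2 | a2 <;> rw [a1, a2]
      · exact Or.inl (add_zero _)
      · exact Or.inr (zero_add _)
      · exact Or.inr (add_zero _)
      · exact Or.inl (cls_add_self _)) with h0 | h1
  · left; rw [← ind_support₂ a', h0]; funext i; simp [ind]
  · right; rw [← ind_support₂ a', h1]; funext i; simp [ind]

end H56M
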