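import Cfsg.Agent.H56.QPMat
import Cfsg.Agent.H9.SLQuasi

/-!
Lifting generation of `SL₂` along a minimal ideal of a finite commutative algebra.
-/

set_option autoImplicit false
set_option linter.unusedSectionVars false

namespace H56Q

open Matrix
open scoped commutatorElement

variable {R : Type*} [CommRing R]

/-- the group contains every upper and lower unitriangular element -/
def FullRoots (H : Subgroup (SpecialLinearGroup (Fin 2) R)) : Prop :=
  ∀ r : R, upr r ∈ H ∧ lwr r ∈ H

theorem diag_eq {t s : R} (h : t * s = 1) :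
    ∃ d : SpecialLinearGroup (Fin 2) R, d 0 0 = t ∧ d 0 1 = 0 ∧ d 1 0 = 0 ∧ d 1 1 = s ∧
      upr t * lwr (-s) * upr t * (upr 1 * lwr (-1) * upr 1)⁻¹ = d := by
  refine ⟨_, ?_, ?_, ?_, ?_, rfl⟩ <;> simp [mul00, mul01, mul10, mul11] <;>
    first
      | ring1
      | linear_combination h
      | linear_combination (-1 : R) * h
      | linear_combination t * h
      | linear_combination (-t) * h
      | linear_combination s * h
      | linear_combination (-s) * h

theorem diag_mem {H : Subgroup (SpecialLinearGroup (Fin 2) R)} {t s : R} (h : t * s = 1)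
    (h1 : upr t ∈ H) (h2 : lwr (-s) ∈ H) (h3 : upr (1 : R) ∈ H) (h4 : lwr (-1 : R) ∈ H)
    {d : SpecialLinearGroup (Fin 2) R} (d00 : d 0 0 = t) (d01 : d 0 1 = 0) (d10 : d 1 0 = 0)
    (d11 : d 1 1 = s) : d ∈ H := by
  obtain ⟨d', a, b, c, e, hd⟩ := diag_eq h
  have : d = d' := ext2 (d00.trans a.symm) (d01.trans b.symm) (d10.trans c.symm) (d11.trans e.symm)
  rw [this, ← hd]
  exact mul_mem (mul_mem (mul_mem h1 h2) h1) (inv_mem (mul_mem (mul_mem h3 h4) h3))

theorem FullRoots.mem_of_unit {H : Subgroup (SpecialLinearGroup (Fin 2) R)} (hF : FullRoots H)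
    (g : SpecialLinearGroup (Fin 2) R) {s : R} (hs : g 0 0 * s = 1) : g ∈ H := by
  obtain ⟨d, a, b, c, e, hd⟩ := diag_eq hs
  have hdm : d ∈ H := diag_mem hs (hF _).1 (hF _).2 (hF _).1 (hF _).2 a b c e
  have : g = lwr (g 1 0 * s) * d * upr (g 0 1 * s) := by
    have hdet := det2 g
    refine ext2 ?_ ?_ ?_ ?_ <;> simp [mul00, mul01, mul10, mul11, a, b, c, e]
    · linear_combination (-g 0 1) * hs
    · linear_combination (-g 1 0) * hs
    · linear_combination s * hdet + (-g 1 0 * g 0 1 * s - g 1 1) * hs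
  rw [this]
  exact mul_mem (mul_mem (hF _).2 hdm) (hF _).1

theorem FullRoots.eq_top_field {K : Type*} [Field K] {H : Subgroup (SpecialLinearGroup (Fin 2) K)}
    (hF : FullRoots H) : H = ⊤ := by
  rw [eq_top_iff]
  intro g _
  by_cases h : g 0 0 = 0
  · have h10 : g 1 0 ≠ 0 := fun h0 => by simpa [h, h0] using det2 g
    have : upr (1 : K) * g ∈ H := hF.mem_of_unit _ (s := (g 1 0)⁻¹) (by simp [mul00, h, h10])
    have := mul_mem (inv_mem (hF (1 : K)).1) this
    rwa [inv_mul_cancel_left] at this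
  · exact hF.mem_of_unit g (mul_inv_cancel₀ h)

theorem normal_eq_top_or_center {K : Type*} [Field K] (hK : 4 ≤ Nat.card K)
    (N : Subgroup (SpecialLinearGroup (Fin 2) K)) [hN : N.Normal] :
    N = ⊤ ∨ N ≤ Subgroup.center _ := by
  obtain ⟨hperf, hsimp⟩ := Cfsg.Agent.H9.isQuasisimple_SL (F := K) (m := 2) le_rfl (Or.inr hK)
  set π := QuotientGroup.mk' (Subgroup.center (SpecialLinearGroup (Fin 2) K))
  have hm : (N.map π).Normal := hN.map π (QuotientGroup.mk'_surjective _)
  rcases hsimp.eq_bot_or_eq_top_of_normal _ hm with h | h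
  · right
    rw [Subgroup.map_eq_bot_iff, QuotientGroup.ker_mk'] at h
    exact h
  · left
    have h2 : N ⊔ Subgroup.center _ = ⊤ := by
      rw [← Subgroup.comap_map_eq_self (H := N ⊔ Subgroup.center _) (f := π)
        (by rw [QuotientGroup.ker_mk']; exact le_sup_right), Subgroup.map_sup, h, top_sup_eq,
        Subgroup.comap_top]
    rw [eq_top_iff, ← hperf.commutator_eq_top, commutator_def]
    refine Subgroup.commutator_le.mpr ?_
    intro x _ y _
    obtain ⟨a, ha, z, hz, rfl⟩ := Subgroup.mem_sup_of_normal_left.mp (h2.symm ▸ Subgroup.mem_top x)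
    have : ⁅a * z, y⁆ = a * (y * a⁻¹ * y⁻¹) := by
      rw [commutatorElement_def, show a * z * y * (a * z)⁻¹ = a * (z * y * z⁻¹) * a⁻¹ by group,
        ← Subgroup.mem_center_iff.mp hz y, mul_inv_cancel_right]
      group
    rw [this]
    exact mul_mem ha (hN.conj_mem _ (inv_mem ha) y)

theorem unit_squares_subring [Finite R] {c : R} (hc : IsUnit c) (hc1 : IsUnit (c * c - 1))
    (h2 : IsUnit (2 : R)) (S : Subring R) (hS : ∀ u : R, IsUnit u → u * u ∈ S)
    (hinv : ∀ x : R, x * (c * c - 1) ∈ S → x ∈ S) (h4 : ∀ x : R, 4 * x ∈ S → x ∈ S) : S = ⊤ := by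
  have hnil : ∀ n : R, IsNilpotent n → n ∈ S := by
    intro n hn
    have h1 := hS _ hn.isUnit_one_add
    have h1' := hS _ (hn.neg.isUnit_one_add)
    apply h4
    have := S.sub_mem h1 h1'
    convert this using 1
    ring
  have hsq : ∀ x : R, x * x ∈ S := by
    intro x
    obtain ⟨i, j, hij, he⟩ := Finite.exists_ne_map_eq_of_infinite fun n : ℕ => x ^ n
    wlog hlt : i < j generalizing i j
    · exact this j i (Ne.symm hij) he.symm (by omega)
    obtain ⟨d, rfl⟩ : ∃ d, j = i + d := ⟨j - i, by omega⟩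
    have hper : ∀ a : ℕ, i ≤ a → ∀ b : ℕ, x ^ (a + d * b) = x ^ a := by
      intro a ha b
      induction b with
      | zero => simp
      | succ b ih =>
        rw [show a + d * (b + 1) = (a - i) + d * b + (i + d) by
          rw [Nat.mul_succ]; omega, pow_add, ← he, ← pow_add,
          show a - i + d * b + i = a + d * b by omega, ih]
    have hd1 : 1 ≤ d := by omega
    have hm : i + 1 ≤ (i + 1) * d := Nat.le_mul_of_pos_right _ hd1
    set m := (i + 1) * d with hmdef
    have hidem : x ^ m * x ^ m = x ^ m := by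
      rw [← pow_add, show m + m = m + d * (i + 1) by rw [hmdef]; ring]
      exact hper m (by omega) _
    set E := x ^ m with hE
    have hnn : IsNilpotent (x * (1 - E)) := by
      refine ⟨m + 1, ?_⟩
      rw [mul_pow, pow_succ (1 - E) m, pow_succ x m]
      calc x ^ m * x * ((1 - E) ^ m * (1 - E)) = (E - E * E) * (x * (1 - E) ^ m) := by rw [hE]; ring
        _ = 0 := by rw [hidem, sub_self, zero_mul]
    have hu : ∀ c' : R, IsUnit c' → IsUnit (x * E + c' * (1 - E)) := by
      intro c' hc'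
      obtain ⟨u, rfl⟩ := hc'
      refine IsUnit.of_mul_eq_one (x ^ (m - 1) * E + (↑u⁻¹ : R) * (1 - E)) ?_
      have e1 : x * x ^ (m - 1) = E := by rw [← pow_succ', Nat.sub_add_cancel (by omega)]
      calc (x * E + ↑u * (1 - E)) * (x ^ (m - 1) * E + ↑u⁻¹ * (1 - E))
          = x * x ^ (m - 1) * (E * E) + (↑u * ↑u⁻¹) * (1 - 2 * E + E * E) +
            (x * ↑u⁻¹ + ↑u * x ^ (m - 1)) * (E - E * E) := by ring
        _ = 1 := by rw [e1, hidem, Units.mul_inv]; linear_combination hidem
    have a1 := hS _ (hu 1 isUnit_one)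
    have a2 := hS _ (hu c hc)
    have h1E : 1 - E ∈ S := by
      apply hinv
      convert S.sub_mem a2 a1 using 1
      linear_combination (x * (2 * c - 2) - (c * c - 1)) * hidem
    have hxE : x * x * E ∈ S := by
      have := S.sub_mem a1 h1E
      convert this using 1
      linear_combination (2 * x - x * x - 1) * hidem
    have hxn : x * x * (1 - E) ∈ S := by
      have := S.mul_mem (hnil _ hnn) (hnil _ hnn)
      convert this using 1
      linear_combination (-(x * x)) * hidem
    have := S.add_mem hxE hxn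
    convert this using 1
    ring
  rw [eq_top_iff]
  intro x _
  apply h4
  convert S.sub_mem (hsq (x + 1)) (hsq (x - 1)) using 1
  ring

section Step

variable {k : Type*} [Field k] [Algebra k R]

/-- data of one lifting step -/
structure StepData (k R R' K : Type*) [Field k] [CommRing R] [Algebra k R] [CommRing R'] [Field K] where
  H : Subgroup (SpecialLinearGroup (Fin 2) R)
  lam : R
  linv : R
  lam_inv : lam * linv = 1
  gen : Algebra.adjoin k ({linv} : Set R) = ⊤
  ρ : R →+* R'
  σ : R →+* K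
  ρ_surj : Function.Surjective ρ
  σ_surj : Function.Surjective σ
  φ : R
  ρφ : ρ φ = 0
  φ_ne : φ ≠ 0
  span : ∀ x, ρ x = 0 → ∃ u, x = u * φ
  ann : ∀ x, σ x = 0 → x * φ = 0
  up_mem : ∀ c : k, upr (algebraMap k R c) ∈ H
  low_mem : ∀ c : k, lwr (algebraMap k R c * lam) ∈ H
  liftρ : ∀ r : R', (∃ g ∈ H, SpecialLinearGroup.map ρ g = upr r) ∧
    ∃ g ∈ H, SpecialLinearGroup.map ρ g = lwr r
  liftσ : ∀ g₀ : SpecialLinearGroup (Fin 2) K, ∃ g ∈ H, SpecialLinearGroup.map σ g = g₀

namespace StepData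

variable {R' K : Type*} [CommRing R'] [Field K] (D : StepData k R R' K)
include D

theorem two_unit (h2 : (2 : k) ≠ 0) : IsUnit (2 : R) := by
  have := (IsUnit.mk0 _ h2).map (algebraMap k R)
  rwa [map_ofNat] at this

theorem mul_eq_zero_of {x y : R} (hx : D.σ x = 0) (hy : D.ρ y = 0) : x * y = 0 := by
  obtain ⟨u, rfl⟩ := D.span y hy
  rw [← mul_assoc, mul_comm x u, mul_assoc, D.ann x hx, mul_zero]

theorem unit_of {x : R} (h1 : D.σ x ≠ 0) (h2 : IsUnit (D.ρ x)) : IsUnit x := by
  obtain ⟨y', hy'⟩ := h2.exists_right_inv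
  obtain ⟨y, rfl⟩ := D.ρ_surj y'
  obtain ⟨v, hv⟩ := D.σ_surj (D.σ x)⁻¹
  have h := D.mul_eq_zero_of (x := x * v - 1) (y := x * y - 1)
    (by rw [map_sub, map_mul, hv, mul_inv_cancel₀ h1, map_one, sub_self])
    (by rw [map_sub, map_mul, hy', map_one, sub_self])
  exact IsUnit.of_mul_eq_one (v + y - x * v * y) (by linear_combination (-1 : R) * h)

theorem one_mem_up : upr (1 : R) ∈ D.H := by simpa using D.up_mem 1

theorem lam_mem_low : lwr D.lam ∈ D.H := by simpa using D.low_mem 1

theorem neg_lam_mem : lwr (-D.lam) ∈ D.H := by rw [lwr_neg]; exact inv_mem D.lam_mem_low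

/-- conjugating an upper element of the ideal -/
theorem conj_ideal {i : R} (hi : D.ρ i = 0) (g : SpecialLinearGroup (Fin 2) R)
    (h10 : D.σ (g 1 0) = 0) : g * upr i * g⁻¹ = upr (i * (g 0 0 * g 0 0)) := by
  obtain ⟨e00, e01, e10, e11⟩ := conj_upr g i
  have h : g 1 0 * i = 0 := D.mul_eq_zero_of h10 hi
  refine ext2 ?_ (by rw [e01, upr_01]) ?_ ?_
  · rw [e00, upr_00]; linear_combination (-g 0 0) * h
  · rw [e10, upr_10]; linear_combination (-g 1 0) * h
  · rw [e11, upr_11]; linear_combination (g 0 0) * h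

theorem conj_ideal_anti {i : R} (hi : D.ρ i = 0) (g : SpecialLinearGroup (Fin 2) R)
    (h00 : D.σ (g 0 0) = 0) : g * upr i * g⁻¹ = lwr (-(i * (g 1 0 * g 1 0))) := by
  obtain ⟨e00, e01, e10, e11⟩ := conj_upr g i
  have h : g 0 0 * i = 0 := D.mul_eq_zero_of h00 hi
  refine ext2 ?_ ?_ (by rw [e10, lwr_10]) ?_
  · rw [e00, lwr_00]; linear_combination (-g 1 0) * h
  · rw [e01, lwr_01]; linear_combination (g 0 0) * h
  · rw [e11, lwr_11]; linear_combination (g 1 0) * h

theorem ideal_up (h2 : (2 : k) ≠ 0) {i : R} (hi : D.ρ i = 0) (hi0 : i ≠ 0) (him : upr i ∈ D.H) :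
    ∀ j : R, D.ρ j = 0 → upr j ∈ D.H := by
  have hsq : ∀ t : R, upr (i * (t * t)) ∈ D.H := by
    intro t
    by_cases ht : D.σ t = 0
    · rw [show i * (t * t) = t * i * t by ring, D.mul_eq_zero_of ht hi, zero_mul, upr_zero]
      exact one_mem _
    · obtain ⟨d, a, b, c, e, -⟩ := diag_eq (mul_inv_cancel₀ ht)
      obtain ⟨g, hg, hgd⟩ := D.liftσ d
      have g00 : D.σ (g 0 0) = D.σ t := by rw [← a, ← hgd]; simp
      have g10 : D.σ (g 1 0) = 0 := by rw [← c, ← hgd]; simp
      have hm := mul_mem (mul_mem hg him) (inv_mem hg)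
      rw [D.conj_ideal hi g g10] at hm
      convert hm using 2
      have : (g 0 0 - t) * i = 0 := D.mul_eq_zero_of (by rw [map_sub, g00, sub_self]) hi
      linear_combination (-(g 0 0 + t)) * this
  have hlin : ∀ t : R, upr (i * t) ∈ D.H := by
    intro t
    obtain ⟨q, hq⟩ : ∃ q : R, 4 * q = t := by
      obtain ⟨u, hu⟩ := D.two_unit h2
      exact ⟨(↑u⁻¹ : R) * ↑u⁻¹ * t, by
        rw [show (4 : R) = 2 * 2 by norm_num, ← hu,
          show (↑u : R) * ↑u * (↑u⁻¹ * ↑u⁻¹ * t) = (↑u * ↑u⁻¹) * (↑u * ↑u⁻¹) * t by ring,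
          Units.mul_inv, one_mul, one_mul]⟩
    have e : i * t = i * ((q + 1) * (q + 1)) + -(i * ((q - 1) * (q - 1))) := by rw [← hq]; ring
    rw [e, upr_add, upr_neg]
    exact mul_mem (hsq _) (inv_mem (hsq _))
  intro j hj
  obtain ⟨u, rfl⟩ := D.span j hj
  obtain ⟨w, rfl⟩ := D.span i hi
  have hw : D.σ w ≠ 0 := fun h => hi0 (D.ann w h)
  obtain ⟨v, hv⟩ := D.σ_surj (D.σ w)⁻¹
  have : (w * v - 1) * D.φ = 0 := D.ann _ (by rw [map_sub, map_mul, hv, mul_inv_cancel₀ hw, map_one, sub_self])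
  rw [show u * D.φ = w * D.φ * (v * u) by linear_combination (-u) * this]
  exact hlin _

theorem ideal_low (hup : ∀ j : R, D.ρ j = 0 → upr j ∈ D.H) {j : R} (hj : D.ρ j = 0) :
    lwr j ∈ D.H := by
  obtain ⟨g, hg, hgw⟩ := D.liftσ (upr 1 * lwr (-1) * upr 1)
  have g00 : D.σ (g 0 0) = 0 := by
    have := congrArg (fun x : SpecialLinearGroup (Fin 2) K => x 0 0) hgw
    simpa [mul00, mul10] using this
  have g10 : D.σ (g 1 0) = -1 := by
    have := congrArg (fun x : SpecialLinearGroup (Fin 2) K => x 1 0) hgw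
    simpa [mul00, mul10] using this
  have hm := mul_mem (mul_mem hg (hup (-j) (by rw [map_neg, hj, neg_zero]))) (inv_mem hg)
  rw [D.conj_ideal_anti (by rw [map_neg, hj, neg_zero]) g g00] at hm
  convert hm using 2
  have : (g 1 0 * g 1 0 - 1) * j = 0 :=
    D.mul_eq_zero_of (by rw [map_sub, map_mul, g10, map_one]; ring) hj
  linear_combination (-1 : R) * this

theorem congruence_mem (hup : ∀ j : R, D.ρ j = 0 → upr j ∈ D.H)
    (g : SpecialLinearGroup (Fin 2) R) (hg : SpecialLinearGroup.map D.ρ g = 1) : g ∈ D.H := by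
  have h00 : D.ρ (g 0 0) = 1 := by
    have := congrArg (fun x : SpecialLinearGroup (Fin 2) R' => x 0 0) hg; simpa using this
  have h10 : D.ρ (g 1 0) = 0 := by
    have := congrArg (fun x : SpecialLinearGroup (Fin 2) R' => x 1 0) hg; simpa using this
  have h01 : D.ρ (g 0 1) = 0 := by
    have := congrArg (fun x : SpecialLinearGroup (Fin 2) R' => x 0 1) hg; simpa using this
  have h11 : D.ρ (g 1 1) = 1 := by
    have := congrArg (fun x : SpecialLinearGroup (Fin 2) R' => x 1 1) hg; simpa using this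
  have hlow : ∀ j : R, D.ρ j = 0 → lwr j ∈ D.H := fun j hj => D.ideal_low hup hj
  have key : ∀ g : SpecialLinearGroup (Fin 2) R, D.ρ (g 0 0) = 1 → D.ρ (g 1 0) = 0 →
      D.ρ (g 0 1) = 0 → D.σ (g 0 0) ≠ 0 → g ∈ D.H := by
    intro g e00 e10 e01 hs
    obtain ⟨s, hs'⟩ := (D.unit_of hs (e00.symm ▸ isUnit_one)).exists_right_inv
    have eρs : D.ρ s = 1 := by
      have := congrArg D.ρ hs'
      rwa [map_mul, e00, one_mul, map_one] at this
    obtain ⟨d, da, db, dc, de, -⟩ := diag_eq hs'
    have hM : lwr (-((g 0 0 - 1) * s)) * upr 1 * lwr (g 0 0 - 1) * upr (1 - s) * (upr 1)⁻¹ = d := by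
      refine ext2 ?_ ?_ ?_ ?_ <;> simp [mul00, mul01, mul10, mul11, da, db, dc, de] <;>
        first
          | ring1
          | linear_combination hs'
          | linear_combination (-1 : R) * hs'
          | linear_combination (g 0 0 - 1) * hs'
          | linear_combination (-(g 0 0 - 1)) * hs'
          | linear_combination s * hs'
          | linear_combination (-s) * hs'
          | linear_combination (1 - (g 0 0 - 1) * s) * hs'
          | linear_combination ((g 0 0 - 1) * s - 1) * hs'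
    have e : g = lwr (g 1 0 * s) *
        (lwr (-((g 0 0 - 1) * s)) * upr 1 * lwr (g 0 0 - 1) * upr (1 - s) * (upr 1)⁻¹) *
        upr (g 0 1 * s) := by
      rw [hM]
      have hdet := det2 g
      refine ext2 ?_ ?_ ?_ ?_ <;> simp [mul00, mul01, mul10, mul11, da, db, dc, de]
      · linear_combination (-g 0 1) * hs'
      · linear_combination (-g 1 0) * hs'
      · linear_combination s * hdet + (-g 1 0 * g 0 1 * s - g 1 1) * hs'
    rw [e]
    refine mul_mem (mul_mem (hlow _ (by rw [map_mul, e10, zero_mul]))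
      (mul_mem (mul_mem (mul_mem (mul_mem (hlow _ ?_) D.one_mem_up) (hlow _ ?_)) (hup _ ?_))
        (inv_mem D.one_mem_up))) (hup _ (by rw [map_mul, e01, zero_mul]))
    · rw [map_neg, map_mul, map_sub, e00, map_one, sub_self, zero_mul, neg_zero]
    · rw [map_sub, e00, map_one, sub_self]
    · rw [map_sub, map_one, eρs, sub_self]
  by_cases hs : D.σ (g 0 0) = 0
  · have hφ : D.σ D.φ ≠ 0 := by
      intro h0
      have : D.σ (g 0 0 - 1) = 0 := by
        obtain ⟨u, hu⟩ := D.span (g 0 0 - 1) (by rw [map_sub, h00, map_one, sub_self])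
        rw [hu, map_mul, h0, mul_zero]
      rw [map_sub, hs, map_one, zero_sub, neg_eq_zero] at this
      exact one_ne_zero this
    have hs10 : D.σ (g 1 0) ≠ 0 := by
      intro h0
      have := congrArg D.σ (det2 g)
      simp [hs, h0] at this
    have hm := key (upr D.φ * g) (by simp [mul00, D.ρφ, h00]) (by simp [mul10, h10])
      (by simp [mul01, h01, h11, D.ρφ]) (by simp [mul00, hs, hφ, hs10])
    have := mul_mem (inv_mem (hup D.φ D.ρφ)) hm
    rwa [inv_mul_cancel_left] at this
  · exact key g h00 h10 h01 hs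

theorem full_of_ideal (hup : ∀ j : R, D.ρ j = 0 → upr j ∈ D.H) : FullRoots D.H := by
  intro r
  constructor
  · obtain ⟨g, hg, e⟩ := (D.liftρ (D.ρ r)).1
    have := D.congruence_mem hup (g⁻¹ * upr r) (by rw [map_mul, map_inv, e, map_upr, inv_mul_cancel])
    simpa using mul_mem hg this
  · obtain ⟨g, hg, e⟩ := (D.liftρ (D.ρ r)).2
    have := D.congruence_mem hup (g⁻¹ * lwr r) (by rw [map_mul, map_inv, e, map_lwr, inv_mul_cancel])
    simpa using mul_mem hg this

end StepData

end Step

end H56Q
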