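import Cfsg.Agent.H56.QPFull

/-!
The commutator case for root subgroups of a quadratic pair.
-/

set_option autoImplicit false
set_option linter.unusedSectionVars false

universe u

namespace H56Q

open Cfsg LinearMap

variable {k : Type u} [Field k] {M : Type*} [AddCommGroup M] [Module k M] [FiniteDimensional k M]
variable {G : Subgroup (GLM k M)} {a b γ x y : Module.End k M} {E F : Subgroup (GLM k M)}

theorem exists_root_subgroup (hγ : MinQ G γ) : ∃ D, IsRootOf G D γ :=
  ⟨sameActionSubgroup G (qu γ hγ.sq), hγ, fun g => by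
    rw [mem_sameAction (minimal_of_minQ hγ)]; simp⟩

theorem group_commutator_coe {g h : GLM k M} (hx : ((g : Module.End k M) - 1) * ((g : Module.End k M) - 1) = 0)
    (hy : ((h : Module.End k M) - 1) * ((h : Module.End k M) - 1) = 0)
    (h1 : ((g : Module.End k M) - 1) * ((h : Module.End k M) - 1) * ((g : Module.End k M) - 1) = 0)
    (h2 : ((h : Module.End k M) - 1) * ((g : Module.End k M) - 1) * ((h : Module.End k M) - 1) = 0) :
    ((g * h * g⁻¹ * h⁻¹ : GLM k M) : Module.End k M) - 1 =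
      ((g : Module.End k M) - 1) * ((h : Module.End k M) - 1) -
        ((h : Module.End k M) - 1) * ((g : Module.End k M) - 1) := by
  set x := (g : Module.End k M) - 1 with hxd
  set y := (h : Module.End k M) - 1 with hyd
  have hg : g = qu x hx := Units.ext (by simp [hxd])
  have hh : h = qu y hy := Units.ext (by simp [hyd])
  have x2 : ∀ r, x * (x * r) = 0 := fun r => by rw [← mul_assoc, hx, zero_mul]
  have y2 : ∀ r, y * (y * r) = 0 := fun r => by rw [← mul_assoc, hy, zero_mul]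
  have h1' : x * (y * x) = 0 := by rw [← mul_assoc]; exact h1
  have h2' : y * (x * y) = 0 := by rw [← mul_assoc]; exact h2
  have hi : ((g⁻¹ : GLM k M) : Module.End k M) = 1 - x := by rw [hg, coe_qu_inv]
  have hj : ((h⁻¹ : GLM k M) : Module.End k M) = 1 - y := by rw [hh, coe_qu_inv]
  simp only [Units.val_mul, hi, hj]
  rw [show (g : Module.End k M) = 1 + x by rw [hg]; rfl,
    show (h : Module.End k M) = 1 + y by rw [hh]; rfl]
  simp only [add_mul, mul_sub, sub_mul, mul_add, one_mul, mul_one, mul_assoc, hx, hy, x2, y2, h1', h2',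
    mul_zero, sub_zero, add_zero]
  abel

/-- the elements acting unipotently around `γ` -/
def coreGroup (G : Subgroup (GLM k M)) (γ : Module.End k M) : Subgroup (GLM k M) where
  carrier := {g | g ∈ G ∧ γ * (g : Module.End k M) = γ ∧ (g : Module.End k M) * γ = γ ∧
    ∀ m, γ m = 0 → (g : Module.End k M) m - m ∈ range γ}
  one_mem' := ⟨one_mem G, mul_one γ, one_mul γ, fun m _ => by simp⟩
  mul_mem' := by
    rintro g h ⟨hg, g1, g2, g3⟩ ⟨hh, h1, h2, h3⟩
    refine ⟨mul_mem hg hh, ?_, ?_, fun m hm => ?_⟩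
    · rw [Units.val_mul, ← mul_assoc, g1, h1]
    · rw [Units.val_mul, mul_assoc, h2, g2]
    · obtain ⟨p, hp⟩ := h3 m hm
      have e : ((g * h : GLM k M) : Module.End k M) m - m = γ p + ((g : Module.End k M) m - m) := by
        show (g : Module.End k M) ((h : Module.End k M) m) - m = _
        rw [show (h : Module.End k M) m = γ p + m by rw [hp, sub_add_cancel], map_add,
          show (g : Module.End k M) (γ p) = γ p from LinearMap.congr_fun g2 p]
        abel
      rw [e]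
      exact Submodule.add_mem _ (mem_range_self γ p) (g3 m hm)
  inv_mem' := by
    rintro g ⟨hg, g1, g2, g3⟩
    refine ⟨inv_mem hg, ?_, ?_, fun m hm => ?_⟩
    · conv_lhs => rw [← g1, Units.mul_inv_cancel_right]
    · conv_lhs => rw [← g2, ← mul_assoc, Units.inv_mul, one_mul]
    · have hn : γ (((g⁻¹ : GLM k M) : Module.End k M) m) = 0 := by
        have e : γ * ((g⁻¹ : GLM k M) : Module.End k M) = γ := by
          conv_lhs => rw [← g1, Units.mul_inv_cancel_right]
        rw [show γ (((g⁻¹ : GLM k M) : Module.End k M) m) = γ m from LinearMap.congr_fun e m, hm]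
      have := g3 _ hn
      rw [show (g : Module.End k M) (((g⁻¹ : GLM k M) : Module.End k M) m) = m from
        LinearMap.congr_fun (Units.mul_inv g) m] at this
      simpa using (range γ).neg_mem this

theorem coreGroup_sub {g : GLM k M} (h1 : γ * (g : Module.End k M) = γ) (h2 : (g : Module.End k M) * γ = γ) :
    γ * ((g : Module.End k M) - 1) = 0 ∧ ((g : Module.End k M) - 1) * γ = 0 :=
  ⟨by rw [mul_sub, h1, mul_one, sub_self], by rw [sub_mul, h2, one_mul, sub_self]⟩

theorem commute_core {D : Subgroup (GLM k M)} (hD : IsRootOf G D γ) {g t : GLM k M}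
    (hg : g ∈ coreGroup G γ) (ht : t ∈ D) : g * t = t * g := by
  obtain ⟨-, g1, g2, -⟩ := hg
  obtain ⟨e1, e2⟩ := coreGroup_sub g1 g2
  have hl := (hD.2 t).mp ht
  have z1 := mul_eq_zero_of_range_le e2 hl.2.1
  have z2 := mul_eq_zero_of_ker_le e1 hl.2.2
  apply Units.ext
  simp only [Units.val_mul]
  rw [sub_mul, one_mul, mul_sub, mul_one] at z1
  rw [sub_mul, mul_sub, mul_one, one_mul] at z2
  rw [← sub_eq_zero, ← z1.trans z2.symm |> fun h => sub_eq_zero.mpr h]
  abel

theorem core_subset {D : Subgroup (GLM k M)} (hD : IsRootOf G D γ) :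
    (coreGroup G γ : Set (GLM k M)) ⊆ quadraticUnipotentCore G D := by
  intro g hg
  obtain ⟨hgG, g1, g2, g3⟩ := hg
  obtain ⟨e1, e2⟩ := coreGroup_sub g1 g2
  have hfix : ∀ m, m ∈ Cfsg.fixedSubmodule D ↔ γ m = 0 := by
    intro m
    simp only [Cfsg.fixedSubmodule, Submodule.mem_iInf, LinearMap.mem_ker]
    constructor
    · intro h
      have := h _ (hD.qu_mem (InRoot.self hD.1.fam))
      simpa using this
    · intro h t ht
      exact ((hD.2 t).mp ht).2.2 h
  have hcom : commutatorSubmodule D = range γ := by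
    refine le_antisymm (iSup₂_le fun t ht => ((hD.2 t).mp ht).2.1) ?_
    refine le_trans ?_ (le_iSup₂ (qu γ hD.1.sq) (hD.qu_mem (InRoot.self hD.1.fam)))
    simp
  refine ⟨hgG, ?_, fun m => (hfix _).mpr ?_, fun m hm => ?_, fun m hm => ?_⟩
  · rw [Subgroup.mem_normalizer_iff]
    have key : ∀ t ∈ D, g * t * g⁻¹ = t := fun t ht => by
      rw [commute_core hD ⟨hgG, g1, g2, g3⟩ ht, mul_inv_cancel_right]
    intro t
    constructor
    · intro ht; exact (key t ht).symm ▸ ht
    · intro ht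
      have hgi : g⁻¹ ∈ coreGroup G γ := inv_mem ⟨hgG, g1, g2, g3⟩
      have := commute_core hD hgi ht
      have e : t = g⁻¹ * (g * t * g⁻¹) * g := by group
      rw [e, this, inv_mul_cancel_right]
      exact ht
  · exact LinearMap.congr_fun e1 m
  · rw [hcom]; exact g3 m ((hfix m).mp hm)
  · rw [hcom] at hm
    obtain ⟨p, rfl⟩ := hm
    exact LinearMap.congr_fun g2 p

theorem IsRootOf.ne_bot (hE : IsRootOf G E a) : E ≠ ⊥ := fun h => hE.1.ne (by
  have := Subgroup.mem_bot.mp (h.le (hE.qu_mem (InRoot.self hE.1.fam)))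
  simpa using congrArg (fun g : GLM k M => (g : Module.End k M)) this)

/-- all the facts of the commutator case -/
theorem commutator_case (h2 : (2 : k) ≠ 0) (h3 : Nat.card k ≠ 3) (hirr : IsIrreducibleFor G)
    (hE : IsRootOf G E a) (hF : IsRootOf G F b) (h1 : a * b * a = 0) (h1' : b * a * b = 0)
    (hne : a * b ≠ b * a) :
    IsRootOf G ⁅E, F⁆ (a * b - b * a) ∧
    (∀ e ∈ E, e ≠ 1 → Subgroup.closure ((fun f : GLM k M => e * f * e⁻¹ * f⁻¹) '' (F : Set (GLM k M))) = ⁅E, F⁆) ∧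
    (∀ f ∈ F, f ≠ 1 → Subgroup.closure ((fun e : GLM k M => e * f * e⁻¹ * f⁻¹) '' (E : Set (GLM k M))) = ⁅E, F⁆) ∧
    E ⊔ F ≤ coreGroup G (a * b - b * a) ∧ ⁅E ⊔ F, E ⊔ F⁆ ≠ ⊥ ∧ ⁅⁅E ⊔ F, E ⊔ F⁆, E ⊔ F⁆ = ⊥ ∧
    (∀ c ∈ ⁅E, F⁆, ∀ x ∈ E ⊔ F, c * x = x * c) := by
  obtain ⟨hγ, hA, hB, -, hr, hk⟩ := comm_struct hE.1 hF.1 h1 h1' hne
  set γ := a * b - b * a with hγdef
  obtain ⟨D, hD⟩ := exists_root_subgroup hγ
  have htr : ∀ x y, InRoot G a x → InRoot G b y → x * y * x = 0 ∧ y * x * y = 0 := by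
    intro x y hx hy
    by_cases hx0 : x = 0
    · simp [hx0]
    by_cases hy0 : y = 0
    · simp [hy0]
    exact pair_transfer h2 hE.1 hF.1 h1 hx hx0 hy hy0
  have hcoe : ∀ e ∈ E, ∀ f ∈ F, ((e * f * e⁻¹ * f⁻¹ : GLM k M) : Module.End k M) - 1 =
      ((e : Module.End k M) - 1) * ((f : Module.End k M) - 1) -
        ((f : Module.End k M) - 1) * ((e : Module.End k M) - 1) := by
    intro e he f hf
    obtain ⟨t1, t2⟩ := htr _ _ ((hE.2 e).mp he) ((hF.2 f).mp hf)
    exact group_commutator_coe ((hE.2 e).mp he).1.1 ((hF.2 f).mp hf).1.1 t1 t2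
  have hmem : ∀ e ∈ E, ∀ f ∈ F, e * f * e⁻¹ * f⁻¹ ∈ D := by
    intro e he f hf
    rw [hD.2, hcoe e he f hf]
    exact bracket_mem h2 hE.1 hF.1 h1 h1' hne ((hE.2 e).mp he) ((hF.2 f).mp hf)
  have hsub : ∀ {x y : Module.End k M}, InRoot G a x → x ≠ 0 → InRoot G b y → y ≠ 0 →
      x * y ≠ y * x ∧ (∀ {l}, InRoot G γ l → InRoot G (x * y - y * x) l) := by
    intro x y hx hx0 hy hy0
    obtain ⟨hxM, hxr, hxk⟩ := hx.eq_of_ne hE.1 hx0
    obtain ⟨hyM, hyr, hyk⟩ := hy.eq_of_ne hF.1 hy0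
    have hne' : x * y ≠ y * x := fun e => hne
      (commute_all h2 hxM hyM e ⟨hE.1.fam, hxr.ge, hxk.le⟩ ⟨hF.1.fam, hyr.ge, hyk.le⟩)
    refine ⟨hne', fun {l} hl => ⟨hl.1, ?_, ?_⟩⟩
    · obtain ⟨-, e1, -⟩ := (bracket_mem h2 hE.1 hF.1 h1 h1' hne hx hy).eq_of_ne hγ (sub_ne_zero.mpr hne')
      rw [e1]; exact hl.2.1
    · obtain ⟨-, -, e2⟩ := (bracket_mem h2 hE.1 hF.1 h1 h1' hne hx hy).eq_of_ne hγ (sub_ne_zero.mpr hne')
      rw [e2]; exact hl.2.2
  have hleft : ∀ e ∈ E, e ≠ 1 → ∀ t ∈ D, ∃ f ∈ F, e * f * e⁻¹ * f⁻¹ = t := by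
    intro e he he1 t ht
    have hx := (hE.2 e).mp he
    have hx0 : (e : Module.End k M) - 1 ≠ 0 := fun h => he1 (Units.ext (sub_eq_zero.mp h))
    obtain ⟨hxM, -, -⟩ := hx.eq_of_ne hE.1 hx0
    obtain ⟨hne', hl⟩ := hsub hx hx0 (InRoot.self hF.1.fam) hF.1.ne
    obtain ⟨t1, t2⟩ := htr _ _ hx (InRoot.self hF.1.fam)
    obtain ⟨y, hy, hye⟩ := comm_surj h2 h3 hirr hxM hF.1 t1 t2 hne' (hl ((hD.2 t).mp ht))
    refine ⟨qu y hy.1.1, hF.qu_mem hy, Units.ext ?_⟩
    have := hcoe e he _ (hF.qu_mem hy)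
    rw [coe_qu, add_sub_cancel_left, hye] at this
    exact sub_left_inj.mp this
  have hright : ∀ f ∈ F, f ≠ 1 → ∀ t ∈ D, ∃ e ∈ E, e * f * e⁻¹ * f⁻¹ = t := by
    intro f hf hf1 t ht
    have hy := (hF.2 f).mp hf
    have hy0 : (f : Module.End k M) - 1 ≠ 0 := fun h => hf1 (Units.ext (sub_eq_zero.mp h))
    obtain ⟨hyM, -, -⟩ := hy.eq_of_ne hF.1 hy0
    obtain ⟨hne', hl⟩ := hsub (InRoot.self hE.1.fam) hE.1.ne hy hy0
    obtain ⟨t1, t2⟩ := htr _ _ (InRoot.self hE.1.fam) hy
    set y := (f : Module.End k M) - 1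
    set l := (t : Module.End k M) - 1
    have hl' : InRoot G (y * a - a * y) ((-1 : k) • l) := by
      have h := (hl ((hD.2 t).mp ht)).smul (-1)
      refine ⟨h.1, ?_, ?_⟩
      · rw [← neg_sub, LinearMap.range_neg]; exact h.2.1
      · rw [← neg_sub, LinearMap.ker_neg]; exact h.2.2
    obtain ⟨x, hx, hxe⟩ := comm_surj h2 h3 hirr hyM hE.1 t2 t1 (Ne.symm hne') hl'
    refine ⟨qu x hx.1.1, hE.qu_mem hx, Units.ext ?_⟩
    have := hcoe _ (hE.qu_mem hx) f hf
    rw [coe_qu, add_sub_cancel_left, show x * y - y * x = -(y * x - x * y) by rw [neg_sub], hxe,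
      neg_one_smul, neg_neg] at this
    exact sub_left_inj.mp this
  have hEF : ⁅E, F⁆ = D := by
    refine le_antisymm ?_ fun t ht => ?_
    · exact Subgroup.commutator_le.mpr fun e he f hf => by
        rw [commutatorElement_def]; exact hmem e he f hf
    · have hane : qu a hE.1.sq ≠ 1 := fun h => hE.1.ne (by
        simpa using congrArg (fun g : GLM k M => (g : Module.End k M)) h)
      obtain ⟨f, hf, rfl⟩ := hleft _ (hE.qu_mem (InRoot.self hE.1.fam)) hane t ht
      rw [← commutatorElement_def]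
      exact Subgroup.commutator_mem_commutator (hE.qu_mem (InRoot.self hE.1.fam)) hf
  have ga : γ * a = 0 := by rw [hγdef, sub_mul, h1, mul_assoc b a a, hE.1.sq, mul_zero, sub_zero]
  have ag : a * γ = 0 := by
    rw [hγdef, mul_sub, ← mul_assoc, hE.1.sq, zero_mul, ← mul_assoc, h1, sub_zero]
  have gb : γ * b = 0 := by rw [hγdef, sub_mul, h1', mul_assoc a b b, hF.1.sq, mul_zero, sub_zero]
  have bg : b * γ = 0 := by
    rw [hγdef, mul_sub, ← mul_assoc b b, hF.1.sq, zero_mul, ← mul_assoc, h1', sub_zero]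
  have hcore : E ⊔ F ≤ coreGroup G γ := by
    refine sup_le (fun g hg => ?_) (fun g hg => ?_)
    · have hx := (hE.2 g).mp hg
      have z1 := mul_eq_zero_of_range_le ga hx.2.1
      have z2 := mul_eq_zero_of_ker_le ag hx.2.2
      rw [mul_sub, mul_one, sub_eq_zero] at z1
      rw [sub_mul, one_mul, sub_eq_zero] at z2
      refine ⟨hE.le hg, z1, z2, fun m hm => ?_⟩
      have : m ∈ ker γ := hm
      rw [hk] at this
      obtain ⟨_, ⟨p, rfl⟩, q, hq, rfl⟩ := Submodule.mem_sup.mp this.2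
      show ((g : Module.End k M) - 1) (b p + q) ∈ range γ
      rw [map_add, show ((g : Module.End k M) - 1) q = 0 from hx.2.2 hq, add_zero, hr]
      refine Submodule.mem_sup_left ⟨hx.2.1 (mem_range_self _ _), ?_⟩
      exact LinearMap.congr_fun (htr _ _ hx (InRoot.self hF.1.fam)).2 p
    · have hx := (hF.2 g).mp hg
      have z1 := mul_eq_zero_of_range_le gb hx.2.1
      have z2 := mul_eq_zero_of_ker_le bg hx.2.2
      rw [mul_sub, mul_one, sub_eq_zero] at z1
      rw [sub_mul, one_mul, sub_eq_zero] at z2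
      refine ⟨hF.le hg, z1, z2, fun m hm => ?_⟩
      have : m ∈ ker γ := hm
      rw [hk] at this
      obtain ⟨_, ⟨p, rfl⟩, q, hq, rfl⟩ := Submodule.mem_sup.mp this.1
      show ((g : Module.End k M) - 1) (a p + q) ∈ range γ
      rw [map_add, show ((g : Module.End k M) - 1) q = 0 from hx.2.2 hq, add_zero, hr]
      refine Submodule.mem_sup_right ⟨hx.2.1 (mem_range_self _ _), ?_⟩
      exact LinearMap.congr_fun (htr _ _ (InRoot.self hE.1.fam) hx).1 p
  have hcent : ∀ c ∈ D, ∀ x ∈ E ⊔ F, c * x = x * c := fun c hc x hx =>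
    (commute_core hD (hcore hx) hc).symm
  have hcomm2 : ⁅E ⊔ F, E ⊔ F⁆ ≤ D := by
    have hset : E ⊔ F = Subgroup.closure ((E : Set (GLM k M)) ∪ F) := by
      rw [Subgroup.closure_union, Subgroup.closure_eq, Subgroup.closure_eq]
    have hgen : ∀ g ∈ (E : Set (GLM k M)) ∪ F, ∀ h ∈ (E : Set (GLM k M)) ∪ F,
        g * h * g⁻¹ * h⁻¹ ∈ D := by
      have hEc := hE.isMulCommutative
      have hFc := hF.isMulCommutative
      rintro g (hg | hg) h (hh | hh)
      · rw [show g * h = h * g from congrArg Subtype.val (hEc.1.comm ⟨g, hg⟩ ⟨h, hh⟩),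
          mul_inv_cancel_right, mul_inv_cancel]
        exact one_mem D
      · exact hmem g hg h hh
      · have := inv_mem (hmem h hh g hg)
        convert this using 1
        group
      · rw [show g * h = h * g from congrArg Subtype.val (hFc.1.comm ⟨g, hg⟩ ⟨h, hh⟩),
          mul_inv_cancel_right, mul_inv_cancel]
        exact one_mem D
    rw [Subgroup.commutator_le]
    intro g hg h hh
    rw [commutatorElement_def]
    have step : ∀ g ∈ (E : Set (GLM k M)) ∪ F, ∀ h ∈ E ⊔ F, g * h * g⁻¹ * h⁻¹ ∈ D := by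
      intro g hg h hh
      rw [hset] at hh
      induction hh using Subgroup.closure_induction with
      | mem x hx => exact hgen g hg x hx
      | one => simp
      | mul x y hx hy ihx ihy =>
        rw [← hset] at hx hy
        have e : g * (x * y) * g⁻¹ * (x * y)⁻¹ =
            g * x * g⁻¹ * x⁻¹ * (x * (g * y * g⁻¹ * y⁻¹) * x⁻¹) := by group
        rw [e, ← hcent _ ihy x hx, mul_inv_cancel_right]
        exact mul_mem ihx ihy
      | inv x hx ihx =>
        rw [← hset] at hx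
        have e : g * x⁻¹ * g⁻¹ * x⁻¹⁻¹ = x⁻¹ * (g * x * g⁻¹ * x⁻¹)⁻¹ * x := by group
        rw [e, ← hcent _ (inv_mem ihx) _ (inv_mem hx), inv_mul_cancel_right]
        exact inv_mem ihx
    rw [hset] at hg
    induction hg using Subgroup.closure_induction with
    | mem x hx => exact step x hx h hh
    | one => simp
    | mul x y hx hy ihx ihy =>
      rw [← hset] at hx hy
      have e : x * y * h * (x * y)⁻¹ * h⁻¹ =
          x * (y * h * y⁻¹ * h⁻¹) * x⁻¹ * (x * h * x⁻¹ * h⁻¹) := by group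
      rw [e, ← hcent _ ihy x hx, mul_inv_cancel_right]
      exact mul_mem ihy ihx
    | inv x hx ihx =>
      rw [← hset] at hx
      have e : x⁻¹ * h * x⁻¹⁻¹ * h⁻¹ = x⁻¹ * (x * h * x⁻¹ * h⁻¹)⁻¹ * x := by group
      rw [e, ← hcent _ (inv_mem ihx) _ (inv_mem hx), inv_mul_cancel_right]
      exact inv_mem ihx
  refine ⟨hEF ▸ hD, fun e he he1 => ?_, fun f hf hf1 => ?_, hcore, ?_, ?_, ?_⟩
  · refine le_antisymm ((Subgroup.closure_le _).mpr ?_) fun t ht => ?_
    · rintro _ ⟨f, hf, rfl⟩; exact hEF ▸ hmem e he f hf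
    · obtain ⟨f, hf, rfl⟩ := hleft e he he1 t (hEF ▸ ht)
      exact Subgroup.subset_closure ⟨f, hf, rfl⟩
  · refine le_antisymm ((Subgroup.closure_le _).mpr ?_) fun t ht => ?_
    · rintro _ ⟨e, he, rfl⟩; exact hEF ▸ hmem e he f hf
    · obtain ⟨e, he, rfl⟩ := hright f hf hf1 t (hEF ▸ ht)
      exact Subgroup.subset_closure ⟨e, he, rfl⟩
  · intro h
    have := Subgroup.commutator_mono (le_sup_left : E ≤ E ⊔ F) (le_sup_right : F ≤ E ⊔ F)
    rw [h, le_bot_iff, hEF] at this
    exact hD.ne_bot this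
  · rw [Subgroup.commutator_eq_bot_iff_le_centralizer]
    intro c hc
    rw [Subgroup.mem_centralizer_iff]
    exact fun x hx => (hcent c (hcomm2 hc) x hx).symm
  · exact fun c hc => hcent c (hEF ▸ hc)

end H56Q
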