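import Cfsg.Agent.H56.QPPair

/-!
The central involution of a rank one pair of root subgroups.
-/

set_option autoImplicit false
set_option linter.unusedSectionVars false

universe u

namespace H56Q

open Cfsg LinearMap

variable {k : Type u} [Field k] {M : Type*} [AddCommGroup M] [Module k M] [FiniteDimensional k M]
variable {G : Subgroup (GLM k M)} {a b x y v : Module.End k M} {A B : Subgroup (GLM k M)}

/-- the elements fixing a vector -/
def fixGroup (m : M) : Subgroup (GLM k M) where
  carrier := {g | (g : Module.End k M) m = m}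
  one_mem' := rfl
  mul_mem' {g h} hg hh := by
    show (g : Module.End k M) ((h : Module.End k M) m) = m
    rw [show (h : Module.End k M) m = m from hh]
    exact hg
  inv_mem' {g} hg := by
    show ((g⁻¹ : GLM k M) : Module.End k M) m = m
    conv_lhs => rw [← (show (g : Module.End k M) m = m from hg)]
    exact LinearMap.congr_fun (Units.inv_mul g) m

/-- the elements moving every vector inside a subspace -/
def moveGroup (U : Submodule k M) : Subgroup (GLM k M) where
  carrier := {g | ∀ m, (g : Module.End k M) m - m ∈ U}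
  one_mem' m := by simp
  mul_mem' {g h} hg hh m := by
    have := U.add_mem (hg ((h : Module.End k M) m)) (hh m)
    rw [sub_add_sub_cancel] at this
    exact this
  inv_mem' {g} hg m := by
    have := U.neg_mem (hg (((g⁻¹ : GLM k M) : Module.End k M) m))
    rw [neg_sub, show (g : Module.End k M) (((g⁻¹ : GLM k M) : Module.End k M) m) = m from
      LinearMap.congr_fun (Units.mul_inv g) m] at this
    exact this

theorem fixed_eq (hA : IsRootOf G A a) (hB : IsRootOf G B b) :
    fixedSubmodule (A ⊔ B) = ker a ⊓ ker b := by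
  refine le_antisymm (le_inf ?_ ?_) ?_
  · refine le_trans (iInf₂_le _ (Subgroup.mem_sup_left (hA.qu_mem (InRoot.self hA.1.fam)))) ?_
    simp
  · refine le_trans (iInf₂_le _ (Subgroup.mem_sup_right (hB.qu_mem (InRoot.self hB.1.fam)))) ?_
    simp
  · refine le_iInf₂ fun g hg m hm => ?_
    have hle : A ⊔ B ≤ fixGroup m := by
      refine sup_le (fun g hg => ?_) (fun g hg => ?_)
      · exact sub_eq_zero.mp (((hA.2 g).mp hg).2.2 hm.1 : ((g : Module.End k M) - 1) m = 0)
      · exact sub_eq_zero.mp (((hB.2 g).mp hg).2.2 hm.2 : ((g : Module.End k M) - 1) m = 0)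
    show (g : Module.End k M) m - m = 0
    rw [sub_eq_zero]
    exact hle hg

theorem commutator_eq (hA : IsRootOf G A a) (hB : IsRootOf G B b) :
    commutatorSubmodule (A ⊔ B) = range a ⊔ range b := by
  refine le_antisymm ?_ (sup_le ?_ ?_)
  · refine iSup₂_le fun g hg => ?_
    have hle : A ⊔ B ≤ moveGroup (range a ⊔ range b) := by
      refine sup_le (fun g hg m => Submodule.mem_sup_left ?_) (fun g hg m => Submodule.mem_sup_right ?_)
      · exact ((hA.2 g).mp hg).2.1 (mem_range_self ((g : Module.End k M) - 1) m)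
      · exact ((hB.2 g).mp hg).2.1 (mem_range_self ((g : Module.End k M) - 1) m)
    rintro _ ⟨m, rfl⟩
    exact hle hg m
  · refine le_trans ?_ (le_iSup₂ (qu a hA.1.sq) (Subgroup.mem_sup_left (hA.qu_mem (InRoot.self hA.1.fam))))
    simp
  · refine le_trans ?_ (le_iSup₂ (qu b hB.1.sq) (Subgroup.mem_sup_right (hB.qu_mem (InRoot.self hB.1.fam))))
    simp

/-- the Weyl element of `x` and its opposite `v` -/
def weyl (x v : Module.End k M) (hx : x * x = 0) (hv : v * v = 0) : GLM k M :=
  qu x hx * (qu v hv)⁻¹ * qu x hx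

theorem coe_weyl (hx : x * x = 0) (hv : v * v = 0) (e1 : x * v * x = x) :
    (weyl x v hx hv : Module.End k M) = 1 - (x * v + v * x) + (x - v) := by
  simp only [weyl, Units.val_mul, coe_qu, coe_qu_inv, mul_add, add_mul, sub_mul, mul_sub, one_mul,
    mul_one, e1, hx]
  abel

theorem coe_weyl_sq (hx : x * x = 0) (hv : v * v = 0) (e1 : x * v * x = x) (e2 : v * x * v = v) :
    ((weyl x v hx hv * weyl x v hx hv : GLM k M) : Module.End k M) =
      1 - (2 : k) • (x * v + v * x) := by
  have e1' : ∀ r, x * (v * (x * r)) = x * r := fun r => by rw [← mul_assoc v, ← mul_assoc x (v * x), ← mul_assoc x v, e1]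
  have e2' : ∀ r, v * (x * (v * r)) = v * r := fun r => by rw [← mul_assoc x, ← mul_assoc v (x * v), ← mul_assoc v x, e2]
  have hx' : ∀ r, x * (x * r) = 0 := fun r => by rw [← mul_assoc, hx, zero_mul]
  have hv' : ∀ r, v * (v * r) = 0 := fun r => by rw [← mul_assoc, hv, zero_mul]
  have f1 : x * (v * x) = x := by rw [← mul_assoc, e1]
  have f2 : v * (x * v) = v := by rw [← mul_assoc, e2]
  rw [Units.val_mul, coe_weyl hx hv e1, two_smul]
  simp only [mul_add, add_mul, sub_mul, mul_sub, one_mul, mul_one, mul_assoc, e1', e2', hx', hv',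
    f1, f2, hx, hv, mul_zero]
  abel

theorem involution_spec (h2 : (2 : k) ≠ 0) (h3 : Nat.card k ≠ 3) (hA : IsRootOf G A a)
    (hB : IsRootOf G B b) (hn : ¬ IsNilpotent (b * a)) :
    (∃! i : GLM k M, i ∈ A ⊔ B ∧ i ≠ 1 ∧ i * i = 1 ∧ (∀ x ∈ A ⊔ B, i * x = x * i) ∧
      (∀ m ∈ commutatorSubmodule (A ⊔ B), (i : M →ₗ[k] M) m = -m) ∧
      (∀ m ∈ fixedSubmodule (A ⊔ B), (i : M →ₗ[k] M) m = m)) ∧
    IsCompl (fixedSubmodule (A ⊔ B)) (commutatorSubmodule (A ⊔ B)) := by
  obtain ⟨v, hv, e1, e2, hEb⟩ := exists_partner h2 h3 hA.1 hB.1 hn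
  set E := a * v + v * a with hE
  have hEa : E * a = a := by rw [hE, add_mul, mul_assoc v a a, hA.1.sq, mul_zero, add_zero, e1]
  have kerE : ∀ m, a m = 0 → b m = 0 → E m = 0 := fun m h1 h2 => by
    show a (v m) + v (a m) = 0
    rw [(hv.2.2 h2 : v m = 0), h1, map_zero, map_zero, add_zero]
  have onU : ∀ m ∈ range a ⊔ range b, E m = m := by
    intro m hm
    obtain ⟨_, ⟨p, rfl⟩, _, ⟨q, rfl⟩, rfl⟩ := Submodule.mem_sup.mp hm
    rw [map_add, show E (a p) = a p from LinearMap.congr_fun hEa p,
      show E (b q) = b q from LinearMap.congr_fun hEb q]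
  have rangeE : ∀ m, E m ∈ range a ⊔ range b := fun m =>
    Submodule.add_mem _ (Submodule.mem_sup_left (mem_range_self a (v m)))
      (Submodule.mem_sup_right (hv.2.1 (mem_range_self v (a m))))
  have onA : ∀ w, InRoot G a w → E * w = w ∧ w * E = w := by
    intro w hw
    constructor
    · refine LinearMap.ext fun m => ?_
      exact onU _ (Submodule.mem_sup_left (hw.2.1 (mem_range_self w m)))
    · refine LinearMap.ext fun m => ?_
      show w (E m) = w m
      rw [← sub_eq_zero, ← map_sub]
      refine hw.2.2 ?_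
      show a (E m - m) = 0
      rw [map_sub, sub_eq_zero]
      show a (a (v m) + v (a m)) = a m
      rw [map_add, show a (a (v m)) = 0 from LinearMap.congr_fun hA.1.sq (v m), zero_add]
      exact LinearMap.congr_fun e1 m
  have eb1 : b * E = b := by
    refine LinearMap.ext fun m => ?_
    show b (E m) = b m
    rw [← sub_eq_zero, ← map_sub]
    obtain ⟨-, -, hk⟩ := hv.eq_of_ne hB.1 (fun h => hA.1.ne (by simpa [h] using e1.symm))
    refine (hk ▸ ?_ : E m - m ∈ ker b)
    show v (E m - m) = 0
    rw [map_sub, sub_eq_zero]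
    show v (a (v m) + v (a m)) = v m
    rw [map_add, show v (v (a m)) = 0 from LinearMap.congr_fun hv.1.1 (a m), add_zero]
    exact LinearMap.congr_fun e2 m
  have onB : ∀ w, InRoot G b w → E * w = w ∧ w * E = w := by
    intro w hw
    constructor
    · refine LinearMap.ext fun m => ?_
      exact onU _ (Submodule.mem_sup_right (hw.2.1 (mem_range_self w m)))
    · refine LinearMap.ext fun m => ?_
      show w (E m) = w m
      rw [← sub_eq_zero, ← map_sub]
      refine hw.2.2 ?_
      show b (E m - m) = 0
      rw [map_sub, sub_eq_zero]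
      exact LinearMap.congr_fun eb1 m
  set i := weyl a v hA.1.sq hv.1.1 * weyl a v hA.1.sq hv.1.1 with hi
  have hie : (i : Module.End k M) = 1 - (2 : k) • E := coe_weyl_sq _ _ e1 e2
  have hmem : i ∈ A ⊔ B := by
    have : weyl a v hA.1.sq hv.1.1 ∈ A ⊔ B :=
      mul_mem (mul_mem (Subgroup.mem_sup_left (hA.qu_mem (InRoot.self hA.1.fam)))
        (inv_mem (Subgroup.mem_sup_right (hB.qu_mem hv))))
        (Subgroup.mem_sup_left (hA.qu_mem (InRoot.self hA.1.fam)))
    exact mul_mem this this
  have hEE : E * E = E := by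
    refine LinearMap.ext fun m => ?_
    exact onU _ (rangeE m)
  have hcompl : IsCompl (fixedSubmodule (A ⊔ B)) (commutatorSubmodule (A ⊔ B)) := by
    rw [fixed_eq hA hB, commutator_eq hA hB]
    constructor
    · rw [Submodule.disjoint_def]
      intro m hm hm'
      rw [← onU m hm', kerE m hm.1 hm.2]
    · rw [codisjoint_iff, eq_top_iff]
      intro m _
      rw [← sub_add_cancel m (E m)]
      refine Submodule.add_mem_sup ⟨?_, ?_⟩ (rangeE m)
      · show a (m - E m) = 0
        rw [map_sub, show a (E m) = a m from LinearMap.congr_fun (onA a (InRoot.self hA.1.fam)).2 m,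
          sub_self]
      · show b (m - E m) = 0
        rw [map_sub, show b (E m) = b m from LinearMap.congr_fun eb1 m, sub_self]
  refine ⟨⟨i, ⟨hmem, ?_, ?_, ?_, ?_, ?_⟩, ?_⟩, hcompl⟩
  · intro h
    apply hA.1.ne
    have h' : (2 : k) • E = 0 := by
      have := congrArg (fun u : GLM k M => (u : Module.End k M)) h
      simp only [hie, Units.val_one, sub_eq_self] at this
      exact this
    rw [← hEa, (smul_eq_zero.mp h').resolve_left h2, zero_mul]
  · apply Units.ext
    rw [Units.val_mul, hie, Units.val_one]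
    rw [two_smul]
    simp only [sub_mul, mul_sub, one_mul, mul_one, mul_add, add_mul, hEE]
    abel
  · intro g hg
    have hle : A ⊔ B ≤ Subgroup.centralizer {i} := by
      refine sup_le (fun g hg => ?_) (fun g hg => ?_) <;> rw [Subgroup.mem_centralizer_singleton_iff] <;>
        apply Units.ext
      · obtain ⟨p, q⟩ := onA _ ((hA.2 g).mp hg)
        have e : E * (g : Module.End k M) = (g : Module.End k M) * E := by
          rw [mul_sub, mul_one] at p; rw [sub_mul, one_mul] at q
          exact sub_left_inj.mp (p.trans q.symm)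
        simp only [Units.val_mul, hie, sub_mul, mul_sub, one_mul, mul_one, smul_mul_assoc, mul_smul_comm, e]
      · obtain ⟨p, q⟩ := onB _ ((hB.2 g).mp hg)
        have e : E * (g : Module.End k M) = (g : Module.End k M) * E := by
          rw [mul_sub, mul_one] at p; rw [sub_mul, one_mul] at q
          exact sub_left_inj.mp (p.trans q.symm)
        simp only [Units.val_mul, hie, sub_mul, mul_sub, one_mul, mul_one, smul_mul_assoc, mul_smul_comm, e]
    exact ((Subgroup.mem_centralizer_singleton_iff).mp (hle hg)).symm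
  · intro m hm
    rw [commutator_eq hA hB] at hm
    show (i : Module.End k M) m = -m
    rw [hie, LinearMap.sub_apply, LinearMap.smul_apply, onU m hm, two_smul, Module.End.one_apply]
    abel
  · intro m hm
    rw [fixed_eq hA hB] at hm
    show (i : Module.End k M) m = m
    rw [hie, LinearMap.sub_apply, LinearMap.smul_apply, kerE m hm.1 hm.2, smul_zero, sub_zero,
      Module.End.one_apply]
  · rintro j ⟨-, -, -, -, hjU, hjF⟩
    apply Units.ext
    refine LinearMap.ext fun m => ?_
    obtain ⟨p, hp, q, hq, rfl⟩ : ∃ p ∈ fixedSubmodule (A ⊔ B), ∃ q ∈ commutatorSubmodule (A ⊔ B),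
        p + q = m := Submodule.mem_sup.mp (hcompl.sup_eq_top ▸ Submodule.mem_top)
    rw [map_add, map_add, hjU q hq, hjF p hp]
    rw [fixed_eq hA hB] at hp
    rw [commutator_eq hA hB] at hq
    show p + -q = (i : Module.End k M) p + (i : Module.End k M) q
    rw [hie]
    rw [two_smul]
    simp only [LinearMap.sub_apply, LinearMap.add_apply, kerE p hp.1 hp.2, onU q hq,
      Module.End.one_apply, add_zero, sub_zero]
    abel

end H56Q
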