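import Cfsg.Agent.H56.QPCore

/-!
Generation of `SL₂(k(α))` by two one parameter families.
-/

set_option autoImplicit false

namespace H56Q

open Polynomial Matrix

variable {k K : Type*} [Field k] [Field K] [Algebra k K]

/-- matrices as endomorphisms over the small field -/
noncomputable def matEnd (k K : Type*) [Field k] [Field K] [Algebra k K] :
    Matrix (Fin 2) (Fin 2) K →ₐ[k] Module.End k (Fin 2 → K) where
  toFun A := (Matrix.mulVecLin A).restrictScalars k
  map_one' := by apply LinearMap.ext; intro v; simp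
  map_mul' A B := by apply LinearMap.ext; intro v; simp [Matrix.mulVec_mulVec]
  map_zero' := by apply LinearMap.ext; intro v; simp
  map_add' A B := by apply LinearMap.ext; intro v; simp [Matrix.add_mulVec]
  commutes' c := by
    apply LinearMap.ext; intro v
    simp [Algebra.algebraMap_eq_smul_one, Matrix.smul_mulVec]

theorem matEnd_injective : Function.Injective (matEnd k K) := by
  intro A B h
  apply Matrix.ext_of_mulVec_single
  intro i
  exact LinearMap.congr_fun h _

/-- determinant one matrices as automorphisms over the small field -/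
noncomputable def matGL (k K : Type*) [Field k] [Field K] [Algebra k K] :
    SpecialLinearGroup (Fin 2) K →* GLM k (Fin 2 → K) :=
  (Units.map (matEnd k K).toRingHom.toMonoidHom).comp SpecialLinearGroup.toGL

theorem coe_matGL (g : SpecialLinearGroup (Fin 2) K) :
    ((matGL k K g : GLM k (Fin 2 → K)) : Module.End k (Fin 2 → K)) = matEnd k K g.1 := rfl

theorem matGL_injective : Function.Injective (matGL k K) := by
  intro g h e
  apply Subtype.ext
  apply matEnd_injective (k := k)
  rw [← coe_matGL, ← coe_matGL, e]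

theorem upr_coe_eq (y : K) : (upr y : Matrix (Fin 2) (Fin 2) K) = 1 + y • !![0, 1; 0, 0] := by
  ext i j; fin_cases i <;> fin_cases j <;> simp [coe_upr]

theorem lwr_coe_eq (y : K) : (lwr y : Matrix (Fin 2) (Fin 2) K) = 1 + y • !![0, 0; 1, 0] := by
  ext i j; fin_cases i <;> fin_cases j <;> simp [coe_lwr]

theorem two_families_eq_top [FiniteDimensional k K] (h2 : (2 : k) ≠ 0) (h3 : Nat.card k ≠ 3) (α : K)
    (hα0 : α ≠ 0) (hgen : ∀ y : K, ∃ r : k[X], y = aeval α r) :
    Subgroup.closure (Set.range (fun c : k => upr (algebraMap k K c)) ∪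
      Set.range (fun c : k => lwr (algebraMap k K c * α))) = ⊤ := by
  set S := Subgroup.closure (Set.range (fun c : k => upr (algebraMap k K c)) ∪
      Set.range (fun c : k => lwr (algebraMap k K c * α)))
  set H := S.map (matGL k K)
  let ψ : K →ₐ[k] Module.End k (Fin 2 → K) :=
    (matEnd k K).comp ((Algebra.ofId K (Matrix (Fin 2) (Fin 2) K)).restrictScalars k)
  have hψ : ∀ (y : K) (N : Matrix (Fin 2) (Fin 2) K), ψ y * matEnd k K N = matEnd k K (y • N) :=
    fun y N => by
      show matEnd k K (algebraMap K _ y) * _ = _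
      rw [← map_mul, ← Algebra.smul_def]
  set a := matEnd k K !![0, 1; 0, 0]
  set b := matEnd k K (α • !![0, 0; 1, 0])
  have hc : ∀ (c : k) (N : Matrix (Fin 2) (Fin 2) K),
      1 + c • matEnd k K N = matEnd k K (1 + algebraMap k K c • N) := fun c N => by
    rw [map_add, map_one, algebraMap_smul, map_smul]
  have ha : Fam H a := by
    refine ⟨?_, fun c => ⟨_, Subgroup.mem_map_of_mem _ (Subgroup.subset_closure (Or.inl ⟨c, rfl⟩)), ?_⟩⟩
    · rw [← map_mul, ← map_zero (matEnd k K)]; congr 1; ext i j; fin_cases i <;> fin_cases j <;> simp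
    · rw [coe_matGL, upr_coe_eq, hc]
  have hb : Fam H b := by
    refine ⟨?_, fun c => ⟨_, Subgroup.mem_map_of_mem _ (Subgroup.subset_closure (Or.inr ⟨c, rfl⟩)), ?_⟩⟩
    · rw [← map_mul, ← map_zero (matEnd k K)]; congr 1; ext i j; fin_cases i <;> fin_cases j <;> simp
    · rw [coe_matGL, lwr_coe_eq, hc, smul_smul]
  have hz : zed a b = ψ α := by
    have : zed a b = matEnd k K (algebraMap K _ α) := by
      rw [zed, ← map_mul, ← map_mul, ← map_add]; congr 1
      ext i j; fin_cases i <;> fin_cases j <;>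
        simp [Matrix.mul_apply, Fin.sum_univ_two, Matrix.algebraMap_matrix_apply]
    exact this
  have hpow : ∀ (e : ℕ) (y : K), ∃ r : k[X], X ^ e ∣ r ∧ y = aeval α r := fun e y => by
    obtain ⟨r, hr⟩ := hgen (y / α ^ e)
    refine ⟨X ^ e * r, dvd_mul_right _ _, ?_⟩
    rw [map_mul, aeval_X_pow, ← hr, mul_div_cancel₀ _ (pow_ne_zero e hα0)]
  have mem : ∀ g, (∃ h ∈ H, (h : Module.End k (Fin 2 → K)) = matEnd k K g) →
      ∀ g' : SpecialLinearGroup (Fin 2) K, (g' : Matrix (Fin 2) (Fin 2) K) = g → g' ∈ S := by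
    rintro g ⟨h, ⟨s, hs, rfl⟩, e⟩ g' rfl
    rw [coe_matGL] at e
    have : s = g' := Subtype.ext (matEnd_injective e)
    exact this ▸ hs
  refine FullRoots.eq_top_field fun y => ⟨?_, ?_⟩
  · obtain ⟨e, he⟩ := fam_power h2 h3 ha hb
    obtain ⟨r, hr, rfl⟩ := hpow e y
    obtain ⟨h, hh, he'⟩ := (he r hr).2 1
    refine mem _ ⟨h, hh, he'.trans ?_⟩ _ rfl
    rw [one_smul, hz, aeval_algHom_apply, hψ, upr_coe_eq, map_add, map_one]
  · obtain ⟨e, he⟩ := fam_power h2 h3 hb ha
    obtain ⟨r, hr, hy⟩ := hpow e (y / α)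
    obtain ⟨h, hh, he'⟩ := (he r hr).2 1
    refine mem _ ⟨h, hh, he'.trans ?_⟩ _ rfl
    rw [one_smul, zed_comm, hz, aeval_algHom_apply, ← hy, hψ, lwr_coe_eq, map_add, map_one,
      smul_smul, div_mul_cancel₀ _ hα0]

end H56Q
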