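import Cfsg.Agent.H56.QPPair
import Cfsg.Agent.H56.QPGen

/-!
The copy of `SL₂` of the field generated by `ab + ba` of a non-nilpotent pair.
-/

set_option autoImplicit false
set_option linter.unusedSectionVars false

universe u

namespace H56Q

open Cfsg Polynomial LinearMap

variable {k : Type u} [Field k] {M : Type*} [AddCommGroup M] [Module k M] [FiniteDimensional k M]
variable {H : Subgroup (GLM k M)} {a b : Module.End k M}

/-- a ring of scalars acting on a system of matrix units -/
structure UnitSys (K : Type*) [Field K] (R : Type*) [Ring R] where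
  ρ : K →+ R
  s : R
  t : R
  rho_mul : ∀ x y, ρ (x * y) = ρ x * ρ y
  cs : ∀ x, Commute (ρ x) s
  ct : ∀ x, Commute (ρ x) t
  one_sum : ρ 1 = s * t + t * s
  ss : s * s = 0
  tt : t * t = 0
  sts : s * t * s = s
  tst : t * s * t = t
  inj : ∀ x, ρ x * s = 0 → x = 0

namespace UnitSys

variable {K : Type*} [Field K] {R : Type*} [Ring R] (U : UnitSys K R)

theorem ss' (x : R) : U.s * (U.s * x) = 0 := by rw [← mul_assoc, U.ss, zero_mul]

theorem tt' (x : R) : U.t * (U.t * x) = 0 := by rw [← mul_assoc, U.tt, zero_mul]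

theorem sts' (x : R) : U.s * (U.t * (U.s * x)) = U.s * x := by
  rw [← mul_assoc U.t, ← mul_assoc U.s (U.t * U.s), ← mul_assoc U.s U.t, U.sts]

theorem tst' (x : R) : U.t * (U.s * (U.t * x)) = U.t * x := by
  rw [← mul_assoc U.s, ← mul_assoc U.t (U.s * U.t), ← mul_assoc U.t U.s, U.tst]

theorem sts'' : U.s * (U.t * U.s) = U.s := by rw [← mul_assoc, U.sts]

theorem tst'' : U.t * (U.s * U.t) = U.t := by rw [← mul_assoc, U.tst]

/-- the corner embedding of the two by two matrices -/
def psi (A : Matrix (Fin 2) (Fin 2) K) : R :=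
  U.ρ (A 0 0) * (U.s * U.t) + U.ρ (A 0 1) * U.s + U.ρ (A 1 0) * U.t + U.ρ (A 1 1) * (U.t * U.s)

theorem prod_term {x y : K} {e e' : R} (hc : Commute (U.ρ y) e) :
    U.ρ x * e * (U.ρ y * e') = U.ρ (x * y) * (e * e') := by
  rw [U.rho_mul, mul_assoc, ← mul_assoc e, ← hc.eq, mul_assoc (U.ρ y), mul_assoc]

theorem psi_mul (A B : Matrix (Fin 2) (Fin 2) K) : U.psi (A * B) = U.psi A * U.psi B := by
  simp only [psi, mul_add, add_mul, U.prod_term ((U.cs _).mul_right (U.ct _)),
    U.prod_term ((U.ct _).mul_right (U.cs _)), U.prod_term (U.cs _), U.prod_term (U.ct _)]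
  simp only [mul_assoc, U.ss, U.tt, U.ss', U.tt', U.sts', U.tst', U.sts'', U.tst'', mul_zero,
    add_zero, zero_add, Matrix.mul_apply, Fin.sum_univ_two, map_add, add_mul]
  abel

theorem one_s : U.ρ 1 * U.s = U.s := by
  rw [U.one_sum, add_mul, mul_assoc U.t, U.ss, mul_zero, add_zero, U.sts]

theorem one_t : U.ρ 1 * U.t = U.t := by
  rw [U.one_sum, add_mul, mul_assoc U.s, U.tt, mul_zero, zero_add, U.tst]

theorem psi_one : U.psi 1 = U.ρ 1 := by
  simp only [psi, Matrix.one_apply_eq, ne_eq, zero_ne_one, one_ne_zero, not_false_eq_true,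
    Matrix.one_apply_ne, map_zero, zero_mul, add_zero, ← mul_assoc, U.one_s, U.one_t]
  exact U.one_sum.symm

/-- the monoid map -/
def phi : Matrix.SpecialLinearGroup (Fin 2) K →* R where
  toFun g := 1 - U.ρ 1 + U.psi g.1
  map_one' := by
    show 1 - U.ρ 1 + U.psi 1 = 1
    rw [U.psi_one, sub_add_cancel]
  map_mul' g h := by
    have hl : ∀ A, U.ρ 1 * U.psi A = U.psi A := fun A => by rw [← U.psi_one, ← U.psi_mul, one_mul]
    have hr : ∀ A, U.psi A * U.ρ 1 = U.psi A := fun A => by rw [← U.psi_one, ← U.psi_mul, mul_one]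
    have he : U.ρ 1 * U.ρ 1 = U.ρ 1 := by rw [← U.rho_mul, one_mul]
    show 1 - U.ρ 1 + U.psi (g.1 * h.1) = (1 - U.ρ 1 + U.psi g.1) * (1 - U.ρ 1 + U.psi h.1)
    simp only [U.psi_mul, mul_add, add_mul, mul_sub, sub_mul, one_mul, mul_one, hl, hr, he]
    abel

theorem phi_upr (x : K) : U.phi (upr x) = 1 + U.ρ x * U.s := by
  show 1 - U.ρ 1 + U.psi _ = _
  simp only [psi, upr_00, upr_01, upr_10, upr_11, map_zero, zero_mul, add_zero, ← mul_assoc,
    U.one_s, U.one_t]
  rw [U.one_sum]; abel

theorem phi_lwr (x : K) : U.phi (lwr x) = 1 + U.ρ x * U.t := by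
  show 1 - U.ρ 1 + U.psi _ = _
  simp only [psi, lwr_00, lwr_01, lwr_10, lwr_11, map_zero, zero_mul, add_zero, ← mul_assoc,
    U.one_s, U.one_t]
  rw [U.one_sum]; abel

theorem phi_injective : Function.Injective U.phi := by
  intro g h e
  have e' : U.psi g.1 = U.psi h.1 := add_left_cancel (a := 1 - U.ρ 1) e
  let E : Fin 2 → Fin 2 → Matrix (Fin 2) (Fin 2) K := fun i j => Matrix.single i j 1
  refine Subtype.ext (Matrix.ext fun i j => ?_)
  have h1 : U.psi (E 0 i * g.1 * E j 1) = U.psi (E 0 i * h.1 * E j 1) := by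
    simp only [U.psi_mul, e']
  have h2 : ∀ A : Matrix (Fin 2) (Fin 2) K, U.psi (E 0 i * A * E j 1) = U.ρ (A i j) * U.s := fun A => by
    fin_cases i <;> fin_cases j <;>
      simp [psi, E, Matrix.mul_apply, Fin.sum_univ_two, Matrix.single]
  rw [h2, h2] at h1
  exact sub_eq_zero.mp (U.inj _ (by rw [map_sub, sub_mul, h1, sub_self]))

end UnitSys

theorem exists_sl_embedding (ha : Fam H a) (hb : Fam H b)
    (C : CoreData H a b) [Fact (Irreducible C.f)] :
    ∃ φ : Matrix.SpecialLinearGroup (Fin 2) (AdjoinRoot C.f) →* GLM k M, Function.Injective φ ∧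
      (∀ r : k[X], (φ (upr (AdjoinRoot.mk C.f r)) : Module.End k M) = 1 + aeval (zed a b) r * a) ∧
      (∀ r : k[X], (φ (lwr (AdjoinRoot.mk C.f r * AdjoinRoot.root C.f)) : Module.End k M) =
        1 + aeval (zed a b) r * b) := by
  classical
  obtain ⟨r0, hra, hrb⟩ := C.exists_zeta
  set z := zed a b with hz
  set Z := aeval z r0 with hZ
  set E := Z * z with hEdef
  have cPQ : ∀ P Q : k[X], Commute (aeval z P) (aeval z Q) := fun P Q => by
    show _ * _ = _ * _
    rw [← map_mul, ← map_mul, mul_comm]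
  have cPz : ∀ P : k[X], Commute (aeval z P) z := fun P => by
    have := cPQ P X
    rwa [aeval_X] at this
  have cE : ∀ P : k[X], Commute (aeval z P) E := fun P => (cPQ P r0).mul_right (cPz P)
  have ca : ∀ P : k[X], Commute (aeval z P) a := fun P => aev_commute_left ha.1 P
  have cb : ∀ P : k[X], Commute (aeval z P) b := fun P => aev_commute_right hb.1 P
  have cza : Commute z a := by have := ca X; rwa [aeval_X] at this
  have czb : Commute z b := by have := cb X; rwa [aeval_X] at this
  have cEa : Commute E a := (ca r0).mul_left cza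
  have cEb : Commute E b := (cb r0).mul_left czb
  have hkill : ∀ P : k[X], C.f ∣ P → aeval z P * E = 0 := by
    intro P hP
    have h0 : aeval z P * (a * b + b * a) = 0 := by
      rw [mul_add, ← mul_assoc (aeval z P),
        ← mul_assoc (aeval z P), (C.left_iff P).mpr hP, (C.right_iff P).mpr hP, zero_mul, zero_mul,
        add_zero]
    rw [hEdef, ← mul_assoc, (cPQ P r0).eq, mul_assoc]
    exact (congrArg (Z * ·) h0).trans (mul_zero _)
  have hEE : E * E = E := by
    have hEz : E * z = z := by
      show E * (a * b + b * a) = a * b + b * a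
      rw [mul_add, ← mul_assoc, ← mul_assoc, hra, hrb]
    conv_lhs => arg 2; rw [hEdef]
    rw [← mul_assoc, ← (cE r0).eq, mul_assoc, hEz]
  let ρ : AdjoinRoot C.f →+ Module.End k M :=
    { toFun := fun x => aeval z (AdjoinRoot.modByMonicHom C.monic x) * E
      map_zero' := by simp
      map_add' := fun x y => by rw [map_add, map_add, add_mul] }
  have hρ : ∀ P : k[X], ρ (AdjoinRoot.mk C.f P) = aeval z P * E := by
    intro P
    show aeval z (AdjoinRoot.modByMonicHom C.monic (AdjoinRoot.mk C.f P)) * E = _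
    rw [AdjoinRoot.modByMonicHom_mk, ← sub_eq_zero, ← sub_mul, ← map_sub]
    exact hkill _ ⟨-(P /ₘ C.f), by linear_combination Polynomial.modByMonic_add_div P C.f⟩
  have hρa : ∀ P : k[X], ρ (AdjoinRoot.mk C.f P) * a = aeval z P * a := fun P => by
    rw [hρ, mul_assoc, hra]
  have hρb : ∀ P : k[X], ρ (AdjoinRoot.mk C.f P) * b = aeval z P * b := fun P => by
    rw [hρ, mul_assoc, hrb]
  have hbZ : (Z * b) * a + a * (Z * b) = E := by
    rw [← mul_assoc a, ← (ca r0).eq, mul_assoc, mul_assoc, ← mul_add, add_comm, hEdef]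
    rfl
  let U : UnitSys (AdjoinRoot C.f) (Module.End k M) :=
    { ρ := ρ
      s := a
      t := Z * b
      rho_mul := fun x y => by
        induction x using AdjoinRoot.induction_on with
        | _ P => induction y using AdjoinRoot.induction_on with
          | _ Q =>
            rw [← map_mul, hρ, hρ, hρ, map_mul, mul_assoc (aeval z P) E, ← mul_assoc E,
              ← (cE Q).eq, mul_assoc (aeval z Q), hEE, mul_assoc]
      cs := fun x => by
        induction x using AdjoinRoot.induction_on with
        | _ P => rw [hρ]; exact (ca P).mul_left cEa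
      ct := fun x => by
        induction x using AdjoinRoot.induction_on with
        | _ P =>
          rw [hρ]
          exact ((cPQ P r0).mul_right (cb P)).mul_left ((cE r0).symm.mul_right cEb)
      one_sum := by
        rw [← map_one (AdjoinRoot.mk C.f), hρ, map_one, one_mul, ← hbZ, add_comm]
      ss := ha.1
      tt := by rw [mul_assoc, ← mul_assoc b, ← (cb r0).eq, mul_assoc Z b b, hb.1, mul_zero, mul_zero]
      sts := by
        calc a * (Z * b) * a = (a * (Z * b) + Z * b * a) * a := by
              rw [add_mul, mul_assoc (Z * b) a a, ha.1, mul_zero, add_zero]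
          _ = a := by rw [add_comm, hbZ]; exact hra
      tst := by
        calc Z * b * a * (Z * b) = (Z * b * a + a * (Z * b)) * (Z * b) := by
              rw [add_mul, mul_assoc a (Z * b) (Z * b), mul_assoc Z b (Z * b), ← mul_assoc b Z b,
                ← (cb r0).eq, mul_assoc Z b b, hb.1, mul_zero, mul_zero, mul_zero, add_zero]
          _ = Z * b := by rw [hbZ, ← mul_assoc, ← (cE r0).eq, mul_assoc Z E b, hrb]
      inj := fun x => by
        induction x using AdjoinRoot.induction_on with
        | _ P => exact fun h => AdjoinRoot.mk_eq_zero.mpr ((C.left_iff P).mp ((hρa P).symm.trans h)) }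
  refine ⟨U.phi.toHomUnits, ?_, fun r => ?_, fun r => ?_⟩
  · intro g h e
    exact U.phi_injective (congrArg (fun u : GLM k M => (u : Module.End k M)) e)
  · exact (U.phi_upr _).trans (congrArg (1 + ·) (hρa r))
  · refine (U.phi_lwr _).trans (congrArg (1 + ·) ?_)
    show ρ _ * (Z * b) = _
    rw [← AdjoinRoot.mk_X, ← map_mul, ← mul_assoc, hρ]
    calc aeval z (r * X) * E * Z * b = aeval z r * (E * (z * Z)) * b := by
          rw [map_mul, aeval_X]
          simp only [mul_assoc]
          rw [← mul_assoc z E, ((cPz r0).symm.mul_right (Commute.refl z)).eq, mul_assoc]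
      _ = aeval z r * b := by
          rw [← (cPz r0).eq, ← hEdef, hEE, mul_assoc, hrb]

end H56Q
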