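import Cfsg.Agent.H56.BNPair

/-!
Matsumoto's argument: the Weyl group of a (B,N)-pair is a Coxeter group.
-/

set_option autoImplicit false

namespace H56

section Alt

variable {α : Type*}

/-- The alternating word of given length beginning with `u`. -/
def altL (u v : α) : ℕ → List α
  | 0 => []
  | k + 1 => u :: altL v u k

theorem altL_length : ∀ (k : ℕ) (u v : α), (altL u v k).length = k := by
  intro k
  induction k with
  | zero => intros; rfl
  | succ k ih => intro u v; simp [altL, ih]

theorem altL_prefix : ∀ (i j : ℕ) (u v : α), ∃ r, altL u v (i + j) = altL u v i ++ r := by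
  intro i
  induction i with
  | zero => intro j u v; exact ⟨_, rfl⟩
  | succ i ih =>
    intro j u v
    obtain ⟨r, hr⟩ := ih j v u
    exact ⟨r, by rw [Nat.succ_add, altL, altL, hr]; rfl⟩

theorem altL_prod_mul_inv {M : Type*} [Group M] (f : α → M) :
    ∀ (k : ℕ) (u v : α), f u * f u = 1 → f v * f v = 1 →
      ((altL u v k).map f).prod * (((altL v u k).map f).prod)⁻¹ = (f u * f v) ^ k := by
  intro k
  induction k with
  | zero => intros; simp [altL]
  | succ k ih =>
    intro u v hu hv
    have h := ih v u hv hu
    have hvi : (f v)⁻¹ = f v := inv_eq_of_mul_eq_one_right hv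
    simp only [altL, List.map_cons, List.prod_cons, mul_inv_rev]
    rw [hvi, mul_assoc, ← mul_assoc _ _ (f v), h, pow_succ, ← mul_assoc, ← mul_assoc]
    refine congrArg (· * f v) ?_
    clear h ih
    induction k with
    | zero => simp
    | succ k ih2 =>
      rw [pow_succ', pow_succ', ← mul_assoc, ← mul_assoc, mul_assoc (f u * f v), ← mul_assoc (f u * f v)]
      simp only [mul_assoc] at ih2 ⊢
      rw [ih2]

theorem altL_prod_eq_iff {M : Type*} [Group M] (f : α → M) (k : ℕ) (u v : α)
    (hu : f u * f u = 1) (hv : f v * f v = 1) :
    ((altL u v k).map f).prod = ((altL v u k).map f).prod ↔ (f u * f v) ^ k = 1 := by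
  rw [← altL_prod_mul_inv f k u v hu hv, mul_inv_eq_one]

end Alt

variable {G : Type*} [Group G] (P : Cfsg.BNPair G)

/-- The Coxeter matrix of the Weyl group. -/
noncomputable def weylMatrix : CoxeterMatrix P.S where
  M := Matrix.of fun s t => orderOf (simW P s * simW P t)
  isSymm := by
    ext s t
    simp only [Matrix.transpose_apply, Matrix.of_apply]
    rw [← orderOf_inv, mul_inv_rev, simW_inv, simW_inv]
  diagonal s := by simp [simW_mul_self]
  off_diagonal s t hne h := by
    rw [Matrix.of_apply, orderOf_eq_one_iff] at h
    exact hne (simW_injective P ((eq_inv_of_mul_eq_one_left h).trans (simW_inv P t)))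

theorem weylMatrix_apply (s t : P.S) : weylMatrix P s t = orderOf (simW P s * simW P t) := rfl

/-- The value of a word in the abstract Coxeter group. -/
noncomputable def wg (l : List P.S) : (weylMatrix P).Group := (l.map (weylMatrix P).simple).prod

theorem simple_sq_one (s : P.S) : (weylMatrix P).simple s * (weylMatrix P).simple s = 1 :=
  (weylMatrix P).toCoxeterSystem.simple_mul_simple_self s

theorem Red.altL_le {u v : P.S} {k : ℕ} (h : Red P (altL u v k))
    (hm : 0 < orderOf (simW P u * simW P v)) : k ≤ orderOf (simW P u * simW P v) := by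
  by_contra hlt
  obtain ⟨m, hm'⟩ : ∃ m, orderOf (simW P u * simW P v) = m + 1 :=
    ⟨orderOf (simW P u * simW P v) - 1, by omega⟩
  obtain ⟨r, hr⟩ := altL_prefix (m + 2) (k - (m + 2)) u v
  have hk : m + 2 + (k - (m + 2)) = k := by omega
  rw [hk] at hr
  rw [hr] at h
  have h1 := Red.left P h
  have he : ws P (altL u v (m + 2)) = ws P (altL v u m) := by
    have h2 : ((altL u v (m + 1)).map (simW P)).prod = ((altL v u (m + 1)).map (simW P)).prod := by
      rw [altL_prod_eq_iff _ _ _ _ (simW_mul_self P u) (simW_mul_self P v), ← hm',
        pow_orderOf_eq_one]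
    show ws P (u :: altL v u (m + 1)) = _
    rw [ws_cons]
    show simW P u * ((altL v u (m + 1)).map (simW P)).prod = _
    rw [← h2]
    show simW P u * ws P (u :: altL v u m) = _
    rw [ws_cons, simW_mul_cancel]
  have h3 := lenW_ws_le P (altL v u m)
  unfold Red at h1
  rw [he, altL_length] at h1
  rw [altL_length] at h3
  omega

theorem matsumoto : ∀ k : ℕ, ∀ a b : List P.S, a.length = k → b.length = k →
    Red P a → Red P b → ws P a = ws P b → wg P a = wg P b := by
  intro k
  induction k with
  | zero =>
    intro a b ha hb _ _ _
    rw [List.length_eq_zero_iff.1 ha, List.length_eq_zero_iff.1 hb]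
  | succ k ih =>
    intro a b ha hb hra hrb hab
    by_contra hne
    -- a bad pair, alternating to depth `n`
    let Bad : ℕ → P.S → P.S → List P.S → List P.S → Prop := fun n u v X Y =>
      X.length = k + 1 ∧ Y.length = k + 1 ∧ Red P X ∧ Red P Y ∧ ws P X = ws P Y ∧
      wg P X ≠ wg P Y ∧ u ≠ v ∧ X.head? = some u ∧ Y.head? = some v ∧
      X.take n = altL u v n ∧ Y.take n = altL v u n
    have step : ∀ u v X Y, Bad 0 u v X Y →
        Bad 0 v u Y (u :: Y.take k) ∧
        ∀ n ≤ k, Y.take n = altL v u n → (u :: Y.take k).take (n + 1) = altL u v (n + 1) := by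
      rintro u v X Y ⟨hXl, hYl, hrX, hrY, hXY, hne', huv, hXh, hYh, -, -⟩
      refine ⟨?_, ?_⟩
      · obtain ⟨X', rfl⟩ : ∃ X', X = u :: X' := by
          cases X with
          | nil => simp at hXh
          | cons x X' => simp at hXh; exact ⟨X', by rw [hXh]⟩
        have hlt : lenW P (simW P u * ws P Y) < Y.length := by
          rw [← hXY, ws_cons, simW_mul_cancel, Red.tail P hrX, hYl]
          simp at hXl; omega
        obtain ⟨i, hi, he⟩ := exchange P Y hrY u hlt
        have hlen : (Y.eraseIdx i).length = k := by
          have := List.length_eraseIdx_add_one hi; omega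
        have hws : ws P (u :: Y.eraseIdx i) = ws P Y := by rw [ws_cons, ← he, simW_mul_cancel]
        have hr' : Red P (u :: Y.eraseIdx i) := by
          unfold Red; rw [hws, hrY, hYl, List.length_cons, hlen]
        have hX'red := Red.tail P hrX
        have hsame : wg P (u :: X') = wg P (u :: Y.eraseIdx i) := by
          have h1 : ws P X' = ws P (Y.eraseIdx i) := by
            have := hXY.trans hws.symm
            rw [ws_cons, ws_cons] at this
            exact mul_left_cancel this
          have h2 := ih X' _ (by simpa using hXl) hlen hX'red (Red.tail P hr') h1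
          show (weylMatrix P).simple u * wg P X' = (weylMatrix P).simple u * wg P _
          rw [h2]
        have hne'' : wg P Y ≠ wg P (u :: Y.eraseIdx i) := fun h => hne' (hsame.trans h.symm)
        have hik : i = k := by
          by_contra hik
          apply hne''
          obtain ⟨Y', t, hYe⟩ : ∃ Y' t, Y = Y' ++ [t] := by
            rcases List.eq_nil_or_concat Y with h | ⟨Y', t, h⟩
            · simp [h] at hYl
            · exact ⟨Y', t, by simpa using h⟩
          subst hYe
          have hiY : i < Y'.length := by simp at hYl hi; omega
          rw [List.eraseIdx_append_of_lt_length hiY, ← List.cons_append] at hr' hws ⊢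
          rw [ws_append, ws_append] at hws
          have h2 := ih Y' (u :: Y'.eraseIdx i) (by simp at hYl; omega)
            (by have := List.length_eraseIdx_add_one hiY; simp at hYl ⊢; omega)
            (Red.left P hrY) (Red.left P hr') (mul_right_cancel hws).symm
          simp only [wg, List.map_append, List.prod_append] at h2 ⊢
          rw [h2]
        subst hik
        have hte : Y.eraseIdx i = Y.take i := by
          rw [List.eraseIdx_eq_take_drop_succ]
          have : Y.drop (i + 1) = [] := List.drop_eq_nil_of_le (by omega)
          rw [this, List.append_nil]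
        rw [hte] at hws hr' hne''
        refine ⟨hYl, by simp [List.length_take]; omega, hrY, hr', hws.symm, hne'', huv.symm,
          hYh, rfl, rfl, rfl⟩
      · intro n hn hY
        rw [List.take_succ_cons, List.take_take, Nat.min_eq_left hn, hY]
        rfl
    have iter : ∀ n ≤ k + 1, ∃ u v X Y, Bad n u v X Y := by
      intro n
      induction n with
      | zero =>
        intro _
        match a, b, ha, hb with
        | u :: a', v :: b', ha, hb =>
          refine ⟨u, v, u :: a', v :: b', ha, hb, hra, hrb, hab, hne, ?_, rfl, rfl, rfl, rfl⟩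
          intro huv
          subst huv
          apply hne
          have h1 : ws P a' = ws P b' := by
            rw [ws_cons, ws_cons] at hab; exact mul_left_cancel hab
          have h2 := ih a' b' (by simpa using ha) (by simpa using hb) (Red.tail P hra)
            (Red.tail P hrb) h1
          show (weylMatrix P).simple u * wg P a' = (weylMatrix P).simple u * wg P b'
          rw [h2]
      | succ n ihn =>
        intro hn
        obtain ⟨u, v, X, Y, hXl, hYl, hrX, hrY, hXY, hne', huv, hXh, hYh, hXt, hYt⟩ :=
          ihn (by omega)
        obtain ⟨hB1, hY'⟩ := step u v X Y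
          ⟨hXl, hYl, hrX, hrY, hXY, hne', huv, hXh, hYh, rfl, rfl⟩
        obtain ⟨hB2, hY''⟩ := step v u Y (u :: Y.take k) hB1
        have hd1 := hY' n (by omega) hYt
        have hd2 : (u :: Y.take k).take n = altL u v n := by
          obtain ⟨r, hr⟩ := altL_prefix n 1 u v
          have h := congrArg (List.take n) hd1
          rw [List.take_take, Nat.min_eq_left (Nat.le_succ n), hr,
            List.take_left' (altL_length n u v)] at h
          exact h
        obtain ⟨a1, a2, a3, a4, a5, a6, a7, a8, a9, -, -⟩ := hB2
        exact ⟨u, v, _, _, a1, a2, a3, a4, a5, a6, a7, a8, a9, hd1, hY'' n (by omega) hd2⟩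
    obtain ⟨u, v, X, Y, hXl, hYl, hrX, hrY, hXY, hne', huv, -, -, hXt, hYt⟩ := iter (k + 1) le_rfl
    rw [List.take_of_length_le (by omega)] at hXt hYt
    subst hXt hYt
    apply hne'
    have hpow : (simW P u * simW P v) ^ (k + 1) = 1 :=
      (altL_prod_eq_iff _ _ _ _ (simW_mul_self P u) (simW_mul_self P v)).1 hXY
    have hdvd := orderOf_dvd_of_pow_eq_one hpow
    have hpos : 0 < orderOf (simW P u * simW P v) := Nat.pos_of_dvd_of_pos hdvd (Nat.succ_pos k)
    have heq : orderOf (simW P u * simW P v) = k + 1 :=
      le_antisymm (Nat.le_of_dvd (Nat.succ_pos k) hdvd) (Red.altL_le P hrX hpos)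
    refine (altL_prod_eq_iff _ _ _ _ (simple_sq_one P u) (simple_sq_one P v)).2 ?_
    have := (weylMatrix P).toCoxeterSystem.simple_mul_simple_pow u v
    rwa [weylMatrix_apply, heq] at this

theorem weyl_coxeter :
    ∃ cs : CoxeterSystem (weylMatrix P) (Weyl P), ∀ s : P.S, cs.simple s = simW P s := by
  have hlift : (weylMatrix P).IsLiftable (simW P) := fun s t => pow_orderOf_eq_one _
  let cs0 := (weylMatrix P).toCoxeterSystem
  let φ : (weylMatrix P).Group →* Weyl P := cs0.lift ⟨simW P, hlift⟩
  have hφ : ∀ s, φ ((weylMatrix P).simple s) = simW P s := fun s => cs0.lift_apply_simple hlift s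
  have hsurj : Function.Surjective φ := by
    intro w
    obtain ⟨l, rfl⟩ := exists_word P w
    refine ⟨wg P l, ?_⟩
    rw [wg, map_list_prod, List.map_map]
    exact congrArg List.prod (List.map_congr_left fun x _ => hφ x)
  have hinj : Function.Injective φ := by
    classical
    choose red hred hws using exists_red P
    let ψ : Weyl P → (weylMatrix P).Group := fun w => wg P (red w)
    have hψ1 : ψ 1 = 1 := by
      have h : red 1 = [] := by
        have := hred 1
        unfold Red at this
        rw [hws, lenW_one] at this
        exact List.length_eq_zero_iff.1 this.symm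
      simp [ψ, h, wg]
    have up : ∀ s w, lenW P (simW P s * w) = lenW P w + 1 →
        ψ (simW P s * w) = (weylMatrix P).simple s * ψ w := by
      intro s w h
      have hlw : (red w).length = lenW P w := by
        have := hred w; unfold Red at this; rw [hws] at this; exact this.symm
      have hr : Red P (s :: red w) := by
        unfold Red; rw [ws_cons, hws, h, List.length_cons, hlw]
      have hlsw : (red (simW P s * w)).length = lenW P w + 1 := by
        have := hred (simW P s * w); unfold Red at this; rw [hws, h] at this; exact this.symm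
      exact matsumoto P (lenW P w + 1) _ (s :: red w) hlsw (by simp [hlw]) (hred _) hr
        (by rw [hws, ws_cons, hws])
    have hstep : ∀ s w, ψ (simW P s * w) = (weylMatrix P).simple s * ψ w := by
      intro s w
      rcases lenW_simW_mul P s w with h | h
      · exact up s w h
      · have h' := up s (simW P s * w) (by rw [simW_mul_cancel]; omega)
        rw [simW_mul_cancel] at h'
        rw [h', ← mul_assoc, simple_sq_one, one_mul]
    have hleft : ∀ g, ψ (φ g) = g := by
      intro g
      induction g using cs0.simple_induction_left with
      | one => simp [hψ1]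
      | mul_simple_left g s ih =>
        show ψ (φ ((weylMatrix P).simple s * g)) = (weylMatrix P).simple s * g
        rw [map_mul, hφ, hstep, ih]
    exact Function.LeftInverse.injective hleft
  exact ⟨⟨(MulEquiv.ofBijective φ ⟨hinj, hsurj⟩).symm⟩, hφ⟩

end H56
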