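import Cfsg.Agent.H56.FeitHigmanAlg

/-!
The arithmetical part of the Feit–Higman theorem.
-/

set_option autoImplicit false

namespace H56

open Polynomial

section Mult

variable {ι : Type*} [Fintype ι] [DecidableEq ι]

theorem exists_mult {M : Matrix ι ι ℝ} (hM : M.transpose = M) (g F p : ℝ[X]) (y : ℝ)
    (hzero : aeval M (g * F) = 0) (hdiv : F = (X - C y) * p) :
    ∃ μ : ℕ, (aeval M (g * p)).trace = μ * (g.eval y * (derivative F).eval y) := by
  classical
  obtain ⟨l, hl⟩ := exists_eigen_list hM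
  refine ⟨(Finset.univ.filter fun i => l i = y).card, ?_⟩
  rw [(hl _).1]
  have hp : (derivative F).eval y = p.eval y := by rw [hdiv]; simp [derivative_mul]
  have key : ∀ i, (g * p).eval (l i) = if l i = y then g.eval y * p.eval y else 0 := by
    intro i
    have h := (hl _).2 hzero i
    by_cases hi : l i = y
    · simp [hi]
    · rw [if_neg hi]
      rw [hdiv, eval_mul, eval_mul, eval_sub, eval_X, eval_C] at h
      have h2 : (l i - y) * (g.eval (l i) * p.eval (l i)) = 0 := by linear_combination h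
      rw [eval_mul]
      exact (mul_eq_zero.1 h2).resolve_left (sub_ne_zero.2 hi)
  rw [Finset.sum_congr rfl fun i _ => key i, ← Finset.sum_filter, Finset.sum_const, nsmul_eq_mul, hp]

end Mult

/-- The factor coming from the linear characters. -/
noncomputable def linFactor (q q' : ℕ) : ℝ[X] :=
  (X - C ((q : ℝ) * q' + 1)) * (X + C ((q : ℝ) + q'))

theorem linFactor_eval (q q' : ℕ) (y : ℝ) : (linFactor q q').eval y =
    y ^ 2 - ((q : ℝ) - 1) * ((q' : ℝ) - 1) * y - ((q : ℝ) * q' + 1) * ((q : ℝ) + q') := by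
  simp [linFactor]; ring

section Arith

variable {ι : Type*} [Fintype ι] [DecidableEq ι] {M : Matrix ι ι ℝ} {q q' : ℕ}

/-- The trace functional. -/
noncomputable def trFun (M : Matrix ι ι ℝ) (g : ℝ[X]) : ℝ[X] →ₗ[ℝ] ℝ :=
  (Matrix.traceLinearMap ι ℝ ℝ).comp ((aeval M).toLinearMap.comp (LinearMap.mulLeft ℝ g))

theorem trFun_apply (M : Matrix ι ι ℝ) (g p : ℝ[X]) : trFun M g p = (aeval M (g * p)).trace := rfl

theorem even_relation (hM : M.transpose = M) (hq : 2 ≤ q) (hq' : 2 ≤ q') {n : ℕ} (T : ℚ) (hT : T ≠ 0)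
    (hzero : aeval M (linFactor q q' * cheb ((q : ℝ) * q') n) = 0)
    (h1 : trFun M (linFactor q q') (cheb ((q : ℝ) * q') 1) = (T : ℝ))
    (hk : ∀ k, 2 ≤ k → k ≤ n → trFun M (linFactor q q') (cheb ((q : ℝ) * q') k) = 0)
    {j : ℕ} (hj0 : 0 < j) (hjn : j < n) :
    ∃ (μ : ℕ) (K : ℚ), K ≠ 0 ∧
      (μ : ℝ) * (linFactor q q').eval (2 * Real.sqrt ((q : ℝ) * q') * Real.cos (j * Real.pi / n)) =
        K * (4 * ((q : ℝ) * q') -
          (2 * Real.sqrt ((q : ℝ) * q') * Real.cos (j * Real.pi / n)) ^ 2) ∧ μ ≠ 0 := by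
  set r := Real.sqrt ((q : ℝ) * q') with hr
  have hrpos : 0 < r := by rw [hr]; positivity
  have hr2 : r ^ 2 = (q : ℝ) * q' := Real.sq_sqrt (by positivity)
  have hn0 : (0 : ℝ) < n := by exact_mod_cast (lt_trans hj0 hjn)
  set θ := (j : ℝ) * Real.pi / n with hθ
  set y := 2 * r * Real.cos θ with hy
  have hnθ : (n : ℝ) * θ = j * Real.pi := by rw [hθ]; field_simp
  have hsin : 0 < Real.sin θ := by
    apply Real.sin_pos_of_pos_of_lt_pi
    · rw [hθ]; positivity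
    · rw [hθ, div_lt_iff₀ hn0, mul_comm Real.pi]
      exact mul_lt_mul_of_pos_right (by exact_mod_cast hjn) Real.pi_pos
  have hroot : (cheb ((q : ℝ) * q') n).eval y = 0 := by
    have h := cheb_eval_trig r θ n
    rw [hr2, hnθ, Real.sin_nat_mul_pi, mul_zero, ← hy] at h
    exact (mul_eq_zero.1 ((mul_eq_zero.1 h).resolve_right hsin.ne')).resolve_right hrpos.ne'
  have hdiv := chebQuot_spec ((q : ℝ) * q') y n
  rw [hroot, map_zero, add_zero] at hdiv
  obtain ⟨μ, hμ⟩ := exists_mult hM _ _ _ y hzero hdiv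
  rw [← trFun_apply] at hμ
  obtain ⟨n', rfl⟩ : ∃ n', n = n' + 1 := ⟨n - 1, by omega⟩
  rw [cheb_linear_functional _ _ y _ (n' + 1) h1 hk n' (by omega)] at hμ
  have hd := hasDerivAt_cheb_trig r θ (n' + 1)
  have he := cheb_eval_trig r θ n'
  rw [hr2, ← hy] at hd he
  rw [hroot, hnθ, Real.cos_nat_mul_pi] at hd
  have hn'θ : (n' : ℝ) * θ = j * Real.pi - θ := by rw [← hnθ]; push_cast; ring
  rw [hn'θ, Real.sin_sub, Real.sin_nat_mul_pi, Real.cos_nat_mul_pi] at he
  set E := (cheb ((q : ℝ) * q') n').eval y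
  set F' := (derivative (cheb ((q : ℝ) * q') (n' + 1))).eval y
  have hE : E * r = -(r ^ n' * (-1) ^ j) := by
    apply mul_right_cancel₀ hsin.ne'
    linear_combination he
  have hE0 : E ≠ 0 := by
    intro h
    rw [h, zero_mul] at hE
    have : (r ^ n' * (-1) ^ j : ℝ) ≠ 0 := by positivity
    exact this (by linarith)
  have hrel : F' * (2 * Real.sin θ ^ 2) = ((n' + 1 : ℕ) : ℝ) * E := by
    apply mul_right_cancel₀ (pow_ne_zero 2 hrpos.ne')
    rw [pow_succ] at hd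
    linear_combination (-1) * hd - ((n' + 1 : ℕ) : ℝ) * r * hE
  have hμ2 : (μ : ℝ) * (linFactor q q').eval y * ((n' + 1 : ℕ) : ℝ) =
      2 * Real.sin θ ^ 2 * T := by
    apply mul_right_cancel₀ hE0
    linear_combination (-2 * Real.sin θ ^ 2) * hμ - (μ : ℝ) * (linFactor q q').eval y * hrel
  have hne : (μ : ℝ) ≠ 0 := by
    intro h
    rw [h, zero_mul, zero_mul] at hμ2
    have : (2 * Real.sin θ ^ 2 * T : ℝ) ≠ 0 :=
      mul_ne_zero (by positivity) (by exact_mod_cast hT)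
    exact this hμ2.symm
  refine ⟨μ, T / (2 * ((q : ℚ) * q') * ((n' + 1 : ℕ) : ℚ)), ?_, ?_, by exact_mod_cast hne⟩
  · have : (0 : ℚ) < 2 * ((q : ℚ) * q') * ((n' + 1 : ℕ) : ℚ) := by positivity
    exact div_ne_zero hT this.ne'
  · have hs : Real.sin θ ^ 2 = 1 - Real.cos θ ^ 2 := Real.sin_sq θ
    push_cast
    rw [div_mul_eq_mul_div, eq_div_iff (by positivity)]
    push_cast at hμ2
    rw [hy]
    rw [hy] at hμ2
    linear_combination (2 * ((q : ℝ) * q')) * hμ2 + (4 * (q : ℝ) * q' * T) * hs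
      + (4 * (T : ℝ) * Real.cos θ ^ 2) * hr2

theorem even_root_rational (hM : M.transpose = M) (hq : 2 ≤ q) (hq' : 2 ≤ q') {n : ℕ} (T : ℚ)
    (hT : T ≠ 0)
    (hzero : aeval M (linFactor q q' * cheb ((q : ℝ) * q') n) = 0)
    (h1 : trFun M (linFactor q q') (cheb ((q : ℝ) * q') 1) = (T : ℝ))
    (hk : ∀ k, 2 ≤ k → k ≤ n → trFun M (linFactor q q') (cheb ((q : ℝ) * q') k) = 0)
    {j : ℕ} (hj0 : 0 < j) (hjn : j < n) :
    ∃ y : ℚ, (y : ℝ) = 2 * Real.sqrt ((q : ℝ) * q') * Real.cos (j * Real.pi / n) := by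
  obtain ⟨μ, K, hK, hA, hμ⟩ := even_relation hM hq hq' T hT hzero h1 hk hj0 hjn
  obtain ⟨ν, L, hL, hB, hν⟩ := even_relation hM hq hq' T hT hzero h1 hk
    (j := n - j) (by omega) (by omega)
  set r := Real.sqrt ((q : ℝ) * q')
  set y := 2 * r * Real.cos (j * Real.pi / n) with hy
  have hneg : 2 * r * Real.cos (((n - j : ℕ) : ℝ) * Real.pi / n) = -y := by
    have hn0 : (n : ℝ) ≠ 0 := by exact_mod_cast (by omega : n ≠ 0)
    rw [Nat.cast_sub hjn.le, sub_mul, sub_div,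
      show (n : ℝ) * Real.pi / n = Real.pi by field_simp, Real.cos_pi_sub, hy]
    ring
  rw [hneg] at hB
  rw [linFactor_eval] at hA hB
  rw [neg_sq] at hB
  set β : ℚ := ((q : ℚ) - 1) * ((q' : ℚ) - 1) with hβ
  set c' : ℚ := -(((q : ℚ) * q' + 1) * ((q : ℚ) + q')) with hc'
  have hβR : ((q : ℝ) - 1) * ((q' : ℝ) - 1) = (β : ℝ) := by rw [hβ]; push_cast; ring
  have hcR : ((q : ℝ) * q' + 1) * ((q : ℝ) + q') = -(c' : ℝ) := by rw [hc']; push_cast; ring
  rw [hβR, hcR] at hA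
  rw [hβR, hcR] at hB
  have hq2 : (2 : ℚ) ≤ q := by exact_mod_cast hq
  have hq'2 : (2 : ℚ) ≤ q' := by exact_mod_cast hq'
  have hβpos : 0 < β := by rw [hβ]; exact mul_pos (by linarith) (by linarith)
  have hc4 : c' + 4 * ((q : ℚ) * q') ≠ 0 := by rw [hc']; nlinarith [mul_pos (by linarith : (0:ℚ) < q) (by linarith : (0:ℚ) < q')]
  -- normalise the second equation to the constant `K`
  have hB' : ((ν : ℝ) * K) * (y ^ 2 + (β : ℝ) * y + c') = (L : ℝ) * K * (4 * ((q : ℝ) * q') - y ^ 2) := by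
    linear_combination (K : ℝ) * hB
  set ν' : ℚ := (ν : ℚ) * K / L with hν'
  have hLR : (L : ℝ) ≠ 0 := by exact_mod_cast hL
  have hB'' : (ν' : ℝ) * (y ^ 2 + (β : ℝ) * y + c') = (K : ℝ) * (4 * ((q : ℝ) * q') - y ^ 2) := by
    rw [hν']; push_cast
    rw [div_mul_eq_mul_div, div_eq_iff hLR]
    linear_combination hB'
  have hν'0 : ν' ≠ 0 := by
    rw [hν']; exact div_ne_zero (mul_ne_zero (by exact_mod_cast hν) hK) hL
  set D : ℚ := β * (((μ : ℚ) + K) * (μ + ν') - μ * (μ - ν')) with hD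
  have hDy : (D : ℝ) * y = ((K * (c' + 4 * ((q : ℚ) * q')) * (μ - ν') : ℚ) : ℝ) := by
    rw [hD]; push_cast
    linear_combination ((μ : ℝ) - ν') * hA - ((μ : ℝ) + K) * (hA - hB'')
  by_cases hD0 : D = 0
  · rw [hD0, Rat.cast_zero, zero_mul] at hDy
    have h0 : K * (c' + 4 * ((q : ℚ) * q')) * (μ - ν') = 0 := by exact_mod_cast hDy.symm
    have hμν : (μ : ℚ) = ν' := by
      rcases mul_eq_zero.1 h0 with h | h
      · exact absurd h (mul_ne_zero hK hc4)
      · linarith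
    refine ⟨0, ?_⟩
    rw [← hμν, Rat.cast_natCast] at hB''
    have h2 : (2 * (μ : ℝ) * β) * y = 0 := by linear_combination hB'' - hA
    rcases mul_eq_zero.1 h2 with h | h
    · exfalso
      have : (2 * (μ : ℝ) * β) ≠ 0 :=
        mul_ne_zero (mul_ne_zero two_ne_zero (by exact_mod_cast hμ)) (by exact_mod_cast hβpos.ne')
      exact this h
    · rw [h, Rat.cast_zero]
  · refine ⟨K * (c' + 4 * ((q : ℚ) * q')) * (μ - ν') / D, ?_⟩
    rw [Rat.cast_div, div_eq_iff (by exact_mod_cast hD0), ← hDy]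
    ring

theorem even_bound (hM : M.transpose = M) (hq : 2 ≤ q) (hq' : 2 ≤ q') {n : ℕ} (T : ℚ) (hT : T ≠ 0)
    (hzero : aeval M (linFactor q q' * cheb ((q : ℝ) * q') n) = 0)
    (h1 : trFun M (linFactor q q') (cheb ((q : ℝ) * q') 1) = (T : ℝ))
    (hk : ∀ k, 2 ≤ k → k ≤ n → trFun M (linFactor q q') (cheb ((q : ℝ) * q') k) = 0) :
    n ≤ 4 := by
  by_contra h4
  obtain ⟨y1, hy1⟩ := even_root_rational hM hq hq' T hT hzero h1 hk (j := 1) one_pos (by omega)
  obtain ⟨y2, hy2⟩ := even_root_rational hM hq hq' T hT hzero h1 hk (j := 2) two_pos (by omega)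
  set r := Real.sqrt ((q : ℝ) * q') with hr
  have hrpos : 0 < r := by rw [hr]; positivity
  have hr2 : r ^ 2 = (q : ℝ) * q' := Real.sq_sqrt (by positivity)
  set θ := Real.pi / n with hθ
  have hn5 : (5 : ℝ) ≤ n := by exact_mod_cast (by omega : 5 ≤ n)
  have hθpos : 0 < θ := by rw [hθ]; positivity
  have hθle : θ ≤ Real.pi / 5 := by rw [hθ]; gcongr
  rw [Nat.cast_one, one_mul, ← hθ] at hy1
  rw [Nat.cast_ofNat, mul_div_assoc, ← hθ, Real.cos_two_mul] at hy2
  have hhalf : 1 / 2 < Real.cos θ := by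
    rw [← Real.cos_pi_div_three]
    refine Real.cos_lt_cos_of_nonneg_of_le_pi hθpos.le (by linarith [Real.pi_pos]) ?_
    linarith [Real.pi_pos]
  have hlt1 : Real.cos θ < 1 := by
    rw [← Real.cos_zero]
    exact Real.cos_lt_cos_of_nonneg_of_le_pi le_rfl (by linarith [Real.pi_pos]) hθpos
  have hy2pos : 0 < Real.cos θ ^ 2 * 2 - 1 := by
    have : 0 < Real.cos (2 * θ) :=
      Real.cos_pos_of_mem_Ioo ⟨by linarith [Real.pi_pos], by linarith [Real.pi_pos]⟩
    rw [Real.cos_two_mul] at this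
    linarith
  have hy2ne : (y2 : ℝ) ≠ 0 := by
    rw [hy2]
    have : (0 : ℝ) < 2 * r * (2 * Real.cos θ ^ 2 - 1) := by
      have h' : 0 < 2 * Real.cos θ ^ 2 - 1 := by linarith
      positivity
    exact this.ne'
  have hrr : r * y2 = ((y1 ^ 2 - 2 * ((q : ℚ) * q') : ℚ) : ℝ) := by
    push_cast
    rw [hy1, hy2, ← hr2]
    ring
  have hrq : r = (((y1 ^ 2 - 2 * ((q : ℚ) * q')) / y2 : ℚ) : ℝ) := by
    rw [Rat.cast_div, eq_div_iff hy2ne, hrr]
  have hcos : ∃ c : ℚ, Real.cos θ = c := by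
    refine ⟨y1 / (2 * ((y1 ^ 2 - 2 * ((q : ℚ) * q')) / y2)), ?_⟩
    rw [Rat.cast_div, Rat.cast_mul, Rat.cast_ofNat, ← hrq, hy1]
    field_simp
  have := niven ⟨(1 : ℚ) / n, by rw [hθ]; push_cast; ring⟩ hcos
  simp only [Set.mem_insert_iff, Set.mem_singleton_iff] at this
  rcases this with h | h | h | h | h <;> linarith

theorem odd_relation (hM : M.transpose = M) (hq : 2 ≤ q) {n : ℕ} (hn : 1 ≤ n) (T : ℚ) (hT : T ≠ 0)
    (hzero : aeval M (linFactor q q * (cheb ((q : ℝ) * q) (n + 1) + C (q : ℝ) * cheb ((q : ℝ) * q) n)) = 0)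
    (h1 : trFun M (linFactor q q) (cheb ((q : ℝ) * q) 1) = (T : ℝ))
    (hk : ∀ k, 2 ≤ k → k ≤ n → trFun M (linFactor q q) (cheb ((q : ℝ) * q) k) = 0) :
    ∃ (μ : ℕ) (K : ℚ), μ ≠ 0 ∧
      (μ : ℝ) * (linFactor q q).eval (q * (2 * Real.cos (2 * Real.pi / (2 * n + 1 : ℕ)))) =
        K * (4 * ((q : ℝ) * q) - (q * (2 * Real.cos (2 * Real.pi / (2 * n + 1 : ℕ)))) ^ 2) := by
  obtain ⟨k, rfl⟩ : ∃ k, n = k + 1 := ⟨n - 1, by omega⟩
  set θ := 2 * Real.pi / (2 * (k + 1) + 1 : ℕ) with hθ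
  set r : ℝ := (q : ℝ) with hr
  set y := r * (2 * Real.cos θ) with hy
  have hy' : 2 * r * Real.cos θ = y := by rw [hy]; ring
  have hrpos : 0 < r := by rw [hr]; exact_mod_cast (by omega : 0 < q)
  have hmθ : ((2 * (k + 1) + 1 : ℕ) : ℝ) * θ = 2 * Real.pi := by
    rw [hθ, mul_div_assoc']; rw [mul_div_cancel_left₀]; positivity
  have hsin : 0 < Real.sin θ := by
    apply Real.sin_pos_of_pos_of_lt_pi
    · rw [hθ]; positivity
    · rw [hθ, div_lt_iff₀ (by positivity)]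
      push_cast
      nlinarith [Real.pi_pos, (Nat.cast_nonneg k : (0 : ℝ) ≤ k)]
  set x := ((k + 1 : ℕ) : ℝ) * θ with hx
  have hx1 : ((k + 1 + 1 : ℕ) : ℝ) * θ = 2 * Real.pi - x := by
    rw [hx, ← hmθ]; push_cast; ring
  have hx2 : θ = 2 * Real.pi - 2 * x := by rw [hx, ← hmθ]; push_cast; ring
  have hsθ : Real.sin θ = -(2 * Real.sin x * Real.cos x) := by
    rw [hx2, Real.sin_two_pi_sub, Real.sin_two_mul]
  have hcθ : Real.cos θ = 2 * Real.cos x ^ 2 - 1 := by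
    rw [hx2, Real.cos_two_pi_sub, Real.cos_two_mul]
  have hx0 : (k : ℝ) * θ = x - θ := by rw [hx]; push_cast; ring
  have e1 := cheb_eval_trig r θ (k + 1 + 1)
  have e2 := cheb_eval_trig r θ (k + 1)
  have e3 := cheb_eval_trig r θ k
  have d1 := hasDerivAt_cheb_trig r θ (k + 1 + 1)
  have d2 := hasDerivAt_cheb_trig r θ (k + 1)
  rw [hy', show r ^ 2 = r * r from sq r] at e1 e2 e3 d1 d2
  rw [hx1] at e1 d1
  rw [← hx] at e2 d2
  rw [hx0, Real.sin_sub] at e3
  rw [Real.sin_two_pi_sub] at e1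
  rw [Real.cos_two_pi_sub] at d1
  have hroot : (cheb (r * r) (k + 1 + 1) + C r * cheb (r * r) (k + 1)).eval y = 0 := by
    have h : (cheb (r * r) (k + 1 + 1) + C r * cheb (r * r) (k + 1)).eval y * r * Real.sin θ = 0 := by
      rw [eval_add, eval_mul, eval_C]
      linear_combination e1 + r * e2
    exact (mul_eq_zero.1 ((mul_eq_zero.1 h).resolve_right hsin.ne')).resolve_right hrpos.ne'
  have hdiv : cheb (r * r) (k + 1 + 1) + C r * cheb (r * r) (k + 1) =
      (X - C y) * (chebQuot (r * r) y (k + 1 + 1) + C r * chebQuot (r * r) y (k + 1)) := by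
    have a1 := chebQuot_spec (r * r) y (k + 1 + 1)
    have a2 := chebQuot_spec (r * r) y (k + 1)
    rw [eval_add, eval_mul, eval_C] at hroot
    have a3 : (C ((cheb (r * r) (k + 1 + 1)).eval y) + C r * C ((cheb (r * r) (k + 1)).eval y) : ℝ[X]) = 0 := by
      rw [← map_mul, ← map_add, hroot, map_zero]
    linear_combination a1 + C r * a2 + a3
  obtain ⟨μ, hμ⟩ := exists_mult hM _ _ _ y hzero hdiv
  rw [← trFun_apply, map_add, ← smul_eq_C_mul, map_smul,
    cheb_linear_functional _ _ y _ (k + 1) h1 hk (k + 1) le_rfl,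
    cheb_linear_functional _ _ y _ (k + 1) h1 hk k (by omega)] at hμ
  simp only [derivative_add, derivative_mul, derivative_C, zero_mul, zero_add, eval_add, eval_mul,
    eval_C, smul_eq_mul] at hμ hroot
  set E1 := (cheb (r * r) (k + 1)).eval y
  set E0 := (cheb (r * r) k).eval y
  set E2 := (cheb (r * r) (k + 1 + 1)).eval y
  set F2 := (derivative (cheb (r * r) (k + 1 + 1))).eval y
  set F1 := (derivative (cheb (r * r) (k + 1))).eval y
  have hc0 : (E1 + r * E0) = -(2 * r ^ k * Real.cos x) := by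
    apply mul_right_cancel₀ (mul_ne_zero hrpos.ne' hsin.ne')
    linear_combination e2 + r * e3 +
      (r ^ (k + 1) * Real.sin x) * hcθ + (r ^ (k + 1) * Real.cos x) * hsθ
  have hcx : Real.cos x ≠ 0 := by
    intro h
    rw [h] at hsθ
    linarith
  have hc00 : E1 + r * E0 ≠ 0 := by
    rw [hc0]
    exact neg_ne_zero.2 (mul_ne_zero (by positivity) hcx)
  set m : ℝ := ((2 * (k + 1) + 1 : ℕ) : ℝ) with hm
  have hrel : (F2 + r * F1) * (4 * Real.sin θ ^ 2) = m * (E1 + r * E0) := by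
    apply mul_right_cancel₀ (pow_ne_zero 2 hrpos.ne')
    rw [hc0, hm]
    push_cast at d1 d2 ⊢
    linear_combination (-2) * d1 - 2 * r * d2 + (2 * r * Real.cos θ) * hroot
  have hμ2 : (μ : ℝ) * (linFactor q q).eval y * m = 4 * Real.sin θ ^ 2 * T := by
    apply mul_right_cancel₀ hc00
    linear_combination (-(4 * Real.sin θ ^ 2)) * hμ - (μ : ℝ) * (linFactor q q).eval y * hrel
  refine ⟨μ, T / ((q : ℚ) * q * ((2 * (k + 1) + 1 : ℕ) : ℚ)), ?_, ?_⟩
  · intro h
    rw [h, Nat.cast_zero, zero_mul, zero_mul] at hμ2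
    have : (4 * Real.sin θ ^ 2 * T : ℝ) ≠ 0 :=
      mul_ne_zero (by positivity) (by exact_mod_cast hT)
    exact this hμ2.symm
  · rw [Rat.cast_div, div_mul_eq_mul_div]
    push_cast at hμ2 hm ⊢
    rw [eq_div_iff (by positivity)]
    have hs : Real.sin θ ^ 2 = 1 - Real.cos θ ^ 2 := Real.sin_sq θ
    rw [hy] at hμ2 ⊢
    rw [hm] at hμ2
    linear_combination (r * r) * hμ2 + (4 * r * r * T) * hs

end Arith

end H56
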