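import Cfsg.Agent.H56.BNBuilding
import Cfsg.Agent.H56.BNCoxeter
import Cfsg.Agent.H56.FeitHigmanArith

/-!
The Feit–Higman theorem for (B,N)-pairs of rank two.
-/

set_option autoImplicit false

namespace H56

open Polynomial

theorem totient_le_four_odd {m : ℕ} (hm : 1 < m) (hodd : Odd m) (h : Nat.totient m ≤ 4) :
    m = 3 ∨ m = 5 := by
  have hpos : 0 < Nat.totient m := Nat.totient_pos.2 (by omega)
  have small : ∀ p : ℕ, p.Prime → p ∣ m → p = 3 ∨ p = 5 := by
    intro p hp hpm
    have h1 : p - 1 ≤ 4 := by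
      have := Nat.le_of_dvd hpos (Nat.totient_dvd_of_dvd hpm)
      rw [Nat.totient_prime hp] at this
      omega
    have h2 : p ≠ 2 := by
      rintro rfl
      exact (Nat.not_even_iff_odd.2 hodd) (even_iff_two_dvd.2 hpm)
    have := hp.two_le
    have h4 : p ≠ 4 := by rintro rfl; norm_num at hp
    omega
  obtain ⟨p, hp, hpm⟩ := Nat.exists_prime_and_dvd (by omega : m ≠ 1)
  obtain ⟨k, rfl⟩ := hpm
  by_cases hk : k = 1
  · subst hk; simpa using small p hp (by simp)
  exfalso
  obtain ⟨p', hp', hpk⟩ := Nat.exists_prime_and_dvd hk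
  have hdvd : p * p' ∣ p * k := Nat.mul_dvd_mul_left p hpk
  have h1 := Nat.le_of_dvd hpos (Nat.totient_dvd_of_dvd hdvd)
  rcases small p hp (Dvd.intro k rfl) with rfl | rfl <;>
    rcases small p' hp' (Dvd.dvd.mul_left hpk _) with rfl | rfl
  · have : Nat.totient (3 * 3) = 6 := by decide
    omega
  · have : Nat.totient (3 * 5) = 8 := by decide
    omega
  · have : Nat.totient (5 * 3) = 8 := by decide
    omega
  · have : Nat.totient (5 * 5) = 20 := by decide
    omega

theorem odd_bound {ι : Type*} [Fintype ι] [DecidableEq ι] {M : Matrix ι ι ℝ}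
    (hM : M.transpose = M) {q : ℕ} (hq : 2 ≤ q) {n : ℕ} (hn : 1 ≤ n) (T : ℚ) (hT : T ≠ 0)
    (hzero : aeval M (linFactor q q * (cheb ((q : ℝ) * q) (n + 1) + C (q : ℝ) * cheb ((q : ℝ) * q) n)) = 0)
    (h1 : trFun M (linFactor q q) (cheb ((q : ℝ) * q) 1) = (T : ℝ))
    (hk : ∀ k, 2 ≤ k → k ≤ n → trFun M (linFactor q q) (cheb ((q : ℝ) * q) k) = 0) :
    n = 1 := by
  obtain ⟨μ, K, hμ, hrel⟩ := odd_relation hM hq hn T hT hzero h1 hk
  rw [linFactor_eval] at hrel
  set m := 2 * n + 1 with hmdef
  set θ := 2 * Real.pi / (m : ℕ) with hθ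
  set t := 2 * Real.cos θ with ht
  set A : ℚ := ((μ : ℚ) + K) * q ^ 2 with hA
  set B : ℚ := -((μ : ℚ) * (((q : ℚ) - 1) * ((q : ℚ) - 1)) * q) with hB
  set Cc : ℚ := -((μ : ℚ) * (((q : ℚ) * q + 1) * ((q : ℚ) + q))) - 4 * K * q ^ 2 with hC
  have hquad : (A : ℝ) * t ^ 2 + (B : ℝ) * t + (Cc : ℝ) = 0 := by
    rw [hA, hB, hC]; push_cast
    linear_combination hrel
  have hq2 : (2 : ℚ) ≤ q := by exact_mod_cast hq
  have hμ0 : (μ : ℚ) ≠ 0 := by exact_mod_cast hμ
  have hB0 : B ≠ 0 := by
    rw [hB]
    exact neg_ne_zero.2 (mul_ne_zero (mul_ne_zero hμ0 (mul_ne_zero (by linarith) (by linarith)))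
      (by linarith))
  -- degree bound
  have hm0 : m ≠ 0 := by omega
  set ζ := Complex.exp (2 * Real.pi * Complex.I / m) with hζ
  have hprim : IsPrimitiveRoot ζ m := Complex.isPrimitiveRoot_exp m hm0
  have hζ0 : ζ ≠ 0 := Complex.exp_ne_zero _
  have htζ : (t : ℂ) * ζ = ζ ^ 2 + 1 := by
    have e : ζ = Complex.exp ((θ : ℂ) * Complex.I) := by
      rw [hζ, hθ]; congr 1; push_cast; ring
    rw [ht, Complex.ofReal_mul, Complex.ofReal_ofNat, Complex.ofReal_cos, Complex.two_cos, e, add_mul,
      ← Complex.exp_add, ← Complex.exp_add, ← Complex.exp_nat_mul]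
    rw [show -(θ : ℂ) * Complex.I + (θ : ℂ) * Complex.I = 0 by ring, Complex.exp_zero]
    congr 2
    push_cast
    ring
  set f : ℚ[X] := C A * (X ^ 2 + 1) ^ 2 + C B * X * (X ^ 2 + 1) + C Cc * X ^ 2 with hf
  have hfζ : aeval ζ f = 0 := by
    have hq' : ((A : ℂ) * (t : ℂ) ^ 2 + (B : ℂ) * (t : ℂ) + (Cc : ℂ)) = 0 := by exact_mod_cast hquad
    rw [hf]
    simp only [map_add, map_mul, map_pow, map_one, aeval_X, aeval_C, eq_ratCast]
    linear_combination (ζ ^ 2) * hq' -
      ((A : ℂ) * ((t : ℂ) * ζ + (ζ ^ 2 + 1)) + (B : ℂ) * ζ) * htζ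
  have hf0 : f ≠ 0 := by
    intro h
    have h3 := congrArg (fun p : ℚ[X] => p.coeff 3) h
    have e : f = C A * X ^ 4 + C B * X ^ 3 + C (2 * A + Cc) * X ^ 2 + C B * X ^ 1 + C A := by
      rw [hf]; simp only [map_add, map_mul, map_ofNat]; ring
    rw [e] at h3
    simp only [coeff_add, coeff_C_mul_X_pow, coeff_C, coeff_zero] at h3
    norm_num at h3
    exact hB0 h3
  have hdeg : f.natDegree ≤ 4 := by rw [hf]; compute_degree
  have htot : Nat.totient m ≤ 4 := by
    rw [← natDegree_cyclotomic m ℚ, cyclotomic_eq_minpoly_rat hprim (Nat.pos_of_ne_zero hm0)]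
    exact (natDegree_le_natDegree (minpoly.degree_le_of_ne_zero ℚ ζ hf0 hfζ)).trans hdeg
  rcases totient_le_four_odd (by omega) ⟨n, rfl⟩ htot with h5 | h5
  · omega
  exfalso
  have hc5 : Real.cos θ = 2 * ((1 + Real.sqrt 5) / 4) ^ 2 - 1 := by
    rw [hθ, show m = 5 from h5, show 2 * Real.pi / ((5 : ℕ) : ℝ) = 2 * (Real.pi / 5) by push_cast; ring,
      Real.cos_two_mul, Real.cos_pi_div_five]
  have ht2 : t ^ 2 = 1 - t := by
    have h55 : Real.sqrt 5 ^ 2 = 5 := Real.sq_sqrt (by norm_num)
    rw [ht, hc5]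
    linear_combination ((Real.sqrt 5 ^ 2 + 4 * Real.sqrt 5 - 1) / 16) * h55
  rw [ht2] at hquad
  have hlin : ((B : ℝ) - A) * t + ((Cc : ℝ) + A) = 0 := by linear_combination hquad
  by_cases hBA : B - A = 0
  · have hBA' : ((B : ℝ) - A) = 0 := by exact_mod_cast hBA
    rw [hBA', zero_mul, zero_add] at hlin
    have hCA : Cc + A = 0 := by exact_mod_cast hlin
    rw [hA, hB] at hBA
    rw [hA, hC] at hCA
    have hfin : (μ : ℚ) * q ^ 2 * ((q : ℚ) - 1) ^ 2 = 0 := by
      linear_combination (q : ℚ) * hCA - (3 * (q : ℚ)) * hBA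
    exact mul_ne_zero (mul_ne_zero hμ0 (pow_ne_zero 2 (by linarith)))
      (pow_ne_zero 2 (by linarith)) hfin
  · have hBA' : ((B : ℝ) - A) ≠ 0 := by exact_mod_cast hBA
    have htq : t = (((-(Cc + A)) / (B - A) : ℚ) : ℝ) := by
      push_cast
      rw [eq_div_iff hBA']
      linear_combination hlin
    have hcos : ∃ c : ℚ, Real.cos θ = c := ⟨(-(Cc + A)) / (B - A) / 2, by
      rw [Rat.cast_div _ 2, ← htq, ht, Rat.cast_ofNat]; ring⟩
    have hr : ∃ r : ℚ, θ = r * Real.pi := ⟨2 / 5, by rw [hθ, show m = 5 from h5]; push_cast; ring⟩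
    have := niven hr hcos
    simp only [Set.mem_insert_iff, Set.mem_singleton_iff] at this
    rcases this with h | h | h | h | h <;> rw [ht, h] at ht2 <;> norm_num at ht2

section Pair

variable {G : Type*} [Group G] (P : Cfsg.BNPair G)

theorem lenW_ws_mod_two : ∀ l : List P.S, lenW P (ws P l) % 2 = l.length % 2 := by
  intro l
  induction l with
  | nil => simp [lenW_one]
  | cons s l ih =>
    rw [ws_cons, List.length_cons]
    rcases lenW_simW_mul P s (ws P l) with h | h <;> omega

theorem altL_map_prod_even {α M : Type*} [Monoid M] (f : α → M) (u v : α) : ∀ i : ℕ,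
    ((altL u v (2 * i)).map f).prod = (f u * f v) ^ i := by
  intro i
  induction i with
  | zero => simp [altL]
  | succ i ih =>
    rw [show 2 * (i + 1) = 2 * i + 1 + 1 by ring]
    simp only [altL, List.map_cons, List.prod_cons]
    rw [ih, pow_succ', mul_assoc]

theorem altL_map_prod_odd {α M : Type*} [Monoid M] (f : α → M) (u v : α) : ∀ i : ℕ,
    ((altL u v (2 * i + 1)).map f).prod = (f u * f v) ^ i * f u := by
  intro i
  induction i with
  | zero => simp [altL]
  | succ i ih =>
    rw [show 2 * (i + 1) + 1 = 2 * i + 1 + 1 + 1 by ring]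
    show ((u :: v :: altL u v (2 * i + 1)).map f).prod = _
    simp only [List.map_cons, List.prod_cons]
    rw [ih, pow_succ']
    simp only [mul_assoc]

variable {s t : P.S}

theorem red_alternating (hall : ∀ x : P.S, x = s ∨ x = t) : ∀ l : List P.S, Red P l →
    l = altL s t l.length ∨ l = altL t s l.length := by
  intro l
  induction l with
  | nil => intro _; exact Or.inl rfl
  | cons x l ih =>
    intro hred
    have key : ∀ y l', l = y :: l' → x ≠ y := by
      rintro y l' rfl rfl
      have := lenW_ws_le P l'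
      unfold Red at hred
      rw [ws_cons, ws_cons, simW_mul_cancel, List.length_cons, List.length_cons] at hred
      omega
    rcases Nat.eq_zero_or_pos l.length with h0 | hpos
    · rw [List.length_eq_zero_iff.1 h0]
      rcases hall x with rfl | rfl
      · exact Or.inl rfl
      · exact Or.inr rfl
    · obtain ⟨k, hk⟩ : ∃ k, l.length = k + 1 := ⟨l.length - 1, by omega⟩
      rcases ih (Red.tail P hred) with h | h
      · rw [hk] at h
        have hx := key s _ h
        obtain rfl : x = t := (hall x).resolve_left hx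
        right
        rw [List.length_cons, hk]
        show _ = x :: altL s x (k + 1)
        rw [← h]
      · rw [hk] at h
        have hx := key t _ h
        obtain rfl : x = s := (hall x).resolve_right hx
        left
        rw [List.length_cons, hk]
        show _ = x :: altL t x (k + 1)
        rw [← h]

theorem altL_red (hne : s ≠ t) (hall : ∀ x : P.S, x = s ∨ x = t)
    (hm : 0 < orderOf (simW P s * simW P t)) :
    ∀ k, k ≤ orderOf (simW P s * simW P t) → Red P (altL s t k) ∧ Red P (altL t s k) := by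
  have hts : orderOf (simW P t * simW P s) = orderOf (simW P s * simW P t) := by
    rw [← orderOf_inv, mul_inv_rev, simW_inv, simW_inv]
  have main : ∀ u v : P.S, u ≠ v → (∀ x : P.S, x = u ∨ x = v) → ∀ k,
      k + 1 ≤ orderOf (simW P u * simW P v) → Red P (altL v u k) → Red P (altL u v (k + 1)) := by
    intro u v huv hall k hk hred
    by_contra hnot
    have hlen : lenW P (ws P (altL u v (k + 1))) + 1 = k := by
      unfold Red at hred hnot
      rw [altL_length] at hred hnot
      show lenW P (ws P (u :: altL v u k)) + 1 = k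
      change ¬ lenW P (ws P (u :: altL v u k)) = k + 1 at hnot
      rw [ws_cons] at hnot ⊢
      rcases lenW_simW_mul P u (ws P (altL v u k)) with h | h <;> omega
    obtain ⟨r, hr, hre⟩ := exists_red P (ws P (altL u v (k + 1)))
    have hrl : r.length + 1 = k := by
      have := hr
      unfold Red at this
      rw [hre] at this
      omega
    obtain ⟨j, rfl⟩ : ∃ j, k = j + 1 := ⟨k - 1, by omega⟩
    have hrl' : r.length = j := by omega
    have hX : ws P (altL u v (j + 1 + 1)) = simW P u * simW P v * ws P (altL u v j) := by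
      show ws P (u :: v :: altL u v j) = _
      rw [ws_cons, ws_cons, mul_assoc]
    rw [hX] at hre
    rcases red_alternating P hall r hr with h | h
    · rw [hrl'] at h
      rw [h, eq_comm, mul_eq_right] at hre
      exact huv (simW_injective P (by simpa [simW_inv] using eq_inv_of_mul_eq_one_left hre))
    · rw [hrl'] at h
      rw [h] at hre
      have hp := altL_prod_mul_inv (simW P) j u v (simW_mul_self P u) (simW_mul_self P v)
      have hp' : ws P (altL u v j) * (ws P (altL v u j))⁻¹ = (simW P u * simW P v) ^ j := hp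
      rw [hre, mul_inv_rev, ← mul_assoc, mul_inv_eq_iff_eq_mul] at hp'
      have h1 : (simW P u * simW P v) ^ (j + 1) = 1 := by
        have hp2 : ws P (altL u v j) * (ws P (altL u v j))⁻¹ =
            (simW P u * simW P v) ^ j * (simW P u * simW P v) := hp'
        rw [mul_inv_cancel] at hp2
        rw [pow_succ]
        exact hp2.symm
      have := orderOf_dvd_of_pow_eq_one h1
      have := Nat.le_of_dvd (by omega) this
      omega
  intro k
  induction k with
  | zero => intro _; simp [Red, altL, lenW_one]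
  | succ k ih =>
    intro hk
    obtain ⟨h1, h2⟩ := ih (by omega)
    exact ⟨main s t hne hall k hk h2,
      main t s hne.symm (fun x => (hall x).symm) k (by rw [hts]; exact hk) h1⟩

theorem weyl_card (hall : ∀ x : P.S, x = s ∨ x = t) [Finite (Weyl P)] :
    Nat.card (Weyl P) = 2 * orderOf (simW P s * simW P t) := by
  set a := simW P s with ha
  set b := simW P t with hb
  have hconj : ∀ c ∈ Subgroup.zpowers (a * b), a * c * a ∈ Subgroup.zpowers (a * b) := by
    rintro c ⟨i, rfl⟩
    refine ⟨-i, ?_⟩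
    show (a * b) ^ (-i) = a * (a * b) ^ i * a
    have hai : a⁻¹ = a := simW_inv P s
    have hbi : b⁻¹ = b := simW_inv P t
    have e : a * (a * b) * a⁻¹ = (a * b)⁻¹ := by
      rw [mul_inv_rev, hai, hbi, ← mul_assoc, simW_mul_self, one_mul]
    calc (a * b) ^ (-i) = ((a * b)⁻¹) ^ i := by rw [inv_zpow, zpow_neg]
      _ = a * (a * b) ^ i * a := by rw [← e, conj_zpow, hai]
  have hnot : a ∉ Subgroup.zpowers (a * b) := by
    intro h
    rw [← mem_powers_iff_mem_zpowers] at h
    obtain ⟨i, hi⟩ := h
    have h2 := lenW_ws_mod_two P (altL s t (2 * i))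
    have h3 : ws P (altL s t (2 * i)) = a := (altL_map_prod_even (simW P) s t i).trans hi
    rw [h3, ha, lenW_simW, altL_length] at h2
    omega
  have hidx : (Subgroup.zpowers (a * b)).index = 2 := by
    rw [Subgroup.index_eq_two_iff]
    refine ⟨a, fun w => ?_⟩
    have hor : w ∈ Subgroup.zpowers (a * b) ∨ w * a ∈ Subgroup.zpowers (a * b) := by
      obtain ⟨l, rfl⟩ := exists_word P w
      have hastep : ∀ w, (w ∈ Subgroup.zpowers (a * b) ∨ w * a ∈ Subgroup.zpowers (a * b)) →
          (a * w ∈ Subgroup.zpowers (a * b) ∨ a * w * a ∈ Subgroup.zpowers (a * b)) := by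
        rintro w (h | h)
        · exact Or.inr (hconj w h)
        · left
          have := hconj _ h
          rw [← mul_assoc] at this
          rwa [mul_assoc (a * w), simW_mul_self, mul_one] at this
      induction l with
      | nil => exact Or.inl (one_mem _)
      | cons x l ih =>
        rw [ws_cons]
        rcases hall x with rfl | rfl
        · exact hastep _ ih
        · have h := hastep (a * b * ws P l) (ih.imp (mul_mem (Subgroup.mem_zpowers _))
            (fun h => by rw [mul_assoc]; exact mul_mem (Subgroup.mem_zpowers _) h))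
          have e : a * (a * b * ws P l) = b * ws P l := by
            rw [← mul_assoc, ← mul_assoc, simW_mul_self, one_mul]
          rwa [e] at h
    rcases hor with h | h
    · exact Or.inr ⟨h, fun h' => hnot ((Subgroup.mul_mem_cancel_left _ h).1 h')⟩
    · exact Or.inl ⟨h, fun h' => hnot ((Subgroup.mul_mem_cancel_left _ h').1 h)⟩
  rw [← Subgroup.card_mul_index (Subgroup.zpowers (a * b)), hidx, Nat.card_zpowers, mul_comm]

variable [Fintype (G ⧸ P.B)] [DecidableEq (G ⧸ P.B)]

theorem wmat_red_prod : ∀ l : List P.S, Red P l →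
    (l.map fun x => wmat P (simW P x)).prod = wmat P (ws P l) := by
  intro l
  induction l with
  | nil => intro _; simp [wmat_one]
  | cons x l ih =>
    intro h
    rw [List.map_cons, List.prod_cons, ih (Red.tail P h), ws_cons, wmat_simW_mul]
    have h2 := Red.tail P h
    unfold Red at h h2
    rw [ws_cons, List.length_cons] at h
    omega

theorem trace_wmat_mul_nat (v w : Weyl P) : ∃ k : ℕ, (wmat P v * wmat P w).trace = (k : ℝ) := by
  classical
  refine ⟨∑ x, ∑ z, if wdist P x z = v ∧ wdist P z x = w then 1 else 0, ?_⟩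
  simp only [Matrix.trace, Matrix.diag_apply, Matrix.mul_apply, wmat, Matrix.of_apply,
    ite_zero_mul_ite_zero, mul_one, Nat.cast_sum, Nat.cast_ite, Nat.cast_one, Nat.cast_zero]

theorem feit_higman_order (hne : s ≠ t) (hall : ∀ x : P.S, x = s ∨ x = t) [Finite (Weyl P)] :
    orderOf (simW P s * simW P t) ∈ ({2, 3, 4, 6, 8} : Set ℕ) := by
  set a := simW P s with ha
  set b := simW P t with hb
  set m := orderOf (a * b) with hmdef
  have hm0 : 0 < m := orderOf_pos _
  have hm1 : m ≠ 1 := fun h => hne (simW_injective P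
    (by simpa [hb, simW_inv] using eq_inv_of_mul_eq_one_left (orderOf_eq_one_iff.1 h)))
  by_cases hm2 : m = 2
  · simp [hm2]
  have hm3 : 3 ≤ m := by omega
  have hab : ∀ k, (a * b) ^ k = 1 → k = 0 ∨ m ≤ k := fun k hk => by
    rcases Nat.eq_zero_or_pos k with h | h
    · exact Or.inl h
    · exact Or.inr (Nat.le_of_dvd h (orderOf_dvd_of_pow_eq_one hk))
  have hinv : (a * b)⁻¹ = b * a := by rw [mul_inv_rev, ha, hb, simW_inv, simW_inv]
  set A := wmat P a
  set B := wmat P b
  set q := thick P s with hqdef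
  set q' := thick P t with hq'def
  have hA : A * A = (q : ℝ) • 1 + ((q : ℝ) - 1) • A := wmat_simW_sq P s
  have hB : B * B = (q' : ℝ) • 1 + ((q' : ℝ) - 1) • B := wmat_simW_sq P t
  have hq2 : 2 ≤ q := two_le_thick P s
  have hq'2 : 2 ≤ q' := two_le_thick P t
  have hred := altL_red P hne hall hm0
  have hpow : ∀ k, 2 * k ≤ m →
      (A * B) ^ k = wmat P ((a * b) ^ k) ∧ (B * A) ^ k = wmat P ((b * a) ^ k) := by
    intro k hk
    constructor
    · rw [← altL_map_prod_even (simW P) s t k]
      exact (altL_map_prod_even (fun x => wmat P (simW P x)) s t k).symm.trans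
        (wmat_red_prod P _ (hred _ hk).1)
    · rw [← altL_map_prod_even (simW P) t s k]
      exact (altL_map_prod_even (fun x => wmat P (simW P x)) t s k).symm.trans
        (wmat_red_prod P _ (hred _ hk).2)
  set M := hCentral A B (q : ℝ) (q' : ℝ) with hMdef
  have hMt : M.transpose = M := by
    rw [hMdef, hCentral]
    simp only [Matrix.transpose_add, Matrix.transpose_sub, Matrix.transpose_smul,
      Matrix.transpose_one, Matrix.transpose_mul, A, B, ha, hb, wmat_simW_transpose]
    abel
  have hg : aeval M (linFactor q q') = hDiff A B 1 * hDiff A B 1 := (hDiff_sq hA hB).symm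
  have hLk : ∀ k, trFun M (linFactor q q') (cheb ((q : ℝ) * q') k) =
      (hDiff A B 1 * hDiff A B k).trace := by
    intro k
    rw [trFun_apply, map_mul, hg, mul_assoc, hDiff_mul_cheb hA hB k]
  have hsplit : ∀ k, 1 ≤ k → 2 * k ≤ m → (hDiff A B 1 * hDiff A B k).trace =
      -((wmat P (a * b) * wmat P ((b * a) ^ k)).trace + (wmat P (b * a) * wmat P ((a * b) ^ k)).trace) := by
    intro k hk1 hk
    obtain ⟨e1, e2⟩ := hpow 1 (by omega)
    obtain ⟨e3, e4⟩ := hpow k hk
    have z1 : (wmat P (a * b) * wmat P ((a * b) ^ k)).trace = 0 := by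
      refine trace_wmat_mul P fun h => ?_
      have h2 : (a * b) ^ (k + 1) = 1 := by rw [pow_succ, h, inv_mul_cancel]
      rcases hab _ h2 with h3 | h3 <;> omega
    have z2 : (wmat P (b * a) * wmat P ((b * a) ^ k)).trace = 0 := by
      refine trace_wmat_mul P fun h => ?_
      have h2 : (a * b) ^ (k + 1) = 1 := by
        rw [← hinv, inv_pow, inv_inj] at h
        rw [pow_succ, h, inv_mul_cancel]
      rcases hab _ h2 with h3 | h3 <;> omega
    simp only [hDiff]
    rw [e1, e2, e3, e4, pow_one, pow_one]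
    simp only [sub_mul, mul_sub, Matrix.trace_sub, z1, z2]
    ring
  obtain ⟨N1, hN1⟩ := trace_wmat_mul_nat P (a * b) (b * a)
  have hN1pos : 0 < N1 := by
    have h := trace_wmat_mul_inv_pos P (a * b)
    rw [hinv, hN1] at h
    exact_mod_cast h
  set T : ℚ := -(2 * (N1 : ℚ)) with hTdef
  have hT : T ≠ 0 := by
    have : (0 : ℚ) < 2 * (N1 : ℚ) := by positivity
    rw [hTdef]; linarith
  have h1 : trFun M (linFactor q q') (cheb ((q : ℝ) * q') 1) = (T : ℝ) := by
    rw [hLk, hsplit 1 le_rfl (by omega), pow_one, pow_one, Matrix.trace_mul_comm (wmat P (b * a)),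
      hN1, hTdef]
    push_cast; ring
  have hk : ∀ k, 2 ≤ k → 2 * k ≤ m → trFun M (linFactor q q') (cheb ((q : ℝ) * q') k) = 0 := by
    intro k hk2 hk
    rw [hLk, hsplit k (by omega) hk]
    have h2 : ∀ v : Weyl P, v ^ k = v → orderOf v = m → False := by
      intro v hv hv2
      have : v ^ (k - 1) * v = 1 * v := by rw [← pow_succ, Nat.sub_add_cancel (by omega), hv, one_mul]
      have h3 := orderOf_dvd_of_pow_eq_one (mul_right_cancel this)
      rw [hv2] at h3
      have := Nat.le_of_dvd (by omega) h3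
      omega
    rw [trace_wmat_mul P, trace_wmat_mul P, add_zero, neg_zero]
    · intro h
      rw [← hinv, inv_inv] at h
      exact h2 _ h rfl
    · intro h
      rw [← hinv, inv_pow, inv_inj] at h
      exact h2 _ h rfl
  rcases Nat.even_or_odd m with ⟨n, hn⟩ | ⟨n, hn⟩
  · have hzero : aeval M (linFactor q q' * cheb ((q : ℝ) * q') n) = 0 := by
      rw [map_mul, hg, mul_assoc, hDiff_mul_cheb hA hB n]
      have : hDiff A B n = 0 := by
        obtain ⟨e1, e2⟩ := hpow n (by omega)
        have h2 : (a * b) ^ n = (b * a) ^ n := by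
          rw [← hinv, inv_pow, eq_inv_iff_mul_eq_one, ← pow_add, ← hn]
          exact pow_orderOf_eq_one _
        rw [hDiff, e1, e2, h2, sub_self]
      rw [this, mul_zero]
    have := even_bound hMt hq2 hq'2 T hT hzero h1 (fun k hk2 hkn => hk k hk2 (by omega))
    simp only [Set.mem_insert_iff, Set.mem_singleton_iff]
    omega
  · have hw0 : (A * B) ^ n * A = (B * A) ^ n * B := by
      have h2 : ws P (altL s t (2 * n + 1)) = ws P (altL t s (2 * n + 1)) :=
        (altL_prod_eq_iff (simW P) _ s t (simW_mul_self P s) (simW_mul_self P t)).2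
          (by rw [← hn]; exact pow_orderOf_eq_one _)
      calc (A * B) ^ n * A = wmat P (ws P (altL s t (2 * n + 1))) :=
            (altL_map_prod_odd (fun x => wmat P (simW P x)) s t n).symm.trans
              (wmat_red_prod P _ (hred _ (le_of_eq hn.symm)).1)
        _ = wmat P (ws P (altL t s (2 * n + 1))) := by rw [h2]
        _ = (B * A) ^ n * B :=
            ((altL_map_prod_odd (fun x => wmat P (simW P x)) t s n).symm.trans
              (wmat_red_prod P _ (hred _ (le_of_eq hn.symm)).2)).symm
    have hqq : q' = q := by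
      let one : G ⧸ P.B → ℝ := fun _ => 1
      have hA1 : Matrix.mulVec A one = (q : ℝ) • one := by
        rw [wmat_simW_mulVec_one]; funext x; simp [one, q]
      have hB1 : Matrix.mulVec B one = (q' : ℝ) • one := by
        rw [wmat_simW_mulVec_one]; funext x; simp [one, q']
      have hpowv : ∀ (X : Matrix (G ⧸ P.B) (G ⧸ P.B) ℝ) (c : ℝ), X.mulVec one = c • one →
          ∀ k : ℕ, (X ^ k).mulVec one = c ^ k • one := by
        intro X c hX k
        induction k with
        | zero => simp
        | succ k ih => rw [pow_succ, ← Matrix.mulVec_mulVec, hX, Matrix.mulVec_smul, ih, smul_smul,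
            ← pow_succ']
      have hAB : (A * B).mulVec one = ((q : ℝ) * q') • one := by
        rw [← Matrix.mulVec_mulVec, hB1, Matrix.mulVec_smul, hA1, smul_smul, mul_comm]
      have hBA : (B * A).mulVec one = ((q : ℝ) * q') • one := by
        rw [← Matrix.mulVec_mulVec, hA1, Matrix.mulVec_smul, hB1, smul_smul]
      have h2 := congrArg (fun X : Matrix (G ⧸ P.B) (G ⧸ P.B) ℝ =>
        X.mulVec one ((1 : G) : G ⧸ P.B)) hw0
      simp only [← Matrix.mulVec_mulVec, hA1, hB1, Matrix.mulVec_smul, hpowv _ _ hAB, hpowv _ _ hBA,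
        Pi.smul_apply, smul_eq_mul, one, mul_one] at h2
      have hne0 : ((q : ℝ) * q') ^ n ≠ 0 := by positivity
      exact_mod_cast (mul_right_cancel₀ hne0 h2).symm
    rw [hqq] at hk h1 hB hg
    have hzero : aeval M (linFactor q q *
        (cheb ((q : ℝ) * q) (n + 1) + C (q : ℝ) * cheb ((q : ℝ) * q) n)) = 0 := by
      have hD := hDiff_mul_cheb hA hB
      have hMq : M = hCentral A B (q : ℝ) (q : ℝ) := by rw [hMdef, hqq]
      rw [map_mul, hg, mul_assoc, map_add, map_mul, aeval_C, Algebra.algebraMap_eq_smul_one,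
        smul_mul_assoc, one_mul, mul_add, mul_smul_comm, hMq, hD, hD]
      have : hDiff A B (n + 1) + (q : ℝ) • hDiff A B n = 0 := by
        have e1 : (A * B) ^ (n + 1) = (q : ℝ) • (B * A) ^ n + ((q : ℝ) - 1) • ((B * A) ^ n * B) := by
          rw [pow_succ, ← mul_assoc, hw0, mul_assoc, hB, mul_add, mul_smul_comm, mul_smul_comm, mul_one]
        have e2 : (B * A) ^ (n + 1) = (q : ℝ) • (A * B) ^ n + ((q : ℝ) - 1) • ((A * B) ^ n * A) := by
          rw [pow_succ, ← mul_assoc, ← hw0, mul_assoc, hA, mul_add, mul_smul_comm, mul_smul_comm,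
            mul_one]
        simp only [hDiff, e1, e2, hw0, smul_sub]
        abel
      rw [this, mul_zero]
    have := odd_bound hMt hq2 (by omega) T hT hzero h1 (fun k hk2 hkn => hk k hk2 (by omega))
    simp only [Set.mem_insert_iff, Set.mem_singleton_iff]
    omega

end Pair

theorem feit_higman {G : Type*} [Group G] [Finite G] (P : Cfsg.BNPair G) (h2 : P.rank = 2) :
    ((P.B ⊓ P.N).subgroupOf P.N).index ∈ ({4, 6, 8, 12, 16} : Set ℕ) := by
  classical
  obtain ⟨s, t, hne, huniv⟩ := Nat.card_eq_two_iff.1 h2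
  have hall : ∀ x : P.S, x = s ∨ x = t := fun x => by
    have hx : x ∈ ({s, t} : Set P.S) := huniv ▸ Set.mem_univ x
    simpa using hx
  have : Finite (Weyl P) := inferInstance
  have : Fintype (G ⧸ P.B) := Fintype.ofFinite _
  have h := feit_higman_order P hne hall
  have hc := weyl_card P hall
  show Nat.card (Weyl P) ∈ _
  rw [hc]
  simp only [Set.mem_insert_iff, Set.mem_singleton_iff] at h ⊢
  omega

end H56
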