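import Mathlib

/-!
Algebra behind the Feit–Higman theorem: two elements with quadratic relations, their central element
and the Chebyshev-type polynomials.
-/

set_option autoImplicit false

namespace H56

open Polynomial

/-- `cheb r k` is the `(k-1)`-st Chebyshev polynomial of the second kind scaled by `√r`. -/
noncomputable def cheb (r : ℝ) : ℕ → ℝ[X]
  | 0 => 0
  | 1 => 1
  | k + 2 => X * cheb r (k + 1) - C r * cheb r k

/-- The quotient of `cheb r k - (cheb r k).eval y` by `X - y`. -/
noncomputable def chebQuot (r y : ℝ) : ℕ → ℝ[X]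
  | 0 => 0
  | 1 => 0
  | k + 2 => cheb r (k + 1) + C y * chebQuot r y (k + 1) - C r * chebQuot r y k

theorem chebQuot_spec (r y : ℝ) : ∀ k,
    cheb r k = (X - C y) * chebQuot r y k + C ((cheb r k).eval y) := by
  intro k
  induction k using Nat.twoStepInduction with
  | zero => simp [cheb, chebQuot]
  | one => simp [cheb, chebQuot]
  | more k ih1 ih2 =>
    show cheb r (k + 2) = _
    rw [cheb, chebQuot, eval_sub, eval_mul, eval_X, eval_mul, eval_C, map_sub, map_mul, map_mul]
    linear_combination (C y) * ih2 - (C r) * ih1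

theorem cheb_linear_functional (L : ℝ[X] →ₗ[ℝ] ℝ) (r y c : ℝ) (n : ℕ) (h1 : L (cheb r 1) = c)
    (h : ∀ k, 2 ≤ k → k ≤ n → L (cheb r k) = 0) :
    ∀ k, k ≤ n → L (chebQuot r y (k + 1)) = c * (cheb r k).eval y := by
  intro k
  induction k using Nat.twoStepInduction with
  | zero => intro _; simp [cheb, chebQuot]
  | one =>
    intro _
    simp [cheb, chebQuot] at h1 ⊢
    exact h1
  | more k ih1 ih2 =>
    intro hk
    show L (cheb r (k + 2) + C y * chebQuot r y (k + 2) - C r * chebQuot r y (k + 1)) = _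
    rw [map_sub, map_add, ← smul_eq_C_mul, ← smul_eq_C_mul, map_smul, map_smul, ih1 (by omega),
      ih2 (by omega), h (k + 2) (by omega) hk, cheb]
    simp [eval_sub, eval_mul]
    ring

theorem cheb_eval_trig (r θ : ℝ) : ∀ k,
    (cheb (r ^ 2) k).eval (2 * r * Real.cos θ) * r * Real.sin θ =
      r ^ k * Real.sin (k * θ) := by
  intro k
  induction k using Nat.twoStepInduction with
  | zero => simp [cheb]
  | one => simp [cheb]
  | more k ih1 ih2 =>
    rw [cheb]
    simp only [eval_sub, eval_mul, eval_X, eval_C]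
    have e1 : ((k + 2 : ℕ) : ℝ) * θ = ((k + 1 : ℕ) : ℝ) * θ + θ := by push_cast; ring
    have e2 : (k : ℝ) * θ = ((k + 1 : ℕ) : ℝ) * θ - θ := by push_cast; ring
    rw [e2, Real.sin_sub] at ih1
    rw [e1, Real.sin_add]
    linear_combination (2 * r * Real.cos θ) * ih2 - r ^ 2 * ih1

theorem hasDerivAt_cheb_trig (r θ : ℝ) (k : ℕ) :
    ((derivative (cheb (r ^ 2) k)).eval (2 * r * Real.cos θ) * (-2 * r * Real.sin θ)) * r * Real.sin θ
        + (cheb (r ^ 2) k).eval (2 * r * Real.cos θ) * r * Real.cos θ =
      r ^ k * (k * Real.cos (k * θ)) := by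
  have h1 : HasDerivAt (fun t : ℝ => (cheb (r ^ 2) k).eval (2 * r * Real.cos t) * r * Real.sin t)
      (((derivative (cheb (r ^ 2) k)).eval (2 * r * Real.cos θ) * (2 * r * -Real.sin θ)) * r
        * Real.sin θ + (cheb (r ^ 2) k).eval (2 * r * Real.cos θ) * r * Real.cos θ) θ := by
    have hc := (Real.hasDerivAt_cos θ).const_mul (2 * r)
    have hp := (Polynomial.hasDerivAt (cheb (r ^ 2) k) (2 * r * Real.cos θ)).comp θ hc
    exact (hp.mul_const r).mul (Real.hasDerivAt_sin θ)
  have h2 : HasDerivAt (fun t : ℝ => r ^ k * Real.sin ((k : ℝ) * t))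
      (r ^ k * (Real.cos ((k : ℝ) * θ) * k)) θ := by
    have hk : HasDerivAt (fun t : ℝ => (k : ℝ) * t) k θ := by
      simpa using (hasDerivAt_id θ).const_mul (k : ℝ)
    exact hk.sin.const_mul (r ^ k)
  have he : (fun t : ℝ => (cheb (r ^ 2) k).eval (2 * r * Real.cos t) * r * Real.sin t) =
      fun t : ℝ => r ^ k * Real.sin ((k : ℝ) * t) := funext fun t => cheb_eval_trig r t k
  rw [he] at h1
  have := h1.unique h2
  linarith [this]

section Hecke

variable {R : Type*} [Ring R] [Algebra ℝ R] (a b : R) (q q' : ℝ)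

/-- The central element of a rank two Hecke algebra. -/
def hCentral : R :=
  a * b + b * a - (q' - 1) • a - (q - 1) • b + ((q - 1) * (q' - 1)) • (1 : R)

/-- `(ab)^k - (ba)^k`. -/
def hDiff (k : ℕ) : R := (a * b) ^ k - (b * a) ^ k

variable {a b : R} {q q' : ℝ}

theorem hCentral_mul_left (ha : a * a = q • (1 : R) + (q - 1) • a) :
    hCentral a b q q' * a = a * b * a + q • b - (q * (q' - 1)) • (1 : R) ∧
    a * hCentral a b q q' = a * b * a + q • b - (q * (q' - 1)) • (1 : R) := by
  have ha' : ∀ x : R, a * (a * x) = q • x + (q - 1) • (a * x) := fun x => by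
    rw [← mul_assoc, ha, add_mul, smul_mul_assoc, smul_mul_assoc, one_mul]
  constructor <;>
  · simp only [hCentral, add_mul, sub_mul, mul_add, mul_sub, smul_mul_assoc, mul_smul_comm, one_mul,
      mul_one, mul_assoc, ha, ha']
    module

theorem hCentral_symm : hCentral b a q' q = hCentral a b q q' := by
  simp only [hCentral]
  module

theorem hCentral_mul_right (hb : b * b = q' • (1 : R) + (q' - 1) • b) :
    hCentral a b q q' * b = b * a * b + q' • a - (q' * (q - 1)) • (1 : R) ∧
    b * hCentral a b q q' = b * a * b + q' • a - (q' * (q - 1)) • (1 : R) := by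
  have := hCentral_mul_left (a := b) (b := a) (q := q') (q' := q) hb
  rwa [hCentral_symm] at this

theorem hCentral_comm_a (ha : a * a = q • (1 : R) + (q - 1) • a) :
    Commute (hCentral a b q q') a :=
  (hCentral_mul_left ha).1.trans (hCentral_mul_left ha).2.symm

theorem hCentral_comm_b (hb : b * b = q' • (1 : R) + (q' - 1) • b) :
    Commute (hCentral a b q q') b :=
  (hCentral_mul_right hb).1.trans (hCentral_mul_right hb).2.symm

theorem hCentral_mul_ab (ha : a * a = q • (1 : R) + (q - 1) • a)
    (hb : b * b = q' • (1 : R) + (q' - 1) • b) :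
    hCentral a b q q' * (a * b) = (a * b) * (a * b) + (q * q') • (1 : R) := by
  rw [← mul_assoc, (hCentral_mul_left ha).1]
  simp only [add_mul, sub_mul, smul_mul_assoc, one_mul, mul_assoc, hb]
  module

theorem hCentral_mul_ba (ha : a * a = q • (1 : R) + (q - 1) • a)
    (hb : b * b = q' • (1 : R) + (q' - 1) • b) :
    hCentral a b q q' * (b * a) = (b * a) * (b * a) + (q * q') • (1 : R) := by
  have := hCentral_mul_ab (a := b) (b := a) (q := q') (q' := q) hb ha
  rw [hCentral_symm, mul_comm q' q] at this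
  exact this

theorem hDiff_sq (ha : a * a = q • (1 : R) + (q - 1) • a)
    (hb : b * b = q' • (1 : R) + (q' - 1) • b) :
    hDiff a b 1 * hDiff a b 1 = aeval (hCentral a b q q')
      ((X - C (q * q' + 1)) * (X + C (q + q') : ℝ[X])) := by
  have hsq : hCentral a b q q' * hCentral a b q q' =
      hCentral a b q q' * (a * b) + hCentral a b q q' * (b * a)
        - (q' - 1) • (hCentral a b q q' * a) - (q - 1) • (hCentral a b q q' * b)
        + ((q - 1) * (q' - 1)) • hCentral a b q q' := by
    nth_rw 2 [hCentral]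
    simp only [mul_add, mul_sub, mul_smul_comm, mul_one]
  have ha' : ∀ x : R, a * (a * x) = q • x + (q - 1) • (a * x) := fun x => by
    rw [← mul_assoc, ha, add_mul, smul_mul_assoc, smul_mul_assoc, one_mul]
  have hb' : ∀ x : R, b * (b * x) = q' • x + (q' - 1) • (b * x) := fun x => by
    rw [← mul_assoc, hb, add_mul, smul_mul_assoc, smul_mul_assoc, one_mul]
  simp only [map_mul, map_sub, map_add, map_one, aeval_X, aeval_C, Algebra.algebraMap_eq_smul_one]
  simp only [sub_mul, add_mul, mul_add, mul_sub, mul_smul_comm, smul_mul_assoc, mul_one, one_mul]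
  rw [hsq, hCentral_mul_ab ha hb, hCentral_mul_ba ha hb, (hCentral_mul_left ha).1,
    (hCentral_mul_right hb).1]
  simp only [hDiff, pow_one, hCentral, mul_sub, sub_mul, mul_add, add_mul, mul_smul_comm,
    smul_mul_assoc, mul_assoc, ha, hb, ha', hb', mul_one, one_mul]
  module

theorem hDiff_mul_cheb (ha : a * a = q • (1 : R) + (q - 1) • a)
    (hb : b * b = q' • (1 : R) + (q' - 1) • b) : ∀ k,
    hDiff a b 1 * aeval (hCentral a b q q') (cheb (q * q') k) = hDiff a b k := by
  intro k
  induction k using Nat.twoStepInduction with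
  | zero => simp [cheb, hDiff]
  | one => simp [cheb]
  | more k ih1 ih2 =>
    have hc : Commute (hCentral a b q q') (hDiff a b 1) := by
      simp only [hDiff, pow_one]
      exact ((hCentral_comm_a ha).mul_right (hCentral_comm_b hb)).sub_right
        ((hCentral_comm_b hb).mul_right (hCentral_comm_a ha))
    rw [cheb, map_sub, map_mul, map_mul, aeval_X, aeval_C, mul_sub, ← mul_assoc, ← hc.eq, mul_assoc,
      ih2, Algebra.algebraMap_eq_smul_one, smul_mul_assoc, one_mul, mul_smul_comm, ih1]
    have hT : hCentral a b q q' * (a * b) ^ (k + 1) =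
        (a * b) ^ (k + 2) + (q * q') • (a * b) ^ k := by
      rw [pow_succ' (a * b) k, ← mul_assoc, hCentral_mul_ab ha hb, add_mul, smul_mul_assoc, one_mul,
        mul_assoc, ← pow_succ', ← pow_succ']
    have hT' : hCentral a b q q' * (b * a) ^ (k + 1) =
        (b * a) ^ (k + 2) + (q * q') • (b * a) ^ k := by
      rw [pow_succ' (b * a) k, ← mul_assoc, hCentral_mul_ba ha hb, add_mul, smul_mul_assoc, one_mul,
        mul_assoc, ← pow_succ', ← pow_succ']
    simp only [hDiff, mul_sub, hT, hT', smul_sub]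
    abel

end Hecke

theorem exists_eigen_list {ι : Type*} [Fintype ι] [DecidableEq ι] {M : Matrix ι ι ℝ}
    (hM : M.transpose = M) :
    ∃ l : ι → ℝ, ∀ p : ℝ[X], (aeval M p).trace = ∑ i, p.eval (l i) ∧
      (aeval M p = 0 → ∀ i, p.eval (l i) = 0) := by
  have hH : M.IsHermitian := by
    rw [Matrix.IsHermitian, Matrix.conjTranspose_eq_transpose_of_trivial, hM]
  refine ⟨hH.eigenvalues, fun p => ?_⟩
  have hd : aeval M p = Unitary.conjStarAlgAut ℝ (Matrix ι ι ℝ) hH.eigenvectorUnitary
      (Matrix.diagonal fun i => p.eval (hH.eigenvalues i)) := by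
    conv_lhs => rw [hH.spectral_theorem]
    rw [aeval_algHom_apply]
    congr 1
    have : (Matrix.diagonal (RCLike.ofReal ∘ hH.eigenvalues) : Matrix ι ι ℝ) =
        Matrix.diagonalAlgHom ℝ hH.eigenvalues := rfl
    rw [this, aeval_algHom_apply]
    show Matrix.diagonal (aeval hH.eigenvalues p) = _
    congr 1
    funext i
    rw [Polynomial.aeval_pi_apply]
    simp [Polynomial.coe_aeval_eq_eval]
  constructor
  · rw [hd, Unitary.conjStarAlgAut_apply, Matrix.trace_mul_cycle]
    simp [Matrix.trace_diagonal]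
  · intro h i
    rw [hd, map_eq_zero_iff _ (EquivLike.injective _)] at h
    exact congrFun (Matrix.diagonal_eq_zero.1 h) i

end H56
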