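import Mathlib

/-!
A finite commutative ring with bijective squaring and an automorphism of prime order whose only
fixed elements are `0` and `1` has `2 ^ r` elements.
-/

set_option autoImplicit false

namespace H56

variable {R : Type*} [CommRing R] [Finite R]

theorem exists_idem_pow (x : R) : ∃ n : ℕ, 0 < n ∧ x ^ n * x ^ n = x ^ n := by
  obtain ⟨i, j, hne, hij⟩ := Finite.exists_ne_map_eq_of_infinite (fun n : ℕ => x ^ n)
  wlog hlt : i < j generalizing i j
  · exact this j i hne.symm hij.symm (by omega)
  obtain ⟨d, rfl⟩ : ∃ d, j = i + (d + 1) := ⟨j - i - 1, by omega⟩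
  have step : ∀ t k, x ^ (i + t) = x ^ (i + t + k * (d + 1)) := by
    intro t k
    induction k with
    | zero => simp
    | succ k ih =>
      rw [ih]
      have h : x ^ i * x ^ (t + k * (d + 1)) = x ^ (i + (d + 1)) * x ^ (t + k * (d + 1)) := by
        rw [← hij]
      rw [← pow_add, ← pow_add] at h
      rw [show i + t + k * (d + 1) = i + (t + k * (d + 1)) by ring, h]
      congr 1; ring
  refine ⟨(i + 1) * (d + 1), by positivity, ?_⟩
  obtain ⟨t, ht⟩ : ∃ t, (i + 1) * (d + 1) = i + t := ⟨(i + 1) * (d + 1) - i, by
    have : i + 1 ≤ (i + 1) * (d + 1) := Nat.le_mul_of_pos_right _ (by omega)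
    omega⟩
  rw [← pow_add]
  conv_rhs => rw [ht, step t (i + 1)]
  rw [ht]

theorem eq_zero_of_pow (hsq : ∀ x : R, x * x = 0 → x = 0) {x : R} : ∀ n : ℕ, x ^ (n + 1) = 0 → x = 0 := by
  intro n
  induction n using Nat.strong_induction_on with
  | _ n ih =>
    intro h
    rcases Nat.eq_zero_or_pos n with rfl | hn
    · simpa using h
    · apply ih (n - 1) (by omega)
      rw [Nat.sub_add_cancel hn]
      apply hsq
      rw [← pow_add, show n + n = (n + 1) + (n - 1) by omega, pow_add, h, zero_mul]

theorem card_field_fixed_two {K : Type*} [Field K] [Finite K] (σ : K ≃+* K) {r : ℕ}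
    (hr : r.Prime) (hord : σ ^ r = 1) (hne : σ ≠ 1) (hfix : ∀ x, σ x = x → x = 0 ∨ x = 1) :
    Nat.card K = 2 ^ r := by
  classical
  let S : Subgroup (K ≃+* K) := Subgroup.zpowers σ
  have : Finite S := by
    have : Finite (K ≃+* K) := Finite.of_injective (fun e => (e : K → K)) DFunLike.coe_injective
    infer_instance
  have := Fintype.ofFinite S
  have := Fact.mk hr
  have hS : Nat.card S = r := by rw [Nat.card_zpowers, orderOf_eq_prime hord hne]
  have hfr : Module.finrank (FixedPoints.subfield S K) K = r := by
    rw [FixedPoints.finrank_eq_card S K, ← Nat.card_eq_fintype_card, hS]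
  have hsub : Nat.card (FixedPoints.subfield S K) = 2 := by
    rw [Nat.card_eq_two_iff' (0 : FixedPoints.subfield S K)]
    refine ⟨1, one_ne_zero, fun y hy => ?_⟩
    rcases hfix y.1 (y.2 ⟨σ, Subgroup.mem_zpowers σ⟩) with h | h
    · exact absurd (Subtype.ext h) hy
    · exact Subtype.ext h
  rw [Module.natCard_eq_pow_finrank (K := FixedPoints.subfield S K) (V := K), hfr, hsub]

theorem card_ring_fixed_two [Nontrivial R] (hsq : ∀ x : R, x * x = 0 → x = 0)
    (σ : R ≃+* R) {r : ℕ} (hr : r.Prime) (hord : σ ^ r = 1) (hne : σ ≠ 1)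
    (hfix : ∀ x, σ x = x → x = 0 ∨ x = 1) : Nat.card R = 2 ^ r := by
  classical
  by_cases hid : ∀ e : R, e * e = e → e = 0 ∨ e = 1
  · have hF : IsField R := by
      refine ⟨exists_pair_ne R, mul_comm, fun {a} ha => ?_⟩
      obtain ⟨n, hn, he⟩ := exists_idem_pow a
      obtain ⟨m, rfl⟩ : ∃ m, n = m + 1 := ⟨n - 1, by omega⟩
      rcases hid _ he with h | h
      · exact absurd (eq_zero_of_pow hsq m h) ha
      · exact ⟨a ^ m, by rw [← pow_succ', h]⟩
    let _ : Field R := hF.toField
    exact card_field_fixed_two σ hr hord hne hfix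
  · push Not at hid
    obtain ⟨e0, he00, he01, he02⟩ := hid
    let Idem : Set R := {e | e * e = e ∧ e ≠ 0}
    obtain ⟨e, ⟨hee, he0⟩, hmin⟩ := (Set.toFinite Idem).exists_minimalFor
      (fun e => Nat.card {x : R // e * x = x}) Idem ⟨e0, he00, he01⟩
    have hcardlt : ∀ f : R, f * f = f → e * f = f → f ≠ 0 → f = e := by
      intro f hff hef hf0
      by_contra hfe
      have hle : Nat.card {x : R // f * x = x} < Nat.card {x : R // e * x = x} := by
        let ι : {x : R // f * x = x} → {x : R // e * x = x} := fun x => ⟨x.1, by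
          calc e * x.1 = e * (f * x.1) := by rw [x.2]
            _ = x.1 := by rw [← mul_assoc, hef, x.2]⟩
        have := Fintype.ofFinite R
        rw [Nat.card_eq_fintype_card, Nat.card_eq_fintype_card]
        refine Fintype.card_lt_of_injective_of_notMem ι
          (fun x y h => Subtype.ext (congrArg (fun z : {x : R // e * x = x} => z.1) h))
          (b := ⟨e, hee⟩) ?_
        rintro ⟨x, hx⟩
        apply hfe
        have hxe : x.1 = e := congrArg Subtype.val hx
        have h2 := x.2
        rw [hxe, mul_comm, hef] at h2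
        exact h2
      exact absurd (hmin ⟨hff, hf0⟩ hle.le) (not_le.2 hle)
    have hσpow : ∀ i x, (σ ^ (i + r)) x = (σ ^ i) x := fun i x => by
      rw [pow_add, hord, mul_one]
    have horth : ∀ i < r, (σ ^ i) e = e → i = 0 := by
      intro i hi hfixi
      by_contra hi0
      have := Fact.mk hr
      have hordσ : orderOf σ = r := orderOf_eq_prime hord hne
      have hcop : Nat.Coprime i r :=
        ((Nat.Prime.coprime_iff_not_dvd hr).2 (fun h => hi0 (Nat.eq_zero_of_dvd_of_lt h hi))).symm
      obtain ⟨j, hj⟩ : ∃ j, (σ ^ i) ^ j = σ := by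
        obtain ⟨j, -, hj⟩ := Nat.exists_mul_mod_eq_one_of_coprime hcop hr.one_lt
        refine ⟨j, ?_⟩
        rw [← pow_mul, ← pow_mod_orderOf, hordσ, hj, pow_one]
      have hfixj : ∀ j : ℕ, ((σ ^ i) ^ j) e = e := by
        intro j
        induction j with
        | zero => rfl
        | succ j ih => rw [pow_succ]; show ((σ ^ i) ^ j) ((σ ^ i) e) = e; rw [hfixi, ih]
      have hse : σ e = e := by
        have := hfixj j
        rwa [hj] at this
      rcases hfix e hse with h | h
      · exact he0 h
      · -- then the minimal idempotent is `1`, so every idempotent is trivial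
        exact he02 ((hcardlt e0 he00 (by rw [h, one_mul]) he01).trans h)
    have hmul0 : ∀ i < r, i ≠ 0 → e * (σ ^ i) e = 0 := by
      intro i hi hi0
      by_contra hp
      have hidem : e * (σ ^ i) e * (e * (σ ^ i) e) = e * (σ ^ i) e := by
        rw [mul_mul_mul_comm, hee, ← map_mul, hee]
      have h1 := hcardlt _ hidem (by rw [← mul_assoc, hee]) hp
      have hse : ((σ ^ i) e) * ((σ ^ i) e) = (σ ^ i) e := by rw [← map_mul, hee]
      -- pull back along `σ ^ i`
      obtain ⟨k, hk⟩ : ∃ k, i + k = r := ⟨r - i, by omega⟩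
      have hback : ∀ x, (σ ^ k) ((σ ^ i) x) = x := fun x => by
        show (σ ^ k * σ ^ i) x = x
        rw [← pow_add, add_comm, hk, hord]; rfl
      have h2 : e * (σ ^ k) e = (σ ^ k) e := by
        have := congrArg (σ ^ k) h1
        rw [map_mul, hback, mul_comm] at this
        exact this
      have hk0 : (σ ^ k) e ≠ 0 := fun h => he0 ((σ ^ k).injective (h.trans (map_zero _).symm))
      have h3 := hcardlt _ (by rw [← map_mul, hee]) h2 hk0
      exact hi0 (by have := horth k (by omega) h3; omega)
    -- the components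
    set Se := ∑ i ∈ Finset.range r, (σ ^ i) e with hSe
    have hsum_shift : ∀ x : R, σ (∑ i ∈ Finset.range r, (σ ^ i) x) = ∑ i ∈ Finset.range r, (σ ^ i) x := by
      intro x
      rw [map_sum]
      obtain ⟨s, rfl⟩ : ∃ s, r = s + 1 := ⟨r - 1, by have := hr.pos; omega⟩
      rw [Finset.sum_range_succ, Finset.sum_range_succ' (fun i => (σ ^ i) x) s]
      congr 1
      · exact Finset.sum_congr rfl fun i _ => by rw [pow_succ']; rfl
      · show (σ * σ ^ s) x = _
        rw [← pow_succ', hord, pow_zero]
    have hproj : ∀ x, e * x = x → e * (∑ i ∈ Finset.range r, (σ ^ i) x) = x := by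
      intro x hx
      rw [Finset.mul_sum, Finset.sum_eq_single 0]
      · rw [pow_zero]; exact hx
      · intro i hi hi0
        rw [← hx, map_mul, ← mul_assoc, hmul0 i (Finset.mem_range.1 hi) hi0, zero_mul]
      · intro h; exact absurd (Finset.mem_range.2 hr.pos) h
    have hSe1 : Se = 1 := by
      rcases hfix Se (hsum_shift e) with h | h
      · have := hproj e hee
        rw [← hSe, h, mul_zero] at this
        exact absurd this.symm he0
      · exact h
    have hEcard : ∀ x, e * x = x → x = 0 ∨ x = e := by
      intro x hx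
      rcases hfix _ (hsum_shift x) with h | h
      · left; rw [← hproj x hx, h, mul_zero]
      · right; rw [← hproj x hx, h, mul_one]
    -- `x` is determined by its `r` components
    let f : R → (Fin r → {x : R // e * x = x}) := fun x i => ⟨e * (σ ^ (r - (i : ℕ))) x, by
      rw [← mul_assoc, hee]⟩
    have hback : ∀ i ≤ r, ∀ x, (σ ^ i) ((σ ^ (r - i)) x) = x := fun i hi x => by
      show (σ ^ i * σ ^ (r - i)) x = x
      rw [← pow_add, Nat.add_sub_cancel' hi, hord]; rfl
    have hrec : ∀ x, x = ∑ i ∈ Finset.range r, (σ ^ i) (e * (σ ^ (r - i)) x) := by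
      intro x
      conv_lhs => rw [← one_mul x, ← hSe1, hSe, Finset.sum_mul]
      refine Finset.sum_congr rfl fun i hi => ?_
      rw [map_mul, hback i (Finset.mem_range.1 hi).le]
    have hbij : Function.Bijective f := by
      constructor
      · intro x y hxy
        rw [hrec x, hrec y]
        refine Finset.sum_congr rfl fun i hi => ?_
        exact congrArg (σ ^ i) (congrArg Subtype.val (congrFun hxy ⟨i, Finset.mem_range.1 hi⟩))
      · intro c
        refine ⟨∑ j : Fin r, (σ ^ (j : ℕ)) (c j).1, funext fun i => Subtype.ext ?_⟩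
        show e * (σ ^ (r - (i : ℕ))) (∑ j : Fin r, (σ ^ (j : ℕ)) (c j).1) = (c i).1
        rw [map_sum, Finset.mul_sum, Finset.sum_eq_single i]
        · show e * (σ ^ (r - (i : ℕ)) * σ ^ (i : ℕ)) (c i).1 = _
          rw [← pow_add, Nat.sub_add_cancel i.2.le, hord]
          exact (c i).2
        · intro j _ hji
          show e * (σ ^ (r - (i : ℕ)) * σ ^ (j : ℕ)) (c j).1 = 0
          rw [← pow_add, ← (c j).2, map_mul, ← mul_assoc]
          have hk : (σ ^ (r - (i : ℕ) + j)) e = (σ ^ ((r - (i : ℕ) + j) % r)) e := by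
            have hordσ : orderOf σ = r := by
              have := Fact.mk hr
              exact orderOf_eq_prime hord hne
            conv_lhs => rw [← pow_mod_orderOf, hordσ]
          rw [hk, hmul0 _ (Nat.mod_lt _ hr.pos), zero_mul]
          intro h0
          apply hji
          have hdvd := Nat.dvd_of_mod_eq_zero h0
          obtain ⟨c', hc'⟩ := hdvd
          have h1 : c' < 2 := by
            by_contra h2
            have : r * 2 ≤ r * c' := Nat.mul_le_mul_left r (by omega)
            omega
          interval_cases c'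
          · simp at hc'; omega
          · apply Fin.ext; simp at hc'; omega
        · simp
    have hE : Nat.card {x : R // e * x = x} = 2 := by
      rw [Nat.card_eq_two_iff' (⟨0, mul_zero e⟩ : {x : R // e * x = x})]
      refine ⟨⟨e, hee⟩, fun h => he0 (congrArg Subtype.val h), fun y hy => ?_⟩
      rcases hEcard y.1 y.2 with h | h
      · exact absurd (Subtype.ext h) hy
      · exact Subtype.ext h
    rw [Nat.card_congr (Equiv.ofBijective f hbij), Nat.card_fun, hE, Nat.card_fin]

end H56
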