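import Cfsg.Agent.H56.G2Semisimple

/-!
The element orders of `G₂(q)` are bounded by the orders of its maximal tori and mixed elements.
-/

set_option autoImplicit false
set_option linter.unusedSectionVars false
set_option linter.unusedSimpArgs false

namespace H56G2

open Cfsg.Lie Matrix H18 H56G2.Lin

variable {K : Type*} [Field K]

/-- The possible exponents. -/
def IsBound (p q N : ℕ) : Prop :=
  N ∈ [q ^ 2 - 1, q ^ 2 + q + 1, q ^ 2 - q + 1, p * (q + 1), p * (q - 1)] ∨
    (p = 2 ∧ (N = 8 ∨ N = 12)) ∨ ((p = 3 ∨ p = 5) ∧ N = p ^ 2)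

section Arith

variable {q : ℕ} {a b c : K}

theorem pow_sub_one_of_fix {x : K} {n : ℕ} (hn : 1 ≤ n) (hx0 : x ≠ 0) (h : x ^ n = x) : x ^ (n - 1) = 1 := by
  refine mul_right_cancel₀ hx0 ?_
  rw [← pow_succ, Nat.sub_add_cancel hn, h, one_mul]

theorem torus_exponent (hq : 1 ≤ q) (habc : a * b * c = 1)
    (h : ({a ^ q, b ^ q, c ^ q} : Multiset K) = {a, b, c} ∨
      ({a ^ q, b ^ q, c ^ q} : Multiset K) = {a⁻¹, b⁻¹, c⁻¹}) :
    ∃ N, (N = q ^ 2 - 1 ∨ N = q ^ 2 + q + 1 ∨ N = q ^ 2 - q + 1) ∧ a ^ N = 1 ∧ b ^ N = 1 ∧ c ^ N = 1 := by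
  have ha0 : a ≠ 0 := fun e => by simp [e] at habc
  have hb0 : b ≠ 0 := fun e => by simp [e] at habc
  have hc0 : c ≠ 0 := fun e => by simp [e] at habc
  have hq2 : 1 ≤ q ^ 2 := Nat.one_le_pow _ _ hq
  have hle : q ≤ q ^ 2 := Nat.le_self_pow (by norm_num) q
  have two : ∀ x : K, x ≠ 0 → (x ^ q) ^ q = x → x ^ (q ^ 2 - 1) = 1 := fun x hx e =>
    pow_sub_one_of_fix hq2 hx (by rw [pow_two, pow_mul, e])
  have plus : ∀ x y z : K, x * y * z = 1 → x ^ q = y → y ^ q = z → x ^ (q ^ 2 + q + 1) = 1 := by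
    intro x y z h1 h2 h3
    rw [pow_add, pow_add, pow_two, pow_mul, h2, h3, pow_one]
    linear_combination h1
  have minus : ∀ x y z : K, x * y * z = 1 → x ^ q = y⁻¹ → y ^ q = z⁻¹ → x ^ (q ^ 2 - q + 1) = 1 := by
    intro x y z h1 h2 h3
    have hy : y ≠ 0 := fun e => by simp [e] at h1
    have hx : x ≠ 0 := fun e => by simp [e] at h1
    refine mul_right_cancel₀ (pow_ne_zero q hx) ?_
    rw [one_mul, ← pow_add, show q ^ 2 - q + 1 + q = q * q + 1 by rw [← pow_two]; omega, pow_succ, pow_mul, h2,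
      inv_pow, h3, inv_inv]
    refine eq_inv_of_mul_eq_one_left ?_
    linear_combination h1
  have hbca : b * c * a = 1 := by linear_combination habc
  have hcab : c * a * b = 1 := by linear_combination habc
  have hacb : a * c * b = 1 := by linear_combination habc
  have hcba : c * b * a = 1 := by linear_combination habc
  have hbac : b * a * c = 1 := by linear_combination habc
  rcases h with h | h
  · rcases perm3 h with ⟨h1, h2, h3⟩ | ⟨h1, h2, h3⟩ | ⟨h1, h2, h3⟩ | ⟨h1, h2, h3⟩ | ⟨h1, h2, h3⟩ | ⟨h1, h2, h3⟩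
    iterate 3 refine ⟨_, Or.inl rfl, two a ha0 ?_, two b hb0 ?_, two c hc0 ?_⟩ <;> simp [h1, h2, h3]
    · exact ⟨_, Or.inr (Or.inl rfl), plus a b c habc h1 h2, plus b c a hbca h2 h3, plus c a b hcab h3 h1⟩
    · exact ⟨_, Or.inr (Or.inl rfl), plus a c b hacb h1 h3, plus b a c hbac h2 h1, plus c b a hcba h3 h2⟩
    · refine ⟨_, Or.inl rfl, two a ha0 ?_, two b hb0 ?_, two c hc0 ?_⟩ <;> simp [h1, h2, h3]
  · rcases perm3 h with ⟨h1, h2, h3⟩ | ⟨h1, h2, h3⟩ | ⟨h1, h2, h3⟩ | ⟨h1, h2, h3⟩ | ⟨h1, h2, h3⟩ | ⟨h1, h2, h3⟩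
    iterate 3 refine ⟨_, Or.inl rfl, two a ha0 ?_, two b hb0 ?_, two c hc0 ?_⟩ <;> simp [h1, h2, h3, inv_pow]
    · exact ⟨_, Or.inr (Or.inr rfl), minus a b c habc h1 h2, minus b c a hbca h2 h3, minus c a b hcab h3 h1⟩
    · exact ⟨_, Or.inr (Or.inr rfl), minus a c b hacb h1 h3, minus b a c hbac h2 h1, minus c b a hcba h3 h2⟩
    · refine ⟨_, Or.inl rfl, two a ha0 ?_, two b hb0 ?_, two c hc0 ?_⟩ <;> simp [h1, h2, h3, inv_pow]

theorem repeated_exponent (hq : 1 ≤ q) (habc : a * a * c = 1)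
    (h : ({a ^ q, a ^ q, c ^ q} : Multiset K) = {a, a, c} ∨
      ({a ^ q, a ^ q, c ^ q} : Multiset K) = {a⁻¹, a⁻¹, c⁻¹}) :
    ∃ N, (N = q - 1 ∨ N = q + 1) ∧ a ^ N = 1 ∧ c ^ N = 1 := by
  have ha0 : a ≠ 0 := fun e => by simp [e] at habc
  have hc : c = (a * a)⁻¹ := eq_inv_of_mul_eq_one_right habc
  rcases h with h | h
  · have h1 : a ^ q = a := by
      rcases perm3 h with ⟨h1, h2, h3⟩ | ⟨h1, h2, h3⟩ | ⟨h1, h2, h3⟩ | ⟨h1, h2, h3⟩ | ⟨h1, h2, h3⟩ | ⟨h1, h2, h3⟩ <;>
        first | exact h1 | exact h2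
    have e := pow_sub_one_of_fix hq ha0 h1
    exact ⟨_, Or.inl rfl, e, by rw [hc, inv_pow, mul_pow, e, one_mul, inv_one]⟩
  · have h1 : a ^ q = a⁻¹ := by
      rcases perm3 h with ⟨h1, h2, h3⟩ | ⟨h1, h2, h3⟩ | ⟨h1, h2, h3⟩ | ⟨h1, h2, h3⟩ | ⟨h1, h2, h3⟩ | ⟨h1, h2, h3⟩ <;>
        first | exact h1 | exact h2
    have e : a ^ (q + 1) = 1 := by rw [pow_succ, h1, inv_mul_cancel₀ ha0]
    exact ⟨_, Or.inr rfl, e, by rw [hc, inv_pow, mul_pow, e, one_mul, inv_one]⟩

end Arith

theorem cof_charpoly [Infinite K] (A : SpecialLinearGroup (Fin 3) K) {a b c : K}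
    (hA : A.1.charpoly = cubic a b c) (habc : a * b * c = 1) :
    (cof3 A.1).charpoly = cubic a⁻¹ b⁻¹ c⁻¹ := by
  have ha0 : a ≠ 0 := fun e => by simp [e] at habc
  have hb0 : b ≠ 0 := fun e => by simp [e] at habc
  have hc0 : c ≠ 0 := fun e => by simp [e] at habc
  refine Polynomial.eq_of_infinite_eval_eq _ _ (Set.Infinite.mono (s := {x : K | x ≠ 0}) (fun x hx => ?_)
    (Set.finite_singleton (0 : K)).infinite_compl)
  rw [Set.mem_setOf_eq, cubic_eval, ← det_scalar_sub]
  have hcof : cof3 A.1 * A.1ᵀ = 1 := by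
    rw [cof3, ← Matrix.transpose_mul, Matrix.mul_adjugate, A.2, one_smul, Matrix.transpose_one]
  have e1 : (Matrix.scalar (Fin 3) x - cof3 A.1).det = (x • A.1ᵀ - 1).det := by
    rw [← hcof]
    have : x • A.1ᵀ - cof3 A.1 * A.1ᵀ = (Matrix.scalar (Fin 3) x - cof3 A.1) * A.1ᵀ := by
      rw [Matrix.sub_mul, Matrix.scalar_apply, ← Matrix.smul_eq_diagonal_mul]
    rw [this, det_mul, det_transpose, A.2, mul_one]
  have e2 : x • A.1ᵀ - 1 = (-x) • (Matrix.scalar (Fin 3) x⁻¹ - A.1)ᵀ := by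
    ext i j
    have hx' : x ≠ 0 := hx
    by_cases h : i = j <;> simp [Matrix.scalar_apply, h, Ne.symm] <;> field_simp <;> ring
  rw [e1, e2, det_smul, det_transpose, det_scalar_sub, hA, cubic_eval, Fintype.card_fin]
  have hx' : x ≠ 0 := hx
  field_simp
  linear_combination (-((1 - x * a) * (1 - x * b) * (1 - x * c))) * habc

theorem zero_zVec : (zVec 0 0 0 0 : Fin 8 → K) = 0 := by
  funext i; fin_cases i <;> rfl

theorem sl3_fixed_idem [Infinite K] (A : SpecialLinearGroup (Fin 3) K) {a b c : K}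
    (hA : A.1.charpoly = cubic a b c) (habc : a * b * c = 1) (ha : a ≠ 1) (hb : b ≠ 1) (hc : c ≠ 1)
    {e : Fin 8 → K} (he : IsIdem e) (hfix : g2App (sl3Hom A) e = e) :
    e = zVec 1 0 0 0 ∨ e = zVec 0 0 0 1 := by
  rw [← zVec_eta e] at hfix he ⊢
  rw [g2App_sl3Hom_zVec] at hfix
  obtain ⟨-, hA', hB', -⟩ := zVec_inj.1 hfix
  have hza : zA K e = 0 := by
    by_contra h
    have := eval_eq_zero_of_eigvec h (hA'.trans (one_smul K _).symm)
    rw [hA, cubic_eval] at this
    simp [sub_eq_zero, ha.symm, hb.symm, hc.symm] at this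
  have hzb : zB K e = 0 := by
    by_contra h
    have := eval_eq_zero_of_eigvec h (hB'.trans (one_smul K _).symm)
    rw [cof_charpoly A hA habc, cubic_eval] at this
    simp [sub_eq_zero, eq_comm (a := (1 : K)), ha, hb, hc] at this
  rw [hza, hzb] at he ⊢
  obtain ⟨hs, hn⟩ := idem_coords he
  simp [dot3] at hn
  rcases hn with h | h
  · rw [h, zero_add] at hs
    exact Or.inr (by rw [h, hs])
  · rw [h, add_zero] at hs
    exact Or.inl (by rw [h, hs])

/-- An intertwiner of two elements of `SL(3)` with no eigenvalue one is in `SL(3)` or exchanges the idempotents. -/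
theorem intertwine [Infinite K] (A B : SpecialLinearGroup (Fin 3) K) {a b c : K}
    (hA : A.1.charpoly = cubic a b c) (habc : a * b * c = 1) (ha : a ≠ 1) (hb : b ≠ 1) (hc : c ≠ 1)
    (w : G2 K) (hw : sl3Hom A * w = w * sl3Hom B) :
    (∃ W, w = sl3Hom W ∧ A.1 * W.1 = W.1 * B.1) ∨ ∃ W, w = swapG K * sl3Hom W ∧ cof3 A.1 * W.1 = W.1 * B.1 := by
  have he : IsIdem (zVec (1 : K) 0 0 0) := by
    refine ⟨?_, fun e => ?_, fun e => ?_⟩
    · rw [zornMul_zVec]; simp [dot3, cross3_zero]
    · simpa [zVec] using congrFun e 0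
    · simpa [zVec, octOne] using congrFun e 7
  have hfix : g2App (sl3Hom A) (g2App w (zVec 1 0 0 0)) = g2App w (zVec 1 0 0 0) := by
    rw [← g2App_mul, hw, g2App_mul, sl3Hom_e0]
  have hsi : ∀ X : G2 K, swapG K * (swapG K * X) = X := fun X => by rw [← mul_assoc, swapG_mul_self, one_mul]
  rcases sl3_fixed_idem A hA habc ha hb hc (he.map w) hfix with h | h
  · obtain ⟨W, rfl⟩ := exists_sl3_of_fix w h
    rw [← map_mul, ← map_mul] at hw
    exact Or.inl ⟨W, rfl, congrArg Subtype.val (sl3Hom_injective hw)⟩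
  · obtain ⟨W, hW⟩ := exists_sl3_of_fix (swapG K * w) (by
      rw [g2App_mul, h, g2App_swapG, neg_zero])
    have hw' : w = swapG K * sl3Hom W := by rw [← hW, hsi]
    refine Or.inr ⟨W, hw', ?_⟩
    rw [hw'] at hw
    have e : swapG K * sl3Hom A * swapG K * sl3Hom W = sl3Hom W * sl3Hom B := by
      rw [mul_assoc (swapG K * sl3Hom A), mul_assoc (swapG K), hw, mul_assoc, hsi]
    rw [swapG_conj_sl3] at e
    exact congrArg Subtype.val
      (sl3Hom_injective (((map_mul sl3Hom _ _).trans e).trans (map_mul sl3Hom _ _).symm))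

theorem charpoly_of_intertwine {M B : Matrix (Fin 3) (Fin 3) K} (W : SpecialLinearGroup (Fin 3) K)
    (h : M * W.1 = W.1 * B) : M.charpoly = B.charpoly := by
  let u : (Matrix (Fin 3) (Fin 3) K)ˣ := SpecialLinearGroup.toGL W
  rw [← Matrix.charpoly_units_conj u B]
  congr 1
  calc M = M * W.1 * ((u⁻¹ : (Matrix (Fin 3) (Fin 3) K)ˣ) : Matrix (Fin 3) (Fin 3) K) :=
        (Units.mul_inv_cancel_right M u).symm
    _ = _ := by rw [h, Matrix.coe_units_inv]; rfl

theorem diag_square_zero {B : Matrix (Fin 2) (Fin 2) K} (h : IsNilpotent B) : B * B = 0 := by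
  rw [← pow_two]; exact nilp_pow_card h

section Cases

variable (p : ℕ) [Fact p.Prime] [CharP K p]

/-- A unipotent element commuting with `diag(1, b, 1/b)`, `b` distinct from `1` and its inverse. -/
theorem pow_p_of_comm_diag {b : K} (hb0 : b ≠ 0) (hb1 : b ≠ 1) (hbb : b ≠ b⁻¹)
    (D : SpecialLinearGroup (Fin 3) K) (hD : D.1 = diagonal ![1, b, b⁻¹]) (u : G2 K)
    (hc : sl3Hom D * u = u * sl3Hom D) {k : ℕ} (hu : u ^ p ^ k = 1) : u ^ p = 1 := by
  have hbi : b⁻¹ ≠ 1 := fun e => hb1 (inv_eq_one.1 e)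
  have hDapp : ∀ v : Fin 8 → K, g2App (sl3Hom D) v =
      ![v 0, v 1, b * v 2, b⁻¹ * v 3, v 4, b⁻¹ * v 5, b * v 6, v 7] := by
    intro v
    conv_lhs => rw [← zVec_eta v]
    rw [g2App_sl3Hom_zVec, hD]
    funext i
    fin_cases i <;>
      simp [zVec, cof3, adjugate3_apply, Matrix.mulVec, dotProduct, Fin.sum_univ_three, zA, zB, diagonal, hb0]
  set M := ((u : GL (Fin 8) K) : Matrix (Fin 8) (Fin 8) K) with hMdef
  have hMk : M ^ p ^ k = 1 := by
    rw [hMdef, ← Units.val_pow_eq_pow_val, ← SubgroupClass.coe_pow, hu, OneMemClass.coe_one, Units.val_one]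
  set N := M - 1 with hN
  have hNk : N ^ p ^ k = 0 := unip_sub_pow p hMk
  -- the plane of the eigenvalue `x`
  have plane : ∀ (x : K) (i j : Fin 8), i ≠ j →
      (∀ v, g2App (sl3Hom D) v = x • v → v = v i • Pi.single i 1 + v j • Pi.single j 1) →
      g2App (sl3Hom D) (Pi.single i 1) = x • Pi.single i 1 →
      g2App (sl3Hom D) (Pi.single j 1) = x • Pi.single j 1 →
      N ^ 2 *ᵥ Pi.single i 1 = 0 ∧ N ^ 2 *ᵥ Pi.single j 1 = 0 := by
    intro x i j hij hspan hi hj
    have hmap : ∀ l, g2App (sl3Hom D) (Pi.single l 1) = x • Pi.single l 1 →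
        N *ᵥ Pi.single l 1 = (N *ᵥ Pi.single l 1) i • Pi.single i 1 + (N *ᵥ Pi.single l 1) j • Pi.single j 1 := by
      intro l hl
      refine hspan _ ?_
      have e : N *ᵥ Pi.single l 1 = g2App u (Pi.single l 1) - Pi.single l 1 := by
        rw [hN, Matrix.sub_mulVec, Matrix.one_mulVec]; rfl
      rw [e, H55.G2.g2App_octSub, ← g2App_mul, hc, g2App_mul, hl, g2App_smul, smul_sub]
    set B : Matrix (Fin 2) (Fin 2) K :=
      !![(N *ᵥ Pi.single i 1) i, (N *ᵥ Pi.single j 1) i; (N *ᵥ Pi.single i 1) j, (N *ᵥ Pi.single j 1) j] with hB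
    have ei : N *ᵥ Pi.single i 1 = B 0 0 • Pi.single i 1 + B 1 0 • Pi.single j 1 := hmap i hi
    have ej : N *ᵥ Pi.single j 1 = B 0 1 • Pi.single i 1 + B 1 1 • Pi.single j 1 := hmap j hj
    have hpow : ∀ n : ℕ, N ^ n *ᵥ Pi.single i 1 = (B ^ n) 0 0 • Pi.single i 1 + (B ^ n) 1 0 • Pi.single j 1 ∧
        N ^ n *ᵥ Pi.single j 1 = (B ^ n) 0 1 • Pi.single i 1 + (B ^ n) 1 1 • Pi.single j 1 := by
      intro n
      induction n with
      | zero => constructor <;> ext l <;> simp [Matrix.one_apply, Pi.single_apply]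
      | succ n ih =>
        constructor
        · rw [pow_succ', ← Matrix.mulVec_mulVec, ih.1, Matrix.mulVec_add, Matrix.mulVec_smul, Matrix.mulVec_smul,
            ei, ej, pow_succ']
          simp only [Matrix.mul_apply, Fin.sum_univ_two]
          module
        · rw [pow_succ', ← Matrix.mulVec_mulVec, ih.2, Matrix.mulVec_add, Matrix.mulVec_smul, Matrix.mulVec_smul,
            ei, ej, pow_succ']
          simp only [Matrix.mul_apply, Fin.sum_univ_two]
          module
    have hBn : B ^ p ^ k = 0 := by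
      have h1 := (hpow (p ^ k)).1
      have h2 := (hpow (p ^ k)).2
      rw [hNk, Matrix.zero_mulVec] at h1 h2
      ext r s
      fin_cases r <;> fin_cases s
      · simpa [hij, hij.symm] using (congrFun h1 i).symm
      · simpa [hij, hij.symm] using (congrFun h2 i).symm
      · simpa [hij, hij.symm] using (congrFun h1 j).symm
      · simpa [hij, hij.symm] using (congrFun h2 j).symm
    have hB2 : B ^ 2 = 0 := by rw [pow_two]; exact diag_square_zero ⟨_, hBn⟩
    constructor
    · rw [(hpow 2).1, hB2]; simp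
    · rw [(hpow 2).2, hB2]; simp
  have hz : ∀ c t x : K, c ≠ t → c * x = t * x → x = 0 := fun c t x hct e => by
    by_contra hx
    exact hct (mul_right_cancel₀ hx e)
  have hsp : ∀ v : Fin 8 → K, g2App (sl3Hom D) v = b • v → v = v 2 • Pi.single 2 1 + v 6 • Pi.single 6 1 := by
    intro v hv
    rw [hDapp] at hv
    have h0 := congrFun hv 0; have h1 := congrFun hv 1; have h3 := congrFun hv 3
    have h4 := congrFun hv 4; have h5 := congrFun hv 5; have h7 := congrFun hv 7
    simp at h0 h1 h3 h4 h5 h7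
    have z0 := hz 1 b (v 0) hb1.symm (by rw [one_mul]; exact h0)
    have z1 := hz 1 b (v 1) hb1.symm (by rw [one_mul]; exact h1)
    have z3 := h3.resolve_left hbb.symm
    have z4 := hz 1 b (v 4) hb1.symm (by rw [one_mul]; exact h4)
    have z5 := h5.resolve_left hbb.symm
    have z7 := hz 1 b (v 7) hb1.symm (by rw [one_mul]; exact h7)
    funext i
    fin_cases i <;> simp [z0, z1, z3, z4, z5, z7]
  have hsp' : ∀ v : Fin 8 → K, g2App (sl3Hom D) v = b⁻¹ • v → v = v 3 • Pi.single 3 1 + v 5 • Pi.single 5 1 := by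
    intro v hv
    rw [hDapp] at hv
    have h0 := congrFun hv 0; have h1 := congrFun hv 1; have h2 := congrFun hv 2
    have h4 := congrFun hv 4; have h6 := congrFun hv 6; have h7 := congrFun hv 7
    simp at h0 h1 h2 h4 h6 h7
    have z0 := hz 1 b⁻¹ (v 0) hbi.symm (by rw [one_mul]; exact h0)
    have z1 := hz 1 b⁻¹ (v 1) hbi.symm (by rw [one_mul]; exact h1)
    have z2 := h2.resolve_left hbb
    have z4 := hz 1 b⁻¹ (v 4) hbi.symm (by rw [one_mul]; exact h4)
    have z6 := h6.resolve_left hbb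
    have z7 := hz 1 b⁻¹ (v 7) hbi.symm (by rw [one_mul]; exact h7)
    funext i
    fin_cases i <;> simp [z0, z1, z2, z4, z6, z7]
  have hE : ∀ l : Fin 8, g2App (sl3Hom D) (Pi.single l 1) =
      (![1, 1, b, b⁻¹, 1, b⁻¹, b, 1] l) • Pi.single l 1 := by
    intro l
    rw [hDapp]
    funext i
    fin_cases l <;> fin_cases i <;> simp
  obtain ⟨n2, n6⟩ := plane b 2 6 (by decide) hsp (hE 2) (hE 6)
  obtain ⟨n3, n5⟩ := plane b⁻¹ 3 5 (by decide) hsp' (hE 3) (hE 5)
  set U := u ^ p
  have hfix : ∀ v : Fin 8 → K, N ^ 2 *ᵥ v = 0 → g2App U v = v := by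
    intro v hv
    have e : N ^ p = M ^ p - 1 := by rw [hN, sub_pow_char_of_commute p (Commute.one_right M), one_pow]
    have h0 : N ^ p *ᵥ v = 0 := by
      rw [← Nat.sub_add_cancel (Fact.out : p.Prime).two_le, pow_add, ← Matrix.mulVec_mulVec, hv,
        Matrix.mulVec_zero]
    rw [e, Matrix.sub_mulVec, Matrix.one_mulVec, sub_eq_zero] at h0
    rw [g2App, SubgroupClass.coe_pow, Units.val_pow_eq_pow_val]
    exact h0
  have f2 := hfix _ n2
  have f3 := hfix _ n3
  have f5 := hfix _ n5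
  have f6 := hfix _ n6
  have prod : ∀ x y z : Fin 8 → K, g2App U x = x → g2App U y = y → zornMul x y = z → g2App U z = z :=
    fun x y z hx hy h => by rw [← h, g2App_zornMul, hx, hy]
  have p1 : zornMul (Pi.single 5 1 : Fin 8 → K) (Pi.single 6 1) = -Pi.single 1 1 := by
    funext i; fin_cases i <;> simp [zornMul, zA, zB, dot3, cross3]
  have p4 : zornMul (Pi.single 2 1 : Fin 8 → K) (Pi.single 3 1) = Pi.single 4 1 := by
    funext i; fin_cases i <;> simp [zornMul, zA, zB, dot3, cross3]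
  have p0 : zornMul (Pi.single 2 1 : Fin 8 → K) (Pi.single 5 1) = Pi.single 0 1 := by
    funext i; fin_cases i <;> simp [zornMul, zA, zB, dot3, cross3]
  have p7 : zornMul (Pi.single 5 1 : Fin 8 → K) (Pi.single 2 1) = Pi.single 7 1 := by
    funext i; fin_cases i <;> simp [zornMul, zA, zB, dot3, cross3]
  have f1 : g2App U (Pi.single 1 1) = Pi.single 1 1 := by
    have := prod _ _ _ f5 f6 p1
    rwa [H55.G2.g2App_neg, neg_inj] at this
  have f4 := prod _ _ _ f2 f3 p4
  have f0 := prod _ _ _ f2 f5 p0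
  have f7 := prod _ _ _ f5 f2 p7
  refine Subtype.ext (Units.ext (Matrix.ext_of_mulVec_single fun i => ?_))
  rw [OneMemClass.coe_one, Units.val_one, Matrix.one_mulVec]
  fin_cases i <;> assumption

end Cases

section Main

variable {F : Type*} [Field F] [Fintype F] {p : ℕ} [Fact p.Prime] [CharP F p]

theorem exists_bound_unipotent (g : G2 F) {k : ℕ} (hg : g ^ p ^ k = 1) : ∃ N, IsBound p (Fintype.card F) N ∧ g ^ N = 1 := by
  set M := ((g : GL (Fin 8) F) : Matrix (Fin 8) (Fin 8) F) with hMdef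
  have hMk : M ^ p ^ k = 1 := by
    rw [hMdef, ← Units.val_pow_eq_pow_val, ← SubgroupClass.coe_pow, hg, OneMemClass.coe_one, Units.val_one]
  have h8 : (M - 1) ^ 8 = 0 := unip_nilp p hMk
  have back : ∀ j : ℕ, M ^ p ^ j = 1 → g ^ p ^ j = 1 := fun j h =>
    Subtype.ext (Units.ext (by rw [SubgroupClass.coe_pow, Units.val_pow_eq_pow_val, ← hMdef, h,
      OneMemClass.coe_one, Units.val_one]))
  rcases (Fact.out : p.Prime).eq_two_or_odd' with rfl | hodd
  · exact ⟨8, Or.inr (Or.inl ⟨rfl, Or.inl rfl⟩), back 3 (pow_eq_one_of_sub 2 (by norm_num) h8)⟩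
  have h2 : (2 : F) ≠ 0 := by
    intro h
    have := (CharP.cast_eq_zero_iff F p 2).1 (by exact_mod_cast h)
    rw [(Nat.prime_dvd_prime_iff_eq Fact.out Nat.prime_two).1 this] at hodd
    exact (by decide : ¬ Odd 2) hodd
  have h7 : (M - 1) ^ 7 = 0 := by
    by_contra hne
    obtain ⟨v, hv⟩ : ∃ v, (M - 1) ^ 7 *ᵥ v ≠ 0 := by
      by_contra h
      push Not at h
      exact hne (Matrix.ext_of_mulVec_single fun i => by rw [h, Matrix.zero_mulVec])
    obtain ⟨c, hc⟩ := cyclic_expand h8 hv (octOne F)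
    have h1 : (M - 1) *ᵥ octOne F = 0 := by
      rw [Matrix.sub_mulVec, Matrix.one_mulVec, sub_eq_zero]
      exact g2App_octOne g
    have li := Fintype.linearIndependent_iff.1 (cyclic_li h8 hv)
      (Fin.cons 0 fun i : Fin 7 => c i.castSucc) (by
        rw [← hc, Matrix.mulVec_sum, Fin.sum_univ_castSucc] at h1
        rw [Fin.sum_univ_succ]
        simp only [Fin.cons_zero, Fin.cons_succ, zero_smul, zero_add, Matrix.mulVec_smul, Matrix.mulVec_mulVec,
          ← pow_succ', Fin.val_last, Fin.coe_castSucc] at h1 ⊢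
        rw [show (7 : ℕ) + 1 = 8 from rfl, h8, Matrix.zero_mulVec, smul_zero, add_zero] at h1
        simpa only [Fin.val_succ] using h1)
    have hcz : ∀ i : Fin 7, c i.castSucc = 0 := fun i => by simpa using li i.succ
    have e : octOne F = c (Fin.last 7) • ((M - 1) ^ 7 *ᵥ v) := by
      conv_lhs => rw [← hc, Fin.sum_univ_castSucc]
      simp [hcz]
    have ht : ∀ w, H55.G2.otr ((M - 1) *ᵥ w) = 0 := fun w => by
      rw [Matrix.sub_mulVec, Matrix.one_mulVec]
      have := (H55.G2.otr_onm_map g w).1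
      simp only [H55.G2.otr, Pi.sub_apply] at this ⊢
      rw [hMdef]
      change g2App g w 0 - w 0 + (g2App g w 7 - w 7) = 0
      linear_combination this
    apply h2
    rw [← otr_one (F := F), e, pow_succ', ← Matrix.mulVec_mulVec, ← Matrix.mulVec_smul, ht]
  by_cases hp7 : 7 ≤ p
  · refine ⟨p * (Fintype.card F + 1), Or.inl (by simp), ?_⟩
    have := back 1 (pow_eq_one_of_sub p (by rwa [pow_one]) h7)
    rw [pow_one] at this
    rw [pow_mul, this, one_pow]
  · have hp35 : p = 3 ∨ p = 5 := by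
      have h2 := (Fact.out : p.Prime).two_le
      have : p ≠ 4 := fun e => by rw [e] at hodd; exact (by decide : ¬ Odd 4) hodd
      have : p ≠ 6 := fun e => by rw [e] at hodd; exact (by decide : ¬ Odd 6) hodd
      have : p ≠ 2 := fun e => by rw [e] at hodd; exact (by decide : ¬ Odd 2) hodd
      omega
    refine ⟨p ^ 2, Or.inr (Or.inr ⟨hp35, rfl⟩), back 2 (pow_eq_one_of_sub p ?_ h7)⟩
    rcases hp35 with rfl | rfl <;> norm_num

theorem exists_bound_mixed (hq : 3 ≤ Fintype.card F) (s u : G2 F) (hsu : Commute s u) {m : ℕ}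
    (hs : s ^ m = 1) (hpm : ¬ p ∣ m) (hs1 : s ≠ 1) {k : ℕ} (hu : u ^ p ^ k = 1) :
    ∃ N, IsBound p (Fintype.card F) N ∧ (s * u) ^ N = 1 := by
  classical
  set q := Fintype.card F with hqdef
  have hq1 : 1 ≤ q := by omega
  let K := AlgebraicClosure F
  haveI : CharP K p := charP_of_injective_algebraMap (algebraMap F K).injective p
  let f := algebraMap F K
  have hm : (m : F) ≠ 0 := fun h => hpm ((CharP.cast_eq_zero_iff F p m).1 h)
  obtain ⟨h, A, hform, hAm⟩ := exists_sl3_form hq f s hs hm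
  have hAm' : A.1 ^ m = 1 := (Matrix.SpecialLinearGroup.coe_pow A m).symm.trans (congrArg Subtype.val hAm)
  -- transfer
  have hinj := mapG2_injective (F := F) f
  set u1 := h⁻¹ * mapG2 f u * h with hu1
  have hu1k : u1 ^ p ^ k = 1 := by
    have e := conj_pow (i := p ^ k) (a := h⁻¹) (b := mapG2 f u)
    rw [inv_inv] at e
    rw [hu1, e, ← map_pow, hu, map_one, mul_one, inv_mul_cancel]
  have hcomm : sl3Hom A * u1 = u1 * sl3Hom A := by
    have e := congrArg (mapG2 f) hsu.eq
    rw [map_mul, map_mul, hform] at e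
    rw [hu1]
    calc sl3Hom A * (h⁻¹ * mapG2 f u * h) = h⁻¹ * (h * sl3Hom A * h⁻¹ * mapG2 f u) * h := by group
      _ = h⁻¹ * (mapG2 f u * (h * sl3Hom A * h⁻¹)) * h := by rw [e]
      _ = _ := by group
  have sFrom : ∀ N, A.1 ^ N = 1 → s ^ N = 1 := fun N hN => hinj (by
    have hA' : A ^ N = 1 := Subtype.ext ((Matrix.SpecialLinearGroup.coe_pow A N).trans hN)
    rw [map_pow, hform, conj_pow, ← map_pow, hA', map_one, map_one, mul_one, mul_inv_cancel])
  have uFrom : ∀ N, u1 ^ N = 1 → u ^ N = 1 := fun N hN => hinj (by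
    have e : mapG2 f u = h * u1 * h⁻¹ := by rw [hu1]; group
    rw [map_pow, e, conj_pow, hN, map_one, mul_one, mul_inv_cancel])
  have combine : ∀ {i j N : ℕ}, IsBound p q N → s ^ i = 1 → u ^ j = 1 → i ∣ N → j ∣ N →
      ∃ N, IsBound p q N ∧ (s * u) ^ N = 1 := by
    intro i j N hN hi hj hdi hdj
    refine ⟨N, hN, ?_⟩
    obtain ⟨x, rfl⟩ := hdi
    obtain ⟨y, hy⟩ := hdj
    rw [hsu.mul_pow, pow_mul, hi, one_pow, one_mul, hy, pow_mul, hj, one_pow]
  have mixed : ∀ {i : ℕ}, (i = q - 1 ∨ i = q + 1) → s ^ i = 1 → u ^ p = 1 →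
      ∃ N, IsBound p q N ∧ (s * u) ^ N = 1 := by
    intro i hi hsi hup
    rcases hi with rfl | rfl
    · exact combine (N := p * (q - 1)) (Or.inl (by simp)) hsi hup (dvd_mul_left _ _) (dvd_mul_right _ _)
    · exact combine (N := p * (q + 1)) (Or.inl (by simp)) hsi hup (dvd_mul_left _ _) (dvd_mul_right _ _)
  -- Frobenius
  let σ : K →+* K := (FiniteField.frobeniusAlgHom F K).toRingHom
  have hσ : ∀ x, σ x = x ^ q := fun x => rfl
  have hσf : mapG2 σ (mapG2 f s) = mapG2 f s := by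
    refine Subtype.ext (Units.ext (Matrix.ext fun i j => ?_))
    rw [mapG2_apply, mapG2_apply, hσ, ← map_pow, hqdef, FiniteField.pow_card]
  set B := SpecialLinearGroup.map σ A with hBdef
  set w := h⁻¹ * mapG2 σ h with hw
  have hint : sl3Hom A * w = w * sl3Hom B := by
    rw [hform, map_mul, map_mul, map_inv, mapG2_sl3Hom, ← hBdef] at hσf
    rw [hw]
    calc sl3Hom A * (h⁻¹ * mapG2 σ h) = h⁻¹ * (h * sl3Hom A * h⁻¹) * mapG2 σ h := by group
      _ = h⁻¹ * (mapG2 σ h * sl3Hom B * (mapG2 σ h)⁻¹) * mapG2 σ h := by rw [hσf]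
      _ = _ := by group
  obtain ⟨a, b, c, hA, habc⟩ := exists_cubic A.1 A.2
  have hB : B.1.charpoly = cubic (a ^ q) (b ^ q) (c ^ q) := by
    show (A.1.map σ).charpoly = _
    rw [Matrix.charpoly_map, hA]
    simp [cubic, hσ]
  by_cases h1 : a = 1 ∨ b = 1 ∨ c = 1
  · -- some eigenvalue is one
    obtain ⟨b, hA, hb0⟩ : ∃ x, A.1.charpoly = cubic 1 x x⁻¹ ∧ x ≠ 0 := by
      rcases h1 with rfl | rfl | rfl
      · refine ⟨b, ?_, fun e => by simp [e] at habc⟩
        rw [hA, show b⁻¹ = c from inv_eq_of_mul_eq_one_right (by linear_combination habc)]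
      · refine ⟨a, ?_, fun e => by simp [e] at habc⟩
        rw [hA, show a⁻¹ = c from inv_eq_of_mul_eq_one_right (by linear_combination habc)]
        simp only [cubic, map_one]; ring
      · refine ⟨a, ?_, fun e => by simp [e] at habc⟩
        rw [hA, show a⁻¹ = b from inv_eq_of_mul_eq_one_right (by linear_combination habc)]
        simp only [cubic, map_one]; ring
    have hB : B.1.charpoly = cubic 1 (b ^ q) (b⁻¹ ^ q) := by
      show (A.1.map σ).charpoly = _
      rw [Matrix.charpoly_map, hA]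
      simp [cubic, hσ]
    have hb1 : b ≠ 1 := by
      intro e
      subst e
      apply hs1
      have := sFrom 1 (pow_eq_one_of_roots p hA hAm' hpm (by rw [pow_one]) (by rw [pow_one]) (by simp))
      rwa [pow_one] at this
    -- `b ^ q` is an eigenvalue of the element
    obtain ⟨v, hv0, hv⟩ := exists_eigvec (A := B.1) (x := b ^ q) (by rw [hB, cubic_eval]; ring)
    set z := g2App w (zVec 0 v 0 0)
    have hz : g2App (sl3Hom A) z = (b ^ q) • z := by
      rw [← g2App_mul, hint, g2App_mul, g2App_sl3Hom_zVec, hv, ← g2App_smul]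
      congr 1
      rw [zVec_smul, mul_zero, Matrix.mulVec_zero, smul_zero]
    have hz0 : z ≠ 0 := by
      intro e
      have := congrArg (g2App w⁻¹) e
      rw [g2App_inv, show g2App w⁻¹ (0 : Fin 8 → K) = 0 from Matrix.mulVec_zero _, ← zero_zVec] at this
      exact hv0 (zVec_inj.1 this).2.1
    have hbq : b ^ q = b ∨ b ^ q = b⁻¹ := by
      have hne : b ^ q ≠ 1 := fun e => hb1 ((FiniteField.frobeniusAlgHom F K).injective
        (show b ^ q = (1 : K) ^ q by rw [e, one_pow]))
      have hAinv : A.1.charpoly = cubic 1 b b⁻¹ := hA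
      rw [← zVec_eta z] at hz hz0
      rw [g2App_sl3Hom_zVec, zVec_smul] at hz
      obtain ⟨e0, ea, eb, e7⟩ := zVec_inj.1 hz
      have z0 : z 0 = 0 := by
        by_contra h0
        exact hne (mul_right_cancel₀ h0 (by rw [one_mul]; exact e0.symm))
      have z7 : z 7 = 0 := by
        by_contra h0
        exact hne (mul_right_cancel₀ h0 (by rw [one_mul]; exact e7.symm))
      by_cases ha : zA K z = 0
      · have hb' : zB K z ≠ 0 := fun hb' => hz0 (by rw [z0, z7, ha, hb', zero_zVec])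
        have := eval_eq_zero_of_eigvec hb' eb
        rw [cof_charpoly A hA (by rw [one_mul, mul_inv_cancel₀ hb0]), cubic_eval, inv_inv, inv_one] at this
        simp [sub_eq_zero, hne] at this
        tauto
      · have := eval_eq_zero_of_eigvec ha ea
        rw [hA, cubic_eval] at this
        simp [sub_eq_zero, hne] at this
        tauto
    have hN : ∃ i, (i = q - 1 ∨ i = q + 1) ∧ b ^ i = 1 := by
      rcases hbq with e | e
      · exact ⟨_, Or.inl rfl, pow_sub_one_of_fix hq1 hb0 e⟩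
      · exact ⟨_, Or.inr rfl, by rw [pow_succ, e, inv_mul_cancel₀ hb0]⟩
    obtain ⟨i, hi, hbi⟩ := hN
    have hsi : s ^ i = 1 := sFrom i (pow_eq_one_of_roots p hA hAm' hpm (one_pow _) hbi
      (by rw [inv_pow, hbi, inv_one]))
    refine mixed hi hsi ?_
    by_cases hbb : b = b⁻¹
    · -- `s` is an involution
      have hb2 : b ^ 2 = 1 := by
        rw [pow_two]
        nth_rewrite 2 [hbb]
        exact mul_inv_cancel₀ hb0
      have hs2 : s ^ 2 = 1 := sFrom 2 (pow_eq_one_of_roots p hA hAm' hpm (one_pow _) hb2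
        (by rw [inv_pow, hb2, inv_one]))
      have h2 : (2 : F) ≠ 0 := by
        intro h2
        have h2K : (2 : K) = 0 := by rw [← map_ofNat f 2, h2, map_zero]
        apply hb1
        have : (b - 1) ^ 2 = 0 := by linear_combination hb2 + (1 - b) * h2K
        exact sub_eq_zero.1 (pow_eq_zero_iff (by norm_num) |>.1 this)
      haveI : Fact (Nat.Prime 2) := ⟨Nat.prime_two⟩
      exact pow_p_of_comm_invol p h2 (orderOf_eq_prime hs2 hs1) hsu hu
    · have hd : b ≠ 1 ∧ b⁻¹ ≠ 1 := ⟨hb1, fun e => hb1 (inv_eq_one.1 e)⟩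
      obtain ⟨P, hP⟩ := exists_diag hA (Ne.symm hd.1) (Ne.symm hd.2) hbb
      set D := P⁻¹ * A * P with hDdef
      have hD : D.1 = diagonal ![1, b, b⁻¹] := by
        show (P⁻¹ : SpecialLinearGroup (Fin 3) K).1 * A.1 * P.1 = _
        rw [mul_assoc, hP, ← mul_assoc]
        rw [show (P⁻¹ : SpecialLinearGroup (Fin 3) K).1 * P.1 = 1 from congrArg Subtype.val (inv_mul_cancel P),
          one_mul]
      have hu2 := pow_p_of_comm_diag p hb0 hb1 hbb D hD ((sl3Hom P)⁻¹ * u1 * sl3Hom P) (by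
        rw [hDdef, map_mul, map_mul, map_inv]
        calc (sl3Hom P)⁻¹ * sl3Hom A * sl3Hom P * ((sl3Hom P)⁻¹ * u1 * sl3Hom P)
            = (sl3Hom P)⁻¹ * (sl3Hom A * u1) * sl3Hom P := by group
          _ = (sl3Hom P)⁻¹ * (u1 * sl3Hom A) * sl3Hom P := by rw [hcomm]
          _ = _ := by group) (k := k) (by
        have e := conj_pow (i := p ^ k) (a := (sl3Hom P)⁻¹) (b := u1)
        rw [inv_inv] at e
        rw [e, hu1k, mul_one, inv_mul_cancel])
      refine uFrom p ?_
      have e := conj_pow (i := p) (a := (sl3Hom P)⁻¹) (b := u1)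
      rw [inv_inv, hu2] at e
      exact conj_eq_one_iff.1 (by rw [inv_inv]; exact e.symm)
  · -- no eigenvalue is one
    push Not at h1
    obtain ⟨ha, hb, hc⟩ := h1
    have hmult : ({a ^ q, b ^ q, c ^ q} : Multiset K) = {a, b, c} ∨
        ({a ^ q, b ^ q, c ^ q} : Multiset K) = {a⁻¹, b⁻¹, c⁻¹} := by
      rcases intertwine A B hA habc ha hb hc w hint with ⟨W, -, e⟩ | ⟨W, -, e⟩
      · exact Or.inl (cubic_inj (by rw [← hA, ← hB, charpoly_of_intertwine W e]))
      · exact Or.inr (cubic_inj (by rw [← hB, ← charpoly_of_intertwine W e, cof_charpoly A hA habc]))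
    by_cases hu1' : u = 1
    · obtain ⟨N, hN, hNa, hNb, hNc⟩ := torus_exponent hq1 habc hmult
      exact combine (i := N) (j := 1) (N := N) (Or.inl (by rcases hN with rfl | rfl | rfl <;> simp))
        (sFrom N (pow_eq_one_of_roots p hA hAm' hpm hNa hNb hNc)) (by rw [hu1', one_pow]) dvd_rfl (one_dvd _)
    -- the unipotent part fixes the idempotents
    obtain ⟨U, hU, hAU⟩ : ∃ U : SpecialLinearGroup (Fin 3) K, u1 = sl3Hom U ∧ A.1 * U.1 = U.1 * A.1 := by
      rcases intertwine A A hA habc ha hb hc u1 hcomm with ⟨U, h1, h2⟩ | ⟨U, h1, h2⟩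
      · exact ⟨U, h1, h2⟩
      exfalso
      have hinv : ({a⁻¹, b⁻¹, c⁻¹} : Multiset K) = {a, b, c} :=
        cubic_inj (by rw [← cof_charpoly A hA habc, charpoly_of_intertwine U h2, hA])
      rcases (Fact.out : p.Prime).eq_two_or_odd' with rfl | hodd
      · have hmem : a⁻¹ ∈ ({a, b, c} : Multiset K) := hinv ▸ by simp
        have ha0 : a ≠ 0 := fun e => by simp [e] at habc
        simp at hmem
        rcases hmem with e | e | e
        · apply ha
          have h2K : (2 : K) = 0 := by exact_mod_cast CharP.cast_eq_zero K 2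
          have : (a - 1) ^ 2 = 0 := by
            have e' : a * a = 1 := by
              nth_rewrite 2 [← e]
              exact mul_inv_cancel₀ ha0
            linear_combination e' + (1 - a) * h2K
          exact sub_eq_zero.1 (pow_eq_zero_iff (by norm_num) |>.1 this)
        · exact hc (by rw [← e, mul_inv_cancel₀ ha0, one_mul] at habc; exact habc)
        · exact hb (by rw [← e, mul_right_comm, mul_inv_cancel₀ ha0, one_mul] at habc; exact habc)
      · have h0 : g2App u1 (zVec 1 0 0 0) = zVec 0 0 0 1 := by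
          rw [h1, g2App_mul, sl3Hom_e0, g2App_swapG_e0]
        have h7 : g2App u1 (zVec 0 0 0 1) = zVec 1 0 0 0 := by
          have e : (zVec 0 0 0 1 : Fin 8 → K) = octOne K - zVec 1 0 0 0 := by
            funext i; fin_cases i <;> simp [octOne, zVec]
          rw [e, H55.G2.g2App_octSub, g2App_octOne, h0, e, sub_sub_cancel]
        obtain ⟨r, hr⟩ := hodd.pow (n := k)
        have hev : ∀ j : ℕ, g2App (u1 ^ (2 * j)) (zVec 1 0 0 0) = zVec 1 0 0 0 := by
          intro j
          induction j with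
          | zero => rw [mul_zero, pow_zero, g2App_one]
          | succ j ih => rw [Nat.mul_succ, pow_add, g2App_mul, pow_two, g2App_mul, h0, h7, ih]
        have := congrArg (fun g => g2App g (zVec (1 : K) 0 0 0)) hu1k
        rw [hr, pow_succ', g2App_mul, hev, h0, g2App_one] at this
        simpa [zVec] using congrFun this 0
    have hUk : U.1 ^ p ^ k = 1 := by
      rw [hU, ← map_pow] at hu1k
      exact (Matrix.SpecialLinearGroup.coe_pow U _).symm.trans
        (congrArg Subtype.val (sl3Hom_injective (hu1k.trans (map_one sl3Hom).symm)))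
    have hUne : U.1 ≠ 1 := fun e => hu1' (by
      have := uFrom 1 (by rw [pow_one, hU, show U = 1 from Subtype.ext e, map_one])
      rwa [pow_one] at this)
    have huFrom : ∀ N, U.1 ^ N = 1 → u ^ N = 1 := fun N hN => uFrom N (by
      rw [hU, ← map_pow, show U ^ N = 1 from Subtype.ext ((Matrix.SpecialLinearGroup.coe_pow U N).trans hN),
        map_one])
    -- two eigenvalues coincide
    obtain ⟨x, z, hA', hxz⟩ : ∃ x z, A.1.charpoly = cubic x x z ∧ x * x * z = 1 := by
      by_contra hno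
      push Not at hno
      have hab : a ≠ b := fun e => hno a c (by rw [hA, e]) (by rw [← habc, e])
      have hac : a ≠ c := fun e => hno a b (by rw [hA, e]; simp [cubic]; ring) (by rw [← habc, e]; ring)
      have hbc : b ≠ c := fun e => hno b a (by rw [hA, e]; simp [cubic]; ring) (by rw [← habc, e]; ring)
      obtain ⟨P, hP⟩ := exists_diag hA hab hac hbc
      set U' := P⁻¹ * U * P
      have hPi : (P⁻¹ : SpecialLinearGroup (Fin 3) K).1 * P.1 = 1 := congrArg Subtype.val (inv_mul_cancel P)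
      have hPi' : P.1 * (P⁻¹ : SpecialLinearGroup (Fin 3) K).1 = 1 := congrArg Subtype.val (mul_inv_cancel P)
      have hd : Function.Injective ![a, b, c] := by
        intro i j e; fin_cases i <;> fin_cases j <;> simp_all
      have hUd : U'.1 = 1 := by
        refine eq_one_of_commute_diag p (d := ![a, b, c]) hd ?_ (k := k) ?_
        · have hdd : diagonal ![a, b, c] = (P⁻¹ : SpecialLinearGroup (Fin 3) K).1 * A.1 * P.1 := by
            rw [mul_assoc, hP, ← mul_assoc, hPi, one_mul]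
          rw [hdd]
          show (P⁻¹ : SpecialLinearGroup (Fin 3) K).1 * U.1 * P.1 * _ =
            _ * ((P⁻¹ : SpecialLinearGroup (Fin 3) K).1 * U.1 * P.1)
          simp only [mul_assoc]
          rw [← mul_assoc P.1 (P⁻¹ : SpecialLinearGroup (Fin 3) K).1, hPi', one_mul,
            ← mul_assoc P.1 (P⁻¹ : SpecialLinearGroup (Fin 3) K).1, hPi', one_mul, ← mul_assoc U.1, ← hAU,
            mul_assoc]
        · have e : U' ^ p ^ k = 1 := by
            have e := conj_pow (i := p ^ k) (a := P⁻¹) (b := U)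
            rw [inv_inv] at e
            rw [show U' = P⁻¹ * U * P from rfl, e,
              show U ^ p ^ k = 1 from Subtype.ext ((Matrix.SpecialLinearGroup.coe_pow U _).trans hUk),
              mul_one, inv_mul_cancel]
          exact (Matrix.SpecialLinearGroup.coe_pow U' _).symm.trans (congrArg Subtype.val e)
      have e : U = P * U' * P⁻¹ := by simp only [U']; group
      rw [show U' = 1 from Subtype.ext hUd, mul_one, mul_inv_cancel] at e
      exact hUne (congrArg Subtype.val e)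
    have hB' : B.1.charpoly = cubic (x ^ q) (x ^ q) (z ^ q) := by
      show (A.1.map σ).charpoly = _
      rw [Matrix.charpoly_map, hA']
      simp [cubic, hσ]
    have hxyz : ({x ^ q, x ^ q, z ^ q} : Multiset K) = {x, x, z} ∨
        ({x ^ q, x ^ q, z ^ q} : Multiset K) = {x⁻¹, x⁻¹, z⁻¹} := by
      rcases intertwine A B hA habc ha hb hc w hint with ⟨W, -, e⟩ | ⟨W, -, e⟩
      · exact Or.inl (cubic_inj (by rw [← hA', ← hB', charpoly_of_intertwine W e]))
      · exact Or.inr (cubic_inj (by rw [← hB', ← charpoly_of_intertwine W e, cof_charpoly A hA' hxz]))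
    obtain ⟨i, hi, hix, hiz⟩ := repeated_exponent hq1 hxz hxyz
    have hsi : s ^ i = 1 := sFrom i (pow_eq_one_of_roots p hA' hAm' hpm hix hix hiz)
    have hN3 : (U.1 - 1) ^ 3 = 0 := unip_nilp p hUk
    rcases (Fact.out : p.Prime).eq_two_or_odd' with rfl | hodd
    · by_cases hN2 : (U.1 - 1) ^ 2 = 0
      · exact mixed hi hsi (huFrom 2 (pow_eq_one_of_sub 2 (j := 1) (by norm_num) hN2))
      · obtain ⟨y, hy⟩ := commute_regular hN3 hN2 ((Commute.symm hAU).sub_left (Commute.one_left _))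
        have heq : ∀ r : K, A.1.charpoly.eval r = 0 → r = y := by
          intro r hr
          obtain ⟨v, hv0, hv⟩ := exists_eigvec hr
          have e : (A.1 - y • 1) *ᵥ v = (r - y) • v := by
            rw [Matrix.sub_mulVec, hv, Matrix.smul_mulVec, Matrix.one_mulVec, sub_smul]
          have e3 : (A.1 - y • 1) ^ 3 *ᵥ v = ((r - y) ^ 3) • v := by
            rw [pow_succ, pow_succ, pow_one, ← Matrix.mulVec_mulVec, ← Matrix.mulVec_mulVec, e,
              Matrix.mulVec_smul, e, Matrix.mulVec_smul, Matrix.mulVec_smul, e, smul_smul, smul_smul]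
            congr 1; ring
          rw [hy, Matrix.zero_mulVec, eq_comm, smul_eq_zero] at e3
          exact sub_eq_zero.1 (pow_eq_zero_iff (by norm_num) |>.1 (e3.resolve_right hv0))
        have hzx : z = x :=
          (heq z (by rw [hA', cubic_eval]; simp)).trans (heq x (by rw [hA', cubic_eval]; simp)).symm
        have hx3 : x ^ 3 = 1 := by rw [hzx] at hxz; linear_combination hxz
        exact combine (i := 3) (j := 4) (N := 12) (Or.inr (Or.inl ⟨rfl, Or.inr rfl⟩))
          (sFrom 3 (pow_eq_one_of_roots 2 hA' hAm' hpm hx3 hx3 (hzx ▸ hx3)))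
          (huFrom 4 (pow_eq_one_of_sub 2 (j := 2) (by norm_num) hN3)) (by norm_num) (by norm_num)
    · refine mixed hi hsi (huFrom p ?_)
      have h3 : 3 ≤ p ^ 1 := by
        rw [pow_one]
        have := (Fact.out : p.Prime).two_le
        have : p ≠ 2 := fun e => by rw [e] at hodd; exact (by decide : ¬ Odd 2) hodd
        omega
      have := pow_eq_one_of_sub p h3 hN3
      rwa [pow_one] at this

/-- The element orders of `G₂(q)` divide the listed numbers. -/
theorem exists_bound (hq : 3 ≤ Fintype.card F) (g : G2 F) :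
    ∃ N, IsBound p (Fintype.card F) N ∧ orderOf g ∣ N := by
  obtain ⟨k, m, hm, hn⟩ := Nat.exists_eq_pow_mul_and_not_dvd (orderOf_pos g).ne' p (Fact.out : p.Prime).ne_one
  have hcop : Nat.Coprime (p ^ k) m := Nat.Coprime.pow_left k ((Fact.out : p.Prime).coprime_iff_not_dvd.2 hm)
  set x := Nat.gcdA (p ^ k) m
  set y := Nat.gcdB (p ^ k) m
  have hbez : ((p ^ k : ℕ) : ℤ) * x + (m : ℤ) * y = 1 := by
    rw [← Nat.gcd_eq_gcd_ab, hcop.gcd_eq_one]; rfl
  set s := g ^ (((p ^ k : ℕ) : ℤ) * x) with hs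
  set u := g ^ ((m : ℤ) * y) with hu
  have hg : g = s * u := by rw [hs, hu, ← _root_.zpow_add, hbez, zpow_one]
  have hcomm : Commute s u := by rw [hs, hu]; exact Commute.zpow_zpow_self g _ _
  have hkill : ∀ z : ℤ, g ^ ((orderOf g : ℤ) * z) = 1 := fun z => by
    rw [_root_.zpow_mul, zpow_natCast, pow_orderOf_eq_one, _root_.one_zpow]
  have hsm : s ^ m = 1 := by
    rw [hs, ← zpow_natCast, ← _root_.zpow_mul, show ((p ^ k : ℕ) : ℤ) * x * (m : ℤ) = (orderOf g : ℤ) * x by
      rw [hn]; push_cast; ring, hkill]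
  have huk : u ^ p ^ k = 1 := by
    rw [hu, ← zpow_natCast, ← _root_.zpow_mul, show (m : ℤ) * y * ((p ^ k : ℕ) : ℤ) = (orderOf g : ℤ) * y by
      rw [hn]; push_cast; ring, hkill]
  obtain ⟨N, hN, hgN⟩ : ∃ N, IsBound p (Fintype.card F) N ∧ g ^ N = 1 := by
    by_cases hs1 : s = 1
    · rw [hs1, one_mul] at hg
      rw [hg]
      exact exists_bound_unipotent u huk
    · rw [hg]
      exact exists_bound_mixed hq s u hcomm hsm hm hs1 huk
  exact ⟨N, hN, orderOf_dvd_of_pow_eq_one hgN⟩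

end Main

end H56G2
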