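import Mathlib

/-!
Small facts about three by three matrices: nilpotent and unipotent matrices, eigenvectors, diagonal form for
distinct eigenvalues.
-/

set_option autoImplicit false
set_option linter.unusedSectionVars false
set_option linter.unusedSimpArgs false

namespace H56G2.Lin

open Matrix Polynomial

variable {K : Type*} [Field K]

theorem nilp_pow_card {n : ℕ} {N : Matrix (Fin n) (Fin n) K} (h : IsNilpotent N) : N ^ n = 0 := by
  have e := Matrix.isNilpotent_charpoly_sub_pow_of_isNilpotent h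
  rw [isNilpotent_iff_eq_zero, sub_eq_zero, Fintype.card_fin] at e
  have := Matrix.aeval_self_charpoly N
  rwa [e, map_pow, aeval_X] at this

theorem unip_sub_pow {n : ℕ} [NeZero n] (p : ℕ) [Fact p.Prime] [CharP K p] {U : Matrix (Fin n) (Fin n) K}
    {k : ℕ} (hU : U ^ p ^ k = 1) : (U - 1) ^ p ^ k = 0 := by
  rw [sub_pow_char_pow_of_commute p k (Commute.one_right U), hU, one_pow, sub_self]

theorem unip_nilp {n : ℕ} [NeZero n] (p : ℕ) [Fact p.Prime] [CharP K p] {U : Matrix (Fin n) (Fin n) K}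
    {k : ℕ} (hU : U ^ p ^ k = 1) : (U - 1) ^ n = 0 :=
  nilp_pow_card ⟨_, unip_sub_pow p hU⟩

theorem pow_eq_one_of_sub {n : ℕ} [NeZero n] (p : ℕ) [Fact p.Prime] [CharP K p]
    {U : Matrix (Fin n) (Fin n) K} {i j : ℕ} (hij : i ≤ p ^ j) (h : (U - 1) ^ i = 0) : U ^ p ^ j = 1 := by
  have h0 : (U - 1) ^ p ^ j = 0 := pow_eq_zero_of_le hij h
  rwa [sub_pow_char_pow_of_commute p j (Commute.one_right U), one_pow, sub_eq_zero] at h0

theorem cyclic_li {n : ℕ} {N : Matrix (Fin n) (Fin n) K} (hN : N ^ n = 0) {v : Fin n → K}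
    (hv : N ^ (n - 1) *ᵥ v ≠ 0) : LinearIndependent K fun i : Fin n => N ^ (i : ℕ) *ᵥ v := by
  rw [Fintype.linearIndependent_iff]
  intro c hc
  have key : ∀ k : ℕ, ∀ i : Fin n, (i : ℕ) = k → c i = 0 := by
    intro k
    induction k using Nat.strong_induction_on with
    | _ k ih =>
      intro i hi
      have e := congrArg (fun w => N ^ (n - 1 - k) *ᵥ w) hc
      simp only [Matrix.mulVec_sum, Matrix.mulVec_smul, Matrix.mulVec_mulVec, Matrix.mulVec_zero,
        ← pow_add] at e
      rw [Finset.sum_eq_single i] at e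
      · rw [show n - 1 - k + (i : ℕ) = n - 1 by have := i.isLt; omega] at e
        exact (smul_eq_zero.1 e).resolve_right hv
      · intro j _ hj
        have hj' : (j : ℕ) ≠ k := fun e' => hj (Fin.ext (e'.trans hi.symm))
        rcases lt_or_gt_of_ne hj' with h | h
        · rw [ih _ h j rfl, zero_smul]
        · rw [pow_eq_zero_of_le (by omega) hN, Matrix.zero_mulVec, smul_zero]
      · exact fun h => absurd (Finset.mem_univ i) h
  exact fun i => key _ i rfl

theorem cyclic_expand {n : ℕ} [NeZero n] {N : Matrix (Fin n) (Fin n) K} (hN : N ^ n = 0) {v : Fin n → K}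
    (hv : N ^ (n - 1) *ᵥ v ≠ 0) (x : Fin n → K) :
    ∃ c : Fin n → K, ∑ i : Fin n, c i • (N ^ (i : ℕ) *ᵥ v) = x := by
  have h := (cyclic_li hN hv).span_eq_top_of_card_eq_finrank (by simp)
  exact Submodule.mem_span_range_iff_exists_fun K |>.1 (h ▸ Submodule.mem_top)

/-- A matrix commuting with a regular nilpotent one is a polynomial in it. -/
theorem commute_regular {N A : Matrix (Fin 3) (Fin 3) K} (hN : N ^ 3 = 0) (hN2 : N ^ 2 ≠ 0)
    (hA : Commute N A) : ∃ x : K, (A - x • 1) ^ 3 = 0 := by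
  obtain ⟨v, hv⟩ : ∃ v, N ^ 2 *ᵥ v ≠ 0 := by
    by_contra h
    push Not at h
    exact hN2 (Matrix.ext_of_mulVec_single fun i => by rw [h, Matrix.zero_mulVec])
  obtain ⟨c, hc⟩ := cyclic_expand hN hv (A *ᵥ v)
  set T := c 0 • (1 : Matrix (Fin 3) (Fin 3) K) + c 1 • N + c 2 • N ^ 2 with hT
  have hTv : T *ᵥ v = A *ᵥ v := by
    rw [← hc, hT, Fin.sum_univ_three]
    simp [Matrix.add_mulVec, Matrix.smul_mulVec]
  have hTN : Commute N T :=
    (((Commute.one_right N).smul_right _).add_right ((Commute.refl N).smul_right _)).add_right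
      (((Commute.refl N).pow_right _).smul_right _)
  have e : A = T := by
    refine Matrix.ext_of_mulVec_single fun j => ?_
    obtain ⟨d, hd⟩ := cyclic_expand hN hv (Pi.single j 1)
    rw [← hd]
    simp only [Matrix.mulVec_sum, Matrix.mulVec_smul, Matrix.mulVec_mulVec]
    refine Finset.sum_congr rfl fun i _ => ?_
    rw [← (hA.pow_left _).eq, ← (hTN.pow_left _).eq, ← Matrix.mulVec_mulVec, ← Matrix.mulVec_mulVec, hTv]
  refine ⟨c 0, ?_⟩
  have hfac : A - c 0 • 1 = N * (c 1 • 1 + c 2 • N) := by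
    rw [e, hT, Matrix.mul_add, Matrix.mul_smul, Matrix.mul_smul, Matrix.mul_one, pow_two]
    abel
  rw [hfac, Commute.mul_pow (((Commute.one_right N).smul_right _).add_right ((Commute.refl N).smul_right _)),
    hN, zero_mul]

theorem det_scalar_sub (A : Matrix (Fin 3) (Fin 3) K) (x : K) :
    (Matrix.scalar (Fin 3) x - A).det = A.charpoly.eval x := by
  rw [Matrix.eval_charpoly]

theorem exists_eigvec {A : Matrix (Fin 3) (Fin 3) K} {x : K} (h : A.charpoly.eval x = 0) :
    ∃ v, v ≠ 0 ∧ A *ᵥ v = x • v := by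
  rw [← det_scalar_sub] at h
  obtain ⟨v, hv, e⟩ := Matrix.exists_mulVec_eq_zero_iff.2 h
  refine ⟨v, hv, ?_⟩
  rw [Matrix.sub_mulVec, sub_eq_zero, Matrix.scalar_apply] at e
  rw [← e]
  funext i
  simp [Matrix.mulVec_diagonal]

theorem eval_eq_zero_of_eigvec {A : Matrix (Fin 3) (Fin 3) K} {x : K} {v : Fin 3 → K} (hv : v ≠ 0)
    (h : A *ᵥ v = x • v) : A.charpoly.eval x = 0 := by
  rw [← det_scalar_sub]
  refine Matrix.exists_mulVec_eq_zero_iff.1 ⟨v, hv, ?_⟩
  rw [Matrix.sub_mulVec, h, sub_eq_zero, Matrix.scalar_apply]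
  funext i
  simp [Matrix.mulVec_diagonal]

/-- The monic cubic with given roots. -/
noncomputable def cubic (a b c : K) : K[X] := (X - C a) * (X - C b) * (X - C c)

theorem cubic_eval (a b c x : K) : (cubic a b c).eval x = (x - a) * (x - b) * (x - c) := by simp [cubic]

theorem cubic_roots (a b c : K) : (cubic a b c).roots = {a, b, c} := by
  have h := roots_multiset_prod_X_sub_C ({a, b, c} : Multiset K)
  rw [← h]
  congr 1
  simp [cubic, mul_assoc]

theorem cubic_inj {a b c x y z : K} (h : cubic a b c = cubic x y z) :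
    ({a, b, c} : Multiset K) = {x, y, z} := by
  rw [← cubic_roots a b c, h, cubic_roots]

theorem exists_cubic [IsAlgClosed K] (A : Matrix (Fin 3) (Fin 3) K) (hA : A.det = 1) :
    ∃ a b c, A.charpoly = cubic a b c ∧ a * b * c = 1 := by
  have hs := IsAlgClosed.splits A.charpoly
  have hm := Matrix.charpoly_monic A
  have e := hs.eq_prod_roots_of_monic hm
  have hcard : A.charpoly.roots.card = 3 := by
    rw [← hs.natDegree_eq_card_roots, Matrix.charpoly_natDegree_eq_dim, Fintype.card_fin]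
  obtain ⟨a, b, c, h⟩ := Multiset.card_eq_three.1 hcard
  refine ⟨a, b, c, ?_, ?_⟩
  · rw [e, h]; simp [cubic, mul_assoc]
  · have := Matrix.det_eq_prod_roots_charpoly A
    rw [hA, h] at this
    simp at this
    rw [mul_assoc]; exact this.symm

theorem perm3 {x y z a b c : K} (h : ({x, y, z} : Multiset K) = {a, b, c}) :
    (x = a ∧ y = b ∧ z = c) ∨ (x = a ∧ y = c ∧ z = b) ∨ (x = b ∧ y = a ∧ z = c) ∨
    (x = b ∧ y = c ∧ z = a) ∨ (x = c ∧ y = a ∧ z = b) ∨ (x = c ∧ y = b ∧ z = a) := by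
  classical
  have pair : ∀ {y z b c : K}, ({y, z} : Multiset K) = {b, c} → (y = b ∧ z = c) ∨ (y = c ∧ z = b) := by
    intro y z b c h
    have hy : y ∈ ({b, c} : Multiset K) := h ▸ by simp
    simp only [Multiset.insert_eq_cons, Multiset.mem_cons, Multiset.mem_singleton] at hy h
    rcases hy with rfl | rfl
    · exact Or.inl ⟨rfl, by simpa using h⟩
    · rw [show b ::ₘ ({y} : Multiset K) = y ::ₘ ({b} : Multiset K) from Multiset.pair_comm b y] at h
      exact Or.inr ⟨rfl, by simpa using h⟩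
  simp only [Multiset.insert_eq_cons] at h
  have hx : x ∈ (a ::ₘ b ::ₘ ({c} : Multiset K)) := h ▸ by simp
  simp only [Multiset.mem_cons, Multiset.mem_singleton] at hx
  rcases hx with rfl | rfl | rfl
  · rcases pair ((Multiset.cons_inj_right x).1 h) with ⟨h1, h2⟩ | ⟨h1, h2⟩ <;> simp [h1, h2]
  · rw [Multiset.cons_swap a] at h
    rcases pair ((Multiset.cons_inj_right x).1 h) with ⟨h1, h2⟩ | ⟨h1, h2⟩ <;> simp [h1, h2]
  · rw [show a ::ₘ b ::ₘ ({x} : Multiset K) = x ::ₘ a ::ₘ ({b} : Multiset K) by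
      rw [← Multiset.cons_zero x, ← Multiset.cons_zero b, Multiset.cons_swap b, Multiset.cons_swap a]] at h
    rcases pair ((Multiset.cons_inj_right x).1 h) with ⟨h1, h2⟩ | ⟨h1, h2⟩ <;> simp [h1, h2]

/-- Coprime finite order: a power is trivial when it is trivial on the roots. -/
theorem pow_eq_one_of_roots (p : ℕ) [Fact p.Prime] [CharP K p] {A : Matrix (Fin 3) (Fin 3) K} {a b c : K}
    (hA : A.charpoly = cubic a b c) {m : ℕ} (hm : A ^ m = 1) (hpm : ¬ p ∣ m) {N : ℕ}
    (ha : a ^ N = 1) (hb : b ^ N = 1) (hc : c ^ N = 1) : A ^ N = 1 := by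
  have hd : ∀ x : K, x ^ N = 1 → X - C x ∣ (X ^ N - 1 : K[X]) := fun x hx => by
    rw [dvd_iff_isRoot]; simp [hx]
  have hdvd : A.charpoly ∣ (X ^ N - 1 : K[X]) ^ 3 := by
    rw [hA, cubic, pow_succ, pow_two]
    exact mul_dvd_mul (mul_dvd_mul (hd a ha) (hd b hb)) (hd c hc)
  obtain ⟨R, hR⟩ := hdvd
  have h3 : (A ^ N - 1) ^ 3 = 0 := by
    have := congrArg (aeval A) hR
    simpa [Matrix.aeval_self_charpoly] using this
  have hp2 : 3 ≤ p ^ 2 := by have := (Fact.out : p.Prime).two_le; nlinarith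
  have h1 : orderOf (A ^ N) ∣ p ^ 2 := orderOf_dvd_of_pow_eq_one (pow_eq_one_of_sub p hp2 h3)
  have h2 : orderOf (A ^ N) ∣ m := orderOf_dvd_of_pow_eq_one (by
    rw [← pow_mul, mul_comm, pow_mul, hm, one_pow])
  have h4 := Nat.dvd_gcd h1 h2
  rw [Nat.Coprime.gcd_eq_one (Nat.Coprime.pow_left 2 ((Fact.out : p.Prime).coprime_iff_not_dvd.2 hpm))] at h4
  exact orderOf_eq_one_iff.1 (Nat.dvd_one.1 h4)

/-- Distinct eigenvalues: a diagonalising matrix of determinant one. -/
theorem exists_diag {A : Matrix (Fin 3) (Fin 3) K} {a b c : K} (hA : A.charpoly = cubic a b c)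
    (hab : a ≠ b) (hac : a ≠ c) (hbc : b ≠ c) :
    ∃ P : Matrix.SpecialLinearGroup (Fin 3) K, A * P.1 = P.1 * diagonal ![a, b, c] := by
  have hroot : ∀ i, A.charpoly.eval (![a, b, c] i) = 0 := fun i => by
    rw [hA, cubic_eval]; fin_cases i <;> simp
  choose v hv0 hv using fun i => exists_eigvec (hroot i)
  have hinj : Function.Injective ![a, b, c] := by
    intro i j e; fin_cases i <;> fin_cases j <;> simp_all
  have hli : LinearIndependent K v :=
    Module.End.eigenvectors_linearIndependent' A.mulVecLin ![a, b, c] hinj v fun i =>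
      ⟨Module.End.mem_eigenspace_iff.2 (hv i), hv0 i⟩
  set M : Matrix (Fin 3) (Fin 3) K := (Matrix.of v)ᵀ with hMdef
  have hu : IsUnit M := Matrix.linearIndependent_cols_iff_isUnit.1 (by rw [hMdef]; exact hli)
  have hd : M.det ≠ 0 := ((Matrix.isUnit_iff_isUnit_det M).1 hu).ne_zero
  set D : Matrix (Fin 3) (Fin 3) K := diagonal ![M.det⁻¹, 1, 1] with hD
  refine ⟨⟨M * D, by simp [det_mul, hD, det_diagonal, Fin.prod_univ_three, hd]⟩, ?_⟩
  show A * (M * D) = M * D * _
  have h1 : A * M = M * diagonal ![a, b, c] := by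
    ext i j
    rw [Matrix.mul_diagonal]
    have e := congrFun (hv j) i
    simpa [hMdef, Matrix.mul_apply, Matrix.mulVec, dotProduct, mul_comm] using e
  rw [← mul_assoc, h1, mul_assoc, mul_assoc, hD, diagonal_mul_diagonal, diagonal_mul_diagonal]
  simp only [mul_comm]

/-- A unipotent matrix commuting with a diagonal one with distinct entries is trivial. -/
theorem eq_one_of_commute_diag (p : ℕ) [Fact p.Prime] [CharP K p] {U : Matrix (Fin 3) (Fin 3) K}
    {d : Fin 3 → K} (hd : Function.Injective d) (hc : U * diagonal d = diagonal d * U) {k : ℕ}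
    (hU : U ^ p ^ k = 1) : U = 1 := by
  have hdiag : U = diagonal fun i => U i i := by
    ext i j
    by_cases h : i = j
    · subst h; simp
    · have e := congrFun (congrFun hc i) j
      rw [Matrix.mul_diagonal, Matrix.diagonal_mul] at e
      have : U i j * (d j - d i) = 0 := by linear_combination e
      rw [diagonal_apply_ne _ h]
      exact (mul_eq_zero.1 this).resolve_right (sub_ne_zero.2 fun e => h (hd e).symm)
  rw [hdiag, diagonal_pow, ← diagonal_one] at hU
  have hval := diagonal_injective hU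
  rw [hdiag, ← diagonal_one]
  congr 1
  funext i
  have h := congrFun hval i
  simp only [Pi.pow_apply] at h
  have h0 : (U i i - 1) ^ p ^ k = 0 := by rw [sub_pow_char_pow, h, one_pow, sub_self]
  exact sub_eq_zero.1 (pow_eq_zero_iff (pow_ne_zero _ (Fact.out : p.Prime).ne_zero) |>.1 h0)

end H56G2.Lin
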