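import Cfsg.Agent.H56.G2Map
import Cfsg.Agent.H56.G2Singer
import Cfsg.Agent.H50.PSU3Orders

/-!
Elements of the maximal orders in the automorphism group of the split octonions over a finite field.
-/

set_option autoImplicit false
set_option linter.unusedSectionVars false
set_option linter.unusedSimpArgs false

namespace H56G2

open Cfsg Cfsg.Lie Matrix H18

variable {F : Type*} [Field F] [Fintype F]

section Unitary

variable {K : Type*} [Field K] [Fintype K] [Algebra F K] {q : ℕ}
  (hF : Fintype.card F = q) (hK : Fintype.card K = q ^ 2)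
include hF hK

theorem mem_base_of_fixed {x : K} (hx : x ^ q = x) : ∃ y : F, algebraMap F K y = x := by
  classical
  by_contra hno
  push Not at hno
  have h1q : 1 < q := hF ▸ Fintype.one_lt_card
  have hne := FiniteField.X_pow_card_sub_X_ne_zero K h1q
  have hsub : insert x (Finset.univ.image (algebraMap F K)) ⊆
      (Polynomial.X ^ q - Polynomial.X : Polynomial K).roots.toFinset := by
    intro z hz
    rw [Multiset.mem_toFinset, Polynomial.mem_roots hne]
    rcases Finset.mem_insert.1 hz with rfl | hz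
    · simp [hx]
    · obtain ⟨y, -, rfl⟩ := Finset.mem_image.1 hz
      simp only [Polynomial.IsRoot, Polynomial.eval_sub, Polynomial.eval_pow, Polynomial.eval_X]
      rw [← map_pow, ← hF, FiniteField.pow_card, sub_self]
  have h := (Finset.card_le_card hsub).trans
    ((Multiset.toFinset_card_le _).trans (Polynomial.card_roots' _))
  rw [Finset.card_insert_of_notMem (by simpa using hno),
    Finset.card_image_of_injective _ (algebraMap F K).injective, Finset.card_univ,
    FiniteField.X_pow_card_sub_X_natDegree_eq K h1q, hF] at h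
  omega

/-- The special unitary group of degree three inside the automorphism group. -/
theorem exists_su3_hom : ∃ Φ : SU 3 K q →* G2 F, Function.Injective Φ := by
  classical
  obtain ⟨h, hh⟩ := exists_trivialising hK
  have hsi : (swapG K)⁻¹ = swapG K := inv_eq_of_mul_eq_one_left swapG_mul_self
  have hfix : ∀ A : SU 3 K q, mapG2 (H51.qFrob hK) (h * sl3Hom A.1 * h⁻¹) = h * sl3Hom A.1 * h⁻¹ := by
    intro A
    rw [map_mul, map_mul, map_inv, mapG2_sl3Hom, hh, _root_.mul_inv_rev, hsi]
    set B := SpecialLinearGroup.map (H51.qFrob hK) A.1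
    have hB : (⟨cof3 B.1, det_cof3 B.1 B.2⟩ : SpecialLinearGroup (Fin 3) K) = A.1 := by
      refine Subtype.ext ?_
      show B.1.adjugateᵀ = A.1.1
      have h1 : B.1ᵀ * A.1.1 = 1 := H50.Spec3.adj_suMat hK A
      have h2 : B.1.adjugateᵀ * B.1ᵀ = 1 := by
        rw [← Matrix.transpose_mul, Matrix.mul_adjugate, B.2, one_smul, Matrix.transpose_one]
      exact left_inv_eq_right_inv h2 h1
    calc h * swapG K * sl3Hom B * (swapG K * h⁻¹) = h * (swapG K * sl3Hom B * swapG K) * h⁻¹ := by
          simp only [mul_assoc]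
      _ = _ := by rw [swapG_conj_sl3, hB]
  have hex : ∀ A : SU 3 K q, ∃ g0 : G2 F, mapG2 (algebraMap F K) g0 = h * sl3Hom A.1 * h⁻¹ :=
    fun A => exists_mapG2_of_range _ _ fun i j => mem_base_of_fixed hF hK (by
      have e := mapG2_apply (H51.qFrob hK) (h * sl3Hom A.1 * h⁻¹) i j
      rw [hfix A] at e
      exact e.symm)
  choose f hf using hex
  refine ⟨MonoidHom.mk' f fun A B => mapG2_injective (algebraMap F K) ?_, fun A B e => ?_⟩
  · rw [map_mul, hf, hf, hf]
    show h * sl3Hom (A.1 * B.1) * h⁻¹ = _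
    rw [map_mul]
    group
  · have e' : mapG2 (algebraMap F K) (f A) = mapG2 (algebraMap F K) (f B) := congrArg _ e
    rw [hf, hf] at e'
    exact Subtype.ext (sl3Hom_injective (mul_left_cancel (mul_right_cancel e')))

end Unitary

section SU

variable {K : Type*} [Field K] [Fintype K] {q : ℕ} (hK : Fintype.card K = q ^ 2)
include hK

theorem orderOf_of_frame {g : SU 3 K q} {D : Matrix (Fin 3) (Fin 3) K}
    (hg : ∀ (k : ℕ) (l : K), H50.suMat (g ^ k) = l • 1 ↔ D ^ k = l • 1) : orderOf g = orderOf D := by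
  refine orderOf_eq_orderOf_iff.2 fun k => ?_
  have e := hg k 1
  rw [one_smul] at e
  constructor
  · intro h
    rw [← e, h, H50.suMat_one]
  · intro h
    exact H50.SU_ext (e.2 h)

theorem exists_su_order_torus : ∃ g : SU 3 K q, orderOf g = q ^ 2 - 1 := by
  obtain ⟨a, ha0, ha⟩ := H50.Spec3.exists_order_pow_sub_one (F := K) (n := q ^ 2 - 1)
    (by rw [Nat.card_eq_fintype_card, hK])
  obtain ⟨P, hPd, hP⟩ := H50.Spec3.exists_frame hK
  have haq : a ^ q ≠ 0 := pow_ne_zero _ ha0
  have hqq := H50.pow_q_pow_q hK a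
  obtain ⟨g, hg⟩ := H50.Spec3.exists_of_frame_matrix hK P (diagonal ![a, (a ^ q)⁻¹, a ^ q * a⁻¹]) hPd
    (by
      rw [hP]
      ext i j
      simp only [Matrix.mul_diagonal, Matrix.mul_apply, Fin.sum_univ_three, H51.adj_apply]
      fin_cases i <;> fin_cases j <;>
        simp [diagonal, H50.q_ne_zero hK, ha0, haq, inv_pow, mul_pow, hqq]
      all_goals field_simp)
    (by simp [det_diagonal, Fin.prod_univ_three]; field_simp)
  refine ⟨g, (orderOf_of_frame hK hg).trans ?_⟩
  refine (orderOf_eq_orderOf_iff.2 fun k => ?_).trans ha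
  rw [diagonal_pow, ← diagonal_one]
  constructor
  · intro h
    simpa using congrFun (diagonal_injective h) 0
  · intro h
    have h' : (a ^ q) ^ k = 1 := by rw [pow_right_comm, h, one_pow]
    congr 1
    funext i
    fin_cases i <;> simp [inv_pow, mul_pow, h, h']

theorem exists_su_order_mixed (p : ℕ) [Fact p.Prime] [CharP K p] :
    ∃ g : SU 3 K q, orderOf g = p * (q + 1) := by
  obtain ⟨a, ha0, ha⟩ := H50.Spec3.exists_order_mu hK
  have haN : a ^ (q + 1) = 1 := ha ▸ pow_orderOf_eq_one a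
  have haq : a ^ q * a = 1 := by rw [← pow_succ, haN]
  obtain ⟨c, hc0, hc⟩ := H50.exists_trace_zero_ne_zero hK
  obtain ⟨P, hPd, hP⟩ := H50.Spec3.exists_frame hK
  set b := (a ^ 2)⁻¹ with hb
  have hbq : b ^ q * b = 1 := by
    rw [hb, inv_pow, ← mul_inv, pow_right_comm, ← mul_pow, haq, one_pow, inv_one]
  have hcq : c ^ q = -c := by linear_combination hc
  obtain ⟨g, hg⟩ := H50.Spec3.exists_of_frame_matrix hK P !![a, a * c, 0; 0, a, 0; 0, 0, b] hPd
    (by
      rw [hP]
      ext i j
      simp only [Matrix.mul_apply, Fin.sum_univ_three, H51.adj_apply]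
      fin_cases i <;> fin_cases j <;> simp [H50.q_ne_zero hK, mul_pow, hcq, haq, hbq]
      all_goals first
        | ring1
        | linear_combination c * haq)
    (by rw [Matrix.det_fin_three]; simp [hb]; field_simp)
  have hpow : ∀ j : ℕ, (!![a, a * c, 0; 0, a, 0; 0, 0, b] : Matrix (Fin 3) (Fin 3) K) ^ j =
      !![a ^ j, (j : K) * (a ^ j * c), 0; 0, a ^ j, 0; 0, 0, b ^ j] := by
    intro j
    induction j with
    | zero => ext i k; fin_cases i <;> fin_cases k <;> simp
    | succ j ih =>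
      rw [pow_succ, ih]
      ext i k
      fin_cases i <;> fin_cases k <;>
        simp [Matrix.mul_apply, Fin.sum_univ_three, pow_succ] <;> ring
  refine ⟨g, (orderOf_of_frame hK hg).trans ?_⟩
  have hcop : Nat.Coprime p (q + 1) := by
    refine (Fact.out : p.Prime).coprime_iff_not_dvd.2 fun hd => ?_
    have h2 : p ∣ q := by
      have h : ((q ^ 2 : ℕ) : K) = 0 := by rw [← hK, Nat.cast_card_eq_zero]
      rw [CharP.cast_eq_zero_iff K p] at h
      exact (Fact.out : p.Prime).dvd_of_dvd_pow h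
    exact (Fact.out : p.Prime).one_lt.ne' (Nat.dvd_one.1 ((Nat.dvd_add_right h2).1 hd))
  refine Nat.dvd_antisymm (orderOf_dvd_of_pow_eq_one ?_) (hcop.mul_dvd_of_dvd_of_dvd ?_ ?_)
  · have h1 : a ^ (p * (q + 1)) = 1 := by rw [mul_comm, pow_mul, haN, one_pow]
    have h2 : b ^ (p * (q + 1)) = 1 := by rw [hb, inv_pow, pow_right_comm, h1, one_pow, inv_one]
    rw [hpow, Nat.cast_mul, CharP.cast_eq_zero K p, h1, h2]
    ext i j; fin_cases i <;> fin_cases j <;> simp
  all_goals
    have h := pow_orderOf_eq_one (!![a, a * c, 0; 0, a, 0; 0, 0, b] : Matrix (Fin 3) (Fin 3) K)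
    rw [hpow] at h
    have h00 := congrFun (congrFun h 0) 0
    have h01 := congrFun (congrFun h 0) 1
    simp at h00 h01
  · rw [← CharP.cast_eq_zero_iff K p]
    rcases h01 with h' | h'
    · exact h'
    · rcases h' with ⟨h', -⟩ | h'
      · exact absurd h' ha0
      · exact absurd h' hc0
  · exact ha ▸ orderOf_dvd_of_pow_eq_one h00

theorem exists_su_order_cubic (hq : 3 ≤ q) : ∃ g : SU 3 K q, orderOf g = q ^ 2 - q + 1 := by
  classical
  obtain ⟨g, hg⟩ := H50.Spec3.order_torus_three hK hq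
  have hle : q ≤ q ^ 2 := Nat.le_self_pow (by norm_num) q
  set m := q ^ 2 - q + 1 with hm
  have hdvd : m / Nat.gcd 3 (q + 1) ∣ orderOf g := hg ▸ orderOf_map_dvd _ g
  obtain ⟨N, hN⟩ := hdvd
  set g1 := g ^ N
  have hg1 : orderOf (g ^ (orderOf g / (m / Nat.gcd 3 (q + 1)))) = m / Nat.gcd 3 (q + 1) :=
    orderOf_pow_orderOf_div (orderOf_pos g).ne' ⟨N, hN⟩
  rcases (Nat.dvd_prime Nat.prime_three).1 (Nat.gcd_dvd_left 3 (q + 1)) with h | h
  · exact ⟨_, hg1.trans (by rw [h, Nat.div_one])⟩
  · rw [h] at hg1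
    have h3 : 3 ∣ q + 1 := h ▸ Nat.gcd_dvd_right 3 (q + 1)
    obtain ⟨z, hz0, hz⟩ := H50.Spec3.exists_order_pow_sub_one (F := K) (n := 3) (by
      rw [Nat.card_eq_fintype_card, hK]
      exact h3.trans ⟨q - 1, by rw [← Nat.sq_sub_sq, one_pow]⟩)
    have hz3 : z ^ 3 = 1 := hz ▸ pow_orderOf_eq_one z
    have hzq : z ^ q * z = 1 := by
      rw [← pow_succ]
      obtain ⟨k, hk⟩ := h3
      rw [hk, pow_mul, hz3, one_pow]
    let s : SU 3 K q := H50.mkSU (z • 1)
      (fun x y => by
        rw [H50.h_mulVec_left hK, mulVec_mulVec, H51.adj_smul, H51.adj_one, smul_mul_smul_comm, hzq,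
          one_mul, one_smul, one_mulVec])
      (by rw [det_smul, det_one, Fintype.card_fin, hz3, mul_one])
    have hs : orderOf s = 3 := by
      refine (orderOf_eq_orderOf_iff.2 fun k => ?_).trans hz
      have e : ∀ k : ℕ, H50.suMat (s ^ k) = (z ^ k) • 1 := fun k => by
        rw [H50.Spec3.suMat_pow]
        show (z • (1 : Matrix (Fin 3) (Fin 3) K)) ^ k = _
        rw [smul_pow, one_pow]
      constructor
      · intro hk
        have := e k
        rw [hk, H50.suMat_one] at this
        simpa using (congrFun (congrFun this 0) 0).symm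
      · intro hk
        refine H50.SU_ext ((e k).trans ?_)
        rw [hk, one_smul]
        rfl
    have hm3 : ¬ 3 ∣ m / 3 := by
      obtain ⟨j, rfl⟩ : ∃ j, q = 3 * j + 2 := ⟨q / 3, by omega⟩
      have e : (3 * j + 2) ^ 2 = 3 * (3 * (j * j + j)) + (3 * j + 2) + 2 := by ring
      omega
    have hc : Commute s (g ^ (orderOf g / (m / 3))) := by
      have := (H50.mem_center_iff_scalar hK (n := 3) (g := s) (by norm_num)).2 ⟨z, rfl⟩
      exact (Subgroup.mem_center_iff.1 this _).symm
    refine ⟨s * g ^ (orderOf g / (m / 3)), ?_⟩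
    rw [hc.orderOf_mul_eq_mul_orderOf_of_coprime (by
      rw [hs, hg1]; exact Nat.prime_three.coprime_iff_not_dvd.2 hm3), hs, hg1,
      Nat.mul_div_cancel' (h ▸ H50.Spec3.gcd_dvd_cyc)]

end SU

variable {p a : ℕ} [hp : Fact p.Prime] [CharP F p]

theorem exists_order_split (hq : 3 ≤ Fintype.card F) :
    ∃ g : G2 F, orderOf g = p * (Fintype.card F - 1) := by
  obtain ⟨a, ha0, ha⟩ := H50.Spec3.exists_order_pow_sub_one (F := F) (n := Fintype.card F - 1)
    (by rw [Nat.card_eq_fintype_card])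
  let D : SpecialLinearGroup (Fin 3) F := ⟨!![a, a, 0; 0, a, 0; 0, 0, (a ^ 2)⁻¹], by
    rw [Matrix.det_fin_three]; simp; field_simp⟩
  have hpow : ∀ j : ℕ, D.1 ^ j =
      !![a ^ j, (j : F) * a ^ j, 0; 0, a ^ j, 0; 0, 0, ((a ^ 2)⁻¹) ^ j] := by
    intro j
    induction j with
    | zero => ext i k; fin_cases i <;> fin_cases k <;> simp
    | succ j ih =>
      rw [pow_succ, ih]
      ext i k
      fin_cases i <;> fin_cases k <;>
        simp [D, Matrix.mul_apply, Fin.sum_univ_three, pow_succ] <;> ring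
  refine ⟨sl3Hom D, (orderOf_injective _ sl3Hom_injective _).trans ?_⟩
  have hcop : Nat.Coprime p (Fintype.card F - 1) := by
    refine hp.out.coprime_iff_not_dvd.2 fun hd => ?_
    have h2 : p ∣ Fintype.card F := (CharP.cast_eq_zero_iff F p _).1 (Nat.cast_card_eq_zero F)
    have := Nat.dvd_sub h2 hd
    rw [Nat.sub_sub_self (by omega)] at this
    exact hp.out.one_lt.ne' (Nat.dvd_one.1 this)
  refine Nat.dvd_antisymm (orderOf_dvd_of_pow_eq_one ?_) (hcop.mul_dvd_of_dvd_of_dvd ?_ ?_)
  · have h1 : a ^ (p * (Fintype.card F - 1)) = 1 := by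
      rw [mul_comm, pow_mul, ← ha, pow_orderOf_eq_one, one_pow]
    refine Subtype.ext ((Matrix.SpecialLinearGroup.coe_pow D _).trans ?_)
    rw [hpow, Nat.cast_mul, CharP.cast_eq_zero F p, h1, inv_pow,
      pow_right_comm, h1]
    refine Eq.trans ?_ Matrix.SpecialLinearGroup.coe_one.symm
    ext i j; fin_cases i <;> fin_cases j <;> simp
  all_goals
    have h : D.1 ^ orderOf D = 1 :=
      (Matrix.SpecialLinearGroup.coe_pow D _).symm.trans (congrArg Subtype.val (pow_orderOf_eq_one D))
    rw [hpow] at h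
    have h00 := congrFun (congrFun h 0) 0
    have h01 := congrFun (congrFun h 0) 1
    simp at h00 h01
  · rw [← CharP.cast_eq_zero_iff F p]
    exact h01.resolve_right fun h => ha0 h.1
  · exact ha ▸ orderOf_dvd_of_pow_eq_one h00

theorem exists_order_singer : ∃ g : G2 F,
    orderOf g = Fintype.card F ^ 2 + Fintype.card F + 1 := by
  obtain ⟨N, _, τ, -, hτ, hN, hcyc, -⟩ := exists_singer (F := F) _ rfl
  haveI := hcyc
  obtain ⟨ω, hω⟩ := IsCyclic.exists_ofOrder_eq_natCard (α := N)
  exact ⟨sl3Hom (τ ω), (orderOf_injective (sl3Hom.comp τ) (sl3Hom_injective.comp hτ) ω).trans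
    (hω.trans hN)⟩

theorem exists_orders_unitary (hq : 3 ≤ Fintype.card F) :
    (∃ g : G2 F, orderOf g = p * (Fintype.card F + 1)) ∧
    (∃ g : G2 F, orderOf g = Fintype.card F ^ 2 - 1) ∧
    (∃ g : G2 F, orderOf g = Fintype.card F ^ 2 - Fintype.card F + 1) := by
  let K := FiniteField.Extension F p 2
  haveI : Finite K := inferInstanceAs (Finite (FiniteField.Extension F p 2))
  haveI : Fintype K := Fintype.ofFinite K
  haveI : CharP K p := charP_of_injective_algebraMap (algebraMap F K).injective p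
  have hK : Fintype.card K = Fintype.card F ^ 2 := by
    rw [← Nat.card_eq_fintype_card, FiniteField.natCard_extension, Nat.card_eq_fintype_card]
  obtain ⟨Φ, hΦ⟩ := exists_su3_hom (F := F) rfl hK
  obtain ⟨g1, h1⟩ := exists_su_order_mixed hK p
  obtain ⟨g2, h2⟩ := exists_su_order_torus hK
  obtain ⟨g3, h3⟩ := exists_su_order_cubic hK hq
  exact ⟨⟨Φ g1, (orderOf_injective Φ hΦ _).trans h1⟩, ⟨Φ g2, (orderOf_injective Φ hΦ _).trans h2⟩,
    ⟨Φ g3, (orderOf_injective Φ hΦ _).trans h3⟩⟩

/-- A root element over the prime field. -/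
def primeRoot (p : ℕ) [Fact p.Prime] (r : Fin 12) : Matrix (Fin 8) (Fin 8) (ZMod p) :=
  H53.MatRep.mat (H55.G2.dataG.T r.val) 1

theorem exists_order_word (w : List (Fin 12)) (n : ℕ) (hpos : 0 < n)
    (hn : (w.map (primeRoot p)).prod ^ n = 1 ∧
      ∀ d ∈ n.properDivisors, (w.map (primeRoot p)).prod ^ d ≠ 1) :
    ∃ g : G2 F, orderOf g = n := by
  haveI : Fact p.Prime := hp
  have hg : ∀ w : List (Fin 12), ∃ g : G2 (ZMod p),
      ((g : GL (Fin 8) (ZMod p)) : Matrix (Fin 8) (Fin 8) (ZMod p)) = (w.map (primeRoot p)).prod := by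
    intro w
    induction w with
    | nil => exact ⟨1, rfl⟩
    | cons r w ih =>
      obtain ⟨g, hg⟩ := ih
      refine ⟨H55.G2.stG2 (chevG2.stGen (ZMod p) r.val 1) * g, ?_⟩
      rw [Subgroup.coe_mul, Units.val_mul, hg, List.map_cons, List.prod_cons]
      congr 1
      exact H53.MatRep.coe_stMat H55.G2.okG r.val r.isLt 1
  obtain ⟨g, hgw⟩ := hg w
  refine ⟨mapG2 (ZMod.castHom (dvd_refl p) F) g, (orderOf_injective _ (mapG2_injective _) g).trans ?_⟩
  have hord : orderOf g = orderOf ((w.map (primeRoot p)).prod) :=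
    orderOf_eq_orderOf_iff.2 fun k => by
      rw [← hgw, ← Units.val_pow_eq_pow_val, ← SubgroupClass.coe_pow, Units.val_eq_one,
        OneMemClass.coe_eq_one]
  rw [hord]
  by_contra hne
  have hd := orderOf_dvd_of_pow_eq_one hn.1
  exact hn.2 _ (Nat.mem_properDivisors.2 ⟨hd, lt_of_le_of_ne (Nat.le_of_dvd hpos hd) hne⟩)
    (pow_orderOf_eq_one _)

local instance : Fact (Nat.Prime 5) := ⟨by norm_num⟩

theorem word_two :
    (([0, 8] : List (Fin 12)).map (primeRoot 2)).prod ^ 8 = 1 ∧
      (∀ d ∈ Nat.properDivisors 8, (([0, 8] : List (Fin 12)).map (primeRoot 2)).prod ^ d ≠ 1) ∧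
    (([0, 2, 9] : List (Fin 12)).map (primeRoot 2)).prod ^ 12 = 1 ∧
      (∀ d ∈ Nat.properDivisors 12, (([0, 2, 9] : List (Fin 12)).map (primeRoot 2)).prod ^ d ≠ 1) := by
  decide +kernel

theorem word_three :
    (([0, 8] : List (Fin 12)).map (primeRoot 3)).prod ^ 9 = 1 ∧
      (∀ d ∈ Nat.properDivisors 9, (([0, 8] : List (Fin 12)).map (primeRoot 3)).prod ^ d ≠ 1) := by
  decide +kernel

theorem word_five :
    (([0, 8] : List (Fin 12)).map (primeRoot 5)).prod ^ 25 = 1 ∧
      (∀ d ∈ Nat.properDivisors 25, (([0, 8] : List (Fin 12)).map (primeRoot 5)).prod ^ d ≠ 1) := by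
  decide +kernel

end H56G2
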