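import Cfsg.Agent.H56.G2Map
import Cfsg.Agent.H56.G2Lin
import Cfsg.Agent.H55.G2Cent

/-!
Semisimple elements of `G₂(q)`: over the algebraic closure they lie in a copy of `SL(3)`.
-/

set_option autoImplicit false
set_option linter.unusedSectionVars false
set_option linter.unusedSimpArgs false

namespace H56G2

open Cfsg.Lie Matrix H18 H55.G2

section Fixed

variable {F : Type*} [Field F]

/-- The trace as a covector. -/
def trVec (F : Type*) [Field F] : Fin 8 → F := ![1, 0, 0, 0, 0, 0, 0, 1]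

theorem trVec_dot (v : Fin 8 → F) : trVec F ⬝ᵥ v = otr v := by
  simp [trVec, otr, dotProduct, Fin.sum_univ_eight]

theorem otr_one : otr (octOne F) = 2 := by simp [otr, octOne, zVec, one_add_one_eq_two]

/-- The Gram matrix of the polar form. -/
def gram (F : Type*) [Field F] : Matrix (Fin 8) (Fin 8) F :=
  !![0, 0, 0, 0, 0, 0, 0, 1; 0, 0, 0, 0, -1, 0, 0, 0; 0, 0, 0, 0, 0, -1, 0, 0; 0, 0, 0, 0, 0, 0, -1, 0;
     0, -1, 0, 0, 0, 0, 0, 0; 0, 0, -1, 0, 0, 0, 0, 0; 0, 0, 0, -1, 0, 0, 0, 0; 1, 0, 0, 0, 0, 0, 0, 0]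

theorem gram_dot (v w : Fin 8 → F) : v ⬝ᵥ gram F *ᵥ w = opol v w := by
  simp [gram, opol, dot3, zA, zB, dotProduct, Matrix.mulVec, Fin.sum_univ_eight]
  ring

theorem exists_fixed_trace_zero [Fintype F] (hq : 3 ≤ Fintype.card F) (h2 : (2 : F) ≠ 0) (g : G2 F) :
    ∃ v, v ≠ 0 ∧ g2App g v = v ∧ otr v = 0 := by
  classical
  set M := ((g : GL (Fin 8) F) : Matrix (Fin 8) (Fin 8) F) with hM
  set M' := (((g⁻¹ : G2 F) : GL (Fin 8) F) : Matrix (Fin 8) (Fin 8) F) with hM'
  have hMM' : M * M' = 1 := by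
    rw [hM, hM', ← Units.val_mul, ← Subgroup.coe_mul, mul_inv_cancel, Subgroup.coe_one, Units.val_one]
  have hM'M : M' * M = 1 := mul_eq_one_comm.1 hMM'
  set e := octOne F
  set P : Matrix (Fin 8) (Fin 8) F := (2 : F)⁻¹ • vecMulVec e (trVec F) with hP
  have hPv : ∀ v, P *ᵥ v = ((2 : F)⁻¹ * otr v) • e := fun v => by
    rw [hP, Matrix.smul_mulVec, Matrix.vecMulVec_mulVec, trVec_dot, op_smul_eq_smul, smul_smul]
  have hPg : ∀ g : G2 F, P * ((g : GL (Fin 8) F) : Matrix (Fin 8) (Fin 8) F) = P ∧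
      ((g : GL (Fin 8) F) : Matrix (Fin 8) (Fin 8) F) * P = P := fun g => by
    constructor <;> refine Matrix.ext_of_mulVec_single fun i => ?_
    · rw [← Matrix.mulVec_mulVec, hPv, hPv]
      rw [show otr (((g : GL (Fin 8) F) : Matrix (Fin 8) (Fin 8) F) *ᵥ Pi.single i 1) =
        otr (g2App g (Pi.single i 1)) from rfl, (otr_onm_map g _).1]
    · rw [← Matrix.mulVec_mulVec, hPv, Matrix.mulVec_smul]
      exact congrArg _ (g2App_octOne g)
  have hPP : P * P = P := by
    refine Matrix.ext_of_mulVec_single fun i => ?_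
    rw [← Matrix.mulVec_mulVec, hPv, hPv]
    congr 1
    rw [show otr (((2 : F)⁻¹ * otr (Pi.single i 1 : Fin 8 → F)) • e) =
      (2 : F)⁻¹ * otr (Pi.single i 1 : Fin 8 → F) * otr e by simp [otr]; ring, otr_one]
    field_simp
  set T := M - 1 + P
  set T' := M' - 1 + P
  have hfac : T' = (P + P - M') * T := by
    simp only [T, T', Matrix.mul_add, Matrix.mul_sub, Matrix.sub_mul, Matrix.add_mul, hM'M, hPP, (hPg g).1,
      (hPg g⁻¹).2, Matrix.mul_one, ← hM']
    rw [show P * M = P from (hPg g).1, show M' * P = P from (hPg g⁻¹).2]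
    abel
  have hadj : Tᵀ * gram F = gram F * T' := by
    refine Matrix.ext_iff_mulVec.2 fun w => (dotProduct_eq _ _ fun v => ?_).trans rfl
    rw [dotProduct_comm, dotProduct_comm _ v, ← Matrix.mulVec_mulVec, ← Matrix.mulVec_mulVec,
      Matrix.dotProduct_mulVec v Tᵀ, Matrix.vecMul_transpose, gram_dot, gram_dot]
    simp only [T, T', Matrix.add_mulVec, Matrix.sub_mulVec, Matrix.one_mulVec, hPv]
    rw [show M *ᵥ v = g2App g v from rfl, show M' *ᵥ w = g2App g⁻¹ w from rfl]
    have e1 : opol (g2App g v) w = opol v (g2App g⁻¹ w) := by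
      have := opol_map g⁻¹ (g2App g v) w
      rwa [g2App_inv, eq_comm] at this
    simp only [sub_eq_add_neg, ← neg_one_smul F v, ← neg_one_smul F w, opol_add_left, opol_smul_left]
    rw [opol_comm v (_ + _), opol_add_left, opol_add_left, opol_smul_left, opol_smul_left, opol_comm _ v,
      opol_comm w v, e1, opol_one, opol_one]
    ring
  have hg : gram F * gram F = 1 := by
    ext i j
    fin_cases i <;> fin_cases j <;> simp [gram, Matrix.mul_apply, Fin.sum_univ_eight]
  have hgd : (gram F).det ≠ 0 := by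
    intro h
    have := congrArg Matrix.det hg
    rw [det_mul, h, zero_mul, det_one] at this
    exact zero_ne_one this
  have hT : T'.det = T.det := by
    have := congrArg Matrix.det hadj
    rw [det_mul, det_mul, det_transpose, mul_comm] at this
    exact (mul_left_cancel₀ hgd this).symm
  have hneg : (P + P - M').det = -1 := by
    have e1 : P + P - M' = -(M' * (1 + -(P + P))) := by
      rw [Matrix.mul_add, Matrix.mul_one, Matrix.mul_neg, Matrix.mul_add, hM', (hPg g⁻¹).2]
      abel
    have e2 : -(P + P) = replicateCol Unit (-e) * replicateRow Unit (trVec F) := by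
      rw [← Matrix.vecMulVec_eq Unit, hP, ← add_smul]
      ext i j
      simp [vecMulVec_apply]
      field_simp
      ring
    rw [e1, Matrix.det_neg, Fintype.card_fin, det_mul, e2, Matrix.det_one_add_replicateCol_mul_replicateRow,
      show M'.det = 1 from det_eq_one hq g⁻¹, dotProduct_neg, trVec_dot, otr_one]
    ring
  have h0 : T.det = 0 := by
    have := congrArg Matrix.det hfac
    rw [det_mul, hneg, hT] at this
    exact (mul_eq_zero.1 (show (2 : F) * T.det = 0 by linear_combination this)).resolve_left h2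
  obtain ⟨v, hv0, hv⟩ := Matrix.exists_mulVec_eq_zero_iff.2 h0
  have htr : otr v = 0 := by
    have h := congrArg (fun w => P *ᵥ w) hv
    simp only [T, Matrix.mulVec_zero, Matrix.mulVec_mulVec, Matrix.mul_add, Matrix.mul_sub, hPP, Matrix.mul_one,
      (hPg g).1, sub_self, zero_add] at h
    rw [show P * M = P from (hPg g).1, sub_self, zero_add, hPv] at h
    rcases smul_eq_zero.1 h with h | h
    · exact (mul_eq_zero.1 h).resolve_left (inv_ne_zero h2)
    · exact absurd (congrFun h 0) (by simp [e, octOne, zVec])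
  refine ⟨v, hv0, ?_, htr⟩
  simp only [T, Matrix.add_mulVec, Matrix.sub_mulVec, Matrix.one_mulVec, hPv, htr, mul_zero, zero_smul,
    add_zero, sub_eq_zero] at hv
  exact hv

theorem exists_fixed_disc [Fintype F] (hq : 3 ≤ Fintype.card F) (g : G2 F) {m : ℕ} (hgm : g ^ m = 1)
    (hm : (m : F) ≠ 0) : ∃ v, g2App g v = v ∧ otr v ^ 2 - 4 * onm v ≠ 0 := by
  classical
  let π : (Fin 8 → F) → (Fin 8 → F) := fun w => ∑ i ∈ Finset.range m, g2App (g ^ i) w
  have hfix : ∀ w, g2App g (π w) = π w := fun w => by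
    have e : g2App g (π w) = ∑ i ∈ Finset.range m, g2App (g ^ (i + 1)) w := by
      show ((g : GL (Fin 8) F) : Matrix (Fin 8) (Fin 8) F) *ᵥ _ = _
      rw [Matrix.mulVec_sum]
      refine Finset.sum_congr rfl fun i _ => ?_
      rw [pow_succ', g2App_mul]
      rfl
    have h1 := Finset.sum_range_succ' (fun i => g2App (g ^ i) w) m
    rw [Finset.sum_range_succ, hgm, pow_zero] at h1
    rw [e]
    exact (add_right_cancel h1).symm
  have hnd : ∀ y, g2App g y = y → y ≠ 0 → ∃ x, g2App g x = x ∧ opol x y ≠ 0 := by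
    intro y hy hy0
    by_contra hc
    push Not at hc
    refine hy0 (eq_zero_of_opol fun w => ?_)
    have hyi : ∀ i : ℕ, g2App (g ^ i) y = y := by
      intro i
      induction i with
      | zero => rw [pow_zero, g2App_one]
      | succ i ih => rw [pow_succ, g2App_mul, hy, ih]
    have hsum : ∀ (s : Finset ℕ), opol (∑ i ∈ s, g2App (g ^ i) w) y = ∑ i ∈ s, opol w y := by
      intro s
      induction s using Finset.induction with
      | empty => simp [opol, dot3]
      | insert a s ha ih =>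
        rw [Finset.sum_insert ha, Finset.sum_insert ha, opol_add_left, ih]
        congr 1
        conv_lhs => rw [← hyi a]
        exact opol_map _ _ _
    have h := hc (π w) (hfix w)
    rw [hsum, Finset.sum_const, Finset.card_range, nsmul_eq_mul] at h
    rw [opol_comm]
    exact (mul_eq_zero.1 h).resolve_left hm
  have h1 : octOne F ≠ 0 := fun h => by simpa [octOne, zVec] using congrFun h 0
  by_cases h2 : (2 : F) = 0
  · obtain ⟨x, hx, hxt⟩ := hnd _ (g2App_octOne g) h1
    refine ⟨x, hx, ?_⟩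
    rw [opol_comm, opol_one] at hxt
    rw [show (4 : F) = 2 * 2 by norm_num, h2, zero_mul, zero_mul, sub_zero]
    exact pow_ne_zero _ hxt
  · by_contra hc
    push Not at hc
    obtain ⟨v, hv0, hv, hvt⟩ := exists_fixed_trace_zero hq h2 g
    obtain ⟨x, hx, hxv⟩ := hnd v hv hv0
    have e1 := hc v hv
    have e2 := hc x hx
    have e3 := hc (x + v) (by rw [g2App_add, hx, hv])
    rw [onm_add, show otr (x + v) = otr x + otr v by simp [otr]; ring] at e3
    rw [hvt] at e1 e3
    apply hxv
    have h4 : (4 : F) ≠ 0 := by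
      rw [show (4 : F) = 2 * 2 by norm_num]; exact mul_ne_zero h2 h2
    exact (mul_eq_zero.1 (show (4 : F) * opol x v = 0 by linear_combination e1 + e2 - e3)).resolve_left h4

variable {K : Type*} [Field K]

theorem exists_idem_fixed [IsAlgClosed K] (g : G2 K) {v : Fin 8 → K} (hv : g2App g v = v)
    (hD : otr v ^ 2 - 4 * onm v ≠ 0) : ∃ e, IsIdem e ∧ g2App g e = e := by
  obtain ⟨r, hr⟩ := IsAlgClosed.exists_root (Polynomial.X ^ 2 - Polynomial.C (otr v) * Polynomial.X +
    Polynomial.C (onm v) : Polynomial K) (by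
      rw [show (Polynomial.X ^ 2 - Polynomial.C (otr v) * Polynomial.X + Polynomial.C (onm v) : Polynomial K) =
        Polynomial.C 1 * Polynomial.X ^ 2 + Polynomial.C (-otr v) * Polynomial.X + Polynomial.C (onm v) by
          simp [sub_eq_add_neg], Polynomial.degree_quadratic one_ne_zero]
      decide)
  simp at hr
  set δ := otr v - r - r with hδ
  have hδ0 : δ ≠ 0 := by
    intro h
    apply hD
    rw [hδ] at h
    linear_combination (otr v - r - r) * h + (-4 : K) * hr
  set e := δ⁻¹ • (v + (-r) • octOne K) with he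
  have hee : zornMul e e = e := by
    have hsq : zornMul (v + (-r) • octOne K) (v + (-r) • octOne K) = δ • (v + (-r) • octOne K) := by
      rw [zornMul_add_left', H55.G2.mul_add_right, H55.G2.mul_add_right, H55.G2.mul_smul_left,
        H55.G2.mul_smul_left, H55.G2.mul_smul_right, H55.G2.mul_smul_right, octOne_mul, octOne_mul,
        octMul_one, mul_self_eq]
      funext i
      simp only [Pi.add_apply, Pi.smul_apply, Pi.sub_apply, smul_eq_mul, hδ]
      linear_combination (octOne K i) * hr * (-1 : K) + 0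
    rw [he, H55.G2.mul_smul_left, H55.G2.mul_smul_right, hsq, smul_smul, smul_smul]
    congr 1
    field_simp
  have hnot : ∀ t : K, v ≠ t • octOne K := by
    intro t h
    apply hD
    rw [h]
    simp [otr, onm, octOne, zVec, dot3]
    ring
  refine ⟨e, ⟨hee, fun h => ?_, fun h => ?_⟩, ?_⟩
  · rw [he, smul_eq_zero] at h
    rcases h with h | h
    · exact inv_ne_zero hδ0 h
    · exact hnot r (by rwa [neg_smul, add_neg_eq_zero] at h)
  · have h' := congrArg (fun w => δ • w) h
    simp only [he, smul_smul, mul_inv_cancel₀ hδ0, one_smul] at h'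
    exact hnot (δ + r) (by rw [add_smul, ← h', neg_smul, neg_add_cancel_right])
  · rw [he, g2App_smul, g2App_add, g2App_smul, g2App_octOne, hv]

/-- Over the algebraic closure a semisimple element lies in a conjugate of `SL(3)`. -/
theorem exists_sl3_form [Fintype F] (hq : 3 ≤ Fintype.card F) [IsAlgClosed K] (f : F →+* K) (g : G2 F) {m : ℕ}
    (hgm : g ^ m = 1) (hm : (m : F) ≠ 0) :
    ∃ (h : G2 K) (A : SpecialLinearGroup (Fin 3) K), mapG2 f g = h * sl3Hom A * h⁻¹ ∧ A ^ m = 1 := by
  obtain ⟨v, hv, hD⟩ := exists_fixed_disc hq g hgm hm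
  have hv' : g2App (mapG2 f g) (f ∘ v) = f ∘ v := by rw [g2App_mapG2, hv]
  have hD' : otr (f ∘ v) ^ 2 - 4 * onm (f ∘ v) ≠ 0 := by
    have e : otr (f ∘ v) ^ 2 - 4 * onm (f ∘ v) = f (otr v ^ 2 - 4 * onm v) := by
      simp [otr, onm, dot3, zA, zB, map_ofNat]
    rw [e]
    exact (map_ne_zero f).2 hD
  obtain ⟨e, he, hge⟩ := exists_idem_fixed (mapG2 f g) hv' hD'
  obtain ⟨h, hh⟩ := exists_conj_idem he
  obtain ⟨A, hA⟩ := exists_sl3_of_fix (h⁻¹ * mapG2 f g * h) (by
    rw [g2App_mul, g2App_mul, hh, hge, ← hh, g2App_inv])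
  refine ⟨h, A, by rw [← hA]; group, sl3Hom_injective ?_⟩
  rw [map_pow, ← hA, map_one]
  have e : (h⁻¹ * mapG2 f g * h) ^ m = h⁻¹ * mapG2 f g ^ m * h := by
    have := conj_pow (i := m) (a := h⁻¹) (b := mapG2 f g)
    simpa using this
  rw [e, ← map_pow, hgm, map_one, mul_one, inv_mul_cancel]

end Fixed

section Invol

variable {F : Type*} [Field F] [Fintype F] (p : ℕ) [Fact p.Prime] [CharP F p]

/-- A unipotent element commuting with an involution has order dividing `p`. -/
theorem pow_p_of_comm_invol (h2 : (2 : F) ≠ 0) {s u : G2 F} (hs : orderOf s = 2) (hc : Commute s u) {k : ℕ}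
    (hu : u ^ p ^ k = 1) : u ^ p = 1 := by
  obtain ⟨c, hc'⟩ := isConj_iff.1 (isConj_invol h2 hs (orderOf_quatInv h2))
  set u' := c * u * c⁻¹ with hu'
  have hcomm : u' * quatInv F = quatInv F * u' := by
    rw [← hc', hu']
    calc c * u * c⁻¹ * (c * s * c⁻¹) = c * (u * s) * c⁻¹ := by group
      _ = c * (s * u) * c⁻¹ := by rw [hc.eq]
      _ = _ := by group
  obtain ⟨x, hx⟩ := mem_range_of_comm h2 hcomm
  have huk : u' ^ p ^ k = 1 := by rw [hu', conj_pow, hu, mul_one, mul_inv_cancel]
  obtain ⟨e, m', hm', hn⟩ := Nat.exists_eq_pow_mul_and_not_dvd (orderOf_pos x).ne' p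
    (Fact.out : p.Prime).ne_one
  set y := x ^ m' with hy
  have hye : y ^ p ^ e = 1 := by rw [hy, ← pow_mul, mul_comm, ← hn, pow_orderOf_eq_one]
  have key : ∀ h : GL (Fin 2) F, h ^ p ^ e = 1 → h ^ p = 1 := fun h hh => by
    have h1 : (h : Matrix (Fin 2) (Fin 2) F) ^ p ^ e = 1 := by rw [← Units.val_pow_eq_pow_val, hh, Units.val_one]
    have h3 := H56G2.Lin.pow_eq_one_of_sub p (j := 1)
      (by rw [pow_one]; exact (Fact.out : p.Prime).two_le) (H56G2.Lin.unip_nilp p h1)
    rw [pow_one] at h3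
    exact Units.ext (by rw [Units.val_pow_eq_pow_val, h3, Units.val_one])
  have hyp : y ^ p = 1 := by
    refine Subtype.ext (Prod.ext (key _ ?_) (key _ ?_))
    · simpa using congrArg (fun z : detPair F => z.1.1) hye
    · simpa using congrArg (fun z : detPair F => z.1.2) hye
  have h1 : u' ^ (m' * p) = 1 := by rw [← hx, ← map_pow, pow_mul, ← hy, hyp, map_one]
  have h2' : orderOf u' ∣ p := by
    have hd := Nat.dvd_gcd (orderOf_dvd_of_pow_eq_one h1) (orderOf_dvd_of_pow_eq_one huk)
    have hcop : Nat.Coprime m' (p ^ k) :=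
      Nat.Coprime.pow_right _ ((Fact.out : p.Prime).coprime_iff_not_dvd.2 hm').symm
    rw [hcop.gcd_mul_left_cancel] at hd
    exact hd.trans (Nat.gcd_dvd_left _ _)
  have h3 := orderOf_dvd_iff_pow_eq_one.1 h2'
  rw [hu', conj_pow, conj_eq_one_iff] at h3
  exact h3

end Invol

end H56G2
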