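import Cfsg.Agent.H56.G2Bound
import Cfsg.Agent.H56.G2Orders

/-!
The element orders of the Chevalley group of type `G₂`: the listed orders occur and dominate all others.
-/

set_option autoImplicit false
set_option linter.unusedSectionVars false

namespace H56G2

open Cfsg.Lie

variable {F : Type*} [Field F] [Fintype F] {p : ℕ} [hp : Fact p.Prime] [CharP F p]

theorem bound_realised (hq : 3 ≤ Fintype.card F) {N : ℕ} (hN : IsBound p (Fintype.card F) N) :
    ∃ g : G2 F, orderOf g = N := by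
  obtain ⟨h1, h2, h3⟩ := exists_orders_unitary (F := F) (p := p) hq
  rcases hN with hN | ⟨rfl, rfl | rfl⟩ | ⟨hp35, rfl⟩
  · simp only [List.mem_cons, List.not_mem_nil, or_false] at hN
    rcases hN with rfl | rfl | rfl | rfl | rfl
    · exact h2
    · exact exists_order_singer
    · exact h3
    · exact h1
    · exact exists_order_split hq
  · exact exists_order_word [0, 8] 8 (by norm_num) ⟨word_two.1, word_two.2.1⟩
  · exact exists_order_word [0, 2, 9] 12 (by norm_num) ⟨word_two.2.2.1, word_two.2.2.2⟩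
  · rcases hp35 with rfl | rfl
    · exact exists_order_word [0, 8] 9 (by norm_num) word_three
    · exact exists_order_word [0, 8] 25 (by norm_num) word_five

theorem chev_realised (hq : 3 ≤ Fintype.card F) {N : ℕ} (hN : IsBound p (Fintype.card F) N) :
    N ∈ Set.range (orderOf : ↥(chevG2.group F) → ℕ) := by
  obtain ⟨e⟩ := nonempty_equiv_group (F := F) hq
  obtain ⟨g, hg⟩ := bound_realised hq hN
  exact ⟨e.symm g, by rw [← hg]; exact MulEquiv.orderOf_eq e.symm g⟩

theorem chev_bound (hq : 3 ≤ Fintype.card F) {n : ℕ} (hn : n ∈ Set.range (orderOf : ↥(chevG2.group F) → ℕ)) :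
    ∃ N, IsBound p (Fintype.card F) N ∧ n ∣ N := by
  obtain ⟨e⟩ := nonempty_equiv_group (F := F) hq
  obtain ⟨g, rfl⟩ := hn
  obtain ⟨N, hN, hd⟩ := exists_bound (p := p) hq (e g)
  exact ⟨N, hN, by rwa [MulEquiv.orderOf_eq] at hd⟩

/-- A maximal element order is one of the listed numbers. -/
theorem maximal_subset (hq : 3 ≤ Fintype.card F) {n : ℕ} (hn : n ∈ Set.range (orderOf : ↥(chevG2.group F) → ℕ))
    (hmax : ∀ m ∈ Set.range (orderOf : ↥(chevG2.group F) → ℕ), n ∣ m → m = n) :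
    IsBound p (Fintype.card F) n := by
  obtain ⟨N, hN, hd⟩ := chev_bound (p := p) hq hn
  rw [← hmax N (chev_realised hq hN) hd]
  exact hN

/-- In odd characteristic, `q ≥ 5`, no listed number properly divides another. -/
theorem bound_antichain {q a : ℕ} (hodd : Odd p) (ha : 1 ≤ a) (hqpa : q = p ^ a) (h5 : 5 ≤ q) {n m : ℕ}
    (hn : IsBound p q n) (hm : IsBound p q m) (h : n ∣ m) : m = n := by
  have hpp := hp.out
  have hp2 : p ≠ 2 := fun e => by rw [e] at hodd; exact (by decide : ¬ Odd 2) hodd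
  have hdq : p ∣ q := hqpa ▸ dvd_pow_self p (by omega)
  have hqo : Odd q := hqpa ▸ hodd.pow
  have hsq : q * 5 ≤ q ^ 2 := by rw [pow_two]; exact Nat.mul_le_mul_left q h5
  have hpm1 : ¬ p ∣ q - 1 := fun h => by
    have := Nat.dvd_sub hdq h
    rw [Nat.sub_sub_self (by omega)] at this
    exact hpp.one_lt.ne' (Nat.dvd_one.1 this)
  have hpp1 : ¬ p ∣ q + 1 := fun h => hpp.one_lt.ne' (Nat.dvd_one.1 ((Nat.dvd_add_right hdq).1 h))
  have hpC : ¬ p ∣ q ^ 2 - 1 := fun h => by
    have := Nat.dvd_sub (dvd_pow hdq (by norm_num : 2 ≠ 0)) h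
    rw [Nat.sub_sub_self (by omega)] at this
    exact hpp.one_lt.ne' (Nat.dvd_one.1 this)
  have hpD : ¬ p ∣ q ^ 2 + q + 1 := fun h => hpp.one_lt.ne'
    (Nat.dvd_one.1 ((Nat.dvd_add_right (Nat.dvd_add (dvd_pow hdq (by norm_num : 2 ≠ 0)) hdq)).1 h))
  have hpE : ¬ p ∣ q ^ 2 - q + 1 := fun h => hpp.one_lt.ne'
    (Nat.dvd_one.1 ((Nat.dvd_add_right (Nat.dvd_sub (dvd_pow hdq (by norm_num : 2 ≠ 0)) hdq)).1 h))
  have cop : ∀ {x : ℕ}, ¬ p ∣ x → Nat.Coprime x p := fun hx => (hpp.coprime_iff_not_dvd.2 hx).symm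
  obtain ⟨r, hr⟩ := hqo
  have hC2 : 2 ∣ q ^ 2 - 1 := ⟨2 * (r * r + r), by
    have : q ^ 2 = 2 * (2 * (r * r + r)) + 1 := by rw [hr]; ring
    omega⟩
  have hD2 : ¬ 2 ∣ q ^ 2 + q + 1 := by
    have : q ^ 2 = 2 * (2 * (r * r + r)) + 1 := by rw [hr]; ring
    omega
  have hE2 : ¬ 2 ∣ q ^ 2 - q + 1 := by
    have : q ^ 2 = 2 * (2 * (r * r + r)) + 1 := by rw [hr]; ring
    omega
  have small : ∀ {x y : ℕ}, x ∣ y → 0 < y → y < x → False := fun h h0 h1 =>
    absurd (Nat.le_of_dvd h0 h) (by omega)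
  have twice : ∀ {x y : ℕ}, x ∣ y → 0 < y → y < 2 * x → x = y := by
    intro x y h h0 h1
    obtain ⟨c, rfl⟩ := h
    rcases c with _ | _ | c
    · omega
    · omega
    · have : x * 2 ≤ x * (c + 1 + 1) := Nat.mul_le_mul_left x (by omega)
      omega
  -- numbers divisible by `p`
  have noP : ∀ {x y : ℕ}, p ∣ x → x ∣ y → ¬ p ∣ y → False := fun h1 h2 h3 => h3 (h1.trans h2)
  have hp5 : (p = 3 ∨ p = 5) → ∀ x, x = p * (q + 1) ∨ x = p * (q - 1) → ¬ p ^ 2 ∣ x := by
    intro _ x hx h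
    rw [pow_two] at h
    rcases hx with rfl | rfl
    · exact hpp1 ((Nat.mul_dvd_mul_iff_left hpp.pos).1 h)
    · exact hpm1 ((Nat.mul_dvd_mul_iff_left hpp.pos).1 h)
  unfold IsBound at hn hm
  simp only [List.mem_cons, List.not_mem_nil, or_false] at hn hm
  rcases hn with (rfl | rfl | rfl | rfl | rfl) | ⟨e, -⟩ | ⟨h35, rfl⟩
  -- `q ^ 2 - 1`
  · rcases hm with (rfl | rfl | rfl | rfl | rfl) | ⟨e, -⟩ | ⟨h35, rfl⟩
    · rfl
    · exact absurd (hC2.trans h) hD2
    · exact absurd (hC2.trans h) hE2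
    · exact (small ((cop hpC).dvd_of_dvd_mul_left h) (by omega) (by omega)).elim
    · exact (small ((cop hpC).dvd_of_dvd_mul_left h) (by omega) (by omega)).elim
    · exact absurd e hp2
    · have := Nat.eq_one_of_dvd_coprimes ((cop hpC).pow_right 2) dvd_rfl h
      omega
  · rcases hm with (rfl | rfl | rfl | rfl | rfl) | ⟨e, -⟩ | ⟨h35, rfl⟩
    · exact (small h (by omega) (by omega)).elim
    · rfl
    · exact (small h (by omega) (by omega)).elim
    · exact (small ((cop hpD).dvd_of_dvd_mul_left h) (by omega) (by omega)).elim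
    · exact (small ((cop hpD).dvd_of_dvd_mul_left h) (by omega) (by omega)).elim
    · exact absurd e hp2
    · have := Nat.eq_one_of_dvd_coprimes ((cop hpD).pow_right 2) dvd_rfl h
      omega
  · rcases hm with (rfl | rfl | rfl | rfl | rfl) | ⟨e, -⟩ | ⟨h35, rfl⟩
    · exact (twice h (by omega) (by omega)).symm
    · exact (twice h (by omega) (by omega)).symm
    · rfl
    · exact (small ((cop hpE).dvd_of_dvd_mul_left h) (by omega) (by omega)).elim
    · exact (small ((cop hpE).dvd_of_dvd_mul_left h) (by omega) (by omega)).elim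
    · exact absurd e hp2
    · have := Nat.eq_one_of_dvd_coprimes ((cop hpE).pow_right 2) dvd_rfl h
      omega
  · rcases hm with (rfl | rfl | rfl | rfl | rfl) | ⟨e, -⟩ | ⟨h35, rfl⟩
    · exact (noP (dvd_mul_right _ _) h hpC).elim
    · exact (noP (dvd_mul_right _ _) h hpD).elim
    · exact (noP (dvd_mul_right _ _) h hpE).elim
    · rfl
    · exact (small ((Nat.mul_dvd_mul_iff_left hpp.pos).1 h) (by omega) (by omega)).elim
    · exact absurd e hp2
    · rw [pow_two] at h
      have := Nat.eq_one_of_dvd_coprimes (cop hpp1) dvd_rfl ((Nat.mul_dvd_mul_iff_left hpp.pos).1 h)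
      omega
  · rcases hm with (rfl | rfl | rfl | rfl | rfl) | ⟨e, -⟩ | ⟨h35, rfl⟩
    · exact (noP (dvd_mul_right _ _) h hpC).elim
    · exact (noP (dvd_mul_right _ _) h hpD).elim
    · exact (noP (dvd_mul_right _ _) h hpE).elim
    · have := twice ((Nat.mul_dvd_mul_iff_left hpp.pos).1 h) (by omega) (by omega)
      omega
    · rfl
    · exact absurd e hp2
    · rw [pow_two] at h
      have := Nat.eq_one_of_dvd_coprimes (cop hpm1) dvd_rfl ((Nat.mul_dvd_mul_iff_left hpp.pos).1 h)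
      omega
  · exact absurd e hp2
  · have hpp2 : p ∣ p ^ 2 := dvd_pow_self p (by norm_num)
    rcases hm with (rfl | rfl | rfl | rfl | rfl) | ⟨e, -⟩ | ⟨_, rfl⟩
    · exact (noP hpp2 h hpC).elim
    · exact (noP hpp2 h hpD).elim
    · exact (noP hpp2 h hpE).elim
    · exact absurd h (hp5 h35 _ (Or.inl rfl))
    · exact absurd h (hp5 h35 _ (Or.inr rfl))
    · exact absurd e hp2
    · rfl

end H56G2
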