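import Cfsg.Agent.H56.G2Singer

/-!
Centralisers of the elements of order seven in the group of type `G₂` over three elements.
-/

set_option autoImplicit false
set_option linter.unusedSectionVars false
set_option linter.unusedSimpArgs false
set_option linter.style.maxHeartbeats false

namespace H56G2

open Cfsg.Lie H53.MatRep Matrix

/-- The matrix of a root element at parameter one. -/
def rootMat (r : Fin 12) : Matrix (Fin 8) (Fin 8) (ZMod 3) := mat (H55.G2.dataG.T r.val) 1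

/-- An element of order seven. -/
def seven : Matrix (Fin 8) (Fin 8) (ZMod 3) :=
  !![1, 0, 2, 1, 0, 0, 0, 0; 0, 1, 0, 0, 0, 1, 1, 0; 0, 0, 1, 2, 0, 0, 0, 0; 0, 2, 2, 2, 2, 2, 2, 0;
    0, 0, 0, 0, 1, 1, 1, 0; 1, 0, 2, 1, 0, 2, 1, 2; 0, 0, 0, 0, 0, 1, 1, 0; 0, 0, 1, 2, 0, 0, 0, 1]

/-- An element of order six. -/
def six : Matrix (Fin 8) (Fin 8) (ZMod 3) :=
  !![1, 0, 0, 0, 0, 0, 0, 0; 0, 1, 0, 0, 0, 0, 0, 0; 0, 0, 1, 2, 0, 0, 0, 0; 0, 0, 1, 0, 0, 0, 0, 0;
    0, 0, 0, 0, 1, 0, 0, 0; 0, 0, 0, 0, 0, 0, 2, 0; 0, 0, 0, 0, 0, 1, 1, 0; 0, 0, 0, 0, 0, 0, 0, 1]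

theorem seven_eq : rootMat 0 * rootMat 1 * rootMat 3 * rootMat 11 = seven := by decide +kernel

theorem six_eq : rootMat 0 * rootMat 0 * rootMat 11 = six := by decide +kernel

theorem seven_pow : seven ^ 7 = 1 ∧ seven ≠ 1 := by decide +kernel

theorem six_pow : six ^ 6 = 1 ∧ six ^ 2 ≠ 1 ∧ six ^ 3 ≠ 1 := by decide +kernel

/-- Base change to fixed space plus cyclic part. -/
def chP : Matrix (Fin 8) (Fin 8) (ZMod 3) :=
  !![1, 0, 0, 0, 2, 0, 1, 0; 0, 1, 0, 1, 1, 2, 1, 1; 0, 0, 0, 0, 1, 2, 2, 1; 0, 0, 0, 2, 2, 0, 1, 1;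
    0, 2, 0, 1, 1, 2, 1, 1; 0, 0, 1, 2, 1, 1, 1, 2; 0, 0, 0, 1, 0, 1, 2, 0; 1, 0, 0, 0, 1, 0, 2, 0]

/-- Its inverse. -/
def chI : Matrix (Fin 8) (Fin 8) (ZMod 3) :=
  !![2, 0, 0, 0, 0, 0, 0, 2; 0, 2, 0, 0, 1, 0, 0, 0; 0, 0, 0, 1, 0, 1, 2, 0; 1, 1, 2, 2, 1, 0, 1, 2;
    2, 2, 0, 2, 2, 0, 1, 1; 0, 1, 1, 0, 1, 0, 1, 0; 1, 2, 0, 2, 2, 0, 1, 2; 2, 1, 2, 0, 1, 0, 1, 1]

/-- The element of order seven in the new basis. -/
def sevenB : Matrix (Fin 8) (Fin 8) (ZMod 3) :=
  !![1, 0, 0, 0, 0, 0, 0, 0; 0, 1, 0, 0, 0, 0, 0, 0; 0, 0, 0, 0, 0, 0, 0, 2; 0, 0, 1, 0, 0, 0, 0, 2;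
    0, 0, 0, 1, 0, 0, 0, 2; 0, 0, 0, 0, 1, 0, 0, 2; 0, 0, 0, 0, 0, 1, 0, 2; 0, 0, 0, 0, 0, 0, 1, 2]

theorem chP_facts : chP * chI = 1 ∧ chI * chP = 1 ∧ chI * seven * chP = sevenB := by decide +kernel

theorem sevenB_sum : 1 + sevenB + sevenB ^ 2 + sevenB ^ 3 + sevenB ^ 4 + sevenB ^ 5 + sevenB ^ 6 =
    Matrix.diagonal ![1, 1, 0, 0, 0, 0, 0, 0] := by decide +kernel

/-- Multiplication by the generator on polynomials modulo the seventh cyclotomic one. -/
def shiftC (w : Fin 6 → ZMod 3) : Fin 6 → ZMod 3 :=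
  ![-w 5, w 0 - w 5, w 1 - w 5, w 2 - w 5, w 3 - w 5, w 4 - w 5]

/-- Multiplication of polynomials modulo the seventh cyclotomic one. -/
def mulC (w v : Fin 6 → ZMod 3) : Fin 6 → ZMod 3 :=
  w 0 • v + w 1 • shiftC v + w 2 • shiftC (shiftC v) + w 3 • shiftC (shiftC (shiftC v)) +
    w 4 • shiftC (shiftC (shiftC (shiftC v))) + w 5 • shiftC (shiftC (shiftC (shiftC (shiftC v))))

/-- The cyclic part as vectors. -/
def embW (w : Fin 6 → ZMod 3) : Fin 8 → ZMod 3 := ![0, 0, w 0, w 1, w 2, w 3, w 4, w 5]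

/-- The first vector of the cyclic part. -/
def unitC : Fin 6 → ZMod 3 := ![1, 0, 0, 0, 0, 0]

theorem mulC_sq : ∀ v, mulC v v = unitC → v = unitC ∨ v = -unitC := by decide +kernel

theorem mulC_cube : ∀ v, mulC (mulC v v) v = unitC → v = unitC := by decide +kernel

/-- The candidates for a commuting automorphism of order at most three. -/
def cand (b d s : ZMod 3) : Matrix (Fin 8) (Fin 8) (ZMod 3) :=
  !![1, b, 0, 0, 0, 0, 0, 0; 0, d, 0, 0, 0, 0, 0, 0; 0, 0, s, 0, 0, 0, 0, 0; 0, 0, 0, s, 0, 0, 0, 0;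
    0, 0, 0, 0, s, 0, 0, 0; 0, 0, 0, 0, 0, s, 0, 0; 0, 0, 0, 0, 0, 0, s, 0; 0, 0, 0, 0, 0, 0, 0, s]

theorem cand_check : ∀ b d s : ZMod 3, s ≠ 0 → ¬(b = 0 ∧ d = 1 ∧ s = 1) →
    ∃ j : Fin 8, (chP * cand b d s * chI) *ᵥ zornMul (Pi.single 0 1) (Pi.single j 1) ≠
      zornMul ((chP * cand b d s * chI) *ᵥ Pi.single 0 1) ((chP * cand b d s * chI) *ᵥ Pi.single j 1) := by
  decide +kernel

theorem chI_one : chI *ᵥ H18.octOne (ZMod 3) = Pi.single 0 1 ∧
    chP *ᵥ Pi.single 0 1 = H18.octOne (ZMod 3) := by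
  decide +kernel

/-- No automorphism of order two or three commutes with the element of order seven. -/
theorem eq_one_of_commute_seven (M : Matrix (Fin 8) (Fin 8) (ZMod 3))
    (hone : M *ᵥ H18.octOne (ZMod 3) = H18.octOne (ZMod 3))
    (hmul : ∀ x y, M *ᵥ zornMul x y = zornMul (M *ᵥ x) (M *ᵥ y))
    (hc : M * seven = seven * M) (hp : M ^ 2 = 1 ∨ M ^ 3 = 1) : M = 1 := by
  obtain ⟨hPI, hIP, hY⟩ := chP_facts
  set N := chI * M * chP with hN
  have hNc : N * sevenB = sevenB * N := by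
    rw [hN, ← hY]
    simp only [Matrix.mul_assoc]
    rw [← Matrix.mul_assoc chP chI, hPI, Matrix.one_mul, ← Matrix.mul_assoc chP chI, hPI,
      Matrix.one_mul, ← Matrix.mul_assoc M seven, hc, Matrix.mul_assoc]
  have hMN : M = chP * N * chI := by
    rw [hN]
    simp only [Matrix.mul_assoc]
    rw [hPI, Matrix.mul_one, ← Matrix.mul_assoc, hPI, Matrix.one_mul]
  have hS : N * Matrix.diagonal ![(1 : ZMod 3), 1, 0, 0, 0, 0, 0, 0] =
      Matrix.diagonal ![(1 : ZMod 3), 1, 0, 0, 0, 0, 0, 0] * N := by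
    rw [← sevenB_sum]
    have h : Commute N sevenB := hNc
    exact ((((((Commute.one_right N).add_right h).add_right (h.pow_right 2)).add_right
      (h.pow_right 3)).add_right (h.pow_right 4)).add_right (h.pow_right 5)).add_right (h.pow_right 6)
  have hblock : ∀ i j : Fin 8, ![(1 : ZMod 3), 1, 0, 0, 0, 0, 0, 0] i ≠
      ![(1 : ZMod 3), 1, 0, 0, 0, 0, 0, 0] j → N i j = 0 := by
    intro i j hij
    have h := congrFun (congrFun hS i) j
    rw [Matrix.mul_diagonal, Matrix.diagonal_mul] at h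
    by_contra hne
    exact hij (mul_left_cancel₀ hne (by rw [h, mul_comm]))
  set v : Fin 6 → ZMod 3 := ![N 2 2, N 3 2, N 4 2, N 5 2, N 6 2, N 7 2] with hv
  have h2 : N *ᵥ embW unitC = embW v := by
    have e : embW unitC = Pi.single 2 1 := by decide +kernel
    rw [e, Matrix.mulVec_single_one]
    funext i
    fin_cases i <;> first
      | rfl
      | exact hblock _ _ (by decide +kernel)
  have hshift : ∀ w, sevenB *ᵥ embW w = embW (shiftC w) := fun w => by
    funext i
    fin_cases i <;>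
      simp [sevenB, embW, shiftC, Matrix.mulVec, dotProduct, Fin.sum_univ_eight] <;>
      simp only [show (2 : ZMod 3) = -1 by decide] <;> ring
  have hstep : ∀ w z, N *ᵥ embW w = embW z → N *ᵥ embW (shiftC w) = embW (shiftC z) := fun w z h => by
    rw [← hshift, ← hshift, Matrix.mulVec_mulVec, hNc, ← Matrix.mulVec_mulVec, h]
  have hlin : ∀ w z : Fin 6 → ZMod 3, embW (mulC w z) = w 0 • embW z + w 1 • embW (shiftC z) +
      w 2 • embW (shiftC (shiftC z)) + w 3 • embW (shiftC (shiftC (shiftC z))) +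
      w 4 • embW (shiftC (shiftC (shiftC (shiftC z)))) +
      w 5 • embW (shiftC (shiftC (shiftC (shiftC (shiftC z))))) := fun w z => by
    funext i
    fin_cases i <;> simp [embW, mulC]
  have hone' : ∀ w, mulC w unitC = w := fun w => by
    funext i
    fin_cases i <;> simp [mulC, shiftC, unitC]
  have hw : ∀ w, N *ᵥ embW w = embW (mulC w v) := fun w => by
    have s1 := hstep _ _ h2
    have s2 := hstep _ _ s1
    have s3 := hstep _ _ s2
    have s4 := hstep _ _ s3
    have s5 := hstep _ _ s4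
    conv_lhs => rw [← hone' w, hlin]
    rw [Matrix.mulVec_add, Matrix.mulVec_add, Matrix.mulVec_add, Matrix.mulVec_add, Matrix.mulVec_add,
      Matrix.mulVec_smul, Matrix.mulVec_smul, Matrix.mulVec_smul, Matrix.mulVec_smul,
      Matrix.mulVec_smul, Matrix.mulVec_smul, h2, s1, s2, s3, s4, s5, hlin]
  have hinj : ∀ a b : Fin 6 → ZMod 3, embW a = embW b → a = b := fun a b h => by
    funext i
    fin_cases i
    · exact congrFun h 2
    · exact congrFun h 3
    · exact congrFun h 4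
    · exact congrFun h 5
    · exact congrFun h 6
    · exact congrFun h 7
  have hvs : v = unitC ∨ v = -unitC := by
    rcases hp with hp | hp
    · refine mulC_sq v (hinj _ _ ?_)
      rw [← hw, ← h2, Matrix.mulVec_mulVec, hN]
      simp only [Matrix.mul_assoc]
      rw [← Matrix.mul_assoc chP chI, hPI, Matrix.one_mul, ← Matrix.mul_assoc M M, ← sq, hp,
        Matrix.one_mul, hIP, Matrix.one_mulVec]
    · refine Or.inl (mulC_cube v (hinj _ _ ?_))
      rw [← hw, ← hw, ← h2, Matrix.mulVec_mulVec, Matrix.mulVec_mulVec, hN]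
      simp only [Matrix.mul_assoc]
      rw [← Matrix.mul_assoc chP chI, hPI, Matrix.one_mul, ← Matrix.mul_assoc chP chI, hPI,
        Matrix.one_mul, ← Matrix.mul_assoc M M, ← Matrix.mul_assoc (M * M) M, ← sq, ← pow_succ,
        hp, Matrix.one_mul, hIP, Matrix.one_mulVec]
  have h0 : N *ᵥ Pi.single 0 1 = Pi.single 0 1 := by
    rw [hN, ← Matrix.mulVec_mulVec, ← Matrix.mulVec_mulVec, chI_one.2, hone, chI_one.1]
  obtain ⟨s, hs0, hNcand⟩ : ∃ s, s ≠ 0 ∧ N = cand (N 0 1) (N 1 1) s := by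
    have key : ∀ s : ZMod 3, v = s • unitC → N = cand (N 0 1) (N 1 1) s := by
      intro s hs
      refine Matrix.ext fun i j => ?_
      fin_cases j
      · have h := congrFun h0 i
        rw [Matrix.mulVec_single_one] at h
        fin_cases i <;> simpa [cand] using h
      · fin_cases i <;> first
          | rfl
          | exact hblock _ _ (by decide +kernel)
      all_goals
        have hwj : ∀ (w : Fin 6 → ZMod 3), N *ᵥ embW w = s • embW w := fun w => by
          rw [hw, hs]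
          funext k
          fin_cases k <;> simp [embW, mulC, shiftC, unitC, mul_comm]
      · have h := congrFun (hwj ![1, 0, 0, 0, 0, 0]) i
        rw [show embW ![1, 0, 0, 0, 0, 0] = Pi.single 2 1 by decide +kernel, Matrix.mulVec_single_one] at h
        fin_cases i <;> simpa [cand] using h
      · have h := congrFun (hwj ![0, 1, 0, 0, 0, 0]) i
        rw [show embW ![0, 1, 0, 0, 0, 0] = Pi.single 3 1 by decide +kernel, Matrix.mulVec_single_one] at h
        fin_cases i <;> simpa [cand] using h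
      · have h := congrFun (hwj ![0, 0, 1, 0, 0, 0]) i
        rw [show embW ![0, 0, 1, 0, 0, 0] = Pi.single 4 1 by decide +kernel, Matrix.mulVec_single_one] at h
        fin_cases i <;> simpa [cand] using h
      · have h := congrFun (hwj ![0, 0, 0, 1, 0, 0]) i
        rw [show embW ![0, 0, 0, 1, 0, 0] = Pi.single 5 1 by decide +kernel, Matrix.mulVec_single_one] at h
        fin_cases i <;> simpa [cand] using h
      · have h := congrFun (hwj ![0, 0, 0, 0, 1, 0]) i
        rw [show embW ![0, 0, 0, 0, 1, 0] = Pi.single 6 1 by decide +kernel, Matrix.mulVec_single_one] at h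
        fin_cases i <;> simpa [cand] using h
      · have h := congrFun (hwj ![0, 0, 0, 0, 0, 1]) i
        rw [show embW ![0, 0, 0, 0, 0, 1] = Pi.single 7 1 by decide +kernel, Matrix.mulVec_single_one] at h
        fin_cases i <;> simpa [cand] using h
    rcases hvs with hs | hs
    · exact ⟨1, one_ne_zero, key 1 (by rw [hs, one_smul])⟩
    · exact ⟨-1, by decide, key (-1) (by rw [hs, neg_one_smul])⟩
  by_cases hid : N 0 1 = 0 ∧ N 1 1 = 1 ∧ s = 1
  · obtain ⟨e1, e2, e3⟩ := hid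
    rw [e1, e2, e3, show cand 0 1 1 = 1 by decide +kernel] at hNcand
    rw [hMN, hNcand, Matrix.mul_one, hPI]
  · obtain ⟨j, hj⟩ := cand_check _ _ _ hs0 hid
    rw [← hNcand, ← hMN] at hj
    exact absurd (hmul _ _) hj

variable {F : Type*} [Field F]

/-- Change of the field along an isomorphism. -/
noncomputable def toThree (e : F ≃+* ZMod 3) : GL (Fin 8) F →* GL (Fin 8) (ZMod 3) :=
  Matrix.GeneralLinearGroup.map e.toRingHom

theorem toThree_injective (e : F ≃+* ZMod 3) : Function.Injective (toThree e) := fun a b h => by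
  refine Units.ext (Matrix.ext fun i j => e.injective ?_)
  exact congrArg (fun g : GL (Fin 8) (ZMod 3) => (g : Matrix (Fin 8) (Fin 8) (ZMod 3)) i j) h

theorem toThree_root (e : F ≃+* ZMod 3) (r : Fin 12) :
    ((toThree e ((H55.G2.stG2 (chevG2.stGen F r.val 1)).1 : GL (Fin 8) F)) :
      Matrix (Fin 8) (Fin 8) (ZMod 3)) = rootMat r := by
  have h := coe_stMat H55.G2.okG r.val r.isLt (1 : F)
  show e.toRingHom.mapMatrix ((stMat H55.G2.okG (chevG2.stGen F r.val 1) : GL (Fin 8) F) :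
    Matrix (Fin 8) (Fin 8) F) = _
  rw [h, rootMat, mat, mat, map_add, map_one, map_list_sum, List.map_map]
  congr 2
  refine List.map_congr_left fun a _ => ?_
  simp

theorem toThree_mul (e : F ≃+* ZMod 3) (g : G2 F) (x y : Fin 8 → ZMod 3) :
    (toThree e g.1 : Matrix (Fin 8) (Fin 8) (ZMod 3)) *ᵥ zornMul x y =
      zornMul ((toThree e g.1 : Matrix (Fin 8) (Fin 8) (ZMod 3)) *ᵥ x)
        ((toThree e g.1 : Matrix (Fin 8) (Fin 8) (ZMod 3)) *ᵥ y) := by
  have hz : ∀ a b : Fin 8 → F, (fun i => e (zornMul a b i)) = zornMul (fun i => e (a i)) fun i => e (b i) := by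
    intro a b
    funext i
    fin_cases i <;> simp [zornMul, zA, zB, dot3, cross3]
  have hv : ∀ a : Fin 8 → F, (fun i => e ((((g : GL (Fin 8) F) : Matrix (Fin 8) (Fin 8) F) *ᵥ a) i)) =
      (toThree e g.1 : Matrix (Fin 8) (Fin 8) (ZMod 3)) *ᵥ fun i => e (a i) := by
    intro a
    funext i
    exact RingHom.map_mulVec e.toRingHom _ _ i
  have hx : ∀ a : Fin 8 → ZMod 3, a = fun i => e (e.symm (a i)) := fun a => funext fun i => (e.apply_symm_apply _).symm
  rw [hx x, hx y, ← hz, ← hv, ← hv, ← hv, ← hz]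
  exact congrArg (fun v : Fin 8 → F => fun i => e (v i)) (H18.g2App_zornMul g _ _)

/-- An element of order seven whose centraliser meets no element of order two or three, and an
element of order six. -/
theorem exists_seven_six (e : F ≃+* ZMod 3) :
    ∃ a b : ↥(H55.G2.stG2 (F := F)).range, orderOf a = 7 ∧ orderOf b = 6 ∧
      ∀ t, t * a = a * t → (t ^ 2 = 1 ∨ t ^ 3 = 1) → t = 1 := by
  let φ : ↥(H55.G2.stG2 (F := F)).range →* Matrix (Fin 8) (Fin 8) (ZMod 3) :=
    (Units.coeHom _).comp ((toThree e).comp ((G2 F).subtype.comp (Subgroup.subtype _)))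
  have hφ : Function.Injective φ := Units.val_injective.comp ((toThree_injective e).comp
    (Subtype.val_injective.comp Subtype.val_injective))
  let x : Fin 12 → ↥(H55.G2.stG2 (F := F)).range :=
    fun r => ⟨H55.G2.stG2 (chevG2.stGen F r.val 1), ⟨_, rfl⟩⟩
  have hx : ∀ r, φ (x r) = rootMat r := fun r => toThree_root e r
  have ha : φ (x 0 * x 1 * x 3 * x 11) = seven := by rw [map_mul, map_mul, map_mul, hx, hx, hx, hx, seven_eq]
  have hb : φ (x 0 * x 0 * x 11) = six := by rw [map_mul, map_mul, hx, hx, six_eq]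
  haveI : Fact (Nat.Prime 7) := ⟨by norm_num⟩
  refine ⟨x 0 * x 1 * x 3 * x 11, x 0 * x 0 * x 11,
    orderOf_eq_prime (hφ ?_) fun h => seven_pow.2 (by rw [← ha, h, map_one]), ?_, fun t ht htp => hφ ?_⟩
  · rw [map_pow, ha, map_one, seven_pow.1]
  · rw [← orderOf_injective φ hφ, hb]
    have hd : orderOf six ∣ 6 := orderOf_dvd_of_pow_eq_one six_pow.1
    have hle : orderOf six ≤ 6 := Nat.le_of_dvd (by norm_num) hd
    have h2 : ¬ orderOf six ∣ 2 := fun h => six_pow.2.1 (orderOf_dvd_iff_pow_eq_one.1 h)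
    have h3 : ¬ orderOf six ∣ 3 := fun h => six_pow.2.2 (orderOf_dvd_iff_pow_eq_one.1 h)
    generalize orderOf six = m at *
    interval_cases m <;> simp_all (config := {decide := true})
  · rw [map_one]
    refine eq_one_of_commute_seven _ ?_ (fun u v => toThree_mul e t.1 u v) (by rw [← ha, ← map_mul, ← map_mul, ht]) ?_
    · have h := congrArg (fun v : Fin 8 → F => fun i => e (v i)) (H18.g2App_octOne t.1)
      have h1 : (fun i => e (H18.octOne F i)) = H18.octOne (ZMod 3) := by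
        funext i; fin_cases i <;> simp [H18.octOne, H18.zVec]
      rw [← h1]
      refine Eq.trans ?_ h
      funext i
      exact (RingHom.map_mulVec e.toRingHom _ _ i).symm
    · rcases htp with h | h
      · exact Or.inl (by rw [← map_pow, h, map_one])
      · exact Or.inr (by rw [← map_pow, h, map_one])

end H56G2
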