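import Cfsg.Agent.H56.MonsterCore
import Cfsg.Agent.H6.Basic

/-!
The centraliser of an involution of `Q` not conjugate to `z`, modulo that involution.
-/

set_option autoImplicit false

namespace H56M

open Cfsg H95

theorem coe_leechU_eq : (Spor.leechU : GolayPt → ℤ) = (vBase : GolayPt → ℤ) := by
  rw [coe_vBase]
  funext p
  show (if p = none ∨ p = some 0 then (4 : ℤ) else 0) = _
  rw [Pi.add_apply, Pi.single_apply, Pi.single_apply]
  by_cases h : p = none
  · subst h; simp
  · by_cases h' : p = some 0 <;> simp [h, h']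

theorem leechU_eq : Spor.leechU = vBase := Subtype.ext coe_leechU_eq

/-- `Co2` inside `Co0` -/
def co2Incl : Spor.Co2 →* Co0 := Subgroup.inclusion inf_le_left

/-- `Co2` inside `Co1` -/
noncomputable def kap : Spor.Co2 →* Spor.Co1 := (QuotientGroup.mk' _).comp co2Incl

theorem co2Incl_fix (g : Spor.Co2) : co2Incl g • vBase = vBase := by
  rw [← leechU_eq]; exact g.2.2

theorem kap_injective : Function.Injective kap := by
  rw [injective_iff_map_eq_one]
  intro g hg
  have hz : co2Incl g ∈ Subgroup.center Co0 := (QuotientGroup.eq_one_iff _).mp hg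
  rcases H95.center_cases hz with h | h
  · exact Subgroup.inclusion_injective _ (h.trans (map_one _).symm)
  · exfalso
    have e := co2Incl_fix g
    rw [h, negOne_smul] at e
    have h2 : ldot vBase vBase = -ldot vBase vBase := by
      nth_rewrite 1 [← e]; rw [leechLike.neg_left]
    rw [vBase_norm] at h2
    omega

theorem mem_kap_range {g : Co0} :
    (QuotientGroup.mk g : Spor.Co1) ∈ kap.range ↔ cls (g • vBase) = cls vBase := by
  constructor
  · rintro ⟨g', hg'⟩
    have : (co2Incl g')⁻¹ * g ∈ Subgroup.center Co0 := QuotientGroup.eq.mp hg'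
    rcases H95.center_cases this with e | e
    · rw [inv_mul_eq_one] at e
      rw [← e, co2Incl_fix]
    · rw [inv_mul_eq_iff_eq_mul] at e
      rw [e, mul_smul, negOne_smul, co0_neg, co2Incl_fix, cls_neg]
  · intro h
    have mk : ∀ g' : Co0, g' • vBase = vBase → (QuotientGroup.mk g' : Spor.Co1) ∈ kap.range := by
      intro g' hg'
      refine ⟨⟨g'.1, g'.2, ?_⟩, ?_⟩
      · show g'.1 • Spor.leechU = Spor.leechU
        rw [leechU_eq]; exact hg'
      · show QuotientGroup.mk (co2Incl ⟨g'.1, _⟩) = _
        congr 1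
    rcases cls_vBase_smul h with e | e
    · exact mk g e
    · have := mk (g * negOne) (by rw [mul_smul, negOne_smul, co0_neg, e, neg_neg])
      rwa [QuotientGroup.mk_mul_of_mem g negOne_mem_center] at this

theorem mem_perp_iff {x : leechLattice} : x ∈ leechPerpU ↔ bf x vBase = 0 := by
  rw [bf_eq_zero, ← leechU_eq]; exact Iff.rfl

theorem vBase_ne : cls vBase ≠ 0 := fun h => by
  have := eq_or_neg_of_cls (v := vBase) (w := 0) (by rw [vBase_norm]; norm_num)
    (by rw [leechLike.zero_left]; norm_num) h (Or.inl (by rw [vBase_norm]; norm_num))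
  rcases this with e | e
  · have := vBase_norm; rw [e, leechLike.zero_left] at this; omega
  · have := vBase_norm; rw [e, neg_zero, leechLike.zero_left] at this; omega

theorem vBase_add_ne : cls (vBase + eight none) ≠ 0 := fun h => by
  have h' : cls vBase = cls (eight none) := by
    rw [cls_add] at h
    calc cls vBase = cls vBase + (cls (eight none) + cls (eight none)) := by rw [cls_add_self, add_zero]
      _ = cls (eight none) := by rw [← add_assoc, h, zero_add]
  rcases eq_or_neg_of_cls (by rw [vBase_norm]; norm_num) (by rw [eight_norm]) h'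
    (Or.inl (by rw [vBase_norm]; norm_num)) with e | e
  · have := vBase_norm; rw [e, eight_norm] at this; omega
  · have := vBase_norm; rw [e, leechLike.norm_neg, eight_norm] at this; omega

/-- a lattice vector orthogonal to the short vector but not to the frame -/
theorem exists_sep : ∃ u : leechLattice, bf u vBase = 0 ∧ bf u (eight none) ≠ 0 := by
  classical
  obtain ⟨a, ha, hv⟩ := exists_code_small ({none, some 0} : Finset GolayPt)
    (le_trans Finset.card_le_two (by norm_num)) (Pi.single (some 0) 1)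
  set u := mono 1 (support₂ a) (one_mem _) ⟨a, ha, rfl⟩ • (⟨oddVec, oddVec_mem⟩ : leechLattice)
  have hn : (none : GolayPt) ∉ support₂ a := by simp [support₂, hv none (by simp)]
  have h0 : (some 0 : GolayPt) ∈ support₂ a := by simp [support₂, hv (some 0) (by simp)]
  have e1 : (u : GolayPt → ℤ) none = -3 := by
    simp only [u, mono_smul]; show (if _ then _ else _) = _; rw [if_neg hn]; rfl
  have e2 : (u : GolayPt → ℤ) (some 0) = -1 := by
    simp only [u, mono_smul]; show (if _ then _ else _) = _; rw [if_pos h0]; rfl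
  refine ⟨u, ?_, fun h => ?_⟩
  · rw [bf_eq_zero, ldot_vBase, e1, e2]; norm_num
  · rw [bf_eight, e1] at h; omega

variable {G : Type*} [Group G] {z : G} {Q : Subgroup (CZ z)} [Q.Normal]

namespace Data

variable (D : Data z Q)
include D

/-- `x ∈ Q` of class 64 is conjugate to `z` -/
theorem conj_z_of_64 {x : G} {v : leechLattice} (hx : D.Rep x v) (hv : ldot v v = 64) :
    IsConj z x := by
  obtain ⟨g, ⟨hgc, hgQ⟩, hgz⟩ := D.hS.2.2.2.2
  have hs : IsConj z (g * z * g⁻¹) := isConj_iff.mpr ⟨g, rfl⟩
  obtain ⟨w, hw, hw64⟩ := D.conj_class (x := g * z * g⁻¹) ⟨_, hgQ, rfl⟩ hs hgz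
  obtain ⟨a, ha⟩ := exists_to_eight hv
  obtain ⟨b, hb⟩ := exists_to_eight hw64
  have hw0 : cls w ≠ 0 := fun h0 => by
    rcases D.rep_zero_cases hw h0 with h | h
    · exact D.t_ne_one (g := g) rfl h
    · exact hgz h
  obtain ⟨k, hk, hks⟩ := D.conj_of_same hw hx hw0 (g := a⁻¹ * b)
    (by rw [mul_smul, hb, ← ha, inv_smul_smul])
  exact hs.trans (isConj_iff.mpr ⟨k, hks⟩)

variable {t : G} (hrep : D.Rep t vBase)
include hrep

theorem not_conj32 : ¬ IsConj z t := fun h => by
  obtain ⟨a, ha⟩ := isConj_iff.mp h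
  exact D.no32 ha hrep fun e => vBase_ne ((hrep.unique (e.symm ▸ D.rep_z)))

theorem t_facts : t * t = 1 ∧ t ≠ 1 ∧ t ≠ z :=
  ⟨hrep.sq_iff.mpr (qf_L4 vBase_mem_L4), fun h => vBase_ne (hrep.unique (h ▸ D.rep_one)),
    fun h => vBase_ne (hrep.unique (h ▸ D.rep_z))⟩

/-- some conjugate of `z` in `Q` is reached inside the centraliser of `t` -/
theorem exists_fusion : ∃ a s, a * t = t * a ∧ a * z * a⁻¹ = s ∧ D.Rep s (eight none) := by
  obtain ⟨ht2, ht1, htz⟩ := D.t_facts hrep
  obtain ⟨s, hs⟩ := D.exists_elt (eight none)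
  have hsz : s ≠ z := fun h => by
    have h0 : cls (eight none) = 0 := hs.unique (h ▸ D.rep_z)
    rcases eq_or_neg_of_cls (v := (0 : leechLattice)) (w := eight none)
      (by rw [leechLike.zero_left]; norm_num) (by rw [eight_norm]) h0.symm
      (Or.inl (by rw [leechLike.zero_left]; norm_num)) with e | e
    · have := eight_norm none; rw [← e, leechLike.zero_left] at this; omega
    · have := eight_norm none; rw [← neg_neg (eight none), ← e, neg_zero, leechLike.zero_left] at this
      omega
  obtain ⟨g, hg⟩ := isConj_iff.mp (D.conj_z_of_64 hs (eight_norm none))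
  have htR : t ∈ RG Q g := ((D.mem_inter_iff hg hs hsz).mpr ⟨_, vBase_mem_L4, hrep⟩).2
  have hzR : z ∈ RG Q g := D.z_mem_R64 hg hs hsz
  -- some element of `R` centralising `t` moves `z`
  obtain ⟨r, hr, hrt, hrz⟩ : ∃ r ∈ RG Q g, r * t = t * r ∧ r * z * r⁻¹ = s * z := by
    by_contra hcon
    push Not at hcon
    have hall : ∀ r ∈ RG Q g, r * t = t * r → r * z = z * r := by
      intro r hr hrt
      rcases D.R_comm_cases hg hr hzR with c | c
      · exact mul_inv_eq_iff_eq_mul.mp (mul_inv_eq_one.mp c)
      · exact absurd (mul_inv_eq_iff_eq_mul.mp c) (hcon r hr hrt)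
    obtain ⟨w, hw⟩ := D.exists_rep (mem_RG.mp hzR)
    obtain ⟨v, hv⟩ := D.exists_rep (mem_RG.mp htR)
    have hperp : ∀ u, bf v u = 0 → bf w u = 0 := by
      intro u hu
      have hx := D.rep_elt u
      have hxR : g * D.elt u * g⁻¹ ∈ RG Q g := ⟨_, hx.mem, rfl⟩
      have e : g⁻¹ * (g * D.elt u * g⁻¹) * g = D.elt u := by group
      have h1 : g * D.elt u * g⁻¹ * t = t * (g * D.elt u * g⁻¹) := by
        rw [← commute_iff_conj g, e]
        exact ((hv.comm_iff hx).mpr hu).symm
      have h2 := (commute_iff_conj g _ _).mpr (hall _ hxR h1)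
      rw [e] at h2
      exact (hw.comm_iff hx).mp h2.symm
    rcases D.cases_of_perp hperp with h | h
    · rcases D.rep_zero_cases hw h with e | e
      · exact D.z_ne_one (by rw [unconj e]; group)
      · exact hsz (by rw [← hg, ← unconj e])
    · rcases hv.same (hw.congr h) with e | e
      · exact htz (by rw [unconj e]; group)
      · have e2 : z = s * t := by
          rw [unconj e, ← hg]; group
        have e3 : t = s * z := by
          rw [e2, ← mul_assoc, hs.sq_iff.mpr (qf_L4 (eight_mem_L4 none)), one_mul]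
        have e4 : D.Rep t (eight none + 0) := e3 ▸ hs.mul D.rep_z
        rw [add_zero] at e4
        refine vBase_add_ne ?_
        rw [cls_add, hrep.unique e4, cls_add_self]
  -- and some element of `Q` centralising `t` moves `s`
  obtain ⟨u, hu1, hu2⟩ := exists_sep
  have hq := D.rep_elt u
  have hqt : D.elt u * t = t * D.elt u := (hq.comm_iff hrep).mpr hu1
  have hqs : D.elt u * s * (D.elt u)⁻¹ = z * s := by
    rcases D.comm_cases hq.mem hs.mem with c | c
    · exact absurd ((hq.comm_iff hs).mp (mul_inv_eq_iff_eq_mul.mp (mul_inv_eq_one.mp c))) hu2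
    · exact mul_inv_eq_iff_eq_mul.mp c
  refine ⟨(D.elt u)⁻¹ * r, s, ?_, ?_, hs⟩
  · exact ((Commute.inv_left (hqt : Commute (D.elt u) t)).mul_left (hrt : Commute r t)).eq
  · have hsz' : s * z = z * s := (D.commute_z (coe_mem_CZ hs.mem)).symm
    calc (D.elt u)⁻¹ * r * z * ((D.elt u)⁻¹ * r)⁻¹ = (D.elt u)⁻¹ * (r * z * r⁻¹) * D.elt u := by group
      _ = (D.elt u)⁻¹ * (D.elt u * s * (D.elt u)⁻¹) * D.elt u := by rw [hrz, hsz', hqs]
      _ = s := by group

end Data

end H56M
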