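import Cfsg.Agent.H56.MonsterBaby

/-!
`C(t)/⟨t⟩` is of Baby Monster type.
-/

set_option autoImplicit false

namespace H56M

open Cfsg H95
open scoped commutatorElement

variable {G : Type*} [Group G] [Finite G] {z : G} {Q : Subgroup (CZ z)} [Q.Normal]

theorem isOfBabyMonsterType_quot (D : Data z Q) {t : G} (hrep : D.Rep t vBase)
    [hn : ((Subgroup.zpowers t).subgroupOf (CZ t)).Normal] :
    IsOfBabyMonsterType (↥(CZ t) ⧸ (Subgroup.zpowers t).subgroupOf (CZ t)) := by
  classical
  obtain ⟨ht2, ht1, htz⟩ := D.t_facts hrep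
  set N := (Subgroup.zpowers t).subgroupOf (CZ t) with hNdef
  have hN : ∀ x : CZ t, x ∈ N ↔ ((x : G) = 1 ∨ (x : G) = t) := by
    intro x
    rw [hNdef, Subgroup.mem_subgroupOf]
    constructor
    · intro h
      obtain ⟨k, hk⟩ := Subgroup.mem_zpowers_iff.mp h
      rw [← hk]
      rcases Int.even_or_odd' k with ⟨m, rfl | rfl⟩
      · left; rw [zpow_mul, zpow_two, ht2, one_zpow]
      · right; rw [zpow_add, zpow_mul, zpow_two, ht2, one_zpow, one_mul, zpow_one]
    · rintro (h | h) <;> rw [h]
      · exact one_mem _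
      · exact Subgroup.mem_zpowers t
  let π := QuotientGroup.mk' N
  have hπ : ∀ x y : CZ t, π x = π y ↔ (y : G) = x ∨ (y : G) = x * t := by
    intro x y
    rw [QuotientGroup.mk'_apply, QuotientGroup.mk'_apply, QuotientGroup.eq, hN]
    constructor
    · rintro (h | h)
      · exact Or.inl (inv_mul_eq_one.mp h).symm
      · exact Or.inr (inv_mul_eq_iff_eq_mul.mp h)
    · rintro (h | h)
      · exact Or.inl (by simp [h])
      · exact Or.inr (by simp [h])
  have hzt : z ∈ CZ t := mem_CZ.mpr (D.commute_z (coe_mem_CZ hrep.mem))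
  set Z := π ⟨z, hzt⟩ with hZdef
  have hZ1 : Z ≠ 1 := fun h => by
    rw [hZdef, ← map_one π, hπ] at h
    rcases h with h | h
    · exact D.z_ne_one h.symm
    · apply htz
      have h' : (1 : G) = z * t := h
      calc t = (z * z) * t := by rw [D.z_sq, one_mul]
        _ = z * (z * t) := by group
        _ = z := by rw [← h', mul_one]
  have hZsq : Z ^ 2 = 1 := by
    rw [hZdef, ← map_pow, sq, show (⟨z, hzt⟩ : CZ t) * ⟨z, hzt⟩ = 1 from Subtype.ext D.z_sq, map_one]
  let P := CZ z ⊓ CZ t
  let ρ : P →* CZ Z := MonoidHom.mk' (fun x => ⟨π ⟨x, x.2.2⟩, mem_CZ.mpr (by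
      rw [hZdef, ← map_mul, ← map_mul]
      congr 1
      exact Subtype.ext (mem_CZ.mp x.2.1))⟩) fun x y => Subtype.ext (map_mul π ⟨_, x.2.2⟩ ⟨_, y.2.2⟩)
  have hρ : Function.Surjective ρ := by
    rintro ⟨y, hy⟩
    obtain ⟨x, rfl⟩ := QuotientGroup.mk_surjective y
    have h : π (⟨z, hzt⟩ * x) = π (x * ⟨z, hzt⟩) := by
      rw [map_mul, map_mul]; exact (mem_CZ.mp hy).symm
    rcases (hπ _ _).mp h with e | e
    · exact ⟨⟨x, mem_CZ.mpr e, x.2⟩, rfl⟩
    · exfalso
      have e' : (x : G) * z * (x : G)⁻¹ = z * t := by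
        rw [mul_inv_eq_iff_eq_mul]
        refine e.trans ?_
        show z * (x : G) * t = z * t * (x : G)
        rw [mul_assoc, mem_CZ.mp x.2, mul_assoc]
      refine D.no32 e' ((D.rep_z.mul hrep).congr (by rw [zero_add])) fun he => ht1 ?_
      exact mul_eq_left.mp he
  have hρker : ∀ x : P, ρ x = 1 ↔ ((x : G) = 1 ∨ (x : G) = t) := fun x => by
    rw [Subtype.ext_iff]
    show π ⟨x, x.2.2⟩ = 1 ↔ _
    rw [QuotientGroup.mk'_apply, QuotientGroup.eq_one_iff, hN]
  let θ : P →* Spor.Co1 := D.e.toMonoidHom.comp ((QuotientGroup.mk' Q).comp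
    (Subgroup.inclusion (inf_le_left : P ≤ CZ z)))
  have hθ : ∀ (x : P) (g₀ : Co0), D.Lift x g₀ ↔ θ x = QuotientGroup.mk g₀ := fun x g₀ =>
    ⟨fun ⟨_, h⟩ => h.symm, fun h => ⟨x.2.1, h.symm⟩⟩
  have hθr : ∀ x : P, θ x ∈ kap.range := by
    intro x
    obtain ⟨g₀, hl⟩ := D.exists_lift_of_mem x.2.1
    rw [(hθ x g₀).mp hl, mem_kap_range]
    have h1 := hrep.conj hl
    rw [mem_CZ.mp x.2.2, mul_inv_cancel_right] at h1
    exact h1.unique hrep
  let χ : P →* Spor.Co2 :=
    (MonoidHom.ofInjective kap_injective).symm.toMonoidHom.comp (θ.codRestrict kap.range hθr)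
  have hχ : ∀ x, kap (χ x) = θ x := fun x => by
    have h := (MonoidHom.ofInjective kap_injective).apply_symm_apply (θ.codRestrict kap.range hθr x)
    exact congrArg Subtype.val h
  have hχ1 : ∀ x, χ x = 1 ↔ (x : G) ∈ QG Q := fun x => by
    rw [← kap_injective.eq_iff, hχ, map_one, ← QuotientGroup.mk_one, ← hθ, D.lift_one_iff]
  have hχs : Function.Surjective χ := by
    intro g'
    obtain ⟨h, hl, hh⟩ := D.exists_lift_fix hrep vBase_ne
      (g₀ := co2Incl g') (by rw [co2Incl_fix])
    refine ⟨⟨h, hl.1, mem_CZ.mpr hh⟩, kap_injective ?_⟩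
    rw [hχ, (hθ ⟨h, hl.1, mem_CZ.mpr hh⟩ _).mp hl]
    rfl
  let χ' : CZ Z →* Spor.Co2 := ρ.liftOfSurjective hρ ⟨χ, fun x hx => by
    rw [MonoidHom.mem_ker] at hx ⊢
    rw [hχ1]
    rcases (hρker x).mp hx with h | h <;> rw [h]
    · exact one_mem _
    · exact hrep.mem⟩
  have hχ' : ∀ x, χ' (ρ x) = χ x := fun x => MonoidHom.liftOfRightInverse_comp_apply _ _ _ _ x
  have hχ's : Function.Surjective χ' := fun g' => by
    obtain ⟨x, hx⟩ := hχs g'
    exact ⟨ρ x, by rw [hχ', hx]⟩
  set R : Subgroup (CZ Z) := χ'.ker with hRdef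
  have hR : ∀ x, ρ x ∈ R ↔ (x : G) ∈ QG Q := fun x => by
    rw [hRdef, MonoidHom.mem_ker, hχ', hχ1]
  -- the orthogonal of `t` in `Q`
  let S : Subgroup G := QG Q ⊓ CZ t
  have hSP : S ≤ P := fun x hx => ⟨coe_mem_CZ hx.1, hx.2⟩
  let σ : S →* R := MonoidHom.mk' (fun x => ⟨ρ (Subgroup.inclusion hSP x), (hR _).mpr x.2.1⟩)
    fun x y => Subtype.ext (map_mul (ρ.comp (Subgroup.inclusion hSP)) x y)
  have hσs : Function.Surjective σ := by
    rintro ⟨y, hy⟩
    obtain ⟨x, rfl⟩ := hρ y
    exact ⟨⟨x, (hR x).mp hy, x.2.2⟩, rfl⟩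
  have hσk : ∀ x, σ x = 1 ↔ ((x : G) = 1 ∨ (x : G) = t) := fun x => by
    rw [Subtype.ext_iff]
    exact hρker _
  have hS : ∀ {x : G} {v : leechLattice}, D.Rep x v → (x ∈ S ↔ bf v vBase = 0) := fun {x v} h =>
    ⟨fun hx => (h.comm_iff hrep).mp (mem_CZ.mp hx.2),
      fun hb => ⟨h.mem, mem_CZ.mpr ((h.comm_iff hrep).mpr hb)⟩⟩
  have hcardS : Nat.card S = 2 ^ 24 := by
    let ξ : QG Q →* Multiplicative (ZMod 2) := MonoidHom.mk'
      (fun x => Multiplicative.ofAdd (bf (D.exists_rep x.2).choose vBase)) fun x y => by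
        rw [← ofAdd_add]
        congr 1
        rw [← D.bf_add_left]
        have h := ((D.exists_rep x.2).choose_spec.mul (D.exists_rep y.2).choose_spec).unique
          (D.exists_rep (x * y).2).choose_spec
        obtain ⟨w, hw⟩ := mem_twice.mp (cls_eq.mp h.symm)
        rw [show (D.exists_rep (x * y).2).choose
          = ((D.exists_rep x.2).choose + (D.exists_rep y.2).choose) + 2 • w by rw [← hw]; abel,
          two_nsmul, D.bf_add_left _ (w + w), D.bf_add_left w w, CharTwo.add_self_eq_zero, add_zero]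
    have hker : ∀ x, x ∈ ξ.ker ↔ (x : G) ∈ S := fun x => by
      rw [MonoidHom.mem_ker, hS (D.exists_rep x.2).choose_spec]
      exact Multiplicative.toAdd.injective.eq_iff.symm.trans Iff.rfl
    have hsur : Function.Surjective ξ := by
      intro b
      rcases zmod2_cases (Multiplicative.toAdd b) with hb | hb
      · exact ⟨1, by rw [map_one]; exact (Multiplicative.toAdd.injective (hb.trans rfl)).symm⟩
      · have : ∃ u, bf u vBase ≠ 0 := by
          by_contra hc
          push Not at hc
          exact vBase_ne (D.nondeg fun u => by rw [bf_comm]; exact hc u)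
        obtain ⟨u, hu⟩ := this
        refine ⟨⟨_, (D.rep_elt u).mem⟩, Multiplicative.toAdd.injective ?_⟩
        rw [hb]
        refine (zmod2_cases _).resolve_left fun h0 => hu ?_
        exact ((hS (D.rep_elt u)).mp ((hker ⟨_, (D.rep_elt u).mem⟩).mp
          (Multiplicative.toAdd.injective (h0.trans rfl))))
    have h := ξ.ker.card_mul_index
    rw [Subgroup.index_ker, Nat.card_congr (Equiv.Set.univ _) |>.symm.trans rfl] at h
    rw [MonoidHom.range_eq_top.mpr hsur] at h
    have hmap : ξ.ker.map (QG Q).subtype = S := by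
      ext x
      constructor
      · rintro ⟨y, hy, rfl⟩; exact (hker y).mp hy
      · intro hx; exact ⟨⟨x, hx.1⟩, (hker _).mpr hx, rfl⟩
    rw [← hmap, ← Nat.card_congr (Subgroup.equivMapOfInjective _ _ (QG Q).subtype_injective).toEquiv]
    simp only [Nat.card_univ, Subgroup.card_top] at h
    have hQ := D.card_QG
    have h2 : Nat.card (Multiplicative (ZMod 2)) = 2 := Nat.card_zmod 2
    simp only [h2, hQ] at h
    omega
  have hcardR : Nat.card R = 2 ^ 23 := by
    have h := σ.ker.card_mul_index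
    rw [Subgroup.index_ker, MonoidHom.range_eq_top.mpr hσs, Subgroup.card_top, hcardS] at h
    have hk : Nat.card σ.ker = 2 := by
      have e : (σ.ker : Set S) = {1, ⟨t, (hS hrep).mpr (bf_L4 vBase_mem_L4 vBase_mem_L4)⟩} := by
        ext x
        rw [SetLike.mem_coe, MonoidHom.mem_ker, hσk]
        constructor
        · rintro (h | h)
          · exact Or.inl (Subtype.ext h)
          · exact Or.inr (Subtype.ext h)
        · rintro (rfl | rfl)
          · exact Or.inl rfl
          · exact Or.inr rfl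
      show Nat.card (σ.ker : Set S) = 2
      rw [e, Nat.card_coe_set_eq, Set.ncard_pair]
      exact fun h => ht1 (congrArg Subtype.val h).symm
    rw [hk] at h
    omega
  -- commutation in `R`
  have hcomm : ∀ x y : S, σ x * σ y = σ y * σ x ↔ (x : G) * y = y * x := by
    intro x y
    refine ⟨fun h => ?_, fun h => by rw [← map_mul, ← map_mul]; congr 1; exact Subtype.ext h⟩
    have h1 : σ (x * y * x⁻¹ * y⁻¹) = 1 := by simp [map_mul, map_inv, h]
    rcases (hσk _).mp h1 with e | e
    · exact mul_inv_eq_iff_eq_mul.mp (mul_inv_eq_one.mp e)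
    · exfalso
      rcases D.comm_cases x.2.1 y.2.1 with c | c
      · exact ht1 (e.symm.trans c)
      · exact htz (e.symm.trans c)
  have hZS : z ∈ S := ⟨D.z_mem, hzt⟩
  set w : R := σ ⟨z, hZS⟩ with hwdef
  have hw1 : w ≠ 1 := fun h => by
    rcases (hσk _).mp h with e | e
    · exact D.z_ne_one e
    · exact htz e.symm
  have hσt : ∀ ht : t ∈ S, σ ⟨t, ht⟩ = 1 := fun ht => (hσk _).mpr (Or.inr rfl)
  have hcenter : ∀ r : R, r ∈ Subgroup.center R ↔ (r = 1 ∨ r = w) := by
    intro r
    obtain ⟨x, rfl⟩ := hσs r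
    constructor
    · intro hx
      obtain ⟨v, hv⟩ := D.exists_rep x.2.1
      have hperp : ∀ u, bf vBase u = 0 → bf v u = 0 := by
        intro u hu
        have hu' := D.rep_elt u
        have hmem : D.elt u ∈ S := (hS hu').mpr (by rw [bf_comm]; exact hu)
        exact (hv.comm_iff hu').mp ((hcomm x ⟨_, hmem⟩).mp (Subgroup.mem_center_iff.mp hx _).symm)
      rcases D.cases_of_perp hperp with h | h
      · rcases D.rep_zero_cases hv h with e | e
        · exact Or.inl (by rw [show x = 1 from Subtype.ext e, map_one])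
        · exact Or.inr (by rw [show x = ⟨z, hZS⟩ from Subtype.ext e])
      · rcases hrep.same (hv.congr h) with e | e
        · exact Or.inl ((hσk x).mpr (Or.inr e))
        · right
          have htS : t ∈ S := (hS hrep).mpr (bf_L4 vBase_mem_L4 vBase_mem_L4)
          rw [show x = ⟨z, hZS⟩ * ⟨t, htS⟩ from Subtype.ext e, map_mul, hσt, mul_one]
    · rintro (h | h) <;> rw [h]
      · exact one_mem _
      · rw [Subgroup.mem_center_iff]
        intro a
        obtain ⟨y, rfl⟩ := hσs a
        exact ((hcomm ⟨z, hZS⟩ y).mpr (D.commute_z (coe_mem_CZ y.2.1))).symm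
  have hcc : Nat.card (Subgroup.center R) = 2 := by
    show Nat.card ((Subgroup.center R : Subgroup R) : Set R) = 2
    rw [show ((Subgroup.center R : Subgroup R) : Set R) = {1, w} from Set.ext fun r => hcenter r,
      Nat.card_coe_set_eq, Set.ncard_pair hw1.symm]
  have hRp : IsPGroup 2 R := IsPGroup.of_card hcardR
  have hsq : ∀ r : R, r ^ 2 ∈ Subgroup.center R := by
    intro r
    obtain ⟨x, rfl⟩ := hσs r
    rw [← map_pow, hcenter, sq]
    rcases D.sq_cases x.2.1 with e | e
    · exact Or.inl (by rw [show x * x = 1 from Subtype.ext e, map_one])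
    · exact Or.inr (by rw [show x * x = ⟨z, hZS⟩ from Subtype.ext e])
  have hcle : commutator R ≤ Subgroup.center R := by
    rw [commutator_def, Subgroup.commutator_le]
    intro a _ b _
    obtain ⟨x, rfl⟩ := hσs a
    obtain ⟨y, rfl⟩ := hσs b
    rw [← map_commutatorElement, hcenter]
    rcases D.comm_cases x.2.1 y.2.1 with e | e
    · exact Or.inl (by rw [show ⁅x, y⁆ = 1 from Subtype.ext e, map_one])
    · exact Or.inr (by rw [show ⁅x, y⁆ = ⟨z, hZS⟩ from Subtype.ext e])
  have hceq : commutator R = Subgroup.center R := by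
    refine Subgroup.eq_of_le_of_card_ge hcle ?_
    rw [hcc]
    have h1 : commutator R ≠ ⊥ := by
      intro hb
      have : Subgroup.center R = ⊤ := by
        rw [Subgroup.eq_top_iff']
        intro a
        rw [Subgroup.mem_center_iff]
        intro b
        have : ⁅b, a⁆ ∈ commutator R :=
          Subgroup.commutator_mem_commutator (Subgroup.mem_top b) (Subgroup.mem_top a)
        rw [hb, Subgroup.mem_bot] at this
        exact commutatorElement_eq_one_iff_mul_comm.mp this
      have hc := hcc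
      rw [this, Subgroup.card_top, hcardR] at hc
      norm_num at hc
    have h2 := (Subgroup.one_lt_card_iff_ne_bot (commutator R)).mpr h1
    omega
  have : Fact (Nat.Prime 2) := ⟨Nat.prime_two⟩
  have hext : IsExtraspecial 2 R := by
    refine ⟨⟨hRp, le_antisymm ?_ ?_, hceq⟩, hcc⟩
    · exact H6.frattini_le_of_quotient (p := 2) _ hcle hsq
    · rw [← hceq]; exact H6.commutator_le_frattini hRp
  have : R.Normal := MonoidHom.normal_ker χ'
  -- self-centralising
  have hcentR : Subgroup.centralizer (R : Set (CZ Z)) ≤ R := by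
    intro d hd
    obtain ⟨h, rfl⟩ := hρ d
    refine (hR h).mpr (D.mem_QG_of_kernel hrep (fun _ a b => scalar_of_kernel32 a b) h.2.1
      (mem_CZ.mp h.2.2) fun x hx hxt => ?_)
    have hxS : x ∈ S := ⟨hx, mem_CZ.mpr hxt⟩
    have hc := Subgroup.mem_centralizer_iff.mp hd _ ((hR (Subgroup.inclusion hSP ⟨x, hxS⟩)).mpr hx)
    have h1 : ρ (h * Subgroup.inclusion hSP ⟨x, hxS⟩ * h⁻¹ * (Subgroup.inclusion hSP ⟨x, hxS⟩)⁻¹)
        = 1 := by simp [map_mul, map_inv, ← hc]
    rcases (hρker _).mp h1 with e | e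
    · exact Or.inl (mul_inv_eq_one.mp e)
    · exact Or.inr (mul_inv_eq_iff_eq_mul.mp e)
  have hcore : pCore 2 (CZ Z) = R := by
    refine le_antisymm ?_ (le_sSup ⟨inferInstance, hRp⟩)
    have hOn : (pCore 2 (CZ Z)).Normal := H1.pCore_normal' 2 (CZ Z)
    have hOp : IsPGroup 2 (pCore 2 (CZ Z)) := H1.isPGroup_pCore 2 (CZ Z)
    set T : Subgroup Spor.Co2 := (pCore 2 (CZ Z)).map χ' with hT
    have hTn : T.Normal := hOn.map χ' hχ's
    have hTp : IsPGroup 2 T := hOp.map χ'
    let U : Subgroup Co0 := T.map co2Incl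
    let U' : Subgroup Co0 := U ⊔ Subgroup.zpowers negOne
    have hnegc : Subgroup.zpowers negOne ≤ Subgroup.center Co0 :=
      Subgroup.zpowers_le.mpr negOne_mem_center
    have : (Subgroup.zpowers negOne).Normal := ⟨fun a ha g => by
      rwa [Subgroup.mem_center_iff.mp (hnegc ha) g, mul_inv_cancel_right]⟩
    have hU'p : IsPGroup 2 U' := (hTp.map co2Incl).to_sup_of_normal_right
      (IsPGroup.of_card (n := 1) (by
        rw [Nat.card_zpowers, pow_one]
        exact orderOf_eq_prime (by rw [sq, negOne_mul_self]) negOne_ne_one))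
    have hmem : ∀ n ∈ U', ∃ a ∈ U, n = a ∨ n = a * negOne := by
      intro n hn
      obtain ⟨a, ha, b, hb, rfl⟩ := Subgroup.mem_sup_of_normal_right.mp hn
      obtain ⟨k, rfl⟩ := Subgroup.mem_zpowers_iff.mp hb
      rcases Int.even_or_odd' k with ⟨m, rfl | rfl⟩
      · exact ⟨a, ha, Or.inl (by rw [zpow_mul, zpow_two, negOne_mul_self, one_zpow, mul_one])⟩
      · exact ⟨a, ha, Or.inr (by
          rw [zpow_add, zpow_mul, zpow_two, negOne_mul_self, one_zpow, one_mul, zpow_one])⟩
    have hall := no_two_normal32 U' hU'p (fun n hn => by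
        obtain ⟨_, ⟨c, hc, rfl⟩, h | h⟩ := hmem n hn <;> rw [h]
        · rw [co2Incl_fix]
        · rw [mul_smul, negOne_smul, co0_neg, co2Incl_fix, cls_neg]) (fun g hg n hn => by
        obtain ⟨_, ⟨c, hc, rfl⟩, hn'⟩ := hmem n hn
        obtain ⟨g', hg'⟩ := mem_kap_range.mpr hg
        have hcent : (co2Incl g')⁻¹ * g ∈ Subgroup.center Co0 := QuotientGroup.eq.mp hg'
        set κ := (co2Incl g')⁻¹ * g with hκ
        have hge : g = co2Incl g' * κ := by rw [hκ, mul_inv_cancel_left]
        have key : g⁻¹ * co2Incl c * g = co2Incl (g'⁻¹ * c * g') := by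
          rw [map_mul, map_mul, map_inv, hge]
          calc (co2Incl g' * κ)⁻¹ * co2Incl c * (co2Incl g' * κ)
              = κ⁻¹ * (((co2Incl g')⁻¹ * co2Incl c * co2Incl g') * κ) := by group
            _ = _ := by rw [Subgroup.mem_center_iff.mp hcent, inv_mul_cancel_left]
        have hm : g⁻¹ * co2Incl c * g ∈ U' := Subgroup.mem_sup_left (key ▸ ⟨_, by
          simpa using hTn.conj_mem c hc g'⁻¹, rfl⟩)
        rcases hn' with h | h <;> rw [h]
        · exact hm
        · rw [show g⁻¹ * (co2Incl c * negOne) * g = (g⁻¹ * co2Incl c * g) * (g⁻¹ * negOne * g) by group,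
            show g⁻¹ * negOne * g = negOne by
              rw [mul_assoc, ← Subgroup.mem_center_iff.mp negOne_mem_center g, inv_mul_cancel_left]]
          exact mul_mem hm (Subgroup.mem_sup_right (Subgroup.mem_zpowers _)))
    intro d hd
    rw [hRdef, MonoidHom.mem_ker]
    have hmc : χ' d ∈ T := ⟨d, hd, rfl⟩
    apply kap_injective
    rw [map_one]
    show QuotientGroup.mk (co2Incl (χ' d)) = (1 : Spor.Co1)
    rw [QuotientGroup.eq_one_iff]
    rcases hall _ (Subgroup.mem_sup_left ⟨_, hmc, rfl⟩) with h | h <;> rw [h]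
    · exact one_mem _
    · exact negOne_mem_center
  refine ⟨Z, R, inferInstance, ⟨orderOf_eq_prime hZsq hZ1, ?_, hext, by rw [hcardR], ?_⟩, ?_⟩
  · rw [H76.fStar_eq_pCore_iff.mpr (by rw [hcore]; exact hcentR), hcore]
  · obtain ⟨a, s, hat, has, hs⟩ := D.exists_fusion hrep
    have hsS : s ∈ S := (hS hs).mpr (bf_L4 (eight_mem_L4 none) vBase_mem_L4)
    have e : π ⟨a, mem_CZ.mpr hat⟩ * Z * (π ⟨a, mem_CZ.mpr hat⟩)⁻¹
        = ((ρ (Subgroup.inclusion hSP ⟨s, hsS⟩) : CZ Z) : ↥(CZ t) ⧸ N) := by
      show _ = π ⟨s, hsS.2⟩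
      rw [hZdef, ← map_inv, ← map_mul, ← map_mul]
      congr 1
      exact Subtype.ext has
    refine ⟨π ⟨a, mem_CZ.mpr hat⟩, ⟨e.symm ▸ (ρ (Subgroup.inclusion hSP ⟨s, hsS⟩)).2, ?_⟩, ?_⟩
    · have hr := (hR (Subgroup.inclusion hSP ⟨s, hsS⟩)).mpr hs.mem
      convert hr using 1
      exact Subtype.ext e
    · intro hh
      have hh' : π ⟨z, hzt⟩ = π ⟨s, hsS.2⟩ := (e.symm.trans hh).symm
      rcases (hπ ⟨z, hzt⟩ ⟨s, hsS.2⟩).mp hh' with h | h
      · have h' : s = z := h
        have h0 : cls (eight none) = 0 := hs.unique (show D.Rep s 0 by rw [h']; exact D.rep_z)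
        rcases eq_or_neg_of_cls (v := (0 : leechLattice)) (w := eight none)
          (by rw [leechLike.zero_left]; norm_num) (by rw [eight_norm]) h0.symm
          (Or.inl (by rw [leechLike.zero_left]; norm_num)) with q | q
        · have := eight_norm none; rw [← q, leechLike.zero_left] at this; omega
        · have := eight_norm none
          rw [← neg_neg (eight none), ← q, neg_zero, leechLike.zero_left] at this; omega
      · have h' : D.Rep s (0 + vBase) := (show s = z * t from h) ▸ D.rep_z.mul hrep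
        refine vBase_add_ne ?_
        rw [cls_add, hs.unique h', zero_add, cls_add_self]
  · refine ⟨QuotientGroup.quotientKerEquivOfSurjective χ' hχ's, fun x =>
      QuotientGroup.mk (σ ⟨D.elt x, (hS (D.rep_elt x)).mpr (mem_perp_iff.mp x.2)⟩), ?_, ?_, ?_, ?_⟩
    all_goals try intro x
    · intro y
      rw [← QuotientGroup.mk_mul, ← map_mul, QuotientGroup.eq, ← map_inv, ← map_mul, hcenter]
      rcases (D.rep_elt (x + y : leechPerpU)).same ((D.rep_elt x).mul (D.rep_elt y)) with e | e
      · exact Or.inl ((hσk _).mpr (Or.inl (by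
          show (D.elt _)⁻¹ * (D.elt x * D.elt y) = 1
          rw [e, inv_mul_cancel])))
      · refine Or.inr ?_
        rw [hwdef]
        congr 1
        apply Subtype.ext
        show (D.elt _)⁻¹ * (D.elt x * D.elt y) = z
        rw [e, D.commute_z (coe_mem_CZ (D.rep_elt _).mem), inv_mul_cancel_left]
    · induction x using QuotientGroup.induction_on with
      | H r =>
        obtain ⟨y, rfl⟩ := hσs r
        obtain ⟨v, hv⟩ := D.exists_rep y.2.1
        refine ⟨⟨v, mem_perp_iff.mpr ((hS hv).mp y.2)⟩, QuotientGroup.eq.mpr ?_⟩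
        rw [← map_inv, ← map_mul, hcenter]
        rcases (D.rep_elt v).same hv with e | e
        · exact Or.inl ((hσk _).mpr (Or.inl (by
            show (D.elt v)⁻¹ * (y : G) = 1
            rw [e, inv_mul_cancel])))
        · refine Or.inr ?_
          rw [hwdef]
          congr 1
          apply Subtype.ext
          show (D.elt v)⁻¹ * (y : G) = z
          rw [e, D.commute_z (coe_mem_CZ (D.rep_elt v).mem), inv_mul_cancel_left]
    · rw [QuotientGroup.eq_one_iff, hcenter]
      have key : cls (x : leechLattice) = 0 ∨ cls (x : leechLattice) = cls vBase ↔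
          ((∃ w' : leechLattice, (x : leechLattice) = w' + w') ∨
            ∃ w' : leechLattice, (x : leechLattice) = Spor.leechU + (w' + w')) := by
        constructor
        · rintro (h | h)
          · obtain ⟨w', hw'⟩ := mem_twice.mp ((QuotientAddGroup.eq_zero_iff _).mp h)
            exact Or.inl ⟨w', by rw [hw', two_nsmul]⟩
          · obtain ⟨w', hw'⟩ := mem_twice.mp (cls_eq.mp h)
            refine Or.inr ⟨w', ?_⟩
            rw [leechU_eq, ← two_nsmul, ← hw']; abel
        · rintro (⟨w', h⟩ | ⟨w', h⟩)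
          · left; rw [h, cls_add, cls_add_self]
          · right; rw [h, leechU_eq, cls_add, cls_add, cls_add_self, add_zero]
      rw [← key]
      have hx := D.rep_elt (x : leechLattice)
      constructor
      · intro h
        have hz' : D.elt x = 1 ∨ D.elt x = z ∨ D.elt x = t ∨ D.elt x = z * t := by
          rcases h with h | h
          · rcases (hσk _).mp h with e | e
            · exact Or.inl e
            · exact Or.inr (Or.inr (Or.inl e))
          · have h1 : σ (⟨z, hZS⟩⁻¹ * ⟨D.elt x, (hS hx).mpr (mem_perp_iff.mp x.2)⟩) = 1 := by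
              rw [map_mul, map_inv, h, hwdef, inv_mul_cancel]
            rcases (hσk _).mp h1 with e | e
            · exact Or.inr (Or.inl (inv_mul_eq_one.mp e).symm)
            · exact Or.inr (Or.inr (Or.inr (inv_mul_eq_iff_eq_mul.mp e)))
        rcases hz' with e | e | e | e
        · exact Or.inl (hx.unique (show D.Rep (D.elt x) 0 by rw [e]; exact D.rep_one))
        · exact Or.inl (hx.unique (show D.Rep (D.elt x) 0 by rw [e]; exact D.rep_z))
        · exact Or.inr (hx.unique (show D.Rep (D.elt x) vBase by rw [e]; exact hrep))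
        · exact Or.inr (by rw [hx.unique (show D.Rep (D.elt x) (0 + vBase) by rw [e]; exact D.rep_z.mul hrep), zero_add])
      · rintro (h | h)
        · rcases D.rep_zero_cases hx h with e | e
          · exact Or.inl ((hσk _).mpr (Or.inl e))
          · exact Or.inr (by rw [hwdef]; congr 1; exact Subtype.ext e)
        · rcases hrep.same (hx.congr h) with e | e
          · exact Or.inl ((hσk _).mpr (Or.inr e))
          · right
            have htS : t ∈ S := (hS hrep).mpr (bf_L4 vBase_mem_L4 vBase_mem_L4)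
            rw [show (⟨D.elt x, (hS hx).mpr (mem_perp_iff.mp x.2)⟩ : S) = ⟨z, hZS⟩ * ⟨t, htS⟩
              from Subtype.ext e, map_mul, hσt, mul_one]
    · intro g hg a b hab q hq
      obtain ⟨h, rfl⟩ := hρ x
      have hg' : χ h = g := by rw [← hχ' h]; exact hg
      have hl : D.Lift (h : G) (co2Incl g) := (hθ h _).mpr (by rw [← hχ h, hg']; rfl)
      obtain ⟨y, rfl⟩ := hσs q
      have hya := QuotientGroup.eq.mp hq
      rw [← map_inv, ← map_mul, hcenter] at hya
      have hra := D.rep_elt (a : leechLattice)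
      have hy : D.Rep (y : G) a ∨ D.Rep (y : G) ((a : leechLattice) + vBase) := by
        have hmul : ∀ c : G, (D.elt a)⁻¹ * (y : G) = c → (y : G) = D.elt a * c :=
          fun c hc => inv_mul_eq_iff_eq_mul.mp hc
        rcases hya with h1 | h1
        · rcases (hσk _).mp h1 with e | e
          · left; rw [hmul _ e, mul_one]; exact hra
          · right; rw [hmul _ e]; exact hra.mul hrep
        · have h2 : σ (⟨z, hZS⟩⁻¹ * (⟨D.elt a, (hS hra).mpr (mem_perp_iff.mp a.2)⟩⁻¹ * y)) = 1 := by
            rw [map_mul, map_inv, h1, hwdef, inv_mul_cancel]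
          rcases (hσk _).mp h2 with e | e
          · left
            rw [hmul _ (inv_mul_eq_one.mp e).symm]
            simpa using hra.mul D.rep_z
          · right
            rw [hmul _ (inv_mul_eq_iff_eq_mul.mp e)]
            simpa using hra.mul (D.rep_z.mul hrep)
      have hab' : co2Incl g • (a : leechLattice) = (b : leechLattice) := hab
      have hc : (h : G) * y * (h : G)⁻¹ ∈ S :=
        ⟨QG_normal h.2.1 y.2.1, (CZ t).mul_mem ((CZ t).mul_mem h.2.2 y.2.2) ((CZ t).inv_mem h.2.2)⟩
      have hrb : D.Rep ((h : G) * y * (h : G)⁻¹) b ∨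
          D.Rep ((h : G) * y * (h : G)⁻¹) ((b : leechLattice) + vBase) := by
        rcases hy with h1 | h1
        · exact Or.inl (hab' ▸ h1.conj hl)
        · right
          have := h1.conj hl
          rwa [co0_add, co2Incl_fix, hab'] at this
      have e1 : (⟨ρ h * (σ y : R) * (ρ h)⁻¹,
          (inferInstance : R.Normal).conj_mem (σ y : R) (σ y).2 (ρ h)⟩ : R) = σ ⟨_, hc⟩ := by
        apply Subtype.ext
        show ρ h * ρ (Subgroup.inclusion hSP y) * (ρ h)⁻¹ = ρ _
        rw [← map_inv, ← map_mul, ← map_mul]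
        rfl
      rw [e1, QuotientGroup.eq, ← map_inv, ← map_mul, hcenter]
      have hb := D.rep_elt (b : leechLattice)
      rcases hrb with h1 | h1
      · rcases hb.same h1 with e | e
        · exact Or.inl ((hσk _).mpr (Or.inl (by
            show (D.elt b)⁻¹ * ((h : G) * y * (h : G)⁻¹) = 1
            rw [e, inv_mul_cancel])))
        · refine Or.inr ?_
          rw [hwdef]; congr 1; apply Subtype.ext
          show (D.elt b)⁻¹ * ((h : G) * y * (h : G)⁻¹) = z
          rw [e, D.commute_z (coe_mem_CZ hb.mem), inv_mul_cancel_left]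
      · rcases (hb.mul hrep).same h1 with e | e
        · exact Or.inl ((hσk _).mpr (Or.inr (by
            show (D.elt b)⁻¹ * ((h : G) * y * (h : G)⁻¹) = t
            rw [e, inv_mul_cancel_left])))
        · right
          rw [hwdef]
          have htS : t ∈ S := (hS hrep).mpr (bf_L4 vBase_mem_L4 vBase_mem_L4)
          rw [show (⟨D.elt b, (hS hb).mpr (mem_perp_iff.mp b.2)⟩ : S)⁻¹ * ⟨_, hc⟩
            = ⟨z, hZS⟩ * ⟨t, htS⟩ from Subtype.ext (by
              show (D.elt b)⁻¹ * ((h : G) * y * (h : G)⁻¹) = z * t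
              rw [e, ← mul_assoc z (D.elt b), D.commute_z (coe_mem_CZ hb.mem)]; group),
            map_mul, hσt, mul_one]

end H56M
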