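import Cfsg.Agent.H56.MonsterSetting

/-!
A conjugate `t` of `z` inside `Q`: the intersection with the conjugate of `Q`.
-/

set_option autoImplicit false

namespace H56M

open Cfsg H95

variable {G : Type*} [Group G] {z : G} {Q : Subgroup (CZ z)} [Q.Normal]

/-- the conjugate of `Q` inside the ambient group -/
abbrev RG (Q : Subgroup (CZ z)) (g : G) : Subgroup G := (QG Q).map (MulAut.conj g).toMonoidHom

theorem mem_RG {g x : G} : x ∈ RG Q g ↔ g⁻¹ * x * g ∈ QG Q := by
  constructor
  · rintro ⟨y, hy, rfl⟩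
    simpa [MulAut.conj_apply, mul_assoc] using hy
  · intro h; exact ⟨_, h, by simp [MulAut.conj_apply, mul_assoc]⟩

theorem unconj {g a b : G} (h : g⁻¹ * a * g = b) : a = g * b * g⁻¹ := by rw [← h]; group

theorem commute_iff_conj (g a b : G) :
    (g⁻¹ * a * g) * (g⁻¹ * b * g) = (g⁻¹ * b * g) * (g⁻¹ * a * g) ↔ a * b = b * a := by
  rw [show (g⁻¹ * a * g) * (g⁻¹ * b * g) = g⁻¹ * (a * b) * g by group,
    show (g⁻¹ * b * g) * (g⁻¹ * a * g) = g⁻¹ * (b * a) * g by group]
  simp

theorem mem_CZ_conj {g t x : G} (hgt : g * z * g⁻¹ = t) :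
    x * t = t * x ↔ g⁻¹ * x * g ∈ CZ z := by
  rw [mem_CZ, ← commute_iff_conj g x t]
  have : g⁻¹ * t * g = z := by rw [← hgt]; group
  rw [this]

namespace Data

variable (D : Data z Q) {g t : G} (hgt : g * z * g⁻¹ = t)
include D hgt

theorem t_mem_R : t ∈ RG Q g := by
  rw [mem_RG, ← hgt, show g⁻¹ * (g * z * g⁻¹) * g = z by group]; exact D.z_mem

theorem R_comm_t {x : G} (hx : x ∈ RG Q g) : x * t = t * x :=
  (mem_CZ_conj hgt).mpr (coe_mem_CZ (mem_RG.mp hx))

theorem t_sq : t * t = 1 := by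
  rw [← hgt, show g * z * g⁻¹ * (g * z * g⁻¹) = g * (z * z) * g⁻¹ by group, D.z_sq]; group

theorem t_ne_one : t ≠ 1 := by
  intro h; rw [← hgt, mul_inv_eq_one, mul_eq_left] at h; exact D.z_ne_one h

omit D in
theorem R_normal {c x : G} (hc : c * t = t * c) (hx : x ∈ RG Q g) : c * x * c⁻¹ ∈ RG Q g := by
  have h := QG_normal ((mem_CZ_conj hgt).mp hc) (mem_RG.mp hx)
  rw [mem_RG]
  convert h using 1
  group

theorem R_comm_cases {x y : G} (hx : x ∈ RG Q g) (hy : y ∈ RG Q g) :
    x * y * x⁻¹ * y⁻¹ = 1 ∨ x * y * x⁻¹ * y⁻¹ = t := by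
  have h := D.comm_cases (mem_RG.mp hx) (mem_RG.mp hy)
  rw [show g⁻¹ * x * g * (g⁻¹ * y * g) * (g⁻¹ * x * g)⁻¹ * (g⁻¹ * y * g)⁻¹
    = g⁻¹ * (x * y * x⁻¹ * y⁻¹) * g by group] at h
  rcases h with h | h
  · left; rw [unconj h]; group
  · right; rw [unconj h, hgt]

theorem R_sq_cases {x : G} (hx : x ∈ RG Q g) : x * x = 1 ∨ x * x = t := by
  have h := D.sq_cases (mem_RG.mp hx)
  rw [show g⁻¹ * x * g * (g⁻¹ * x * g) = g⁻¹ * (x * x) * g by group] at h
  rcases h with h | h
  · left; rw [unconj h]; group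
  · right; rw [unconj h, hgt]

theorem card_RG : Nat.card (RG Q g) = 2 ^ 25 := by
  rw [← Nat.card_congr (Subgroup.equivMapOfInjective (QG Q) _ (MulAut.conj g).injective).toEquiv,
    D.card_QG]

theorem R_center_cases {x : G} (hx : x ∈ RG Q g) (h : ∀ y ∈ RG Q g, x * y = y * x) :
    x = 1 ∨ x = t := by
  obtain ⟨w, hw, hwe⟩ := mem_RG.mp hx
  have hc : (⟨w, hw⟩ : Q) ∈ Subgroup.center Q := by
    rw [Subgroup.mem_center_iff]
    intro a
    apply Subtype.ext; apply Subtype.ext
    show ((a : CZ z) : G) * (w : G) = (w : G) * ((a : CZ z) : G)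
    have ha : g * ((a : CZ z) : G) * g⁻¹ ∈ RG Q g := ⟨_, ⟨_, a.2, rfl⟩, rfl⟩
    have := (commute_iff_conj g x (g * ((a : CZ z) : G) * g⁻¹)).mpr (h _ ha)
    rw [show g⁻¹ * (g * ((a : CZ z) : G) * g⁻¹) * g = ((a : CZ z) : G) by group] at this
    change (w : G) = _ at hwe
    rw [hwe]; exact this.symm
  change (w : G) = _ at hwe
  rcases D.center_cases.mp hc with e | e <;> change (w : G) = _ at e <;> rw [e] at hwe
  · left
    calc x = g * (g⁻¹ * x * g) * g⁻¹ := by group
      _ = 1 := by rw [← hwe]; group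
  · right
    calc x = g * (g⁻¹ * x * g) * g⁻¹ := by group
      _ = t := by rw [← hwe, hgt]

omit hgt in
/-- an element centralising `z` and the class of `v` and acting trivially on its orthogonal -/
theorem mem_QG_of_kernel {v : leechLattice} {r : G} (hrep : D.Rep t v)
    (hK : ∀ g₀ : Co0, cls (g₀ • v) = cls v →
      (∀ u, bf v u = 0 → cls (g₀ • u) = cls u ∨ cls (g₀ • u) = cls u + cls v) → g₀ = 1 ∨ g₀ = negOne)
    (hr : r ∈ CZ z) (hrt : r * t = t * r)
    (hE : ∀ x ∈ QG Q, x * t = t * x →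
      r * x * r⁻¹ = x ∨ r * x * r⁻¹ = t * x) : r ∈ QG Q := by
  obtain ⟨g₀, hl⟩ := D.exists_lift_of_mem hr
  refine D.mem_QG_of_scalar hl (hK g₀ ?_ fun u hu => ?_)
  · have h1 := hrep.conj hl
    rw [hrt, mul_inv_cancel_right] at h1
    exact h1.unique hrep
  · have hq := D.rep_elt u
    have hqt : D.elt u * t = t * D.elt u := (hq.comm_iff hrep).mpr (by rw [bf_comm]; exact hu)
    rcases hE _ hq.mem hqt with e | e
    · exact Or.inl ((hq.conj hl).unique (e.symm ▸ hq))
    · right
      rw [(hq.conj hl).unique (e.symm ▸ hrep.mul hq), cls_add, add_comm]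

theorem z_mem_R {v : leechLattice} (hrep : D.Rep t v) (hv : cls v ≠ 0) (htz : t ≠ z)
    (hK : ∀ g₀ : Co0, cls (g₀ • v) = cls v →
      (∀ u, bf v u = 0 → cls (g₀ • u) = cls u ∨ cls (g₀ • u) = cls u + cls v) → g₀ = 1 ∨ g₀ = negOne) :
    z ∈ RG Q g := by
  by_contra hz
  have hzt : z * t = t * z := D.commute_z (coe_mem_CZ hrep.mem)
  have hE : ∀ x, x ∈ QG Q → x ∈ RG Q g → x = 1 ∨ x = t := by
    intro x hxQ hxR
    obtain ⟨w, hw⟩ := D.exists_rep hxQ
    have hperp : ∀ u, bf v u = 0 → bf w u = 0 := by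
      intro u hu
      have hq := D.rep_elt u
      have hqt : D.elt u * t = t * D.elt u := (hq.comm_iff hrep).mpr (by rw [bf_comm]; exact hu)
      refine (hw.comm_iff hq).mp ?_
      rcases D.comm_cases hxQ hq.mem with c | c
      · exact mul_inv_eq_iff_eq_mul.mp (mul_inv_eq_one.mp c)
      · exfalso
        apply hz
        have : D.elt u * x⁻¹ * (D.elt u)⁻¹ ∈ RG Q g := R_normal hgt hqt (inv_mem hxR)
        have h2 := mul_mem hxR this
        rwa [← mul_assoc, ← mul_assoc, c] at h2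
    rcases D.cases_of_perp hperp with h | h
    · rcases D.rep_zero_cases hw h with e | e
      · exact Or.inl e
      · exact absurd (e ▸ hxR) hz
    · rcases hrep.same (hw.congr h) with e | e
      · exact Or.inr e
      · refine absurd ?_ hz
        have := mul_mem hxR (inv_mem (D.t_mem_R hgt))
        rwa [e, mul_inv_cancel_right] at this
  have hC : ∀ r, r ∈ RG Q g → r * z = z * r → r = 1 ∨ r = t := by
    intro r hr hrz
    refine hE r (D.mem_QG_of_kernel hrep hK (mem_CZ.mpr hrz) (D.R_comm_t hgt hr) ?_) hr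
    intro x hx hxt
    have h1 : r * x * r⁻¹ * x⁻¹ ∈ QG Q := mul_mem (QG_normal (mem_CZ.mpr hrz) hx) (inv_mem hx)
    have h2 : r * x * r⁻¹ * x⁻¹ ∈ RG Q g := by
      rw [show r * x * r⁻¹ * x⁻¹ = r * (x * r⁻¹ * x⁻¹) by group]
      exact mul_mem hr (R_normal hgt hxt (inv_mem hr))
    rcases hE _ h1 h2 with e | e
    · exact Or.inl (mul_inv_eq_one.mp e)
    · exact Or.inr (mul_inv_eq_iff_eq_mul.mp e)
  -- the action of `z` on `R` modulo its centre
  set R := RG Q g with hRdef
  have : Finite R := Nat.finite_of_card_ne_zero (by rw [hRdef, D.card_RG hgt]; norm_num)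
  set T : Subgroup R := (Subgroup.zpowers t).subgroupOf R with hT
  have hTmem : ∀ x : R, x ∈ T ↔ ((x : G) = 1 ∨ (x : G) = t) := by
    intro x
    rw [hT, Subgroup.mem_subgroupOf]
    constructor
    · intro h
      obtain ⟨k, hk⟩ := Subgroup.mem_zpowers_iff.mp h
      rw [← hk]
      rcases Int.even_or_odd' k with ⟨m, rfl | rfl⟩
      · left; rw [zpow_mul, zpow_two, D.t_sq hgt, one_zpow]
      · right; rw [zpow_add, zpow_mul, zpow_two, D.t_sq hgt, one_zpow, one_mul, zpow_one]
    · rintro (h | h) <;> rw [h]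
      · exact one_mem _
      · exact Subgroup.mem_zpowers t
  have : T.Normal := ⟨fun x hx a => by
    rw [hTmem] at hx ⊢
    rcases hx with h | h
    · left; simp [h]
    · right; simp only [Subgroup.coe_mul, InvMemClass.coe_inv, h]
      rw [D.R_comm_t hgt a.2, mul_inv_cancel_right]⟩
  have hcomm : ∀ a b : R ⧸ T, a * b = b * a := by
    intro a b
    induction a using QuotientGroup.induction_on with
    | H x => induction b using QuotientGroup.induction_on with
      | H y =>
        rw [← QuotientGroup.mk_mul, ← QuotientGroup.mk_mul, QuotientGroup.eq, hTmem]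
        have h := D.R_comm_cases hgt (inv_mem y.2) (inv_mem x.2)
        simpa [mul_assoc] using h
  letI : CommGroup (R ⧸ T) := { (inferInstance : Group (R ⧸ T)) with mul_comm := hcomm }
  have hexp : ∀ a : R ⧸ T, a * a = 1 := by
    intro a
    induction a using QuotientGroup.induction_on with
    | H x =>
      rw [← QuotientGroup.mk_mul, QuotientGroup.eq_one_iff, hTmem]
      exact D.R_sq_cases hgt x.2
  let α : R →* R :=
    { toFun := fun x => ⟨z * x * z⁻¹, R_normal hgt hzt x.2⟩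
      map_one' := Subtype.ext (by simp)
      map_mul' := fun x y => Subtype.ext (by simp [mul_assoc]) }
  have hαT : T ≤ T.comap α := fun x hx => by
    rw [Subgroup.mem_comap, hTmem]
    rw [hTmem] at hx
    show z * (x : G) * z⁻¹ = 1 ∨ z * (x : G) * z⁻¹ = t
    rcases hx with h | h <;> rw [h]
    · left; group
    · right; rw [hzt, mul_inv_cancel_right]
  let d : R ⧸ T →* R ⧸ T :=
    { toFun := fun a => a⁻¹ * QuotientGroup.map T T α hαT a
      map_one' := by simp
      map_mul' := fun a b => by simp only [mul_inv, map_mul]; exact mul_mul_mul_comm _ _ _ _ }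
  have hrange : d.range ≤ d.ker := by
    rintro _ ⟨a, rfl⟩
    rw [MonoidHom.mem_ker]
    induction a using QuotientGroup.induction_on with
    | H x =>
      show ((x : R ⧸ T)⁻¹ * QuotientGroup.map T T α hαT x)⁻¹
        * QuotientGroup.map T T α hαT ((x : R ⧸ T)⁻¹ * QuotientGroup.map T T α hαT x) = 1
      rw [map_mul, map_inv, QuotientGroup.map_mk, QuotientGroup.map_mk]
      have hαα : α (α x) = x := Subtype.ext (by
        show z * (z * (x : G) * z⁻¹) * z⁻¹ = x
        rw [D.z_inv, show z * (z * (x : G) * z) * z = (z * z) * x * (z * z) by group, D.z_sq]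
        group)
      rw [hαα, mul_inv, inv_inv]
      rw [show (x : R ⧸ T) * ((α x : R ⧸ T))⁻¹ * (((α x : R ⧸ T))⁻¹ * (x : R ⧸ T))
        = ((x : R ⧸ T) * x) * ((α x : R ⧸ T) * α x)⁻¹ by
          rw [mul_inv, mul_comm ((α x : R ⧸ T))⁻¹ (x : R ⧸ T)]; exact mul_mul_mul_comm _ _ _ _,
        hexp, hexp, inv_one, one_mul]
  have hker : ∀ x : R, (x : R ⧸ T) ∈ d.ker →
      z * x * z⁻¹ = (x : G) ∨ z * x * z⁻¹ = (x : G) * t := by
    intro x hx
    rw [MonoidHom.mem_ker] at hx
    change (x : R ⧸ T)⁻¹ * QuotientGroup.map T T α hαT x = 1 at hx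
    rw [QuotientGroup.map_mk, ← QuotientGroup.mk_inv, ← QuotientGroup.mk_mul,
      QuotientGroup.eq_one_iff, hTmem] at hx
    rcases hx with h | h
    · exact Or.inl (inv_mul_eq_one.mp h).symm
    · exact Or.inr (inv_mul_eq_iff_eq_mul.mp h)
  have hfew : Nat.card d.ker ≤ 2 := by
    by_contra hlt
    push Not at hlt
    -- two kernel classes outside the centre coincide
    have key : ∀ a ∈ d.ker, ∀ b ∈ d.ker, a ≠ 1 → b ≠ 1 → a = b := by
      intro a ha b hb ha1 hb1
      induction a using QuotientGroup.induction_on with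
      | H x => induction b using QuotientGroup.induction_on with
        | H y =>
          have hx : z * x * z⁻¹ = (x : G) * t := by
            refine (hker x ha).resolve_left fun h => ha1 ?_
            rw [QuotientGroup.eq_one_iff, hTmem]
            exact hC x x.2 (mul_inv_eq_iff_eq_mul.mp h).symm
          have hy : z * y * z⁻¹ = (y : G) * t := by
            refine (hker y hb).resolve_left fun h => hb1 ?_
            rw [QuotientGroup.eq_one_iff, hTmem]
            exact hC y y.2 (mul_inv_eq_iff_eq_mul.mp h).symm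
          rw [QuotientGroup.eq, hTmem]
          refine hC _ (x⁻¹ * y : R).2 ?_
          have e : z * ((x⁻¹ * y : R) : G) * z⁻¹ = ((x⁻¹ * y : R) : G) := by
            show z * ((x : G)⁻¹ * (y : G)) * z⁻¹ = (x : G)⁻¹ * (y : G)
            rw [show z * ((x : G)⁻¹ * (y : G)) * z⁻¹ = (z * x * z⁻¹)⁻¹ * (z * y * z⁻¹) by group,
              hx, hy, D.R_comm_t hgt x.2, D.R_comm_t hgt y.2]
            group
          exact (mul_inv_eq_iff_eq_mul.mp e).symm
    classical
    have : Fintype d.ker := Fintype.ofFinite _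
    rw [Nat.card_eq_fintype_card] at hlt
    obtain ⟨a, b, c, hab, hac, hbc⟩ := Fintype.two_lt_card_iff.mp hlt
    by_cases h1 : (a : R ⧸ T) = 1
    · exact hbc (Subtype.ext (key b b.2 c c.2
        (fun h => hab (Subtype.ext (h1.trans h.symm)))
        (fun h => hac (Subtype.ext (h1.trans h.symm)))))
    · by_cases h2 : (b : R ⧸ T) = 1
      · exact hac (Subtype.ext (key a a.2 c c.2 h1 (fun h => hbc (Subtype.ext (h2.trans h.symm)))))
      · exact hab (Subtype.ext (key a a.2 b b.2 h1 h2))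
  have hcardT : Nat.card T ≤ 2 := by
    classical
    have : (T : Set R) ⊆ {1, ⟨t, D.t_mem_R hgt⟩} := fun x hx => by
      rcases (hTmem x).mp hx with h | h
      · exact Or.inl (Subtype.ext h)
      · exact Or.inr (Subtype.ext h)
    refine le_trans ?_ ((Set.ncard_le_ncard this (Set.toFinite _)).trans ?_)
    · exact (Nat.card_coe_set_eq _).le
    · refine le_trans (Set.ncard_insert_le _ _) (by rw [Set.ncard_singleton])
  have h1 := d.ker.card_mul_index
  rw [Subgroup.index_ker d] at h1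
  have h2 : Nat.card d.range ≤ Nat.card d.ker :=
    Nat.le_of_dvd Nat.card_pos (Subgroup.card_dvd_of_le hrange)
  have h3 := T.card_mul_index
  rw [show Nat.card R = 2 ^ 25 from D.card_RG hgt] at h3
  have h4 : Nat.card (R ⧸ T) = T.index := rfl
  have h5 : T.index ≤ 4 := by rw [← h4, ← h1]; nlinarith
  nlinarith

/-- with `z` in `R`: half of `R` centralises `z` -/
theorem card_R_inf (hz : z ∈ RG Q g) (htz : t ≠ z) :
    Nat.card (RG Q g ⊓ CZ z : Subgroup G) = 2 ^ 24 := by
  set R := RG Q g with hRdef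
  have : Finite R := Nat.finite_of_card_ne_zero (by rw [hRdef, D.card_RG hgt]; norm_num)
  let φ : R →* Subgroup.zpowers t :=
    MonoidHom.mk' (fun x => ⟨(x : G) * z * (x : G)⁻¹ * z⁻¹, by
      rcases D.R_comm_cases hgt x.2 hz with h | h <;> rw [h]
      · exact one_mem _
      · exact Subgroup.mem_zpowers t⟩) fun x y => Subtype.ext (by
      show ((x * y : R) : G) * z * ((x * y : R) : G)⁻¹ * z⁻¹
        = (x : G) * z * (x : G)⁻¹ * z⁻¹ * ((y : G) * z * (y : G)⁻¹ * z⁻¹)
      have hy := D.R_comm_cases hgt y.2 hz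
      have hc : ∀ a ∈ R, ((y : G) * z * (y : G)⁻¹ * z⁻¹) * a
          = a * ((y : G) * z * (y : G)⁻¹ * z⁻¹) := by
        intro a ha
        rcases hy with h | h <;> rw [h]
        · simp
        · exact (D.R_comm_t hgt ha).symm
      calc ((x * y : R) : G) * z * ((x * y : R) : G)⁻¹ * z⁻¹
          = (x : G) * (((y : G) * z * (y : G)⁻¹ * z⁻¹) * (z * (x : G)⁻¹ * z⁻¹)) := by
            simp [mul_assoc]
        _ = _ := by
            rw [hc _ (mul_mem (mul_mem hz (inv_mem x.2)) (inv_mem hz))]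
            simp [mul_assoc])
  have hker : ∀ x : R, x ∈ φ.ker ↔ (x : G) ∈ CZ z := fun x => by
    rw [MonoidHom.mem_ker, mem_CZ]
    constructor
    · intro h
      exact mul_inv_eq_iff_eq_mul.mp (mul_inv_eq_one.mp (congrArg Subtype.val h))
    · intro h
      apply Subtype.ext
      show (x : G) * z * (x : G)⁻¹ * z⁻¹ = 1
      rw [h]; group
  have hrt : Nat.card φ.range = 2 := by
    have ht2 : Nat.card (Subgroup.zpowers t) = 2 := by
      rw [Nat.card_zpowers]
      exact orderOf_eq_prime (by rw [sq, D.t_sq hgt]) (D.t_ne_one hgt)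
    have h1 := Subgroup.card_subgroup_dvd_card φ.range
    rw [ht2] at h1
    rcases (Nat.dvd_prime Nat.prime_two).mp h1 with h | h
    · exfalso
      have hall : ∀ x : R, φ x = 1 := fun x =>
        Subgroup.mem_bot.mp ((Subgroup.card_eq_one.mp h) ▸ MonoidHom.mem_range.mpr ⟨x, rfl⟩)
      rcases D.R_center_cases hgt hz (fun y hy =>
        (mem_CZ.mp ((hker ⟨y, hy⟩).mp (hall ⟨y, hy⟩))).symm) with e | e
      · exact D.z_ne_one e
      · exact htz e.symm
    · exact h
  have h := φ.ker.card_mul_index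
  rw [Subgroup.index_ker, hrt, D.card_RG hgt] at h
  have hmap : φ.ker.map R.subtype = R ⊓ CZ z := by
    ext x
    constructor
    · rintro ⟨y, hy, rfl⟩; exact ⟨y.2, (hker y).mp hy⟩
    · rintro ⟨h1, h2⟩; exact ⟨⟨x, h1⟩, (hker _).mpr h2, rfl⟩
  rw [← hmap, ← Nat.card_congr (Subgroup.equivMapOfInjective _ _ R.subtype_injective).toEquiv]
  omega

/-- an abelian subgroup of `R` is small -/
theorem card_abelian_le (A : Subgroup G) (hA : A ≤ RG Q g)
    (hcomm : ∀ a ∈ A, ∀ b ∈ A, a * b = b * a) : Nat.card A ≤ 2 ^ 13 := by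
  have : Fact (Nat.Prime 2) := ⟨Nat.prime_two⟩
  have : Finite Q := Nat.finite_of_card_ne_zero (by rw [D.hS.2.2.2.1]; norm_num)
  let f : Q →* G := ((MulAut.conj g).toMonoidHom.comp (CZ z).subtype).comp Q.subtype
  have hf : Function.Injective f :=
    ((MulAut.conj g).injective.comp (CZ z).subtype_injective).comp Q.subtype_injective
  have hA' : A ≤ f.range := fun x hx => by
    obtain ⟨_, ⟨y, hy, rfl⟩, hxy⟩ := hA hx
    exact ⟨⟨y, hy⟩, hxy⟩
  have : IsMulCommutative (A.comap f) := ⟨⟨fun a b => Subtype.ext (hf (by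
    simp only [Subgroup.coe_mul, map_mul]; exact hcomm _ a.2 _ b.2))⟩⟩
  have h := H30.extraspecial_center_map_le (p := 2) (A := A.comap f) this D.hS.2.2.1
  rw [D.hS.2.2.2.1] at h
  have hc : Nat.card (A.comap f) = Nat.card A := by
    rw [Nat.card_congr (Subgroup.equivMapOfInjective _ f hf).toEquiv,
      Subgroup.map_comap_eq_self hA']
  rw [hc] at h
  have h2 : Nat.card A ^ 2 ≤ (2 ^ 13) ^ 2 := h.trans (by norm_num)
  exact (Nat.pow_le_pow_iff_left two_ne_zero).mp h2

theorem inter_elem {x y : G} (hx : x ∈ QG Q) (hxR : x ∈ RG Q g) (hy : y ∈ QG Q)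
    (hyR : y ∈ RG Q g) (htz : t ≠ z) : x * y = y * x ∧ x * x = 1 := by
  constructor
  · rcases D.comm_cases hx hy with h | h
    · exact mul_inv_eq_iff_eq_mul.mp (mul_inv_eq_one.mp h)
    · rcases D.R_comm_cases hgt hxR hyR with h' | h' <;> rw [h] at h'
      · exact absurd h' D.z_ne_one
      · exact absurd h'.symm htz
  · rcases D.sq_cases hx with h | h
    · exact h
    · rcases D.R_sq_cases hgt hxR with h' | h' <;> rw [h] at h'
      · exact absurd h' D.z_ne_one
      · exact absurd h'.symm htz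

omit hgt in
/-- an automorphism fixing the class of an element is realised by one centralising it -/
theorem exists_lift_fix {t : G} {v : leechLattice} (hrep : D.Rep t v) (hv : cls v ≠ 0) {g₀ : Co0}
    (hg : cls (g₀ • v) = cls v) : ∃ h, D.Lift h g₀ ∧ h * t = t * h := by
  obtain ⟨h, hl⟩ := D.exists_lift g₀
  rcases (hrep.conj hl).congr hg |>.same hrep with e | e
  · exact ⟨h, hl, (eq_mul_inv_iff_mul_eq.mp e).symm⟩
  · have hnd : ∃ u, bf u v ≠ 0 := by
      by_contra hcon
      push Not at hcon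
      exact hv (D.nondeg fun u => by rw [bf_comm]; exact hcon u)
    obtain ⟨u, hu⟩ := hnd
    have hq := D.rep_elt u
    rcases D.comm_cases hq.mem hrep.mem with c | c
    · exact absurd ((hq.comm_iff hrep).mp (mul_inv_eq_iff_eq_mul.mp (mul_inv_eq_one.mp c))) hu
    · refine ⟨D.elt u * h, ?_, ?_⟩
      · have := (D.lift_one_iff.mpr hq.mem).mul hl
        rwa [one_mul] at this
      · rw [mul_inv_eq_iff_eq_mul] at c
        have e' : h * t * h⁻¹ = z * t := by
          calc h * t * h⁻¹ = (z * z) * (h * t * h⁻¹) := by rw [D.z_sq, one_mul]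
            _ = z * (z * (h * t * h⁻¹)) := by group
            _ = z * t := by rw [← e]
        have h1 : D.elt u * h * t * (D.elt u * h)⁻¹ = t := by
          rw [show D.elt u * h * t * (D.elt u * h)⁻¹ = D.elt u * (h * t * h⁻¹) * (D.elt u)⁻¹ by group,
            e', show D.elt u * (z * t) * (D.elt u)⁻¹ = D.elt u * z * (t * (D.elt u)⁻¹) by group,
            mem_CZ.mp (coe_mem_CZ hq.mem),
            show z * D.elt u * (t * (D.elt u)⁻¹) = z * (D.elt u * t * (D.elt u)⁻¹) by group, c,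
            ← mul_assoc, D.z_sq, one_mul]
        exact mul_inv_eq_iff_eq_mul.mp h1

/-- the images of `R ∩ C(z)` in `Co0` -/
def imgN (hgt : g * z * g⁻¹ = t) : Subgroup Co0 where
  carrier := {g₀ | ∃ r, r ∈ RG Q g ∧ D.Lift r g₀}
  one_mem' := ⟨1, one_mem _, D.lift_one_iff.mpr (one_mem _)⟩
  mul_mem' := fun ⟨r, hr, hl⟩ ⟨r', hr', hl'⟩ => ⟨r * r', mul_mem hr hr', hl.mul hl'⟩
  inv_mem' := fun ⟨r, hr, hl⟩ => ⟨r⁻¹, inv_mem hr, hl.inv⟩

theorem imgN_props {v : leechLattice} (hrep : D.Rep t v) (hv : cls v ≠ 0) :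
    IsPGroup 2 (D.imgN hgt) ∧ (∀ n ∈ D.imgN hgt, cls (n • v) = cls v) ∧
      ∀ g₀ : Co0, cls (g₀ • v) = cls v → ∀ n ∈ D.imgN hgt, g₀⁻¹ * n * g₀ ∈ D.imgN hgt := by
  refine ⟨?_, ?_, ?_⟩
  · rintro ⟨n, r, hr, hl⟩
    obtain ⟨k, hk⟩ := (IsPGroup.of_card (D.card_RG hgt) : IsPGroup 2 (RG Q g)) ⟨r, hr⟩
    have hrk : r ^ 2 ^ k = 1 := congrArg Subtype.val hk
    have hlk : ∀ j : ℕ, D.Lift (r ^ j) (n ^ j) := by
      intro j
      induction j with
      | zero => simpa using D.lift_one_iff.mpr (one_mem _)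
      | succ j ih => rw [pow_succ, pow_succ]; exact ih.mul hl
    have h1 : D.Lift 1 (n ^ 2 ^ k) := hrk ▸ hlk _
    refine ⟨k + 1, Subtype.ext ?_⟩
    show n ^ 2 ^ (k + 1) = 1
    rw [pow_succ, pow_mul]
    rcases (D.lift_one_iff.mpr (one_mem _)).unique h1 with e | e <;> rw [e]
    · simp
    · rw [one_mul, sq, negOne_mul_self]
  · rintro n ⟨r, hr, hl⟩
    have h1 := hrep.conj hl
    rw [D.R_comm_t hgt hr, mul_inv_cancel_right] at h1
    exact h1.unique hrep
  · intro g₀ hg n hn
    obtain ⟨r, hr, hl⟩ := hn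
    obtain ⟨h, hlh, hh⟩ := D.exists_lift_fix hrep hv hg
    refine ⟨h⁻¹ * r * h, ?_, (hlh.inv.mul hl).mul hlh⟩
    have hh' : h⁻¹ * t = t * h⁻¹ := (Commute.inv_left hh).eq
    have := R_normal hgt hh' hr
    rwa [inv_inv] at this

theorem no32 (hrep : D.Rep t vBase) (htz : t ≠ z) : False := by
  have hv : cls vBase ≠ 0 := fun h => by
    rcases D.rep_zero_cases hrep h with e | e
    · exact D.t_ne_one hgt e
    · exact htz e
  have hz := D.z_mem_R hgt hrep hv htz fun g₀ a b => scalar_of_kernel32 a b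
  obtain ⟨hp, hf, hn⟩ := D.imgN_props hgt hrep hv
  have hall := no_two_normal32 _ hp hf hn
  have hQ : ∀ r ∈ RG Q g ⊓ CZ z, r ∈ QG Q := by
    intro r hr
    obtain ⟨g₀, hl⟩ := D.exists_lift_of_mem hr.2
    exact D.mem_QG_of_scalar hl (hall g₀ ⟨r, hr.1, hl⟩)
  have := D.card_abelian_le hgt _ inf_le_left fun a ha b hb =>
    (D.inter_elem hgt (hQ a ha) ha.1 (hQ b hb) hb.1 htz).1
  rw [D.card_R_inf hgt hz htz] at this
  norm_num at this

omit hgt in
/-- a conjugate of `z` in `Q` other than `z` has norm 64 modulo 2 -/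
theorem conj_class {x : G} (hx : x ∈ QG Q) (hc : IsConj z x) (hxz : x ≠ z) :
    ∃ v, D.Rep x v ∧ ldot v v = 64 := by
  obtain ⟨a, ha⟩ := isConj_iff.mp hc
  obtain ⟨v, hv, h | h⟩ := D.involution_rep hx (D.t_sq ha) (D.t_ne_one ha) hxz
  · exfalso
    obtain ⟨g₀, hg₀⟩ := exists_to_vBase h
    exact (D.twist g₀⁻¹).no32 ha (by
      rw [D.rep_twist, ← hg₀, inv_smul_smul]; exact hv) hxz
  · exact ⟨v, hv, h⟩

omit hgt in
/-- after a twist, a conjugate of `z` in `Q` corresponds to the standard frame -/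
theorem exists_twist64 {x : G} (hx : x ∈ QG Q) (hc : IsConj z x) (hxz : x ≠ z) :
    ∃ D' : Data z Q, D'.Rep x (eight none) := by
  obtain ⟨v, hv, h⟩ := D.conj_class hx hc hxz
  obtain ⟨g₀, hg₀⟩ := exists_to_eight h
  exact ⟨D.twist g₀⁻¹, by rw [D.rep_twist, ← hg₀, inv_smul_smul]; exact hv⟩

end Data

theorem supp_mem (a : Multiplicative golayCode) :
    support₂ (Multiplicative.toAdd a).1 ∈ supports (golayCode : Set (GolayPt → ZMod 2)) :=
  ⟨_, (Multiplicative.toAdd a).2, rfl⟩

/-- the sign changes modulo the centre -/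
noncomputable def sgn : Multiplicative golayCode →* Spor.Co1 :=
  MonoidHom.mk' (fun a => QuotientGroup.mk
    (mono 1 (support₂ (Multiplicative.toAdd a).1) (one_mem _) (supp_mem a))) fun a b => by
    rw [← QuotientGroup.mk_mul]
    congr 1
    refine co0_ext fun v => Subtype.ext ?_
    rw [mul_smul, mono_smul, mono_smul, mono_smul]
    funext i
    have hs1 : ∀ j, (Equiv.symm (1 : Equiv.Perm GolayPt)) j = j := fun j => rfl
    simp only [signedPerm, support₂, Finset.mem_filter, Finset.mem_univ, true_and, hs1]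
    show _ = (if ¬(Multiplicative.toAdd a).1 i = 0 then _ else _)
    have e : (Multiplicative.toAdd (a * b)).1 i
        = (Multiplicative.toAdd a).1 i + (Multiplicative.toAdd b).1 i := rfl
    rw [e]
    rcases zmod2_cases ((Multiplicative.toAdd a).1 i) with h | h <;>
      rcases zmod2_cases ((Multiplicative.toAdd b).1 i) with h' | h' <;>
      simp [h, h', show (1 : ZMod 2) + 1 = 0 from rfl]

theorem sgn_range_mem {c : Finset GolayPt}
    (hc : c ∈ supports (golayCode : Set (GolayPt → ZMod 2))) :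
    (QuotientGroup.mk (mono 1 c (one_mem _) hc) : Spor.Co1) ∈ sgn.range := by
  refine ⟨Multiplicative.ofAdd ⟨ind c, mem_supports_iff.mp hc⟩, ?_⟩
  show QuotientGroup.mk (mono 1 (support₂ (ind c)) (one_mem _) _) = _
  congr 1
  congr 1
  exact support₂_ind c

theorem card_sgn_range : Nat.card sgn.range = 2 ^ 11 := by
  classical
  have h1c : (1 : GolayPt → ZMod 2) ∈ golayCode := one_mem_code
  have hker : (sgn.ker : Set (Multiplicative golayCode))
      = {1, Multiplicative.ofAdd ⟨1, h1c⟩} := by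
    ext a
    constructor
    · intro ha
      have hz : mono 1 (support₂ (Multiplicative.toAdd a).1) (one_mem _) (supp_mem a)
          ∈ Subgroup.center Co0 :=
        (QuotientGroup.eq_one_iff _).mp ha
      rcases H95.center_cases hz with h | h
      · left
        rw [← mono_one_empty (h1 := one_mem _) (h2 := ⟨0, zero_mem _, by ext; simp [support₂]⟩)] at h
        have := (mono_injective h).2
        apply Multiplicative.toAdd.injective
        apply Subtype.ext
        show _ = (0 : GolayPt → ZMod 2)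
        rw [← ind_support₂ (Multiplicative.toAdd a).1, this]
        funext i; simp [ind]
      · right
        rw [← mono_one_univ (h1 := one_mem _) (h2 := ⟨1, h1c, by ext; simp [support₂]⟩)] at h
        have := (mono_injective h).2
        apply Multiplicative.toAdd.injective
        apply Subtype.ext
        show _ = (1 : GolayPt → ZMod 2)
        rw [← ind_support₂ (Multiplicative.toAdd a).1, this]
        funext i; simp [ind]
    · rintro (rfl | rfl)
      · exact one_mem _
      · show QuotientGroup.mk (mono 1 (support₂ (1 : GolayPt → ZMod 2)) _ _) = (1 : Spor.Co1)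
        rw [QuotientGroup.eq_one_iff]
        have : support₂ (1 : GolayPt → ZMod 2) = Finset.univ := by ext; simp [support₂]
        simp only [this, mono_one_univ]
        exact negOne_mem_center
  have h2 : Nat.card sgn.ker = 2 := by
    show Nat.card (sgn.ker : Set (Multiplicative golayCode)) = 2
    rw [hker, Nat.card_coe_set_eq, Set.ncard_pair]
    intro h
    have := congrFun (congrArg (fun a => (Multiplicative.toAdd a : golayCode).1) h) none
    exact zero_ne_one this
  have h := sgn.ker.card_mul_index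
  rw [Subgroup.index_ker, h2, show Nat.card (Multiplicative golayCode) = 4096 from golayOK.card_code] at h
  omega

namespace Data

variable (D : Data z Q) {g t : G} (hgt : g * z * g⁻¹ = t) (hrep : D.Rep t (eight none))
  (htz : t ≠ z)
include D hgt hrep htz

theorem frame_ne : cls (eight none) ≠ 0 := fun h => by
  rcases D.rep_zero_cases hrep h with e | e
  · exact D.t_ne_one hgt e
  · exact htz e

theorem z_mem_R64 : z ∈ RG Q g :=
  D.z_mem_R hgt hrep (D.frame_ne hgt hrep htz) htz fun _ a b => scalar_of_kernel64 a b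

theorem R_lift_signs {r : G} (hr : r ∈ RG Q g) {g₀ : Co0} (hl : D.Lift r g₀) :
    (QuotientGroup.mk g₀ : Spor.Co1) ∈ sgn.range := by
  obtain ⟨hp, hf, hn⟩ := D.imgN_props hgt hrep (D.frame_ne hgt hrep htz)
  obtain ⟨c, hc, rfl⟩ := two_normal64 _ hp hf hn g₀ ⟨r, hr, hl⟩
  exact sgn_range_mem hc

theorem inter_facts : Nat.card (QG Q ⊓ RG Q g : Subgroup G) = 2 ^ 13 ∧
    ∀ (c : Finset GolayPt) (hc : c ∈ supports (golayCode : Set (GolayPt → ZMod 2))),
      ∃ r, r ∈ RG Q g ∧ D.Lift r (mono 1 c (one_mem _) hc) := by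
  set S := RG Q g ⊓ CZ z with hSdef
  have hS : Nat.card S = 2 ^ 24 := D.card_R_inf hgt (D.z_mem_R64 hgt hrep htz) htz
  let φ : S →* Spor.Co1 := D.e.toMonoidHom.comp
    ((QuotientGroup.mk' Q).comp (Subgroup.inclusion (inf_le_right : S ≤ CZ z)))
  have hφ : ∀ (r : S) (g₀ : Co0), D.Lift r g₀ ↔ φ r = QuotientGroup.mk g₀ := fun r g₀ =>
    ⟨fun ⟨_, h⟩ => h.symm, fun h => ⟨r.2.2, h.symm⟩⟩
  have hrange : φ.range ≤ sgn.range := by
    rintro _ ⟨r, rfl⟩
    obtain ⟨g₀, hg₀⟩ := D.exists_lift_of_mem r.2.2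
    rw [(hφ r g₀).mp hg₀]
    exact D.R_lift_signs hgt hrep htz r.2.1 hg₀
  have hker : φ.ker.map S.subtype = QG Q ⊓ RG Q g := by
    ext x
    constructor
    · rintro ⟨y, hy, rfl⟩
      refine ⟨?_, y.2.1⟩
      have : D.Lift (y : G) 1 := (hφ y 1).mpr (by rw [QuotientGroup.mk_one]; exact hy)
      exact D.lift_one_iff.mp this
    · rintro ⟨h1, h2⟩
      refine ⟨⟨x, h2, coe_mem_CZ h1⟩, ?_, rfl⟩
      have := (hφ ⟨x, h2, coe_mem_CZ h1⟩ 1).mp (D.lift_one_iff.mpr h1)
      rwa [QuotientGroup.mk_one] at this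
  have hcard : Nat.card φ.ker = Nat.card (QG Q ⊓ RG Q g : Subgroup G) := by
    rw [← hker]; exact Nat.card_congr (Subgroup.equivMapOfInjective _ _ S.subtype_injective).toEquiv
  have hle : Nat.card (QG Q ⊓ RG Q g : Subgroup G) ≤ 2 ^ 13 :=
    D.card_abelian_le hgt _ inf_le_right fun a ha b hb =>
      (D.inter_elem hgt ha.1 ha.2 hb.1 hb.2 htz).1
  have : Finite sgn.range := Nat.finite_of_card_ne_zero (by rw [card_sgn_range]; norm_num)
  have hr : Nat.card φ.range ≤ 2 ^ 11 := by
    rw [← card_sgn_range]; exact Subgroup.card_le_of_le hrange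
  have h := φ.ker.card_mul_index
  rw [Subgroup.index_ker, hS, hcard] at h
  have h13 : Nat.card (QG Q ⊓ RG Q g : Subgroup G) = 2 ^ 13 := by nlinarith
  refine ⟨h13, fun c hc => ?_⟩
  rw [h13] at h
  have heq : φ.range = sgn.range :=
    Subgroup.eq_of_le_of_card_ge hrange (by rw [card_sgn_range]; omega)
  obtain ⟨r, hr'⟩ := heq.ge (sgn_range_mem hc)
  exact ⟨r, r.2.1, (hφ r _).mpr hr'⟩

/-- the intersection is the preimage of the sublattice divisible by four -/
theorem mem_inter_iff {x : G} :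
    x ∈ QG Q ⊓ RG Q g ↔ ∃ y ∈ L4, D.Rep x y := by
  obtain ⟨h13, hsigns⟩ := D.inter_facts hgt hrep htz
  let A : Subgroup G :=
    { carrier := {x | ∃ y ∈ L4, D.Rep x y}
      one_mem' := ⟨0, zero_mem _, D.rep_one⟩
      mul_mem' := fun ⟨a, ha, ra⟩ ⟨b, hb, rb⟩ => ⟨a + b, add_mem ha hb, ra.mul rb⟩
      inv_mem' := fun {x} ⟨a, ha, ra⟩ => ⟨a, ha, by
        rwa [inv_eq_of_mul_eq_one_right (ra.sq_iff.mpr (qf_L4 ha))]⟩ }
  have hsub : QG Q ⊓ RG Q g ≤ A := by
    rintro x ⟨hx, hxR⟩
    obtain ⟨w, hw⟩ := D.exists_rep hx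
    obtain ⟨y, hy, hwy⟩ := mem_L4_of_signs (x := w) fun c hc => by
      obtain ⟨r, hr, hl⟩ := hsigns c hc
      rcases D.R_comm_cases hgt hr hxR with e | e
      · left
        have h1 := hw.conj hl
        rw [mul_inv_eq_one.mp e] at h1
        exact h1.unique hw
      · right
        have h1 := hw.conj hl
        rw [mul_inv_eq_iff_eq_mul.mp e] at h1
        rw [h1.unique (hrep.mul hw), cls_add, add_comm]
    exact ⟨y, hy, hw.congr hwy⟩
  have hAQ : A ≤ QG Q := fun a ⟨_, _, ha⟩ => ha.mem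
  have : Finite (QG Q) := Nat.finite_of_card_ne_zero (by rw [D.card_QG]; norm_num)
  have : Finite A := Finite.of_injective _ (Subgroup.inclusion_injective hAQ)
  have hAcomm : ∀ a ∈ A, ∀ b ∈ A, a * b = b * a := by
    rintro a ⟨va, hva, ra⟩ b ⟨vb, hvb, rb⟩
    exact (ra.comm_iff rb).mpr (bf_L4 hva hvb)
  have hA : Nat.card A ≤ 2 ^ 13 :=
    D.card_abelian_le (g := 1) (t := z) (by group) A (fun a ha => mem_RG.mpr (by
      simpa using hAQ ha)) hAcomm
  have heq : QG Q ⊓ RG Q g = A := Subgroup.eq_of_le_of_card_ge hsub (by rw [h13]; exact hA)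
  rw [heq]; rfl

end Data

end H56M
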