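import Cfsg.Agent.H95.Orbits
import Cfsg.Agent.H95.Unique
import Cfsg.Agent.H95.Co0Centre

/-!
The Leech lattice modulo 2 with its invariant quadratic form, and the stabilisers of a short
vector and of the standard frame.
-/

set_option autoImplicit false

namespace H56M

open Cfsg Finset H95

/-- lattice classes modulo twice the lattice -/
abbrev Cls : Type := leechLattice ⧸ twice leechLattice

/-- the class of a lattice vector -/
abbrev cls (v : leechLattice) : Cls := (v : Cls)

theorem cls_eq {v w : leechLattice} : cls v = cls w ↔ v - w ∈ twice leechLattice :=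
  QuotientAddGroup.eq_iff_sub_mem

theorem cls_add (v w : leechLattice) : cls (v + w) = cls v + cls w := rfl

theorem cls_neg (v : leechLattice) : cls (-v) = cls v := by
  rw [cls_eq]; exact mem_twice.mpr ⟨-v, by rw [two_nsmul]; abel⟩

theorem cls_add_self (a : Cls) : a + a = 0 := by
  induction a using QuotientAddGroup.induction_on with
  | H v => exact (QuotientAddGroup.eq_zero_iff _).mpr (mem_twice.mpr ⟨v, by rw [two_nsmul]⟩)

theorem cls_sub (v w : leechLattice) : cls (v - w) = cls v + cls w := by
  rw [sub_eq_add_neg, cls_add, cls_neg]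

theorem smul_twice (g : Co0) {v : leechLattice} (hv : v ∈ twice leechLattice) :
    g • v ∈ twice leechLattice := by
  obtain ⟨z, rfl⟩ := mem_twice.mp hv
  exact mem_twice.mpr ⟨g • z, by rw [two_nsmul, two_nsmul, co0_add]⟩

theorem cls_smul_congr (g : Co0) {v w : leechLattice} (h : cls v = cls w) :
    cls (g • v) = cls (g • w) := by
  rw [cls_eq] at h ⊢
  rw [← co0_sub]; exact smul_twice g h

theorem finite_cls : Finite Cls :=
  Nat.finite_of_card_ne_zero (by rw [show Nat.card Cls = 2 ^ 24 from card_quot_twice]; norm_num)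

/-! ### short representatives -/

theorem eq_or_neg_of_cls {v w : leechLattice} (hv : ldot v v ≤ 64) (hw : ldot w w ≤ 64)
    (h : cls v = cls w) (hne : ldot v v ≠ 64 ∨ ldot w w ≠ 64) : v = w ∨ v = -w := by
  by_contra hcon
  simp only [not_or] at hcon
  have := leechLike.congr_small hv hw (cls_eq.mp h) hcon.1 hcon.2
  omega

theorem exists_rep (v : leechLattice) : ∃ y, cls v = cls y ∧
    (y = 0 ∨ ldot y y = 32 ∨ ldot y y = 48 ∨ ldot y y = 64) := by
  obtain ⟨y, hy, hvy⟩ := leechLike.main.1 v
  refine ⟨y, cls_eq.mpr hvy, ?_⟩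
  by_cases h0 : y = 0
  · exact Or.inl h0
  · have h1 := leechLike.min32 y h0
    obtain ⟨k, hk⟩ := leechLike.dvd16 y
    omega

theorem exists_to_vBase {v : leechLattice} (hv : ldot v v = 32) : ∃ g : Co0, g • v = vBase :=
  exists_to_base golayUnique hv

theorem exists_to_eight {v : leechLattice} (hv : ldot v v = 64) :
    ∃ g : Co0, g • v = eight none := to_eight golayUnique hv

/-! ### the quadratic form -/

/-- sign of a bit -/
def chi (a : ZMod 2) : ℤ := if a = 0 then 1 else -1

theorem chi_add : ∀ a b : ZMod 2, chi (a + b) = chi a * chi b := by decide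

theorem gauss_sq {V : Type*} [AddCommGroup V] [Fintype V] (f : V → ZMod 2)
    (B : V → V → ZMod 2) (hB : ∀ x y, f (x + y) = f x + f y + B x y)
    (hadd : ∀ x x' y, B (x + x') y = B x y + B x' y)
    (hnd : ∀ y, y ≠ 0 → ∃ x, B x y = 1) :
    (∑ x, chi (f x)) ^ 2 = Fintype.card V := by
  classical
  have h00 : ∀ y, B 0 y = 0 := fun y => by
    have := hadd 0 0 y; rwa [add_zero, left_eq_add] at this
  have hf0 : f 0 = 0 := by
    have := hB 0 0; rw [add_zero, h00, add_zero, left_eq_add] at this; exact this
  have hin : ∀ w, (∑ x, chi (B x w)) = if w = 0 then (Fintype.card V : ℤ) else 0 := by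
    intro w
    by_cases hw : w = 0
    · subst hw
      have : ∀ x, B x 0 = 0 := fun x => by
        have := hB x 0
        rw [add_zero, hf0, add_zero, left_eq_add] at this; exact this
      rw [if_pos rfl]
      rw [sum_congr rfl fun x _ => by rw [this x, show chi 0 = 1 from rfl]]
      simp
    · rw [if_neg hw]
      obtain ⟨x0, hx0⟩ := hnd w hw
      have h := Equiv.sum_comp (Equiv.addLeft x0) (fun x => chi (B x w))
      simp only [Equiv.coe_addLeft, hadd, chi_add, hx0, show chi 1 = -1 from rfl, neg_mul, one_mul,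
        sum_neg_distrib] at h
      omega
  calc (∑ x, chi (f x)) ^ 2 = ∑ x, ∑ w, chi (f x) * chi (f (x + w)) := by
        rw [sq, sum_mul_sum]
        refine sum_congr rfl fun x _ => ?_
        exact (Equiv.sum_comp (Equiv.addLeft x) (fun y => chi (f x) * chi (f y))).symm
    _ = ∑ w, ∑ x, chi (f w) * chi (B x w) := by
        rw [sum_comm]
        refine sum_congr rfl fun w _ => sum_congr rfl fun x _ => ?_
        rw [hB, chi_add, chi_add, ← mul_assoc, ← mul_assoc, ← chi_add (f x) (f x)]
        have : f x + f x = 0 := CharTwo.add_self_eq_zero _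
        rw [this, show chi 0 = 1 from rfl, one_mul]
    _ = ∑ w, chi (f w) * (if w = 0 then (Fintype.card V : ℤ) else 0) := by
        simp only [← mul_sum, hin]
    _ = _ := by
        simp only [mul_ite, mul_zero, sum_ite_eq', mem_univ, if_true, hf0]
        rw [show chi 0 = 1 from rfl, one_mul]

/-- `norm / 16` modulo 2 -/
def qf (v : leechLattice) : ZMod 2 := ((ldot v v / 16 : ℤ) : ZMod 2)

/-- `dot / 8` modulo 2 -/
def bf (v w : leechLattice) : ZMod 2 := ((ldot v w / 8 : ℤ) : ZMod 2)

theorem qf_add (v w : leechLattice) : qf (v + w) = qf v + qf w + bf v w := by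
  obtain ⟨a, ha⟩ := leechLike.dvd16 v
  obtain ⟨b, hb⟩ := leechLike.dvd16 w
  obtain ⟨c, hc⟩ := leechLike.dvd8 v w
  have : ldot (v + w) (v + w) = 16 * (a + b + c) := by
    rw [leechLike.norm_add, ha, hb, hc]; ring
  simp only [qf, bf, this, ha, hb, hc, Int.mul_ediv_cancel_left _ (show (16 : ℤ) ≠ 0 by norm_num),
    Int.mul_ediv_cancel_left _ (show (8 : ℤ) ≠ 0 by norm_num)]
  push_cast; rfl

theorem bf_comm (v w : leechLattice) : bf v w = bf w v := by rw [bf, bf, ldot_comm]

theorem qf_congr {v w : leechLattice} (h : cls v = cls w) : qf v = qf w := by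
  obtain ⟨z, hz⟩ := mem_twice.mp (cls_eq.mp h)
  have hv : v = w + 2 • z := by rw [← hz]; abel
  rw [hv, two_nsmul, ← add_assoc, qf_add, qf_add, qf]
  have hbadd : bf (w + z) z = bf w z + bf z z := by
    obtain ⟨a, ha⟩ := leechLike.dvd8 w z
    obtain ⟨b, hb⟩ := leechLike.dvd8 z z
    simp only [bf, leechLike.add_left, ha, hb, ← mul_add,
      Int.mul_ediv_cancel_left _ (show (8 : ℤ) ≠ 0 by norm_num)]
    push_cast; rfl
  have hzz : bf z z = 0 := by
    obtain ⟨a, ha⟩ := leechLike.dvd16 z
    rw [bf, show ldot z z / 8 = 2 * a by omega]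
    push_cast
    rw [show (2 : ZMod 2) = 0 from rfl, zero_mul]
  rw [hbadd, hzz, ← qf, add_zero]
  have key : ∀ a b c : ZMod 2, a + b + c + b + c = a := by decide
  exact key _ _ _

/-- the images of a set of lattice vectors of one norm below 64, closed under negation -/
theorem two_mul_card_image (S : Finset leechLattice) (N : ℤ) (hN0 : 0 < N) (hN : N < 64)
    (hS : ∀ v ∈ S, ldot v v = N) (hneg : ∀ v ∈ S, -v ∈ S) [DecidableEq Cls] :
    2 * (S.image cls).card = S.card := by
  classical
  rw [card_eq_sum_card_image cls S, sum_congr rfl (g := fun _ => 2) ?_, sum_const, smul_eq_mul,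
    mul_comm]
  intro p hp
  obtain ⟨y, hy, rfl⟩ := mem_image.mp hp
  have hne : y ≠ -y := by
    intro h
    have h2 : ldot y y = -ldot y y := by
      nth_rewrite 1 [h]; rw [leechLike.neg_left]
    rw [hS y hy] at h2; omega
  rw [← card_pair hne]
  congr 1
  ext v
  rw [mem_filter, mem_insert, mem_singleton]
  constructor
  · rintro ⟨hv, he⟩
    rcases eq_or_neg_of_cls (by rw [hS v hv]; omega) (by rw [hS y hy]; omega) he
      (Or.inl (by rw [hS v hv]; omega)) with h | h
    · exact Or.inl h
    · exact Or.inr h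
  · rintro (rfl | rfl)
    · exact ⟨hy, rfl⟩
    · exact ⟨hneg y hy, cls_neg y⟩

theorem form_eq (f : leechLattice → ZMod 2) (B : leechLattice → leechLattice → ZMod 2)
    (hcls : ∀ v w, cls v = cls w → f v = f w)
    (hg : ∀ (g : Co0) v, f (g • v) = f v)
    (hB : ∀ v w, f (v + w) = f v + f w + B v w)
    (hadd : ∀ v v' w, B (v + v') w = B v w + B v' w)
    (hnd : ∀ w, cls w ≠ 0 → ∃ v, B v w = 1) :
    ∀ v, f v = qf v := by
  classical
  have := finite_cls
  letI : Fintype Cls := Fintype.ofFinite _
  let F : Cls → ZMod 2 := fun a => Quotient.liftOn' a f fun v w hvw => hcls v w (Quotient.sound' hvw)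
  have hF : ∀ v, F (cls v) = f v := fun v => rfl
  let BB : Cls → Cls → ZMod 2 := fun a b => F (a + b) + F a + F b
  have hBB : ∀ v w, BB (cls v) (cls w) = B v w := by
    intro v w
    show F (cls (v + w)) + F (cls v) + F (cls w) = _
    rw [hF, hF, hF, hB]
    have key : ∀ a b c : ZMod 2, a + b + c + a + b = c := by decide
    exact key _ _ _
  have hS := gauss_sq F BB
    (fun x y => by
      have key : ∀ a b c : ZMod 2, a = b + c + (a + b + c) := by decide
      exact key _ _ _)
    (fun x x' y => by
      induction x using QuotientAddGroup.induction_on with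
      | H v => induction x' using QuotientAddGroup.induction_on with
        | H v' => induction y using QuotientAddGroup.induction_on with
          | H w =>
            show BB (cls (v + v')) (cls w) = BB (cls v) (cls w) + BB (cls v') (cls w)
            rw [hBB, hBB, hBB, hadd])
    (fun y hy => by
      induction y using QuotientAddGroup.induction_on with
      | H w => obtain ⟨v, hv⟩ := hnd w hy; exact ⟨cls v, by rw [← hv]; exact hBB v w⟩)
  set A := (leechLike.finite_norm (N := 32) (by norm_num)).toFinset with hA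
  set D := (leechLike.finite_norm (N := 48) (by norm_num)).toFinset with hD
  have mA : ∀ x, x ∈ A ↔ ldot x x = 32 := fun x => Set.Finite.mem_toFinset _
  have mD : ∀ x, x ∈ D ↔ ldot x x = 48 := fun x => Set.Finite.mem_toFinset _
  have cA : A.card = 196560 := by rw [← leechLike.count32]; exact (Set.ncard_eq_toFinset_card _ _).symm
  have cD : D.card = 16773120 := by
    rw [← leechLike.count48]; exact (Set.ncard_eq_toFinset_card _ _).symm
  have iA := two_mul_card_image A 32 (by norm_num) (by norm_num) (fun v hv => (mA v).mp hv)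
    (fun v hv => by rw [mA, leechLike.norm_neg]; exact (mA v).mp hv)
  have iD := two_mul_card_image D 48 (by norm_num) (by norm_num) (fun v hv => (mD v).mp hv)
    (fun v hv => by rw [mD, leechLike.norm_neg]; exact (mD v).mp hv)
  have small : ∀ v w : leechLattice, ldot v v ≤ 64 → ldot w w ≤ 64 → ldot v v ≠ ldot w w →
      cls v ≠ cls w := by
    intro v w hv hw hne he
    rcases eq_or_neg_of_cls hv hw he (by omega) with rfl | rfl
    · exact hne rfl
    · exact hne (leechLike.norm_neg w)
  obtain ⟨v48, hv48⟩ : ∃ v, ldot v v = 48 := by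
    obtain ⟨v, hv⟩ := card_pos.mp (show 0 < D.card by omega)
    exact ⟨v, (mD v).mp hv⟩
  have f32 : ∀ v, ldot v v = 32 → f v = f vBase := fun v hv => by
    obtain ⟨g, hgv⟩ := exists_to_vBase hv; rw [← hgv, hg]
  have f48 : ∀ v, ldot v v = 48 → f v = f v48 := fun v hv => by
    obtain ⟨g, hgv⟩ := transitive_48 golayUnique hv hv48; rw [← hgv, hg]
  have f64 : ∀ v, ldot v v = 64 → f v = f (eight none) := fun v hv => by
    obtain ⟨g, hgv⟩ := exists_to_eight hv; rw [← hgv, hg]
  have hf0 : f 0 = 0 := by
    have h := hB 0 0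
    have h' := hadd 0 0 0
    rw [add_zero] at h h'
    rw [left_eq_add] at h'
    rw [h', add_zero, left_eq_add] at h
    exact h
  set P := A.image cls
  set R := D.image cls
  set T := ((univ : Finset Cls).erase 0 \ P) \ R
  have hP0 : (0 : Cls) ∉ P := by
    intro h; obtain ⟨v, hv, he⟩ := mem_image.mp h
    exact small v 0 (by rw [(mA v).mp hv]; norm_num) (by rw [leechLike.zero_left]; norm_num)
      (by rw [(mA v).mp hv, leechLike.zero_left]; norm_num) he
  have hR0 : (0 : Cls) ∉ R := by
    intro h; obtain ⟨v, hv, he⟩ := mem_image.mp h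
    exact small v 0 (by rw [(mD v).mp hv]; norm_num) (by rw [leechLike.zero_left]; norm_num)
      (by rw [(mD v).mp hv, leechLike.zero_left]; norm_num) he
  have hPR : Disjoint P R := by
    rw [disjoint_left]
    intro p hp hp'
    obtain ⟨v, hv, rfl⟩ := mem_image.mp hp
    obtain ⟨w, hw, he⟩ := mem_image.mp hp'
    exact small v w (by rw [(mA v).mp hv]; norm_num) (by rw [(mD w).mp hw]; norm_num)
      (by rw [(mA v).mp hv, (mD w).mp hw]; norm_num) he.symm
  have hPsub : P ⊆ univ.erase 0 := fun p hp => mem_erase.mpr ⟨fun h => hP0 (h ▸ hp), mem_univ _⟩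
  have hRsub : R ⊆ univ.erase 0 \ P := fun p hp => mem_sdiff.mpr
    ⟨mem_erase.mpr ⟨fun h => hR0 (h ▸ hp), mem_univ _⟩, disjoint_right.mp hPR hp⟩
  have hT : T.card = 8292375 := by
    rw [card_sdiff_of_subset hRsub, card_sdiff_of_subset hPsub, card_erase_of_mem (mem_univ _),
      card_univ, ← Nat.card_eq_fintype_card, show Nat.card Cls = 2 ^ 24 from card_quot_twice]
    norm_num; omega
  have hsum : (∑ a, chi (F a)) = 1 + 98280 * chi (f vBase) + 8386560 * chi (f v48)
      + 8292375 * chi (f (eight none)) := by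
    rw [← sum_erase_add univ _ (mem_univ 0), ← sum_sdiff hPsub, ← sum_sdiff hRsub]
    have e0 : chi (F 0) = 1 := by rw [show (0 : Cls) = cls 0 from rfl, hF, hf0]; rfl
    have eP : ∀ p ∈ P, chi (F p) = chi (f vBase) := fun p hp => by
      obtain ⟨v, hv, rfl⟩ := mem_image.mp hp; rw [hF, f32 v ((mA v).mp hv)]
    have eR : ∀ p ∈ R, chi (F p) = chi (f v48) := fun p hp => by
      obtain ⟨v, hv, rfl⟩ := mem_image.mp hp; rw [hF, f48 v ((mD v).mp hv)]
    have eT : ∀ p ∈ T, chi (F p) = chi (f (eight none)) := fun p hp => by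
      induction p using QuotientAddGroup.induction_on with
      | H x =>
        obtain ⟨y, hxy, hy⟩ := exists_rep x
        simp only [T, mem_sdiff, mem_erase] at hp
        rcases hy with rfl | hy | hy | hy
        · exact absurd hxy hp.1.1.1
        · exact absurd (mem_image.mpr ⟨y, (mA y).mpr hy, hxy.symm⟩) hp.1.2
        · exact absurd (mem_image.mpr ⟨y, (mD y).mpr hy, hxy.symm⟩) hp.2
        · show chi (F (cls x)) = _
          rw [hF, hcls x y hxy, f64 y hy]
    rw [sum_congr rfl eP, sum_congr rfl eR, sum_congr rfl eT, e0, sum_const, sum_const, sum_const,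
      hT, show P.card = 98280 by omega, show R.card = 8386560 by omega]
    simp only [nsmul_eq_mul]; push_cast; ring
  rw [hsum, show (Fintype.card Cls : ℤ) = 16777216 by
    rw [← Nat.card_eq_fintype_card, show Nat.card Cls = 2 ^ 24 from card_quot_twice]; norm_num] at hS
  have hvals : f vBase = 0 ∧ f v48 = 1 ∧ f (eight none) = 0 := by
    rcases zmod2_cases (f vBase) with h1 | h1 <;> rcases zmod2_cases (f v48) with h2 | h2 <;>
      rcases zmod2_cases (f (eight none)) with h3 | h3 <;> rw [h1, h2, h3] at hS <;>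
      first
      | exact ⟨h1, h2, h3⟩
      | exact absurd hS (by decide)
  intro x
  obtain ⟨y, hxy, hy⟩ := exists_rep x
  rw [hcls x y hxy, qf_congr hxy]
  rcases hy with rfl | hy | hy | hy
  · rw [hf0, qf, leechLike.zero_left]; rfl
  · rw [f32 y hy, hvals.1, qf, hy]; rfl
  · rw [f48 y hy, hvals.2.1, qf, hy]; rfl
  · rw [f64 y hy, hvals.2.2, qf, hy]; rfl

theorem form_bilin {f : leechLattice → ZMod 2} {B : leechLattice → leechLattice → ZMod 2}
    (hf : ∀ v, f v = qf v) (hB : ∀ v w, f (v + w) = f v + f w + B v w) (v w : leechLattice) :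
    B v w = bf v w := by
  have := hB v w
  rw [hf, hf, hf, qf_add] at this
  exact (add_left_cancel this).symm

/-! ### vectors of the frame and of the sublattice divisible by four -/

/-- the sublattice of vectors divisible by four -/
def L4 : AddSubgroup leechLattice where
  carrier := {y | ∀ i, 4 ∣ (y : GolayPt → ℤ) i}
  zero_mem' := fun i => by simp
  add_mem' := fun {a b} ha hb i => by simpa using dvd_add (ha i) (hb i)
  neg_mem' := fun {a} ha i => by simpa using (ha i).neg_right

theorem mem_L4 {y : leechLattice} : y ∈ L4 ↔ ∀ i, 4 ∣ (y : GolayPt → ℤ) i := Iff.rfl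

theorem eight_mem_L4 (i : GolayPt) : eight i ∈ L4 := fun j => by
  show 4 ∣ (Pi.single i 8 : GolayPt → ℤ) j
  rw [Pi.single_apply]; split <;> norm_num

theorem vBase_mem_L4 : vBase ∈ L4 := fun j => by
  rw [coe_vBase, Pi.add_apply, Pi.single_apply, Pi.single_apply]
  split <;> split <;> norm_num

theorem qf_L4 {y : leechLattice} (hy : y ∈ L4) : qf y = 0 := by
  choose z hz using hy
  obtain ⟨m, hm, hs, -⟩ := mem_leech.mp y.2
  have hm2 : 2 ∣ m := by have := hm none; have := hz none; omega
  have hz2 : 2 ∣ ∑ i, z i := by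
    rw [sum_congr rfl (fun i _ => hz i), ← mul_sum] at hs; omega
  have h2 := two_dvd_sum_sq_sub z
  have : ldot y y = 16 * ∑ i, z i ^ 2 := by
    rw [← sqNorm_eq_ldot, sqNorm, mul_sum]
    exact sum_congr rfl fun i _ => by rw [hz i]; ring
  rw [qf, this, Int.mul_ediv_cancel_left _ (by norm_num)]
  exact (ZMod.intCast_zmod_eq_zero_iff_dvd _ 2).mpr (by
    show (2 : ℤ) ∣ _
    omega)

theorem bf_L4 {x y : leechLattice} (hx : x ∈ L4) (hy : y ∈ L4) : bf x y = 0 := by
  have h := qf_add x y
  rw [qf_L4 (add_mem hx hy), qf_L4 hx, qf_L4 hy, add_zero, zero_add] at h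
  exact h.symm

theorem bf_eq_zero {v w : leechLattice} : bf v w = 0 ↔ 16 ∣ ldot v w := by
  obtain ⟨a, ha⟩ := leechLike.dvd8 v w
  rw [bf, ha, Int.mul_ediv_cancel_left _ (by norm_num : (8 : ℤ) ≠ 0),
    ZMod.intCast_zmod_eq_zero_iff_dvd]
  omega

theorem bf_eight (v : leechLattice) (i : GolayPt) : bf v (eight i) = 0 ↔ 2 ∣ (v : GolayPt → ℤ) i := by
  rw [bf_eq_zero, ldot_eight]; omega

/-- some vector congruent to `x` and divisible by four, if `x` is even with word 0 or 1 -/
theorem exists_L4_of_word {x : leechLattice} {m : ℤ} {a : GolayPt → ZMod 2} {z : GolayPt → ℤ}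
    (hx : ∀ i, (x : GolayPt → ℤ) i = m + 2 * ((a i).val : ℤ) + 4 * z i) (hm : m = 0)
    (ha : a = 0 ∨ a = 1) : ∃ y ∈ L4, cls x = cls y := by
  subst hm
  rcases ha with rfl | rfl
  · refine ⟨x, fun i => ?_, rfl⟩
    rw [hx i]; simp
  · refine ⟨x + 2 • ⟨oddVec, oddVec_mem⟩, fun i => ?_, ?_⟩
    · have e : ((x + 2 • ⟨oddVec, oddVec_mem⟩ : leechLattice) : GolayPt → ℤ) i
          = (x : GolayPt → ℤ) i + 2 * oddVec i := by simp [two_nsmul, two_mul]
      rw [e, hx i]
      simp only [Pi.one_apply, oddVec, show ((1 : ZMod 2).val : ℤ) = 1 from rfl]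
      split <;> omega
    · rw [cls_eq, sub_add_cancel_left]
      exact neg_mem (mem_twice.mpr ⟨_, rfl⟩)

/-- the sublattice divisible by four is its own orthogonal modulo 2 -/
theorem mem_L4_of_orth {x : leechLattice} (h : ∀ y ∈ L4, bf x y = 0) : ∃ y ∈ L4, cls x = cls y := by
  classical
  obtain ⟨m, hm, a, ha, z, hz, hs⟩ := exists_form x.2
  have h8 := (bf_eight x none).mp (h _ (eight_mem_L4 none))
  have hm0 : m = 0 := by have := hz none; omega
  subst hm0
  refine exists_L4_of_word hz rfl ?_
  have key : ∀ i j, i ≠ j → a i = a j := by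
    intro i j hij
    have hq : quad i j hij 1 1 (Or.inl rfl) (Or.inl rfl) ∈ L4 := fun k => by
      show 4 ∣ (Pi.single i (4 * 1) + Pi.single j (4 * 1) : GolayPt → ℤ) k
      rw [Pi.add_apply, Pi.single_apply, Pi.single_apply]; split <;> split <;> norm_num
    have := bf_eq_zero.mp (h _ hq)
    rw [ldot_quad, hz i, hz j] at this
    rcases zmod2_cases (a i) with e | e <;> rcases zmod2_cases (a j) with e' | e' <;>
      rw [e, e'] at this ⊢ <;>
      simp only [show ((1 : ZMod 2).val : ℤ) = 1 from rfl, show ((0 : ZMod 2).val : ℤ) = 0 from rfl]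
        at this <;> omega
  have hall : ∀ i, a i = a none := fun i => by
    by_cases hi : i = none
    · rw [hi]
    · exact key i none hi
  rcases zmod2_cases (a none) with e | e
  · exact Or.inl (funext fun i => by rw [hall i, e]; rfl)
  · exact Or.inr (funext fun i => by rw [hall i, e]; rfl)

/-- a vector `4 ind d` congruent to zero or to the frame comes from a code word -/
theorem code_of_four {x : leechLattice} {d : Finset GolayPt}
    (hx : ∀ i, (x : GolayPt → ℤ) i = if i ∈ d then 4 else 0)
    (h : cls x = 0 ∨ cls x = cls (eight none)) : ind d ∈ golayCode := by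
  obtain ⟨y, k, hy⟩ : ∃ (y : leechLattice) (k : ℤ), ∀ i, (y : GolayPt → ℤ) i
      = (if i ∈ d then 2 else 0) - if i = none then 4 * k else 0 := by
    rcases h with h | h
    · obtain ⟨y, hy⟩ := mem_twice.mp ((QuotientAddGroup.eq_zero_iff _).mp h)
      refine ⟨y, 0, fun i => ?_⟩
      have e : (x : GolayPt → ℤ) i = (y : GolayPt → ℤ) i + (y : GolayPt → ℤ) i := by
        rw [hy, two_nsmul]; rfl
      rw [hx i] at e
      simp only [mul_zero, ite_self, sub_zero]
      by_cases hd : i ∈ d <;> simp only [hd, if_true, if_false] at e ⊢ <;> omega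
    · obtain ⟨y, hy⟩ := mem_twice.mp (cls_eq.mp h)
      refine ⟨y, 1, fun i => ?_⟩
      have e : (x : GolayPt → ℤ) i - (Pi.single none 8 : GolayPt → ℤ) i
          = (y : GolayPt → ℤ) i + (y : GolayPt → ℤ) i := by
        have := congrArg (fun v : leechLattice => (v : GolayPt → ℤ) i) hy
        rw [two_nsmul] at this
        exact this
      rw [hx i, Pi.single_apply] at e
      by_cases hd : i ∈ d <;> by_cases hn : i = none
      · rw [if_pos hd, if_pos hn] at e; rw [if_pos hd, if_pos hn]; omega
      · rw [if_pos hd, if_neg hn] at e; rw [if_pos hd, if_neg hn]; omega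
      · rw [if_neg hd, if_pos hn] at e; rw [if_neg hd, if_pos hn]; omega
      · rw [if_neg hd, if_neg hn] at e; rw [if_neg hd, if_neg hn]; omega
  obtain ⟨m, hm, -, hw⟩ := mem_leech.mp y.2
  have hm2 : 2 ∣ m := by
    have := hm none; rw [hy none] at this
    split at this <;> split at this <;> omega
  obtain ⟨t, rfl⟩ := hm2
  have : word (2 * t) (y : GolayPt → ℤ) = ind d + fun _ => ((t : ℤ) : ZMod 2) := by
    funext i
    rw [word_eq (q := (if i ∈ d then 1 else 0) - (if i = none then 2 * k else 0) - t) (by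
      rw [hy i]; split <;> split <;> ring)]
    simp only [Pi.add_apply, ind, sub_eq_add_neg]
    push_cast [apply_ite (Int.cast : ℤ → ZMod 2)]
    rw [show (2 : ZMod 2) = 0 from rfl, zero_mul]
    simp only [ite_self, neg_zero, add_zero, ZMod.neg_eq_self_mod_two]
  rw [this] at hw
  have h2 := sub_mem hw (const_mem_code ((t : ℤ) : ZMod 2))
  rwa [add_sub_cancel_right] at h2

end H56M
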