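import Cfsg.Agent.H56.MonsterStab
import Cfsg.Agent.H30.Extraspecial
import Cfsg.Agent.H76.Extraspecial
import Cfsg.Agent.H6.Extraspecial
import Cfsg.Agent.H76.CharPFStar
import Cfsg.Agent.H1.Fitting
import Cfsg.Prelude.Def_MonsterType

/-!
The involution centraliser of a group of Monster type, at the level of the ambient group.
-/

set_option autoImplicit false

namespace H56M

open Cfsg H95

variable {G : Type*} [Group G] {z : G}

/-- the centraliser of `z` -/
abbrev CZ (z : G) : Subgroup G := Subgroup.centralizer ({z} : Set G)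

theorem mem_CZ {x : G} : x ∈ CZ z ↔ x * z = z * x := Subgroup.mem_centralizer_singleton_iff

/-- `Q` inside the ambient group -/
abbrev QG (Q : Subgroup (CZ z)) : Subgroup G := Q.map (CZ z).subtype

/-- the data of a group of Monster type at `z` -/
structure Data {G : Type*} [Group G] (z : G) (Q : Subgroup (CZ z)) [Q.Normal] where
  hS : IsExtraspecialCentralizerSetting z Q 12
  e : (CZ z) ⧸ Q ≃* Spor.Co1
  ψ : leechLattice → Q ⧸ Subgroup.center Q
  hψ : IsLeechModTwoIso Q e ψ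

theorem nonempty_data {Q : Subgroup (CZ z)} [Q.Normal] (hM : IsOfMonsterType z Q) :
    Nonempty (Data z Q) :=
  let ⟨hS, e, ψ, hψ⟩ := hM; ⟨⟨hS, e, ψ, hψ⟩⟩

variable {Q : Subgroup (CZ z)} [Q.Normal]

theorem coe_mem_CZ {x : G} (hx : x ∈ QG Q) : x ∈ CZ z := by
  obtain ⟨y, -, rfl⟩ := hx; exact y.2

theorem QG_normal {h x : G} (hh : h ∈ CZ z) (hx : x ∈ QG Q) : h * x * h⁻¹ ∈ QG Q := by
  obtain ⟨y, hy, rfl⟩ := hx
  exact ⟨⟨h, hh⟩ * y * ⟨h, hh⟩⁻¹, (inferInstance : Q.Normal).conj_mem y hy _, rfl⟩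

namespace Data

variable (D : Data z Q)
include D

theorem z_sq : z * z = 1 := by rw [← sq, ← D.hS.1]; exact pow_orderOf_eq_one z

theorem z_ne_one : z ≠ 1 := fun h => by
  have := D.hS.1; rw [h, orderOf_one] at this; omega

theorem z_inv : z⁻¹ = z := inv_eq_of_mul_eq_one_right D.z_sq

theorem z_mem : z ∈ QG Q := by
  have hz : z ∈ CZ z := mem_CZ.mpr rfl
  refine ⟨⟨z, hz⟩, ?_, rfl⟩
  have h1 : Subgroup.center (CZ z) ≤ generalizedFittingSubgroup (CZ z) := by
    refine le_trans ?_ le_sup_right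
    exact le_sSup ⟨inferInstance, @CommGroup.isNilpotent _ { (inferInstance : Group (Subgroup.center (CZ z))) with mul_comm := mul_comm' }⟩
  rw [← D.hS.2.1]
  exact h1 (Subgroup.mem_center_iff.mpr fun g => Subtype.ext (mem_CZ.mp g.2))

theorem card_QG : Nat.card (QG Q) = 2 ^ 25 := by
  rw [← Nat.card_congr (Subgroup.equivMapOfInjective Q _ (CZ z).subtype_injective).toEquiv,
    D.hS.2.2.2.1]

theorem isPGroup_QG : IsPGroup 2 (QG Q) := IsPGroup.of_card D.card_QG

/-- `x` lies in `Q` and has image `v` modulo twice the lattice -/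
def Rep (x : G) (v : leechLattice) : Prop :=
  ∃ q : Q, ((q : CZ z) : G) = x ∧ D.ψ v = QuotientGroup.mk q

variable {D} in
theorem Rep.mem {x : G} {v : leechLattice} (h : D.Rep x v) : x ∈ QG Q := by
  obtain ⟨q, rfl, -⟩ := h; exact ⟨_, q.2, rfl⟩

theorem exists_rep {x : G} (hx : x ∈ QG Q) : ∃ v, D.Rep x v := by
  obtain ⟨y, hy, rfl⟩ := hx
  obtain ⟨v, hv⟩ := D.hψ.2.1 (QuotientGroup.mk ⟨y, hy⟩)
  exact ⟨v, ⟨y, hy⟩, rfl, hv⟩

theorem exists_elt (v : leechLattice) : ∃ x, D.Rep x v := by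
  obtain ⟨q, hq⟩ := QuotientGroup.mk_surjective (D.ψ v)
  exact ⟨_, q, rfl, hq.symm⟩

theorem ψ_zero : D.ψ 0 = 1 := by
  have := D.hψ.1 0 0; rwa [add_zero, left_eq_mul] at this

theorem ψ_eq_iff {v w : leechLattice} : D.ψ v = D.ψ w ↔ cls v = cls w := by
  have h : D.ψ v = D.ψ (v - w) * D.ψ w := by rw [← D.hψ.1, sub_add_cancel]
  have key : D.ψ (v - w) = 1 ↔ v - w ∈ twice leechLattice := by
    rw [D.hψ.2.2.1, mem_twice]; simp only [two_nsmul]
  rw [cls_eq, ← key, h]
  exact mul_eq_right.symm.symm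

variable {D} in
theorem Rep.congr {x : G} {v w : leechLattice} (h : D.Rep x v) (hvw : cls v = cls w) :
    D.Rep x w := by
  obtain ⟨q, hq, hv⟩ := h
  exact ⟨q, hq, (D.ψ_eq_iff.mpr hvw).symm.trans hv⟩

variable {D} in
theorem Rep.unique {x : G} {v w : leechLattice} (h : D.Rep x v) (h' : D.Rep x w) :
    cls v = cls w := by
  obtain ⟨q, hq, hv⟩ := h
  obtain ⟨q', hq', hw⟩ := h'
  obtain rfl : q = q' := Subtype.ext (Subtype.ext (hq.trans hq'.symm))
  exact D.ψ_eq_iff.mp (hv.trans hw.symm)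

variable {D} in
theorem Rep.mul {x y : G} {v w : leechLattice} (h : D.Rep x v) (h' : D.Rep y w) :
    D.Rep (x * y) (v + w) := by
  obtain ⟨q, rfl, hv⟩ := h
  obtain ⟨q', rfl, hw⟩ := h'
  exact ⟨q * q', rfl, by rw [D.hψ.1, hv, hw, QuotientGroup.mk_mul]⟩

theorem rep_one : D.Rep 1 0 := ⟨1, rfl, by rw [D.ψ_zero]; rfl⟩

theorem center_cases {q : Q} : q ∈ Subgroup.center Q ↔
    ((q : CZ z) : G) = 1 ∨ ((q : CZ z) : G) = z := by
  obtain ⟨qz, hqz, hqz'⟩ := D.z_mem
  set w : Q := ⟨qz, hqz⟩ with hw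
  have hwval : ((w : CZ z) : G) = z := hqz'
  have hwc : w ∈ Subgroup.center Q := Subgroup.mem_center_iff.mpr fun g => Subtype.ext (Subtype.ext (by
    show ((g : CZ z) : G) * ((w : CZ z) : G) = ((w : CZ z) : G) * ((g : CZ z) : G)
    rw [hwval]; exact mem_CZ.mp (g : CZ z).2))
  constructor
  · intro hq
    by_contra hcon
    simp only [not_or] at hcon
    have h1 : q ≠ 1 := fun h => hcon.1 (by rw [h]; rfl)
    have h2 : q ≠ w := fun h => hcon.2 (by rw [h, hwval])
    have h3 : w ≠ 1 := fun h => D.z_ne_one (by rw [← hwval, h]; rfl)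
    have hc := D.hS.2.2.1.2
    have : Finite Q := Nat.finite_of_card_ne_zero (by rw [D.hS.2.2.2.1]; norm_num)
    have hsub : ({1, q, w} : Set Q) ⊆ Subgroup.center Q := by
      rintro a (rfl | rfl | rfl)
      exacts [one_mem _, hq, hwc]
    have hle := Set.ncard_le_ncard hsub (Set.toFinite _)
    rw [Set.ncard_eq_three.mpr ⟨1, q, w, h1.symm, h3.symm, h2, rfl⟩] at hle
    rw [← Nat.card_coe_set_eq] at hle
    exact absurd (hle.trans_eq hc) (by norm_num)
  · rintro (h | h)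
    · rw [show q = 1 from Subtype.ext (Subtype.ext h)]; exact one_mem _
    · rw [show q = w from Subtype.ext (Subtype.ext (h.trans hwval.symm))]; exact hwc

theorem rep_z : D.Rep z 0 := by
  obtain ⟨y, hy, hyz⟩ := D.z_mem
  refine ⟨⟨y, hy⟩, hyz, ?_⟩
  rw [D.ψ_zero, eq_comm, QuotientGroup.eq_one_iff, D.center_cases]
  exact Or.inr hyz

theorem rep_zero_cases {x : G} {v : leechLattice} (h : D.Rep x v) (hv : cls v = 0) :
    x = 1 ∨ x = z := by
  obtain ⟨q, rfl, hq⟩ := h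
  have : D.ψ v = 1 := D.ψ_zero ▸ D.ψ_eq_iff.mpr hv
  exact D.center_cases.mp ((QuotientGroup.eq_one_iff q).mp (hq ▸ this))

variable {D} in
theorem Rep.same {x y : G} {v : leechLattice} (h : D.Rep x v) (h' : D.Rep y v) :
    y = x ∨ y = z * x := by
  obtain ⟨q, rfl, hq⟩ := h
  obtain ⟨q', rfl, hq'⟩ := h'
  have hmem : q' * q⁻¹ ∈ Subgroup.center Q := by
    rw [← QuotientGroup.eq_one_iff, QuotientGroup.mk_mul, QuotientGroup.mk_inv, ← hq, ← hq',
      mul_inv_cancel]
  rcases D.center_cases.mp hmem with h1 | h1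
  · left; exact mul_inv_eq_one.mp h1
  · right; exact mul_inv_eq_iff_eq_mul.mp h1

/-- `h` centralises `z` and acts as `g` on the lattice modulo 2 -/
def Lift (h : G) (g : Co0) : Prop :=
  ∃ hh : h ∈ CZ z, (QuotientGroup.mk g : Spor.Co1) = D.e (QuotientGroup.mk ⟨h, hh⟩)

theorem exists_lift_of_mem {h : G} (hh : h ∈ CZ z) : ∃ g, D.Lift h g := by
  obtain ⟨g, hg⟩ := QuotientGroup.mk_surjective (D.e (QuotientGroup.mk ⟨h, hh⟩))
  exact ⟨g, hh, hg⟩

theorem exists_lift (g : Co0) : ∃ h, D.Lift h g := by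
  obtain ⟨h, hh⟩ := QuotientGroup.mk_surjective (D.e.symm (QuotientGroup.mk g))
  exact ⟨h, h.2, by rw [Subtype.coe_eta, hh, MulEquiv.apply_symm_apply]⟩

variable {D} in
theorem Lift.mul {h h' : G} {g g' : Co0} (a : D.Lift h g) (b : D.Lift h' g') :
    D.Lift (h * h') (g * g') := by
  obtain ⟨hh, e1⟩ := a
  obtain ⟨hh', e2⟩ := b
  exact ⟨mul_mem hh hh', by rw [QuotientGroup.mk_mul, e1, e2, ← map_mul]; rfl⟩

variable {D} in
theorem Lift.inv {h : G} {g : Co0} (a : D.Lift h g) : D.Lift h⁻¹ g⁻¹ := by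
  obtain ⟨hh, e1⟩ := a
  exact ⟨inv_mem hh, by rw [QuotientGroup.mk_inv, e1, ← map_inv]; rfl⟩

theorem lift_one_iff {h : G} : D.Lift h 1 ↔ h ∈ QG Q := by
  constructor
  · rintro ⟨hh, e1⟩
    rw [QuotientGroup.mk_one, eq_comm, MulEquiv.map_eq_one_iff, QuotientGroup.eq_one_iff] at e1
    exact ⟨_, e1, rfl⟩
  · rintro ⟨y, hy, rfl⟩
    exact ⟨y.2, by rw [QuotientGroup.mk_one, eq_comm, MulEquiv.map_eq_one_iff,
      QuotientGroup.eq_one_iff]; exact hy⟩

theorem lift_negOne_iff {h : G} {g : Co0} : D.Lift h (g * negOne) ↔ D.Lift h g := by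
  have : (QuotientGroup.mk (g * negOne) : Spor.Co1) = QuotientGroup.mk g :=
    QuotientGroup.mk_mul_of_mem g negOne_mem_center
  unfold Lift
  rw [this]

theorem mem_QG_of_scalar {h : G} {g : Co0} (hl : D.Lift h g) (hg : g = 1 ∨ g = negOne) :
    h ∈ QG Q := by
  rcases hg with rfl | rfl
  · exact D.lift_one_iff.mp hl
  · rw [← one_mul negOne, D.lift_negOne_iff] at hl
    exact D.lift_one_iff.mp hl

variable {D} in
theorem Lift.unique {h : G} {g g' : Co0} (a : D.Lift h g) (b : D.Lift h g') :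
    g' = g ∨ g' = g * negOne := by
  obtain ⟨hh, e1⟩ := a
  obtain ⟨hh', e2⟩ := b
  have : g⁻¹ * g' ∈ Subgroup.center Co0 := QuotientGroup.eq.mp (e1.trans e2.symm)
  rcases H95.center_cases this with h1 | h1
  · exact Or.inl (inv_mul_eq_one.mp h1).symm
  · exact Or.inr (inv_mul_eq_iff_eq_mul.mp h1)

variable {D} in
theorem Rep.conj {x h : G} {v : leechLattice} {g : Co0} (hr : D.Rep x v) (hl : D.Lift h g) :
    D.Rep (h * x * h⁻¹) (g • v) := by
  obtain ⟨q, rfl, hq⟩ := hr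
  obtain ⟨hh, e1⟩ := hl
  exact ⟨_, rfl, D.hψ.2.2.2 ⟨h, hh⟩ g e1 v q hq⟩

omit D in
theorem cls_smul_negOne (g : Co0) (v : leechLattice) : cls ((g * negOne) • v) = cls (g • v) := by
  rw [mul_smul, negOne_smul, co0_neg, cls_neg]

theorem comm_cases {x y : G} (hx : x ∈ QG Q) (hy : y ∈ QG Q) :
    x * y * x⁻¹ * y⁻¹ = 1 ∨ x * y * x⁻¹ * y⁻¹ = z := by
  obtain ⟨a, ha, rfl⟩ := hx
  obtain ⟨b, hb, rfl⟩ := hy
  have : Finite Q := Nat.finite_of_card_ne_zero (by rw [D.hS.2.2.2.1]; norm_num)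
  exact D.center_cases.mp (H76.comm_mem_center_of_special D.hS.2.2.1.1 (⟨a, ha⟩ : Q) ⟨b, hb⟩)

theorem sq_cases {x : G} (hx : x ∈ QG Q) : x * x = 1 ∨ x * x = z := by
  obtain ⟨a, ha, rfl⟩ := hx
  have : Fact (Nat.Prime 2) := ⟨Nat.prime_two⟩
  have : Finite Q := Nat.finite_of_card_ne_zero (by rw [D.hS.2.2.2.1]; norm_num)
  have h := H6.extraspecial_pow_mem_center D.hS.2.2.1 (⟨a, ha⟩ : Q)
  rw [sq] at h
  exact D.center_cases.mp h

theorem commute_z {x : G} (hx : x ∈ CZ z) : z * x = x * z := (mem_CZ.mp hx).symm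

/-- the bit of an element of `{1, z}` -/
noncomputable def bit (a : G) : ZMod 2 :=
  open Classical in if a = 1 then 0 else 1

omit D in
theorem bit_one : bit (1 : G) = 0 := by simp [bit]

theorem bit_z : bit z = 1 := by simp [bit, D.z_ne_one]

theorem bit_mul {a b : G} (ha : a = 1 ∨ a = z) (hb : b = 1 ∨ b = z) :
    bit (a * b) = bit a + bit b := by
  rcases ha with rfl | rfl <;> rcases hb with rfl | rfl
  · rw [one_mul, bit_one, add_zero]
  · rw [one_mul, bit_one, zero_add]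
  · rw [mul_one, bit_one, add_zero]
  · rw [D.z_sq, bit_one, D.bit_z]; decide

/-- the element chosen for a lattice vector -/
noncomputable def elt (v : leechLattice) : G := (D.exists_elt v).choose

theorem rep_elt (v : leechLattice) : D.Rep (D.elt v) v := (D.exists_elt v).choose_spec

theorem sq_congr {x y : G} (hx : x ∈ CZ z) (h : y = x ∨ y = z * x) : y * y = x * x := by
  rcases h with rfl | rfl
  · rfl
  · rw [show z * x * (z * x) = z * (x * z) * x by group, ← D.commute_z hx, ← mul_assoc, D.z_sq,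
      one_mul]

theorem comm_congr {x y x' y' : G} (hx : x ∈ CZ z) (hy : y ∈ CZ z) (h : x' = x ∨ x' = z * x)
    (h' : y' = y ∨ y' = z * y) : x' * y' * x'⁻¹ * y'⁻¹ = x * y * x⁻¹ * y⁻¹ := by
  have key : ∀ a b : G, a ∈ CZ z → b ∈ CZ z →
      (z * a) * b * (z * a)⁻¹ * b⁻¹ = a * b * a⁻¹ * b⁻¹ := by
    intro a b ha hb
    have hc : a * b * a⁻¹ ∈ CZ z := mul_mem (mul_mem ha hb) (inv_mem ha)
    calc (z * a) * b * (z * a)⁻¹ * b⁻¹ = z * (a * b * a⁻¹) * z⁻¹ * b⁻¹ := by group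
      _ = a * b * a⁻¹ * b⁻¹ := by rw [D.commute_z hc, mul_inv_cancel_right]
  have key' : ∀ a b : G, a ∈ CZ z → b ∈ CZ z →
      a * (z * b) * a⁻¹ * (z * b)⁻¹ = a * b * a⁻¹ * b⁻¹ := by
    intro a b ha hb
    calc a * (z * b) * a⁻¹ * (z * b)⁻¹ = (a * z) * (b * a⁻¹ * b⁻¹) * z⁻¹ := by group
      _ = z * (a * b * a⁻¹ * b⁻¹) * z⁻¹ := by rw [← D.commute_z ha]; group
      _ = a * b * a⁻¹ * b⁻¹ := by
        rw [D.commute_z (mul_mem (mul_mem (mul_mem ha hb) (inv_mem ha)) (inv_mem hb)),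
          mul_inv_cancel_right]
  have hzC : z ∈ CZ z := mem_CZ.mpr rfl
  rcases h with rfl | rfl <;> rcases h' with rfl | rfl
  · rfl
  · exact key' _ _ hx hy
  · exact key _ _ hx hy
  · rw [key _ _ hx (mul_mem hzC hy), key' _ _ hx hy]

theorem QF_eq (v : leechLattice) : bit (D.elt v * D.elt v) = qf v ∧
    ∀ w, bit (D.elt v * D.elt w * (D.elt v)⁻¹ * (D.elt w)⁻¹) = bf v w := by
  let f : leechLattice → ZMod 2 := fun v => bit (D.elt v * D.elt v)
  let B : leechLattice → leechLattice → ZMod 2 := fun v w =>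
    bit (D.elt v * D.elt w * (D.elt v)⁻¹ * (D.elt w)⁻¹)
  have hC : ∀ v, D.elt v ∈ CZ z := fun v => coe_mem_CZ (D.rep_elt v).mem
  have hf : ∀ {x : G} {v}, D.Rep x v → f v = bit (x * x) := fun {x v} h => by
    show bit _ = _
    rw [D.sq_congr (hC v) ((D.rep_elt v).same h)]
  have hB' : ∀ {x y : G} {v w}, D.Rep x v → D.Rep y w → B v w = bit (x * y * x⁻¹ * y⁻¹) :=
    fun {x y v w} h h' => by
    show bit _ = _
    rw [D.comm_congr (hC v) (hC w) ((D.rep_elt v).same h) ((D.rep_elt w).same h')]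
  have hB : ∀ v w, f (v + w) = f v + f w + B v w := by
    intro v w
    set x := D.elt v
    set y := D.elt w
    have hx : x ∈ QG Q := (D.rep_elt v).mem
    have hy : y ∈ QG Q := (D.rep_elt w).mem
    show f (v + w) = bit (x * x) + bit (y * y) + bit (x * y * x⁻¹ * y⁻¹)
    rw [hf ((D.rep_elt v).mul (D.rep_elt w)), ← D.bit_mul (D.sq_cases hx) (D.sq_cases hy),
      ← D.bit_mul ?_ (D.comm_cases hx hy)]
    · congr 1
      have hc : x * y * x⁻¹ * y⁻¹ ∈ ({1, z} : Set G) := D.comm_cases hx hy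
      have hcc : ∀ a, a ∈ CZ z → (x * y * x⁻¹ * y⁻¹) * a = a * (x * y * x⁻¹ * y⁻¹) := by
        intro a ha
        rcases hc with h | h <;> rw [h]
        · simp
        · exact D.commute_z ha
      have hinv : (x * y * x⁻¹ * y⁻¹)⁻¹ = x * y * x⁻¹ * y⁻¹ := by
        rcases hc with h | h <;> rw [h]
        · simp
        · exact D.z_inv
      calc x * y * (x * y)
          = x * ((x * y * x⁻¹ * y⁻¹)⁻¹) * (x * y * y) := by group
        _ = x * (x * y * x⁻¹ * y⁻¹) * (x * y * y) := by rw [hinv]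
        _ = (x * x) * (y * y) * (x * y * x⁻¹ * y⁻¹) := by
            rw [mul_assoc x (x * y * x⁻¹ * y⁻¹), hcc _ (mul_mem (mul_mem (coe_mem_CZ hx)
              (coe_mem_CZ hy)) (coe_mem_CZ hy))]
            group
    · rcases D.sq_cases hx with a | a <;> rcases D.sq_cases hy with b | b <;> rw [a, b]
      · exact Or.inl (one_mul 1)
      · exact Or.inr (one_mul z)
      · exact Or.inr (mul_one z)
      · exact Or.inl D.z_sq
  have hadd : ∀ v v' w, B (v + v') w = B v w + B v' w := by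
    intro v v' w
    set x := D.elt v
    set x' := D.elt v'
    set y := D.elt w
    have hx : x ∈ QG Q := (D.rep_elt v).mem
    have hx' : x' ∈ QG Q := (D.rep_elt v').mem
    have hy : y ∈ QG Q := (D.rep_elt w).mem
    rw [hB' ((D.rep_elt v).mul (D.rep_elt v')) (D.rep_elt w)]
    show _ = bit (x * y * x⁻¹ * y⁻¹) + bit (x' * y * x'⁻¹ * y⁻¹)
    rw [← D.bit_mul (D.comm_cases hx hy) (D.comm_cases hx' hy)]
    congr 1
    have hcc : (x' * y * x'⁻¹ * y⁻¹) * x = x * (x' * y * x'⁻¹ * y⁻¹) := by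
      rcases D.comm_cases hx' hy with h | h <;> rw [h]
      · simp
      · exact D.commute_z (coe_mem_CZ hx)
    calc x * x' * y * (x * x')⁻¹ * y⁻¹ = (x * (x' * y * x'⁻¹ * y⁻¹)) * (y * x⁻¹ * y⁻¹) := by group
      _ = (x' * y * x'⁻¹ * y⁻¹) * (x * y * x⁻¹ * y⁻¹) := by rw [← hcc]; group
      _ = _ := by
        rcases D.comm_cases hx' hy with h | h <;> rw [h]
        · simp
        · rcases D.comm_cases hx hy with h' | h' <;> rw [h'] <;> simp
  have hcls : ∀ v w, cls v = cls w → f v = f w := fun v w h =>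
    (hf ((D.rep_elt v).congr h)).symm
  have hg : ∀ (g : Co0) v, f (g • v) = f v := by
    intro g v
    obtain ⟨h, hl⟩ := D.exists_lift g
    rw [hf ((D.rep_elt v).conj hl)]
    show bit _ = bit (D.elt v * D.elt v)
    have e : h * D.elt v * h⁻¹ * (h * D.elt v * h⁻¹) = h * (D.elt v * D.elt v) * h⁻¹ := by group
    rw [e]
    rcases D.sq_cases (D.rep_elt v).mem with a | a <;> rw [a]
    · simp
    · rw [← D.commute_z hl.1, mul_inv_cancel_right]
  have hnd : ∀ w, cls w ≠ 0 → ∃ v, B v w = 1 := by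
    intro w hw
    by_contra hcon
    push Not at hcon
    obtain ⟨q, hq, hqv⟩ := D.rep_elt w
    apply hw
    show cls w = cls 0
    refine D.ψ_eq_iff.mp ?_
    rw [D.ψ_zero, hqv, QuotientGroup.eq_one_iff, Subgroup.mem_center_iff]
    intro a
    obtain ⟨v, hv⟩ := D.exists_rep (x := ((a : CZ z) : G)) ⟨_, a.2, rfl⟩
    have h0 : B v w = 0 := (zmod2_cases _).resolve_right (hcon v)
    rw [hB' hv ⟨q, rfl, hqv⟩] at h0
    apply Subtype.ext; apply Subtype.ext
    show ((a : CZ z) : G) * ((q : CZ z) : G) = ((q : CZ z) : G) * ((a : CZ z) : G)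
    simp only [bit] at h0
    split at h0
    · next hh => exact mul_inv_eq_iff_eq_mul.mp (mul_inv_eq_one.mp hh)
    · exact absurd h0 (by decide)
  have hfq := form_eq f B hcls hg hB hadd hnd
  exact ⟨hfq v, fun w => form_bilin hfq hB v w⟩

variable {D} in
theorem Rep.sq_iff {x : G} {v : leechLattice} (h : D.Rep x v) : x * x = 1 ↔ qf v = 0 := by
  have hc : D.elt v ∈ CZ z := coe_mem_CZ (D.rep_elt v).mem
  rw [D.sq_congr hc ((D.rep_elt v).same h), ← (D.QF_eq v).1]
  rcases D.sq_cases (D.rep_elt v).mem with a | a <;> rw [a]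
  · simp [bit_one]
  · simp [D.bit_z, D.z_ne_one]

variable {D} in
theorem Rep.comm_iff {x y : G} {v w : leechLattice} (h : D.Rep x v) (h' : D.Rep y w) :
    x * y = y * x ↔ bf v w = 0 := by
  have hc : D.elt v ∈ CZ z := coe_mem_CZ (D.rep_elt v).mem
  have hc' : D.elt w ∈ CZ z := coe_mem_CZ (D.rep_elt w).mem
  have e := D.comm_congr hc hc' ((D.rep_elt v).same h) ((D.rep_elt w).same h')
  rw [show x * y = y * x ↔ x * y * x⁻¹ * y⁻¹ = 1 by
    rw [mul_inv_eq_one, mul_inv_eq_iff_eq_mul], e, ← (D.QF_eq v).2 w]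
  rcases D.comm_cases (D.rep_elt v).mem (D.rep_elt w).mem with a | a <;> rw [a]
  · simp [bit_one]
  · simp [D.bit_z, D.z_ne_one]

theorem bf_add_left (v v' w : leechLattice) : bf (v + v') w = bf v w + bf v' w := by
  obtain ⟨a, ha⟩ := leechLike.dvd8 v w
  obtain ⟨b, hb⟩ := leechLike.dvd8 v' w
  simp only [bf, leechLike.add_left, ha, hb, ← mul_add,
    Int.mul_ediv_cancel_left _ (show (8 : ℤ) ≠ 0 by norm_num)]
  push_cast; rfl

theorem nondeg {v : leechLattice} (h : ∀ u, bf v u = 0) : cls v = 0 := by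
  obtain ⟨q, hq, hv⟩ := D.rep_elt v
  refine D.ψ_eq_iff.mp (?_ : D.ψ v = D.ψ 0)
  rw [D.ψ_zero, hv, QuotientGroup.eq_one_iff, Subgroup.mem_center_iff]
  intro a
  obtain ⟨u, hu⟩ := D.exists_rep (x := ((a : CZ z) : G)) ⟨_, a.2, rfl⟩
  apply Subtype.ext; apply Subtype.ext
  exact ((Rep.comm_iff (⟨q, rfl, hv⟩ : D.Rep _ v) hu).mpr (h u)).symm

theorem cases_of_perp {v w : leechLattice} (h : ∀ u, bf v u = 0 → bf w u = 0) :
    cls w = 0 ∨ cls w = cls v := by
  by_cases h1 : ∀ u, bf w u = 0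
  · exact Or.inl (D.nondeg h1)
  right
  push Not at h1
  obtain ⟨u1, hu1⟩ := h1
  have e1 : bf w u1 = 1 := (zmod2_cases _).resolve_left hu1
  have e2 : bf v u1 = 1 := (zmod2_cases _).resolve_left fun h2 => hu1 (h u1 h2)
  have h3 : cls (v + w) = 0 := D.nondeg fun u => by
    rw [D.bf_add_left]
    rcases zmod2_cases (bf v u) with a | a
    · rw [a, h u a, add_zero]
    · have : bf v (u + u1) = 0 := by
        rw [bf_comm, D.bf_add_left, bf_comm u, bf_comm u1, a, e2]; decide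
      have := h _ this
      rw [bf_comm, D.bf_add_left, bf_comm u, bf_comm u1, e1] at this
      rw [a]
      rcases zmod2_cases (bf w u) with b | b <;> rw [b] at this ⊢
      · exact absurd this (by decide)
      · decide
  rw [cls_add] at h3
  calc cls w = cls v + (cls v + cls w) := by rw [← add_assoc, cls_add_self, zero_add]
    _ = cls v := by rw [h3, add_zero]

/-- change of the identification by an automorphism of the lattice -/
noncomputable def twist (g₀ : Co0) : Data z Q where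
  hS := D.hS
  e := D.e.trans (MulAut.conj ((QuotientGroup.mk g₀ : Spor.Co1))⁻¹)
  ψ := fun v => D.ψ (g₀ • v)
  hψ := by
    refine ⟨fun v w => ?_, fun p => ?_, fun v => ?_, ?_⟩
    · show D.ψ _ = D.ψ _ * D.ψ _
      rw [co0_add, D.hψ.1]
    · obtain ⟨v, hv⟩ := D.hψ.2.1 p
      refine ⟨g₀⁻¹ • v, ?_⟩
      show D.ψ _ = p
      rw [smul_inv_smul, hv]
    · rw [D.hψ.2.2.1]
      constructor
      · rintro ⟨w, hw⟩
        exact ⟨g₀⁻¹ • w, by rw [← co0_add, ← hw, inv_smul_smul]⟩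
      · rintro ⟨w, hw⟩; exact ⟨g₀ • w, by rw [← co0_add, hw]⟩
    · intro h g hgh v q hq
      have := D.hψ.2.2.2 h (g₀ * g * g₀⁻¹) (by
        rw [QuotientGroup.mk_mul, QuotientGroup.mk_mul, QuotientGroup.mk_inv, hgh]
        simp [MulEquiv.trans_apply, mul_assoc]) (g₀ • v) q hq
      rwa [mul_smul, inv_smul_smul, mul_smul] at this

theorem rep_twist {g₀ : Co0} {x : G} {v : leechLattice} :
    (D.twist g₀).Rep x v ↔ D.Rep x (g₀ • v) := Iff.rfl

theorem inv_QG {x : G} (hx : x ∈ QG Q) (hsq : x * x = 1) : x⁻¹ = x := by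
  exact inv_eq_of_mul_eq_one_right hsq

/-- the classes of the involutions of `Q` other than `z` -/
theorem involution_rep {x : G} (hx : x ∈ QG Q) (hsq : x * x = 1) (h1 : x ≠ 1) (hz : x ≠ z) :
    ∃ v, D.Rep x v ∧ (ldot v v = 32 ∨ ldot v v = 64) := by
  obtain ⟨v, hv⟩ := D.exists_rep hx
  obtain ⟨y, hvy, hy⟩ := H56M.exists_rep v
  have hry := hv.congr hvy
  refine ⟨y, hry, ?_⟩
  rcases hy with rfl | hy | hy | hy
  · rcases D.rep_zero_cases hry rfl with h | h
    · exact absurd h h1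
    · exact absurd h hz
  · exact Or.inl hy
  · have := hry.sq_iff.mp hsq
    rw [qf, hy] at this
    exact absurd this (by decide)
  · exact Or.inr hy

/-- conjugacy under the centraliser of two elements of one class -/
theorem conj_of_same {x y : G} {v w : leechLattice} (hx : D.Rep x v) (hy : D.Rep y w)
    (hv : cls v ≠ 0) {g : Co0} (hg : g • v = w) : ∃ h ∈ CZ z, h * x * h⁻¹ = y := by
  obtain ⟨h, hl⟩ := D.exists_lift g
  have h1 : D.Rep (h * x * h⁻¹) w := hg ▸ hx.conj hl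
  rcases h1.same hy with e | e
  · exact ⟨h, hl.1, e.symm⟩
  · have : ¬ ∀ u, bf w u = 0 := fun hall => hv (by
      have hw := D.nondeg hall
      have e2 := cls_smul_congr g⁻¹ (v := w) (w := 0) hw
      rwa [← hg, inv_smul_smul, co0_zero] at e2)
    push Not at this
    obtain ⟨u, hu⟩ := this
    set q := D.elt u
    have hq : D.Rep q u := D.rep_elt u
    refine ⟨q * h, mul_mem (coe_mem_CZ hq.mem) hl.1, ?_⟩
    rcases D.comm_cases hq.mem h1.mem with c | c
    · refine absurd ((hq.comm_iff h1).mp ?_) (by rwa [bf_comm])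
      exact mul_inv_eq_iff_eq_mul.mp (mul_inv_eq_one.mp c)
    · rw [mul_inv_eq_iff_eq_mul] at c
      rw [show q * h * x * (q * h)⁻¹ = q * (h * x * h⁻¹) * q⁻¹ by group, c, ← e]

end Data

end H56M
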