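import Cfsg.Agent.H56.MonsterCore

/-!
The frame stabiliser modulo the centre: signs and permutations.
-/

set_option autoImplicit false

namespace H56M

open Cfsg H95
open scoped Pointwise

theorem empty_supp : (∅ : Finset GolayPt) ∈ supports (golayCode : Set (GolayPt → ZMod 2)) :=
  ⟨0, zero_mem _, by ext i; simp [support₂]⟩

/-- the permutations as lattice automorphisms modulo the centre -/
noncomputable def permHom : M24 →* Spor.Co1 :=
  MonoidHom.mk' (fun σ => QuotientGroup.mk (mono (σ : Equiv.Perm GolayPt) ∅ σ.2 empty_supp))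
    fun σ τ => by
      rw [← QuotientGroup.mk_mul]
      congr 1
      refine co0_ext fun v => Subtype.ext ?_
      rw [mul_smul, mono_smul, mono_smul, mono_smul, signedPerm_comp]
      simp

theorem permHom_injective : Function.Injective permHom := by
  rw [injective_iff_map_eq_one]
  intro σ hσ
  have hz : mono (σ : Equiv.Perm GolayPt) ∅ σ.2 empty_supp ∈ Subgroup.center Co0 :=
    (QuotientGroup.eq_one_iff _).mp hσ
  apply Subtype.ext
  rcases H95.center_cases hz with h | h
  · rw [← mono_one_empty (h1 := one_mem _) (h2 := empty_supp)] at h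
    exact (mono_injective h).1
  · rw [← mono_one_univ (h1 := one_mem _)
      (h2 := ⟨1, one_mem_code, by ext i; simp [support₂]⟩)] at h
    exact (mono_injective h).1

theorem sgn_inf_perm : sgn.range ⊓ permHom.range = ⊥ := by
  rw [Subgroup.eq_bot_iff_forall]
  rintro x ⟨⟨a, ha⟩, ⟨σ, hσ⟩⟩
  rw [← hσ]
  have he : permHom σ = sgn a := hσ.trans ha.symm
  have h1 : (mono 1 (support₂ (Multiplicative.toAdd a).1) (one_mem _) (supp_mem a))⁻¹
      * mono (σ : Equiv.Perm GolayPt) ∅ σ.2 empty_supp ∈ Subgroup.center Co0 :=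
    QuotientGroup.eq.mp he.symm
  have h2 : (σ : Equiv.Perm GolayPt) = 1 := by
    refine Equiv.ext fun i => ?_
    show (σ : Equiv.Perm GolayPt) i = i
    have hm : ∀ c, c = 1 ∨ c = negOne →
        mono (σ : Equiv.Perm GolayPt) ∅ σ.2 empty_supp
          = mono 1 (support₂ (Multiplicative.toAdd a).1) (one_mem _) (supp_mem a) * c →
        (σ : Equiv.Perm GolayPt) i = i := by
      intro c hc h
      refine eight_pm_inj (mono_eight σ.2 empty_supp i) ?_
      rw [h, mul_smul]
      rcases hc with rfl | rfl
      · rw [one_smul]; exact mono_eight (one_mem _) (supp_mem a) i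
      · rw [negOne_smul, co0_neg]
        rcases mono_eight (one_mem _) (supp_mem a) i with e | e <;> rw [e]
        · exact Or.inr rfl
        · exact Or.inl (neg_neg _)
    exact hm _ (H95.center_cases h1) (by rw [mul_inv_cancel_left])
  rw [show σ = 1 from Subtype.ext h2, map_one]

theorem stab_iff {g : Co0} :
    cls (g • eight none) = cls (eight none) ↔
      (QuotientGroup.mk g : Spor.Co1) ∈ sgn.range ⊔ permHom.range := by
  constructor
  · intro h
    obtain ⟨σ, c, hσ, hc, rfl⟩ := mono_of_fix_frame h
    have : mono σ c hσ hc = mono 1 c (one_mem _) hc * mono σ ∅ hσ empty_supp := by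
      refine co0_ext fun v => Subtype.ext ?_
      rw [mul_smul, mono_smul, mono_smul, mono_smul, signedPerm_comp]
      simp [symmDiff_def]
    rw [this, QuotientGroup.mk_mul]
    exact Subgroup.mul_mem_sup (sgn_range_mem hc) ⟨⟨σ, hσ⟩, rfl⟩
  · intro h
    let St : Subgroup Co0 :=
      { carrier := {g | cls (g • eight none) = cls (eight none)}
        one_mem' := by
          show cls _ = _
          rw [one_smul]
        mul_mem' := fun {a b} ha hb => by
          show cls _ = _
          rw [mul_smul]; exact (cls_smul_congr a hb).trans ha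
        inv_mem' := fun {a} ha => inv_mem_fix ha }
    have hle : sgn.range ⊔ permHom.range ≤ St.map (QuotientGroup.mk' (Subgroup.center Co0)) := by
      refine sup_le ?_ ?_
      · rintro _ ⟨a, rfl⟩
        exact ⟨_, fix_frame_mono (one_mem _) (supp_mem a), rfl⟩
      · rintro _ ⟨σ, rfl⟩
        exact ⟨_, fix_frame_mono σ.2 empty_supp, rfl⟩
    obtain ⟨g', hg', he⟩ := hle h
    have : g'⁻¹ * g ∈ Subgroup.center Co0 := QuotientGroup.eq.mp he
    have hg'' : cls (g' • eight none) = cls (eight none) := hg'
    rcases H95.center_cases this with e | e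
    · rw [inv_mul_eq_one] at e; rwa [← e]
    · rw [inv_mul_eq_iff_eq_mul] at e
      rwa [e, mul_smul, negOne_smul, co0_neg, cls_neg]

theorem sgn_sq {x : Spor.Co1} (hx : x ∈ sgn.range) : x * x = 1 := by
  obtain ⟨a, rfl⟩ := hx
  rw [← map_mul]
  have : a * a = 1 := Multiplicative.toAdd.injective (Subtype.ext (funext fun i => by
    show (Multiplicative.toAdd a).1 i + (Multiplicative.toAdd a).1 i = 0
    exact CharTwo.add_self_eq_zero _))
  rw [this, map_one]

theorem sgn_normal {x y : Spor.Co1} (hx : x ∈ sgn.range ⊔ permHom.range) (hy : y ∈ sgn.range) :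
    x * y * x⁻¹ ∈ sgn.range := by
  suffices sgn.range ⊔ permHom.range ≤ Subgroup.normalizer (sgn.range : Set Spor.Co1) from
    (Subgroup.mem_normalizer_iff.mp (this hx) y).mp hy
  refine sup_le Subgroup.le_normalizer ?_
  have key : ∀ τ : M24, ∀ y ∈ sgn.range, permHom τ * y * (permHom τ)⁻¹ ∈ sgn.range := by
    rintro τ _ ⟨a, rfl⟩
    have hc : (τ : Equiv.Perm GolayPt) • support₂ (Multiplicative.toAdd a).1
        ∈ supports (golayCode : Set (GolayPt → ZMod 2)) := smul_mem_supports τ.2 (supp_mem a)
    refine (?_ : permHom τ * sgn a * (permHom τ)⁻¹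
      = QuotientGroup.mk (mono 1 _ (one_mem _) hc)) ▸ sgn_range_mem hc
    rw [mul_inv_eq_iff_eq_mul]
    show QuotientGroup.mk (_ * _) = QuotientGroup.mk (_ * _)
    congr 1
    refine co0_ext fun v => Subtype.ext ?_
    rw [mul_smul, mul_smul, mono_smul, mono_smul, mono_smul, mono_smul, signedPerm_comp,
      signedPerm_comp]
    congr 1 <;> simp [Finset.smul_finset_def, symmDiff_def]
  rintro _ ⟨σ, rfl⟩
  rw [Subgroup.mem_normalizer_iff]
  intro y
  refine ⟨key σ y, fun h => ?_⟩
  have := key σ⁻¹ _ h
  rw [map_inv] at this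
  simpa [mul_assoc] using this

end H56M
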