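import Cfsg.Agent.H56.QPMat
import Cfsg.Agent.S0801

/-!
Dickson's theorem: the base case of the generation of `SL₂`.
-/

set_option autoImplicit false
set_option linter.unusedSectionVars false

namespace H56Q

open Matrix

/-- conjugation by `diag (β, 1)` -/
def twistDiag {R : Type*} [CommRing R] (β : Rˣ) :
    SpecialLinearGroup (Fin 2) R →* SpecialLinearGroup (Fin 2) R where
  toFun g := ⟨!![g 0 0, g 0 1 * (↑β⁻¹ : R); g 1 0 * β, g 1 1], by
    rw [det_fin_two_of]
    have := det2 g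
    linear_combination this - (g 0 1 * g 1 0) * β.inv_mul⟩
  map_one' := ext2 (by simp) (by simp) (by simp) (by simp)
  map_mul' g h := by
    apply Subtype.ext
    show (!![(g * h) 0 0, (g * h) 0 1 * (↑β⁻¹ : R); (g * h) 1 0 * β, (g * h) 1 1] :
        Matrix (Fin 2) (Fin 2) R) =
      !![g 0 0, g 0 1 * (↑β⁻¹ : R); g 1 0 * β, g 1 1] *
        !![h 0 0, h 0 1 * (↑β⁻¹ : R); h 1 0 * β, h 1 1]
    rw [Matrix.mul_fin_two, mul00, mul01, mul10, mul11]
    ext i j
    fin_cases i <;> fin_cases j <;> simp <;>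
      first
        | ring1
        | linear_combination (-(g 0 1 * h 1 0)) * β.inv_mul
        | linear_combination (-(g 1 0 * h 0 1)) * β.inv_mul
        | linear_combination (g 0 1 * h 1 0) * β.inv_mul
        | linear_combination (g 1 0 * h 0 1) * β.inv_mul

theorem twistDiag_entries {R : Type*} [CommRing R] (β : Rˣ) (g : SpecialLinearGroup (Fin 2) R) :
    twistDiag β g 0 0 = g 0 0 ∧ twistDiag β g 0 1 = g 0 1 * (↑β⁻¹ : R) ∧
      twistDiag β g 1 0 = g 1 0 * β ∧ twistDiag β g 1 1 = g 1 1 :=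
  ⟨rfl, rfl, rfl, rfl⟩

variable {k K : Type*} [Field k] [Field K] [Algebra k K] [Finite K]

theorem base_full (h2 : (2 : k) ≠ 0) (hk : 4 ≤ Nat.card k) (α : K) (hα : α ≠ 0)
    (hgen : Algebra.adjoin k ({α} : Set K) = ⊤) (H : Subgroup (SpecialLinearGroup (Fin 2) K))
    (hup : ∀ c : k, upr (algebraMap k K c) ∈ H) (hlow : ∀ c : k, lwr (algebraMap k K c * α) ∈ H) :
    ∀ r : K, upr r ∈ H ∧ lwr r ∈ H := by
  classical
  haveI : Fintype K := Fintype.ofFinite K
  haveI : Finite k := Nat.finite_of_card_ne_zero (by omega)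
  haveI : Fintype k := Fintype.ofFinite k
  set φ := algebraMap k K
  have h2K : (2 : K) ≠ 0 := by
    rw [← map_ofNat φ]; exact fun h => h2 (φ.injective (by rwa [map_zero]))
  obtain ⟨c₁, -, hc₁⟩ := Finset.exists_mem_notMem_of_card_lt_card
    (s := ({0, 1, -1} : Finset k)) (t := Finset.univ) (by
      rw [Finset.card_univ, ← Nat.card_eq_fintype_card]
      have := Finset.card_le_three (a := (0 : k)) (b := 1) (c := -1)
      omega)
  simp only [Finset.mem_insert, Finset.mem_singleton, not_or] at hc₁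
  obtain ⟨c, hc0, hc9⟩ : ∃ c : k, c ≠ 0 ∧ (φ c * α) * (φ c * α) ≠ -1 := by
    by_cases h : α * α = -1
    · refine ⟨c₁, hc₁.1, fun h' => ?_⟩
      have : φ (c₁ * c₁) = φ 1 := by
        rw [map_one, map_mul]; linear_combination (φ c₁ * φ c₁) * h - h'
      exact (mul_self_eq_one_iff.mp (φ.injective this)).elim hc₁.2.1 hc₁.2.2
    · exact ⟨1, one_ne_zero, by rwa [map_one, one_mul]⟩
  set β := φ c * α with hβ
  have hβ0 : β ≠ 0 := mul_ne_zero (by rwa [Ne, map_eq_zero]) hα
  let L : Subfield K := Subfield.closure {β}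
  have hβL : β ∈ L := Subfield.subset_closure rfl
  let β' : L := ⟨β, hβL⟩
  haveI : Fintype L := Fintype.ofFinite L
  have hgenL : Subfield.closure ({β'} : Set L) = ⊤ := by
    rw [eq_top_iff]
    rintro ⟨x, hx⟩ -
    have hle : L ≤ (Subfield.closure ({β'} : Set L)).map L.subtype := by
      refine Subfield.closure_le.mpr ?_
      rintro _ rfl
      exact ⟨β', Subfield.subset_closure rfl, rfl⟩
    obtain ⟨y, hy, e⟩ := hle hx
    rwa [← show y = ⟨x, hx⟩ from Subtype.ext e]
  have h2L : (2 : L) ≠ 0 := fun h => h2K (by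
    have := congrArg L.subtype h; rwa [map_ofNat, map_zero] at this)
  obtain ⟨htop, -⟩ | ⟨-, h9, -⟩ := Cfsg.Agent.S0801.result h2L β'
    (fun h => hβ0 (congrArg Subtype.val h)) hgenL
  swap
  · exfalso
    apply hc9
    have := congrArg (Subtype.val : L → K) h9
    simpa [sq] using this
  -- conjugation by `diag(β, 1)`
  let ψ : SpecialLinearGroup (Fin 2) L →* SpecialLinearGroup (Fin 2) K :=
    (twistDiag (Units.mk0 β hβ0)).comp (SpecialLinearGroup.map L.subtype)
  have hent : ∀ g, ψ g 0 0 = (g 0 0 : K) ∧ ψ g 0 1 = (g 0 1 : K) / β ∧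
      ψ g 1 0 = (g 1 0 : K) * β ∧ ψ g 1 1 = (g 1 1 : K) := fun g => by
    obtain ⟨a, b, c, d⟩ := twistDiag_entries (Units.mk0 β hβ0) (SpecialLinearGroup.map L.subtype g)
    exact ⟨a, b.trans (by rw [Units.val_inv_eq_inv_val, div_eq_mul_inv]; rfl), c, d⟩
  have hψ : ∀ g, ψ g ∈ H := by
    intro g
    have hg : g ∈ Subgroup.closure {g : SpecialLinearGroup (Fin 2) L |
        (g : Matrix (Fin 2) (Fin 2) L) = !![1, 0; 1, 1] ∨
        (g : Matrix (Fin 2) (Fin 2) L) = !![1, β'; 0, 1]} := htop ▸ Subgroup.mem_top g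
    induction hg using Subgroup.closure_induction with
    | mem x hx =>
      rcases hx with h | h
      · rw [show x = lwr (1 : L) from Subtype.ext h,
          show ψ (lwr (1 : L)) = lwr (φ c * α) from
            ext2 (by simp [(hent _).1]) (by simp [(hent _).2.1]) (by simp [(hent _).2.2.1, hβ]) (by simp [(hent _).2.2.2])]
        exact hlow c
      · rw [show x = upr β' from Subtype.ext h,
          show ψ (upr β') = upr (φ 1) from
            ext2 (by simp [(hent _).1]) (by simp [(hent _).2.1, β', hβ0]) (by simp [(hent _).2.2.1]) (by simp [(hent _).2.2.2])]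
        exact hup 1
    | one => rw [map_one]; exact one_mem _
    | mul x y _ _ hx hy => rw [map_mul]; exact mul_mem hx hy
    | inv x _ hx => rw [map_inv]; exact inv_mem hx
  have hLup : ∀ s ∈ L, upr s ∈ H := by
    intro s hs
    convert hψ (upr ⟨s * β, mul_mem hs hβL⟩) using 1
    refine ext2 (by simp [(hent _).1]) ?_ (by simp [(hent _).2.2.1]) (by simp [(hent _).2.2.2])
    simp [(hent _).2.1, hβ0]
  have hLlow : ∀ s ∈ L, lwr s ∈ H := by
    intro s hs
    convert hψ (lwr ⟨s / β, div_mem hs hβL⟩) using 1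
    refine ext2 (by simp [(hent _).1]) (by simp [(hent _).2.1]) ?_ (by simp [(hent _).2.2.2])
    simp [(hent _).2.2.1, hβ0]
  set w : SpecialLinearGroup (Fin 2) K := upr 1 * lwr (-1) * upr 1 with hw
  have hwm : w ∈ H :=
    mul_mem (mul_mem (hLup 1 L.one_mem) (hLlow _ (L.neg_mem L.one_mem))) (hLup 1 L.one_mem)
  have hwconj : ∀ s : K, w * upr s * w⁻¹ = lwr (-s) := by
    intro s
    obtain ⟨e00, e01, e10, e11⟩ := conj_upr w s
    have w00 : w 0 0 = 0 := by rw [hw]; simp [mul00, mul10]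
    have w10 : w 1 0 = -1 := by rw [hw]; simp [mul00, mul10]
    exact ext2 (by rw [e00, w00]; simp) (by rw [e01, w00]; simp) (by rw [e10, w10]; simp)
      (by rw [e11, w00]; simp)
  -- torus
  have hsq : ∀ t ∈ L, ∀ u, upr u ∈ H → upr (t * t * u) ∈ H := by
    intro t ht u hu
    by_cases ht0 : t = 0
    · subst ht0; rw [zero_mul, zero_mul, upr_zero]; exact one_mem _
    · obtain ⟨d, a, b, cc, e, hd⟩ : ∃ d : SpecialLinearGroup (Fin 2) K, d 0 0 = t ∧ d 0 1 = 0 ∧
          d 1 0 = 0 ∧ d 1 1 = t⁻¹ ∧ d ∈ H := by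
        refine ⟨⟨!![t, 0; 0, t⁻¹], by simp [det_fin_two_of, ht0]⟩, rfl, rfl, rfl, rfl, ?_⟩
        have hdet : (!![(⟨t, ht⟩ : L), 0; 0, (⟨t, ht⟩ : L)⁻¹]).det = 1 := by
          have : (⟨t, ht⟩ : L) ≠ 0 := fun h => ht0 (congrArg Subtype.val h)
          rw [det_fin_two_of, mul_zero, sub_zero, mul_inv_cancel₀ this]
        suffices h : (⟨!![t, 0; 0, t⁻¹], by simp [det_fin_two_of, ht0]⟩ :
            SpecialLinearGroup (Fin 2) K) = ψ ⟨!![(⟨t, ht⟩ : L), 0; 0, (⟨t, ht⟩ : L)⁻¹], hdet⟩ by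
          exact h.symm ▸ hψ _
        obtain ⟨e1, e2, e3, e4⟩ := hent ⟨!![(⟨t, ht⟩ : L), 0; 0, (⟨t, ht⟩ : L)⁻¹], hdet⟩
        refine ext2 ?_ ?_ ?_ ?_
        · refine Eq.trans ?_ e1.symm; simp [Matrix.of_apply, Matrix.cons_val_zero]
        · refine Eq.trans ?_ e2.symm; simp
        · refine Eq.trans ?_ e3.symm; simp
        · refine Eq.trans ?_ e4.symm; simp
      have hm := mul_mem (mul_mem hd hu) (inv_mem hd)
      obtain ⟨e00, e01, e10, e11⟩ := conj_upr d u
      rw [show d * upr u * d⁻¹ = upr (t * t * u) from ext2 (by rw [e00, cc]; simp)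
        (by rw [e01, a, upr_01]; ring) (by rw [e10, cc]; simp) (by rw [e11, cc]; simp)] at hm
      exact hm
  have h4 : (4 : K) ≠ 0 := by
    rw [show (4 : K) = 2 * 2 by norm_num]; exact mul_ne_zero h2K h2K
  have hL : ∀ t ∈ L, ∀ u, upr u ∈ H → upr (t * u) ∈ H := by
    intro t ht u hu
    have hq : t / 4 ∈ L := div_mem ht (by
      rw [show (4 : K) = 1 + 1 + 1 + 1 by norm_num]
      exact add_mem (add_mem (add_mem L.one_mem L.one_mem) L.one_mem) L.one_mem)
    have e : t * u = (t / 4 + 1) * (t / 4 + 1) * u + -((t / 4 - 1) * (t / 4 - 1) * u) := by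
      field_simp; ring
    rw [e, upr_add, upr_neg]
    exact mul_mem (hsq _ (add_mem hq L.one_mem) u hu) (inv_mem (hsq _ (sub_mem hq L.one_mem) u hu))
  have hspan : ∀ (n : ℕ) (d : k), upr (φ d * α ^ n) ∈ H := by
    intro n d
    have := hL (β ^ n) (pow_mem hβL n) (φ (d / c ^ n)) (hup _)
    convert this using 2
    rw [hβ, map_div₀, map_pow, mul_pow]
    have : φ c ≠ 0 := by rwa [Ne, map_eq_zero]
    field_simp
  have hall : ∀ r : K, upr r ∈ H := by
    intro r
    have hr : r ∈ Algebra.adjoin k ({α} : Set K) := by rw [hgen]; trivial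
    rw [Algebra.adjoin_singleton_eq_range_aeval] at hr
    obtain ⟨p, rfl⟩ := hr
    show upr (Polynomial.aeval α p) ∈ H
    rw [Polynomial.aeval_eq_sum_range]
    refine Finset.sum_induction _ (fun x => upr x ∈ H)
      (fun a b ha hb => by rw [upr_add]; exact mul_mem ha hb) (by rw [upr_zero]; exact one_mem _) ?_
    intro i _
    rw [Algebra.smul_def]
    exact hspan i _
  intro r
  refine ⟨hall r, ?_⟩
  have := mul_mem (mul_mem hwm (hall (-r))) (inv_mem hwm)
  rwa [hwconj, neg_neg] at this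

end H56Q
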