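import Cfsg.Agent.H56.QPSandwich

/-!
Every quadratic element lies in one class group or centralises the group of all root subgroups.
-/

set_option autoImplicit false
set_option linter.unusedSectionVars false

universe u

namespace H56Q

open Cfsg LinearMap

variable {k : Type u} [Field k] {M : Type*} [AddCommGroup M] [Module k M] [FiniteDimensional k M]
variable {G : Subgroup (GLM k M)} {A a x y : Module.End k M} {A₀ : Subgroup (GLM k M)}

/-- products of two commuting subgroups -/
theorem exists_mul_of_commuting {X : Type*} [Group X] {H K : Subgroup X}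
    (hc : ∀ h ∈ H, ∀ q ∈ K, h * q = q * h) {g : X} (hg : g ∈ H ⊔ K) : ∃ h ∈ H, ∃ q ∈ K, g = h * q := by
  let S : Subgroup X :=
    { carrier := {g | ∃ h ∈ H, ∃ q ∈ K, g = h * q}
      one_mem' := ⟨1, one_mem _, 1, one_mem _, (one_mul 1).symm⟩
      mul_mem' := by
        rintro _ _ ⟨h, hh, q, hq, rfl⟩ ⟨h', hh', q', hq', rfl⟩
        refine ⟨h * h', mul_mem hh hh', q * q', mul_mem hq hq', ?_⟩
        rw [mul_assoc, ← mul_assoc q, ← hc h' hh' q hq]; group
      inv_mem' := by
        rintro _ ⟨h, hh, q, hq, rfl⟩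
        refine ⟨h⁻¹, inv_mem hh, q⁻¹, inv_mem hq, ?_⟩
        rw [mul_inv_rev, ← hc _ (inv_mem hh) _ (inv_mem hq)] }
  exact (sup_le (fun h hh => ⟨h, hh, 1, one_mem _, (mul_one h).symm⟩)
    (fun q hq => ⟨1, one_mem _, q, hq, (one_mul q).symm⟩) : H ⊔ K ≤ S) hg

theorem quadratic_eq_qu {σ : GLM k M} (h : σ ∈ quadraticElements G) :
    σ = qu _ (fam_of_quadratic h).1 := Units.ext (by simp)

theorem commute_of_unit {g : GLM k M} (hA : A * A = 0) (h : g * qu A hA = qu A hA * g) :
    A * (g : Module.End k M) = (g : Module.End k M) * A := by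
  have := congrArg (fun u : GLM k M => (u : Module.End k M)) h
  simp only [Units.val_mul, coe_qu, mul_add, add_mul, one_mul, mul_one] at this
  exact (add_left_cancel this).symm

theorem exists_root_not_commuting (h2 : (2 : k) ≠ 0) (h3 : Nat.card k ≠ 3) (hG : IsQuadraticPair G)
    (hA : Fam G A) (h : ∃ a, MinQ G a ∧ A * a ≠ a * A) :
    ∃ a, MinQ G a ∧ ¬ (a * A * a = 0 ∧ A * a * A = 0) := by
  by_contra hne
  push Not at hne
  obtain ⟨a, ha, hna⟩ := h
  exact hna (commutes_of_no_small h2 h3 hG hA (fun b hb => hne b hb) ha)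

theorem quadratic_split (h2 : (2 : k) ≠ 0) (h3 : Nat.card k ≠ 3) (hG : IsQuadraticPair G) :
    ∀ (n : ℕ) (A : Module.End k M) (hA : Fam G A), rk A = n →
      qu A hA.1 ∈ rootGroup G ⊔ (G ⊓ Subgroup.centralizer (rootGroup G : Set (GLM k M))) := by
  intro n
  induction n using Nat.strong_induction_on with
  | _ n ih =>
    intro A hA hn
    by_cases hc : ∀ a, MinQ G a → A * a = a * A
    · refine Subgroup.mem_sup_right ⟨hA.qu_mem, Subgroup.mem_centralizer_iff.mpr ?_⟩
      have hle : rootGroup G ≤ Subgroup.centralizer {qu A hA.1} := by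
        refine iSup₂_le fun B hB x hx => Subgroup.mem_centralizer_singleton_iff.mpr ?_
        obtain ⟨b, hb⟩ := exists_isRootOf hB
        have hxb := (hb.2 x).mp hx
        by_cases h0 : (x : Module.End k M) - 1 = 0
        · rw [show x = 1 from Units.ext (sub_eq_zero.mp h0), one_mul, mul_one]
        have := hc _ (hxb.eq_of_ne hb.1 h0).1
        apply Units.ext
        simp only [Units.val_mul, coe_qu, mul_add, add_mul, one_mul, mul_one]
        rw [mul_sub, sub_mul, one_mul, mul_one] at this
        rw [sub_left_inj.mp this]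
      exact fun g hg => Subgroup.mem_centralizer_singleton_iff.mp (hle hg)
    · push Not at hc
      obtain ⟨a, ha, hna⟩ := exists_root_not_commuting h2 h3 hG hA hc
      obtain ⟨e, he, hAe, heA, hr, -⟩ := exists_small h2 h3 hA ha hna
      obtain ⟨d, hd, e1, e2⟩ := exists_opposite h2 h3 hG.1 he
      obtain ⟨A0, h0, hlt, x, hx, hAx⟩ := decompose (X := rootGroup G) h2 h3 hA he hd e1 e2 hAe heA hr
        (fun g hg y hy => rootGroup_conj hg hy)
        (fun c => inRoot_qu_mem he ((InRoot.self he.fam).smul c))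
        (fun c => inRoot_qu_mem hd ((InRoot.self hd.fam).smul c))
      rw [hAx]
      exact mul_mem (Subgroup.mem_sup_left hx) (ih _ (hn ▸ hlt) A0 h0 rfl)

theorem rootGroup_sup_centralizer (h2 : (2 : k) ≠ 0) (h3 : Nat.card k ≠ 3) (hG : IsQuadraticPair G) :
    rootGroup G ⊔ (G ⊓ Subgroup.centralizer (rootGroup G : Set (GLM k M))) = G := by
  refine le_antisymm (sup_le rootGroup_le inf_le_left) ?_
  conv_lhs => rw [← hG.2]
  rw [Subgroup.closure_le]
  intro σ hσ
  rw [quadratic_eq_qu hσ]
  exact quadratic_split h2 h3 hG _ _ (fam_of_quadratic hσ) rfl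

theorem class_invariant (h2 : (2 : k) ≠ 0) (h3 : Nat.card k ≠ 3) (hG : IsQuadraticPair G)
    (hA₀ : A₀ ∈ quadraticRootSubgroups G) {B : Subgroup (GLM k M)} (hB : B ∈ classOf G A₀) {g : GLM k M}
    (hg : g ∈ G) : conjBy B g ∈ classOf G A₀ := by
  rw [← rootGroup_sup_centralizer h2 h3 hG] at hg
  obtain ⟨l, hl, c, hc, rfl⟩ := exists_mul_of_commuting
    (fun l (hl : l ∈ rootGroup G) c
      (hc : c ∈ G ⊓ Subgroup.centralizer (rootGroup G : Set (GLM k M))) =>
      Subgroup.mem_centralizer_iff.mp hc.2 l hl) hg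
  rw [← H98.conjBy_conjBy, show conjBy B c = B from
    Eq.trans (SetLike.coe_injective (Set.image_congr fun x hx => by
      show c * x * c⁻¹ = x
      rw [← Subgroup.mem_centralizer_iff.mp hc.2 x (H98.le_famSup (classOf_subset hA₀ hB) hx),
        mul_inv_cancel_right])) (Subgroup.map_id B)]
  exact classOf_conj hA₀ hB hl

theorem classGroup_conj (h2 : (2 : k) ≠ 0) (h3 : Nat.card k ≠ 3) (hG : IsQuadraticPair G)
    (hA₀ : A₀ ∈ quadraticRootSubgroups G) {g n : GLM k M} (hg : g ∈ G)
    (hn : n ∈ H98.famSup (classOf G A₀)) : g * n * g⁻¹ ∈ H98.famSup (classOf G A₀) :=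
  conj_famSup (fun _ hB => class_invariant h2 h3 hG hA₀ hB hg) hn

theorem class_sup_centralizer (h2 : (2 : k) ≠ 0) (h3 : Nat.card k ≠ 3) (hG : IsQuadraticPair G)
    (hA₀ : A₀ ∈ quadraticRootSubgroups G) :
    H98.famSup (classOf G A₀) ⊔ (G ⊓ Subgroup.centralizer (H98.famSup (classOf G A₀) : Set (GLM k M))) = G := by
  refine le_antisymm (sup_le ((classGroup_le hA₀).trans rootGroup_le) inf_le_left) ?_
  conv_lhs => rw [← rootGroup_sup_centralizer h2 h3 hG]
  refine sup_le (iSup₂_le fun B hB => ?_) (le_trans ?_ le_sup_right)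
  · by_cases hBP : B ∈ classOf G A₀
    · exact (H98.le_famSup hBP).trans le_sup_left
    · refine le_trans (le_inf ?_ ?_) le_sup_right
      · exact (H98.le_famSup hB).trans rootGroup_le
      · refine Subgroup.commutator_eq_bot_iff_le_centralizer.mp (le_bot_iff.mp ?_)
        refine le_trans (Subgroup.commutator_mono (H98.le_famSup (show B ∈ classOf G B from RootConj.refl B)) le_rfl) (le_of_eq ?_)
        refine commute_classes h2 h3 hG.1 hB hA₀ fun e => hBP ?_
        rw [← e]; exact RootConj.refl B
  · exact inf_le_inf_left _ (Subgroup.centralizer_le (classGroup_le hA₀))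

/-- commuting supports multiply injectively -/
theorem eq_zero_of_mul_zero (hirr : IsIrreducibleFor G) {L C : Subgroup (GLM k M)} (hLC : L ⊔ C = G)
    (hcomm : ∀ l ∈ L, ∀ c ∈ C, l * c = c * l)
    (hx : ∀ c ∈ C, x * (c : GLM k M) = (c : Module.End k M) * x)
    (hy : ∀ l ∈ L, y * (l : GLM k M) = (l : Module.End k M) * y) (hxy : x * y = 0) : x = 0 ∨ y = 0 := by
  set W : Submodule k M := ⨅ l ∈ L, ker (x * (l : Module.End k M)) with hW
  rcases hirr.2 W (fun g hg w hw => by
      rw [← hLC] at hg
      obtain ⟨l₁, hl₁, c, hc, rfl⟩ := exists_mul_of_commuting hcomm hg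
      simp only [hW, Submodule.mem_iInf, LinearMap.mem_ker] at hw ⊢
      intro l hl
      have h1 := hw (l * l₁) (mul_mem hl hl₁)
      have e : x * (l : Module.End k M) * ((l₁ * c : GLM k M) : Module.End k M) =
          (c : Module.End k M) * (x * ((l * l₁ : GLM k M) : Module.End k M)) := by
        rw [← mul_assoc, ← hx c hc, mul_assoc x (c : Module.End k M), ← Units.val_mul c (l * l₁),
          ← hcomm _ (mul_mem hl hl₁) _ hc]
        simp [mul_assoc]
      show (x * (l : Module.End k M) * ((l₁ * c : GLM k M) : Module.End k M)) w = 0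
      rw [e]
      show (c : Module.End k M) ((x * ((l * l₁ : GLM k M) : Module.End k M)) w) = 0
      rw [h1, map_zero]) with h | h
  · right
    refine LinearMap.ext fun m => ?_
    have : y m ∈ W := by
      simp only [hW, Submodule.mem_iInf, LinearMap.mem_ker]
      intro l hl
      show (x * (l : Module.End k M) * y) m = 0
      rw [mul_assoc, ← hy l hl, ← mul_assoc, hxy, zero_mul]; rfl
    rw [h] at this
    simpa using this
  · left
    refine LinearMap.ext fun m => ?_
    have hm : m ∈ W := h ▸ Submodule.mem_top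
    simp only [hW, Submodule.mem_iInf, LinearMap.mem_ker] at hm
    simpa using hm 1 (one_mem L)

theorem dichotomy (h2 : (2 : k) ≠ 0) (h3 : Nat.card k ≠ 3) (hG : IsQuadraticPair G)
    (hA₀ : A₀ ∈ quadraticRootSubgroups G) (hA : Fam G A)
    (hn : ∃ g ∈ H98.famSup (classOf G A₀), g * qu A hA.1 ≠ qu A hA.1 * g) :
    ∀ h ∈ G ⊓ Subgroup.centralizer (H98.famSup (classOf G A₀) : Set (GLM k M)),
      h * qu A hA.1 = qu A hA.1 * h := by
  set L := H98.famSup (classOf G A₀)
  set C := G ⊓ Subgroup.centralizer (L : Set (GLM k M))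
  have hsup : L ⊔ C = G := class_sup_centralizer h2 h3 hG hA₀
  have hcomm : ∀ l ∈ L, ∀ c ∈ C, l * c = c * l := fun l hl c hc =>
    Subgroup.mem_centralizer_iff.mp hc.2 l hl
  intro h hh
  obtain ⟨g, hg, hgne⟩ := hn
  obtain ⟨l, hl, c, hc, hlc⟩ := exists_mul_of_commuting hcomm (hsup.symm ▸ hA.qu_mem : qu A hA.1 ∈ L ⊔ C)
  set l' := g * l * g⁻¹ with hl'
  have hl'm : l' ∈ L := mul_mem (mul_mem hg hl) (inv_mem hg)
  set c' := h * c * h⁻¹ with hc'
  have hc'm : c' ∈ C := mul_mem (mul_mem hh hc) (inv_mem hh)
  -- the quadratic relation and its conjugates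
  have rel : ∀ p q : GLM k M, (∃ z : GLM k M, p * q = z * qu A hA.1 * z⁻¹) →
      ((p : Module.End k M) * q) * ((p : Module.End k M) * q) - (2 : k) • ((p : Module.End k M) * q) + 1 = 0 := by
    rintro p q ⟨z, hz⟩
    have e : (p : Module.End k M) * q - 1 = (z : Module.End k M) * A * ((z⁻¹ : GLM k M) : Module.End k M) := by
      rw [← Units.val_mul, hz, conj_coe z (coe_qu A hA.1), add_sub_cancel_left]
    have h0 : ((p : Module.End k M) * q - 1) * ((p : Module.End k M) * q - 1) = 0 := by
      rw [e]
      simp only [mul_assoc, Units.inv_mul_cancel_left]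
      rw [← mul_assoc A A, hA.1, zero_mul, mul_zero]
    rw [← h0, two_smul]
    simp only [sub_mul, mul_sub, one_mul, mul_one]
    abel
  have r1 := rel l c ⟨1, by rw [← hlc]; group⟩
  have hgl : g * (l * c) * g⁻¹ = l' * c := by
    rw [hl', show g * (l * c) * g⁻¹ = g * l * (c * g⁻¹) by group, ← hcomm _ (inv_mem hg) c hc]; group
  have r2 := rel l' c ⟨g, by rw [hlc, hgl]⟩
  have r3 := rel l c' ⟨h, by
    rw [hlc, hc', show h * (l * c) * h⁻¹ = h * l * (c * h⁻¹) by group, ← hcomm l hl h hh]; group⟩
  have r4 := rel l' c' ⟨h * g, by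
    rw [hlc, show h * g * (l * c) * (h * g)⁻¹ = h * (g * (l * c) * g⁻¹) * h⁻¹ by group, hgl, hc',
      show h * (l' * c) * h⁻¹ = h * l' * (c * h⁻¹) by group, ← hcomm l' hl'm h hh]; group⟩
  have main : ∀ q : GLM k M, q ∈ C →
      ((l : Module.End k M) * q) * ((l : Module.End k M) * q) - (2 : k) • ((l : Module.End k M) * q) + 1 = 0 →
      ((l' : Module.End k M) * q) * ((l' : Module.End k M) * q) - (2 : k) • ((l' : Module.End k M) * q) + 1 = 0 →
      ((l : Module.End k M) * l - (l' : Module.End k M) * l') * q =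
        (2 : k) • ((l : Module.End k M) - (l' : Module.End k M)) := by
    intro q hq s1 s2
    have cq : ∀ p : GLM k M, p ∈ L → (q : Module.End k M) * p = (p : Module.End k M) * q := fun p hp => by
      rw [← Units.val_mul, ← Units.val_mul, hcomm p hp q hq]
    have e : ((l : Module.End k M) * l - (l' : Module.End k M) * l') * q * q =
        (2 : k) • ((l : Module.End k M) - (l' : Module.End k M)) * q := by
      have s3 := sub_eq_zero.mpr (s1.trans s2.symm)
      rw [← sub_eq_zero, ← s3]
      simp only [sub_mul, smul_sub, smul_mul_assoc, mul_assoc]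
      rw [← mul_assoc (q : Module.End k M) (l : Module.End k M), cq l hl,
        ← mul_assoc (q : Module.End k M) (l' : Module.End k M), cq l' hl'm]
      simp only [mul_assoc]
      abel
    exact (Units.mul_left_inj q).mp e
  have m1 := main c hc r1 r2
  have m2 := main c' hc'm r3 r4
  have hzero : ((l : Module.End k M) * l - (l' : Module.End k M) * l') *
      ((c : Module.End k M) - (c' : Module.End k M)) = 0 := by rw [mul_sub, m1, m2, sub_self]
  have cv : ∀ p : GLM k M, p ∈ L → ∀ q : GLM k M, q ∈ C →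
      (p : Module.End k M) * q = (q : Module.End k M) * p := fun p hp q hq => by
    rw [← Units.val_mul, ← Units.val_mul, hcomm p hp q hq]
  rcases eq_zero_of_mul_zero hG.1 hsup hcomm (fun q hq =>
      ((Commute.mul_left (cv l hl q hq : Commute (l : Module.End k M) q) (cv l hl q hq)).sub_left
        (Commute.mul_left (cv l' hl'm q hq : Commute (l' : Module.End k M) q) (cv l' hl'm q hq))).eq)
      (fun p hp => by rw [sub_mul, mul_sub, cv p hp c hc, cv p hp c' hc'm]) hzero with hz | hz
  · exfalso
    rw [hz, zero_mul] at m1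
    have hll : l = l' := Units.ext (sub_eq_zero.mp ((smul_eq_zero.mp m1.symm).resolve_left h2))
    apply hgne
    rw [hlc]
    have : g * l = l * g := by
      conv_rhs => rw [hll, hl']
      group
    rw [← mul_assoc, this, mul_assoc, hcomm g hg c hc, mul_assoc]
  · have hcc : c = c' := Units.ext (sub_eq_zero.mp hz)
    have hhc : h * c = c * h := by
      conv_rhs => rw [hcc, hc']
      group
    rw [hlc, ← mul_assoc, ← hcomm l hl h hh, mul_assoc, hhc, mul_assoc]

theorem central_zero (hG : IsQuadraticPair G) (hA : A * A = 0)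
    (h : ∀ g ∈ G, A * (g : GLM k M) = (g : Module.End k M) * A) : A = 0 := by
  rcases hG.1.2 (ker A) (fun g hg w hw => by
      show (A * (g : Module.End k M)) w = 0
      rw [h g hg]
      show (g : Module.End k M) (A w) = 0
      rw [show A w = 0 from hw, map_zero]) with hk | hk
  · refine LinearMap.ext fun m => ?_
    have : A m ∈ ker A := LinearMap.congr_fun hA m
    rw [hk] at this
    simpa using this
  · exact LinearMap.ker_eq_top.mp hk

theorem mem_class_of_commute (h2 : (2 : k) ≠ 0) (h3 : Nat.card k ≠ 3) (hG : IsQuadraticPair G)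
    (hA₀ : A₀ ∈ quadraticRootSubgroups G) :
    ∀ (n : ℕ) (A : Module.End k M) (hA : Fam G A), rk A = n →
      (∀ h ∈ G ⊓ Subgroup.centralizer (H98.famSup (classOf G A₀) : Set (GLM k M)),
        h * qu A hA.1 = qu A hA.1 * h) → qu A hA.1 ∈ H98.famSup (classOf G A₀) := by
  intro n
  induction n using Nat.strong_induction_on with
  | _ n ih =>
    intro A hA hn hC
    set L := H98.famSup (classOf G A₀)
    have hsup : L ⊔ (G ⊓ Subgroup.centralizer (L : Set (GLM k M))) = G :=
      class_sup_centralizer h2 h3 hG hA₀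
    by_cases hall : ∀ a, MinQ G a → A * a = a * A
    · have hA0 : A = 0 := central_zero hG hA.1 fun g hg => by
        refine commute_of_unit hA.1 ?_
        rw [← hsup] at hg
        have hle : L ⊔ (G ⊓ Subgroup.centralizer (L : Set (GLM k M))) ≤ Subgroup.centralizer {qu A hA.1} := by
          refine sup_le (iSup₂_le fun B hB x hx => ?_) fun h hh => ?_
          · obtain ⟨b, hb⟩ := exists_isRootOf (classOf_subset hA₀ hB)
            rw [Subgroup.mem_centralizer_singleton_iff]
            by_cases h0 : (x : Module.End k M) - 1 = 0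
            · rw [show x = 1 from Units.ext (sub_eq_zero.mp h0), one_mul, mul_one]
            have := hall _ (((hb.2 x).mp hx).eq_of_ne hb.1 h0).1
            apply Units.ext
            simp only [Units.val_mul, coe_qu, mul_add, add_mul, one_mul, mul_one]
            rw [mul_sub, sub_mul, one_mul, mul_one] at this
            rw [sub_left_inj.mp this]
          · exact Subgroup.mem_centralizer_singleton_iff.mpr (hC h hh)
        exact Subgroup.mem_centralizer_singleton_iff.mp (hle hg)
      subst hA0
      rw [show qu (0 : Module.End k M) hA.1 = 1 from Units.ext (by simp)]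
      exact one_mem L
    · push Not at hall
      obtain ⟨a, ha, hna⟩ := exists_root_not_commuting h2 h3 hG hA hall
      obtain ⟨e, he, hAe, heA, hr, hce⟩ := exists_small h2 h3 hA ha hna
      have hother : ∀ {b : Module.End k M} (hb : MinQ G b) {B : Subgroup (GLM k M)}, IsRootOf G B b →
          B ∉ classOf G A₀ → qu b hb.sq ∈
            G ⊓ Subgroup.centralizer (L : Set (GLM k M)) := by
        intro b hb B hB hBP
        refine ⟨hb.fam.qu_mem, Subgroup.mem_centralizer_iff.mpr ?_⟩
        intro g hg
        have hc : ⁅H98.famSup (classOf G B), L⁆ = ⊥ := commute_classes h2 h3 hG.1 hB.mem_quadraticRoot hA₀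
          fun e => hBP (e ▸ RootConj.refl B)
        exact (H98.commute_of_commutator_eq_bot hc
          (H98.le_famSup (RootConj.refl B) (hB.qu_mem (InRoot.self hb.fam))) hg).eq.symm
      obtain ⟨Ba, hBa⟩ := exists_root_subgroup ha
      have haP : Ba ∈ classOf G A₀ := by
        by_contra hne
        have := commute_of_unit hA.1 (hC _ (hother ha hBa hne))
        simp only [coe_qu, mul_add, add_mul, one_mul, mul_one] at this
        have hc := add_left_cancel this
        exact hna ⟨by rw [mul_assoc, hc, ← mul_assoc, ha.sq, zero_mul],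
          by rw [mul_assoc, ← hc, ← mul_assoc, hA.1, zero_mul]⟩
      have hCe : ∀ h ∈ G ⊓ Subgroup.centralizer (L : Set (GLM k M)),
          e * (h : GLM k M) = (h : Module.End k M) * e := by
        intro h hh
        refine hce _ (commute_of_unit hA.1 (hC h hh)) ?_
        refine commute_of_unit ha.sq ?_
        exact (Subgroup.mem_centralizer_iff.mp hh.2 _
          (H98.le_famSup haP (hBa.qu_mem (InRoot.self ha.fam)))).symm
      obtain ⟨Be, hBe⟩ := exists_root_subgroup he
      obtain ⟨Bd, d, hBd, hs, e1, e2⟩ := exists_partner_subgroup h2 h3 hG.1 hBe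
      have hdP : Bd ∈ classOf G A₀ := by
        by_contra hne
        have := hCe _ (hother hBd.1 hBd hne)
        simp only [coe_qu, mul_add, add_mul, one_mul, mul_one] at this
        exact he.ne (by rw [← e1, add_left_cancel this, mul_assoc, he.sq, mul_zero])
      have heP : Be ∈ classOf G A₀ := hdP.trans (rootConj_of_rankOne hBe hBd hs.1).symm
      obtain ⟨A0, h0, hlt, x, hx, hAx⟩ := decompose (X := L) h2 h3 hA he hBd.1 e1 e2 hAe heA hr
        (fun g hg y hy => classGroup_conj h2 h3 hG hA₀ hg hy)
        (fun c => H98.le_famSup heP (hBe.qu_mem ((InRoot.self he.fam).smul c)))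
        (fun c => H98.le_famSup hdP (hBd.qu_mem ((InRoot.self hBd.1.fam).smul c)))
      rw [hAx]
      refine mul_mem hx (ih _ (hn ▸ hlt) A0 h0 rfl fun h hh => ?_)
      have hxh : x * h = h * x := Subgroup.mem_centralizer_iff.mp hh.2 x hx
      have := hC h hh
      rw [hAx, ← mul_assoc, ← hxh, mul_assoc, mul_assoc] at this
      exact mul_left_cancel this

theorem class_or_centralizes (h2 : (2 : k) ≠ 0) (h3 : Nat.card k ≠ 3) (hG : IsQuadraticPair G)
    {σ : GLM k M} (hσ : σ ∈ quadraticElements G) :
    σ ∈ Subgroup.centralizer (rootGroup G : Set (GLM k M)) ∨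
      ∃ A₁ ∈ quadraticRootSubgroups G, σ ∈ H98.famSup (classOf G A₁) := by
  by_cases h : ∀ B ∈ quadraticRootSubgroups G, ∀ x ∈ B, x * σ = σ * x
  · left
    rw [Subgroup.mem_centralizer_iff]
    have hle : rootGroup G ≤ Subgroup.centralizer {σ} :=
      iSup₂_le fun B hB x hx => Subgroup.mem_centralizer_singleton_iff.mpr (h B hB x hx)
    exact fun g hg => Subgroup.mem_centralizer_singleton_iff.mp (hle hg)
  · push Not at h
    obtain ⟨B, hB, x, hx, hne⟩ := h
    refine Or.inr ⟨B, hB, ?_⟩
    have hA := fam_of_quadratic hσ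
    rw [quadratic_eq_qu hσ] at hne ⊢
    exact mem_class_of_commute h2 h3 hG hB _ _ hA rfl
      (dichotomy h2 h3 hG hB hA ⟨x, H98.le_famSup (RootConj.refl B) hx, hne⟩)

end H56Q
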