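import Cfsg.Agent.H56.QPTheta

/-!
Alternating continued fractions: elements of the group generated by `1 + k` above and `X k` below
with prescribed lower left entry.
-/

set_option autoImplicit false
set_option linter.unusedSectionVars false

namespace H56Q

open Polynomial

variable {R S : Type*} [CommRing R] [CommRing S]

/-- one reduction step: the lower polynomial -/
noncomputable def stepC (n : ℕ) (A Cc : R[X]) : R[X] :=
  C (A.coeff (n + 1)) * Cc - C (Cc.coeff (n + 2)) * (X * A)

/-- the next upper polynomial -/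
noncomputable def nextA (n : ℕ) (A Cc : R[X]) : R[X] :=
  C (A.coeff (n + 1)) *
    (C ((stepC n A Cc).coeff (n + 1)) * A - C (A.coeff (n + 1)) * stepC n A Cc)

/-- the next lower polynomial -/
noncomputable def nextC (n : ℕ) (A Cc : R[X]) : R[X] :=
  C ((stepC n A Cc).coeff (n + 1)) * stepC n A Cc

/-- all partial quotients have degree `≤ 1` -/
def Chain : ℕ → R[X] → R[X] → Prop
  | 0, A, _ => A.coeff 0 ≠ 0
  | n + 1, A, Cc => A.coeff (n + 1) ≠ 0 ∧ (stepC n A Cc).coeff (n + 1) ≠ 0 ∧
      Chain n (nextA n A Cc) (nextC n A Cc)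

/-- `Chain` without the two last conditions -/
def PreChain : ℕ → R[X] → R[X] → Prop
  | 0, _, _ => True
  | 1, A, _ => A.coeff 1 ≠ 0
  | n + 2, A, Cc => A.coeff (n + 2) ≠ 0 ∧ (stepC (n + 1) A Cc).coeff (n + 2) ≠ 0 ∧
      PreChain (n + 1) (nextA (n + 1) A Cc) (nextC (n + 1) A Cc)

/-- degree bounds of a state -/
def Shape (n : ℕ) (A Cc : R[X]) : Prop :=
  (∀ i, n < i → A.coeff i = 0) ∧ (∀ i, n + 1 < i → Cc.coeff i = 0) ∧ Cc.coeff 0 = 0

theorem Shape.stepC {n : ℕ} {A Cc : R[X]} (h : Shape (n + 1) A Cc) :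
    (∀ i, n + 1 < i → (stepC n A Cc).coeff i = 0) ∧ (H56Q.stepC n A Cc).coeff 0 = 0 := by
  obtain ⟨hA, hC, h0⟩ := h
  refine ⟨fun i hi => ?_, by simp [H56Q.stepC, h0]⟩
  obtain ⟨j, rfl⟩ : ∃ j, i = j + 1 := ⟨i - 1, by omega⟩
  simp only [H56Q.stepC, coeff_sub, coeff_C_mul, coeff_X_mul]
  rcases Nat.lt_or_ge (n + 2) (j + 1) with hj | hj
  · rw [hC (j + 1) (by omega), hA j (by omega)]; ring
  · obtain rfl : j = n + 1 := by omega
    ring

theorem Shape.next {n : ℕ} {A Cc : R[X]} (h : Shape (n + 1) A Cc) :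
    Shape n (nextA n A Cc) (nextC n A Cc) := by
  obtain ⟨s1, s0⟩ := h.stepC
  refine ⟨fun i hi => ?_, fun i hi => by simp [nextC, s1 i hi], by simp [nextC, s0]⟩
  simp only [nextA, coeff_C_mul, coeff_sub]
  rcases Nat.lt_or_ge (n + 1) i with hj | hj
  · rw [h.1 i hj, s1 i hj]; ring
  · obtain rfl : i = n + 1 := by omega
    ring

theorem map_stepC (f : R →+* S) (n : ℕ) (A Cc : R[X]) :
    (stepC n A Cc).map f = stepC n (A.map f) (Cc.map f) := by
  simp [stepC, Polynomial.map_sub, Polynomial.map_mul]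

theorem map_next (f : R →+* S) (n : ℕ) (A Cc : R[X]) :
    (nextA n A Cc).map f = nextA n (A.map f) (Cc.map f) ∧
      (nextC n A Cc).map f = nextC n (A.map f) (Cc.map f) := by
  constructor <;> simp [nextA, nextC, Polynomial.map_sub, Polynomial.map_mul, ← map_stepC]

section Open

variable {k : Type*} [Field k]

theorem finite_eval_zero {p : k[X]} (h : p ≠ 0) : {t : k | p.eval t = 0}.Finite :=
  Polynomial.finite_setOf_isRoot h

theorem ne_zero_of_eval {p : k[X]} {t : k} (h : p.eval t ≠ 0) : p ≠ 0 := fun e => h (by simp [e])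

/-- the leading conditions hold outside a finite set as soon as they hold once -/
theorem chain_open (n : ℕ) : ∀ (A Cc : k[X][X]) (t₀ : k),
    Chain n (A.map (evalRingHom t₀)) (Cc.map (evalRingHom t₀)) →
    ∃ T : Set k, T.Finite ∧ ∀ t, t ∉ T → Chain n (A.map (evalRingHom t)) (Cc.map (evalRingHom t)) := by
  induction n with
  | zero =>
    intro A Cc t₀ h
    rw [Chain, coeff_map, coe_evalRingHom] at h
    refine ⟨_, finite_eval_zero (ne_zero_of_eval h), fun t ht => ?_⟩
    rw [Chain, coeff_map, coe_evalRingHom]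
    exact ht
  | succ n ih =>
    intro A Cc t₀ ⟨h1, h2, h3⟩
    rw [← (map_next _ n A Cc).1, ← (map_next _ n A Cc).2] at h3
    obtain ⟨T, hT, hT'⟩ := ih _ _ _ h3
    rw [coeff_map, coe_evalRingHom] at h1
    rw [← map_stepC, coeff_map, coe_evalRingHom] at h2
    refine ⟨T ∪ {t | (A.coeff (n + 1)).eval t = 0} ∪ {t | ((stepC n A Cc).coeff (n + 1)).eval t = 0},
      (hT.union (finite_eval_zero (ne_zero_of_eval h1))).union
        (finite_eval_zero (ne_zero_of_eval h2)), fun t ht => ?_⟩
    simp only [Set.mem_union, Set.mem_setOf_eq, not_or] at ht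
    refine ⟨by rw [coeff_map, coe_evalRingHom]; exact ht.1.2,
      by rw [← map_stepC, coeff_map, coe_evalRingHom]; exact ht.2, ?_⟩
    rw [← (map_next _ n A Cc).1, ← (map_next _ n A Cc).2]
    exact hT' t ht.1.1

theorem preChain_open (n : ℕ) : ∀ (A Cc : k[X][X]) (t₀ : k),
    PreChain n (A.map (evalRingHom t₀)) (Cc.map (evalRingHom t₀)) →
    ∃ T : Set k, T.Finite ∧
      ∀ t, t ∉ T → PreChain n (A.map (evalRingHom t)) (Cc.map (evalRingHom t)) := by
  induction n with
  | zero => intro A Cc t₀ _; exact ⟨∅, Set.finite_empty, fun t _ => trivial⟩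
  | succ n ih =>
    rcases n with - | n
    · intro A Cc t₀ h
      rw [PreChain, coeff_map, coe_evalRingHom] at h
      refine ⟨_, finite_eval_zero (ne_zero_of_eval h), fun t ht => ?_⟩
      rw [PreChain, coeff_map, coe_evalRingHom]
      exact ht
    · intro A Cc t₀ ⟨h1, h2, h3⟩
      rw [← (map_next _ (n + 1) A Cc).1, ← (map_next _ (n + 1) A Cc).2] at h3
      obtain ⟨T, hT, hT'⟩ := ih _ _ _ h3
      rw [coeff_map, coe_evalRingHom] at h1
      rw [← map_stepC, coeff_map, coe_evalRingHom] at h2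
      refine ⟨T ∪ {t | (A.coeff (n + 2)).eval t = 0} ∪
          {t | ((stepC (n + 1) A Cc).coeff (n + 2)).eval t = 0},
        (hT.union (finite_eval_zero (ne_zero_of_eval h1))).union
          (finite_eval_zero (ne_zero_of_eval h2)), fun t ht => ?_⟩
      simp only [Set.mem_union, Set.mem_setOf_eq, not_or] at ht
      refine ⟨by rw [coeff_map, coe_evalRingHom]; exact ht.1.2,
        by rw [← map_stepC, coeff_map, coe_evalRingHom]; exact ht.2, ?_⟩
      rw [← (map_next _ (n + 1) A Cc).1, ← (map_next _ (n + 1) A Cc).2]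
      exact hT' t ht.1.1

theorem preChain_X_mul (n : ℕ) : ∀ (A Cc : k[X]), Chain n A Cc →
    PreChain (n + 1) (X * A) (X * Cc) := by
  induction n with
  | zero => intro A Cc h; rwa [PreChain, coeff_X_mul]
  | succ n ih =>
    intro A Cc ⟨h1, h2, h3⟩
    have hs : stepC (n + 1) (X * A) (X * Cc) = X * stepC n A Cc := by
      simp only [stepC, coeff_X_mul]; ring
    have hA : nextA (n + 1) (X * A) (X * Cc) = X * nextA n A Cc := by
      simp only [nextA, hs, coeff_X_mul]; ring
    have hC : nextC (n + 1) (X * A) (X * Cc) = X * nextC n A Cc := by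
      simp only [nextC, hs, coeff_X_mul]; ring
    refine ⟨by rwa [coeff_X_mul], by rwa [hs, coeff_X_mul], ?_⟩
    rw [hA, hC]
    exact ih _ _ h3

theorem chain_of_coprime (n : ℕ) : ∀ (A Cc : k[X]), Shape n A Cc → IsCoprime A Cc →
    PreChain n A Cc → Chain n A Cc := by
  induction n with
  | zero =>
    intro A Cc hS hco _
    rw [Chain]
    intro h0
    have hA : A = 0 := Polynomial.ext fun i => by
      rcases Nat.eq_zero_or_pos i with rfl | hi
      · simpa using h0
      · simpa using hS.1 i hi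
    rw [hA, isCoprime_zero_left] at hco
    have := hco.map (constantCoeff)
    rw [constantCoeff_apply, hS.2.2] at this
    exact not_isUnit_zero this
  | succ n ih =>
    intro A Cc hS hco hP
    have hα : A.coeff (n + 1) ≠ 0 := by
      rcases n with - | n
      · exact hP
      · exact hP.1
    have hγ : (stepC n A Cc).coeff (n + 1) ≠ 0 := by
      rcases n with - | n
      · intro h1
        obtain ⟨s1, s0⟩ := hS.stepC
        have hz : stepC 0 A Cc = 0 := Polynomial.ext fun i => by
          rcases i with - | i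
          · simpa using s0
          · rcases i with - | i
            · simpa using h1
            · simpa using s1 (i + 2) (by omega)
        rw [stepC, sub_eq_zero] at hz
        have hdvd : A ∣ Cc := by
          refine ⟨C (A.coeff 1)⁻¹ * (C (Cc.coeff 2) * X), ?_⟩
          calc Cc = C (A.coeff 1)⁻¹ * (C (A.coeff 1) * Cc) := by
                rw [← mul_assoc, ← C_mul, inv_mul_cancel₀ hα, C_1, one_mul]
            _ = _ := by rw [hz]; ring
        exact hα (Polynomial.coeff_eq_zero_of_natDegree_lt (by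
          rw [Polynomial.natDegree_eq_zero_of_isUnit (hco.isUnit_of_dvd' dvd_rfl hdvd)]; norm_num))
      · exact hP.2.1
    refine ⟨hα, hγ, ih _ _ hS.next ?_ ?_⟩
    · have hu : ∀ c : k, c ≠ 0 → IsUnit (C c) := fun c hc => isUnit_C.mpr (IsUnit.mk0 c hc)
      have h1 : IsCoprime A (stepC n A Cc) := by
        rw [stepC, sub_eq_add_neg, show -(C (Cc.coeff (n + 2)) * (X * A)) =
          (-(C (Cc.coeff (n + 2)) * X)) * A by ring, IsCoprime.add_mul_right_right_iff]
        exact (isCoprime_mul_unit_left_right (hu _ hα) A Cc).mpr hco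
      rw [nextA, nextC, isCoprime_mul_unit_left_left (hu _ hα), isCoprime_mul_unit_left_right (hu _ hγ),
        sub_eq_add_neg, ← neg_mul, IsCoprime.add_mul_right_left_iff]
      exact (isCoprime_mul_unit_left_left (hu _ hγ) A _).mpr h1
    · rcases n with - | n
      · trivial
      · exact hP.2.2

theorem chain_comp (n : ℕ) : ∀ (A Cc : k[X]) (t u v : k), t ≠ 0 → u ≠ 0 → v ≠ 0 → Chain n A Cc →
    Chain n (C u * A.comp (C t * X)) (C v * Cc.comp (C t * X)) := by
  have hco : ∀ (p : k[X]) (t : k) (i : ℕ), (p.comp (C t * X)).coeff i = p.coeff i * t ^ i := by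
    intro p t i
    rw [comp_C_mul_X_coeff]
  induction n with
  | zero =>
    intro A Cc t u v ht hu hv h
    rw [Chain] at h ⊢
    rw [coeff_C_mul, hco, pow_zero, mul_one]
    exact mul_ne_zero hu h
  | succ n ih =>
    intro A Cc t u v ht hu hv ⟨h1, h2, h3⟩
    have hs : stepC n (C u * A.comp (C t * X)) (C v * Cc.comp (C t * X)) =
        C (u * v * t ^ (n + 1)) * (stepC n A Cc).comp (C t * X) := by
      simp only [stepC, coeff_C_mul, hco, sub_comp, mul_comp, C_comp, X_comp, C_mul, C_pow,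
        pow_succ]
      ring
    have hg : (stepC n (C u * A.comp (C t * X)) (C v * Cc.comp (C t * X))).coeff (n + 1) =
        u * v * t ^ (n + 1) * ((stepC n A Cc).coeff (n + 1) * t ^ (n + 1)) := by
      rw [hs, coeff_C_mul, hco]
    have hA : nextA n (C u * A.comp (C t * X)) (C v * Cc.comp (C t * X)) =
        C (u * u * u * v * (t ^ (n + 1) * t ^ (n + 1) * t ^ (n + 1))) *
          (nextA n A Cc).comp (C t * X) := by
      simp only [nextA, hg]
      simp only [hs, coeff_C_mul, hco, sub_comp, mul_comp, C_comp, C_mul, C_pow]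
      ring
    have hC : nextC n (C u * A.comp (C t * X)) (C v * Cc.comp (C t * X)) =
        C (u * v * t ^ (n + 1) * (u * v * t ^ (n + 1)) * t ^ (n + 1)) *
          (nextC n A Cc).comp (C t * X) := by
      simp only [nextC, hg]
      simp only [hs, mul_comp, C_comp, C_mul, C_pow]
      ring
    refine ⟨?_, ?_, ?_⟩
    · rw [coeff_C_mul, hco]
      exact mul_ne_zero hu (mul_ne_zero h1 (pow_ne_zero _ ht))
    · rw [hs, coeff_C_mul, hco]
      exact mul_ne_zero (mul_ne_zero (mul_ne_zero hu hv) (pow_ne_zero _ ht))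
        (mul_ne_zero h2 (pow_ne_zero _ ht))
    · rw [hA, hC]
      exact ih _ _ _ _ _ ht (by simp [hu, hv, ht]) (by simp [hu, hv, ht]) h3

theorem evalRingHom_comp_C (t : k) : (evalRingHom t).comp C = RingHom.id k := by
  ext x; simp

theorem exists_chain_pow [Infinite k] (n : ℕ) :
    ∃ A : k[X], (∀ i, n < i → A.coeff i = 0) ∧ Chain n A (X ^ (n + 1)) := by
  induction n with
  | zero => exact ⟨1, fun i hi => by simp [coeff_one, Nat.pos_iff_ne_zero.mp hi], by simp [Chain]⟩
  | succ n ih =>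
    obtain ⟨A, hA, hc⟩ := ih
    have hp := preChain_X_mul n A _ hc
    rw [← pow_succ'] at hp
    obtain ⟨T, hT, hT'⟩ := preChain_open (n + 1) (C (X : k[X]) + X * A.map Polynomial.C)
      ((X ^ (n + 2) : k[X]).map Polynomial.C) 0 (by simpa [Polynomial.map_map, evalRingHom_comp_C] using hp)
    obtain ⟨η, hη⟩ := (hT.union (Set.finite_singleton (0 : k))).exists_notMem
    simp only [Set.mem_union, Set.mem_singleton_iff, not_or] at hη
    have e1 : (C (X : k[X]) + X * A.map Polynomial.C).map (evalRingHom η) = C η + X * A := by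
      simp [Polynomial.map_map, evalRingHom_comp_C]
    have e2 : ((X ^ (n + 2) : k[X]).map Polynomial.C).map (evalRingHom η) = X ^ (n + 2) := by simp
    have h := hT' η hη.1
    rw [e1, e2] at h
    refine ⟨C η + X * A, fun i hi => ?_, chain_of_coprime _ _ _ ⟨fun i hi => ?_, fun i hi => ?_, ?_⟩
      ?_ h⟩
    · obtain ⟨j, rfl⟩ : ∃ j, i = j + 1 := ⟨i - 1, by omega⟩
      simp [hA j (by omega)]
    · obtain ⟨j, rfl⟩ : ∃ j, i = j + 1 := ⟨i - 1, by omega⟩
      simp [hA j (by omega)]
    · rw [coeff_X_pow, if_neg (by omega)]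
    · simp [coeff_X_pow]
    · refine IsCoprime.pow_right ?_
      refine ⟨C η⁻¹, -(C η⁻¹ * A), ?_⟩
      rw [show C η⁻¹ * (C η + X * A) + -(C η⁻¹ * A) * X = C η⁻¹ * C η by ring, ← C_mul,
        inv_mul_cancel₀ hη.2, C_1]

/-- for any `f` of degree `≤ n` with unit coefficient there, a chain ending in `X f` -/
theorem exists_chain [Infinite k] (n : ℕ) (f : k[X]) (hf : f.coeff n = 1)
    (hd : ∀ i, n < i → f.coeff i = 0) :
    ∃ A : k[X], Shape n A (X * f) ∧ Chain n A (X * f) := by
  obtain ⟨A, hA, hc⟩ := exists_chain_pow (k := k) n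
  let Ct : k[X][X] := ∑ i ∈ Finset.range (n + 1), C (C (f.coeff i) * X ^ (n - i)) * X ^ (i + 1)
  have hev : ∀ t : k, Ct.map (evalRingHom t) =
      ∑ i ∈ Finset.range (n + 1), C (f.coeff i * t ^ (n - i)) * X ^ (i + 1) := by
    intro t; simp [Ct, Polynomial.map_sum]
  have h0 : Ct.map (evalRingHom 0) = X ^ (n + 1) := by
    rw [hev, Finset.sum_eq_single_of_mem n (by simp) (fun i hi hne => ?_)]
    · simp [hf]
    · have : n - i ≠ 0 := by rw [Finset.mem_range] at hi; omega
      simp [zero_pow this]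
  obtain ⟨T, hT, hT'⟩ := chain_open n (A.map Polynomial.C) Ct 0
    (by rw [h0]; simpa [Polynomial.map_map, evalRingHom_comp_C] using hc)
  obtain ⟨t, ht⟩ := (hT.union (Set.finite_singleton (0 : k))).exists_notMem
  simp only [Set.mem_union, Set.mem_singleton_iff, not_or] at ht
  have h := hT' t ht.1
  rw [hev, show (A.map Polynomial.C).map (evalRingHom t) = A by simp [Polynomial.map_map, evalRingHom_comp_C]] at h
  have h2 := chain_comp n _ _ t 1 (t ^ (n + 1))⁻¹ ht.2 one_ne_zero (inv_ne_zero (pow_ne_zero _ ht.2)) h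
  have e : C (t ^ (n + 1))⁻¹ *
      (∑ i ∈ Finset.range (n + 1), C (f.coeff i * t ^ (n - i)) * X ^ (i + 1)).comp (C t * X) =
      X * f := by
    rw [Polynomial.sum_comp]
    conv_rhs => rw [f.as_sum_range_C_mul_X_pow' (n := n + 1) (by
      rw [Nat.lt_succ_iff, natDegree_le_iff_coeff_eq_zero]; exact hd)]
    rw [Finset.mul_sum, Finset.mul_sum]
    refine Finset.sum_congr rfl fun i hi => ?_
    rw [Finset.mem_range] at hi
    rw [mul_comp, C_comp, X_pow_comp, mul_pow, ← C_pow, ← mul_assoc, ← mul_assoc, ← C_mul, ← C_mul,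
      show (t ^ (n + 1))⁻¹ * (f.coeff i * t ^ (n - i)) * t ^ (i + 1) = f.coeff i by
        rw [mul_assoc, mul_assoc, ← pow_add, show n - i + (i + 1) = n + 1 by omega, mul_comm,
          mul_assoc, mul_inv_cancel₀ (pow_ne_zero _ ht.2), mul_one]]
    ring
  rw [e] at h2
  refine ⟨_, ⟨fun i hi => ?_, fun i hi => ?_, by simp⟩, h2⟩
  · rw [coeff_C_mul, comp_C_mul_X_coeff, hA i hi]; simp
  · obtain ⟨j, rfl⟩ : ∃ j, i = j + 1 := ⟨i - 1, by omega⟩
    rw [coeff_X_mul]
    exact hd j (by omega)

/-- a chain gives an element of the polynomial group -/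
theorem chain_reach (n : ℕ) : ∀ (A Cc : k[X]), Shape n A Cc → Chain n A Cc →
    ∃ g ∈ polyGroup k, g 0 0 = C (A.coeff 0)⁻¹ * A ∧ g 1 0 = C (A.coeff 0)⁻¹ * Cc := by
  induction n with
  | zero =>
    intro A Cc hS h0
    rw [Chain] at h0
    have hA : A = C (A.coeff 0) := eq_C_of_natDegree_le_zero
      (natDegree_le_iff_coeff_eq_zero.mpr hS.1)
    have hC : Cc = X * C (Cc.coeff 1) := by
      apply Polynomial.ext; intro i
      rcases i with - | i
      · simpa using hS.2.2
      · rcases i with - | i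
        · simp
        · simp [hS.2.1 (i + 2) (by omega), coeff_C]
    refine ⟨_, polyGroup_lwr ((A.coeff 0)⁻¹ * Cc.coeff 1), ?_, ?_⟩
    · rw [lwr_00]
      conv_rhs => arg 2; rw [hA]
      rw [← C_mul, inv_mul_cancel₀ h0, C_1]
    · rw [lwr_10]
      conv_rhs => arg 2; rw [hC]
      rw [C_mul]; ring
  | succ n ih =>
    intro A Cc hS ⟨hα, hγ, hrec⟩
    obtain ⟨g, hg, g00, g10⟩ := ih _ _ hS.next hrec
    set α := A.coeff (n + 1) with hαd
    set β := Cc.coeff (n + 2) with hβd
    set γ := (stepC n A Cc).coeff (n + 1) with hγd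
    have hA0 : (nextA n A Cc).coeff 0 = α * γ * A.coeff 0 := by
      simp only [nextA, coeff_C_mul, coeff_sub, hS.stepC.2, ← hαd, ← hγd]; ring
    have hA00 : A.coeff 0 ≠ 0 := by
      intro h
      have : ∀ m, ∀ (A' C' : k[X]), Shape m A' C' → Chain m A' C' → A'.coeff 0 ≠ 0 := by
        intro m
        induction m with
        | zero => intro A' C' _ h'; exact h'
        | succ m ihm =>
          intro A' C' hS' ⟨_, _, h'⟩ h0'
          refine ihm _ _ hS'.next h' ?_
          simp only [nextA, coeff_C_mul, coeff_sub, hS'.stepC.2, h0']; ring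
      exact this n _ _ hS.next hrec (by rw [hA0, h, mul_zero])
    rw [hA0] at g00 g10
    have i1 : C γ⁻¹ * C γ = (1 : k[X]) := by rw [← C_mul, inv_mul_cancel₀ hγ, C_1]
    have i2 : C α⁻¹ * C α = (1 : k[X]) := by rw [← C_mul, inv_mul_cancel₀ hα, C_1]
    refine ⟨lwr (X * C (β / α)) * (upr (C (α ^ 2 / γ)) * g),
      mul_mem (polyGroup_lwr _) (mul_mem (polyGroup_upr _) hg), ?_, ?_⟩
    · simp only [mul00, mul10, lwr_00, lwr_01, upr_00, upr_01, upr_10, upr_11, g00, g10, hA0, nextA,
        nextC, ← hαd, ← hγd, zero_mul, add_zero, one_mul, zero_add, C_mul, mul_inv]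
      simp only [div_eq_mul_inv, C_mul, C_pow]
      calc _ = C α⁻¹ * C α * (C γ⁻¹ * C γ) * (C (A.coeff 0)⁻¹ * A) +
            (C α * C α * (C γ⁻¹ * C γ) - C α * C α) * (C α⁻¹ * C γ⁻¹ * C (A.coeff 0)⁻¹ *
              stepC n A Cc) := by ring
        _ = _ := by rw [i1, i2]; ring
    · simp only [mul00, mul10, lwr_10, lwr_11, upr_00, upr_01, upr_10, upr_11, g00, g10, hA0, nextA,
        nextC, ← hαd, ← hγd, zero_mul, one_mul, zero_add, C_mul, mul_inv]
      simp only [div_eq_mul_inv, C_mul, C_pow]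
      have e : C α * Cc = stepC n A Cc + C β * (X * A) := by rw [stepC, ← hαd, ← hβd]; ring
      calc _ = C α⁻¹ * (C γ⁻¹ * C γ) * C (A.coeff 0)⁻¹ *
              (C β * X * (C α⁻¹ * C α) * A + stepC n A Cc) +
            (C α * C α * (C γ⁻¹ * C γ) - C α * C α) * (C β * X * C α⁻¹ * C α⁻¹ * C γ⁻¹ *
              C (A.coeff 0)⁻¹ * stepC n A Cc) := by ring
        _ = C α⁻¹ * C (A.coeff 0)⁻¹ * (C α * Cc) := by
            rw [i1, i2, e]; ring
        _ = C (A.coeff 0)⁻¹ * Cc * (C α⁻¹ * C α) := by ring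
        _ = _ := by rw [← C_mul, inv_mul_cancel₀ hα, C_1, mul_one]

theorem Chain.coeff_zero_ne {n : ℕ} : ∀ {A Cc : k[X]}, Shape n A Cc → Chain n A Cc → A.coeff 0 ≠ 0 := by
  induction n with
  | zero => intro A Cc _ h; exact h
  | succ n ih =>
    intro A Cc hS ⟨_, _, h⟩ h0
    refine ih hS.next h ?_
    simp only [nextA, coeff_C_mul, coeff_sub, hS.stepC.2, h0]; ring

end Open

end H56Q
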