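import Cfsg.Agent.H56.QPRoot

/-!
Classes of root subgroups: non-commuting members are conjugate.
-/

set_option autoImplicit false
set_option linter.unusedSectionVars false

universe u

namespace H56Q

open Cfsg LinearMap

variable {k : Type u} [Field k] {M : Type*} [AddCommGroup M] [Module k M] [FiniteDimensional k M]
variable {G : Subgroup (GLM k M)} {a b γ d x y : Module.End k M} {A B C : Subgroup (GLM k M)}

/-- the group generated by all root subgroups -/
abbrev rootGroup (G : Subgroup (GLM k M)) : Subgroup (GLM k M) := H98.famSup (quadraticRootSubgroups G)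

theorem rootGroup_le : rootGroup G ≤ G :=
  iSup₂_le fun A hA => (exists_isRootOf hA).choose_spec.le

theorem qu_mem_rootGroup (hx : MinQ G x) : qu x hx.sq ∈ rootGroup G := by
  obtain ⟨D, hD⟩ := exists_root_subgroup hx
  exact H98.le_famSup hD.mem_quadraticRoot (hD.qu_mem (InRoot.self hx.fam))

theorem inRoot_qu_mem (ha : MinQ G a) (hx : InRoot G a x) : qu x hx.1.1 ∈ rootGroup G := by
  obtain ⟨D, hD⟩ := exists_root_subgroup ha
  exact H98.le_famSup hD.mem_quadraticRoot (hD.qu_mem hx)

/-- conjugacy of root subgroups under the group they generate -/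
def RootConj (G : Subgroup (GLM k M)) (A B : Subgroup (GLM k M)) : Prop :=
  ∃ g ∈ rootGroup G, B = conjBy A g

theorem RootConj.refl (A : Subgroup (GLM k M)) : RootConj G A A :=
  ⟨1, one_mem _, (H98.conjBy_one A).symm⟩

theorem RootConj.trans (h : RootConj G A B) (h' : RootConj G B C) : RootConj G A C := by
  obtain ⟨g, hg, rfl⟩ := h
  obtain ⟨g', hg', rfl⟩ := h'
  exact ⟨g' * g, mul_mem hg' hg, H98.conjBy_conjBy A g' g⟩

theorem RootConj.symm (h : RootConj G A B) : RootConj G B A := by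
  obtain ⟨g, hg, rfl⟩ := h
  exact ⟨g⁻¹, inv_mem hg, by rw [H98.conjBy_conjBy, inv_mul_cancel, H98.conjBy_one]⟩

theorem rootConj_of_elements (hA : IsRootOf G A a) (hB : IsRootOf G B b) {g : GLM k M}
    (hg : g ∈ rootGroup G)
    (h : b = (g : Module.End k M) * a * ((g⁻¹ : GLM k M) : Module.End k M)) : RootConj G A B :=
  ⟨g, hg, hB.unique (h ▸ hA.conj (rootGroup_le hg))⟩

theorem rootConj_of_rankOne (hA : IsRootOf G A a) (hB : IsRootOf G B b) (h : IsRankOnePair A B) :
    RootConj G A B := by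
  obtain ⟨e, he, he1⟩ := H98.exists_mem_ne_one hA.ne_bot
  obtain ⟨f, hf, -, hef⟩ := h.cond_left e he he1
  refine ⟨e * f⁻¹, mul_mem (H98.le_famSup hA.mem_quadraticRoot he)
    (inv_mem (H98.le_famSup hB.mem_quadraticRoot hf)), ?_⟩
  rw [← H98.conjBy_conjBy, hef, H98.conjBy_conjBy, mul_inv_cancel, H98.conjBy_one]

/-- the element carrying the homogeneous part `b - l` to `b` -/
theorem exists_mover {a1 b1 γ l : Module.End k M} (h2 : (2 : k) ≠ 0) (P : PurePair G a1 b1 γ d)
    (hl : InRoot G γ l) : ∃ g ∈ rootGroup G,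
      b1 + l = (g : Module.End k M) * b1 * ((g⁻¹ : GLM k M) : Module.End k M) := by
  obtain ⟨hu, hbu⟩ := P.symm.lift_spec h2 (l := l) (by
    refine ⟨hl.1, ?_, ?_⟩
    · rw [LinearMap.range_neg]; exact hl.2.1
    · rw [LinearMap.ker_neg]; exact hl.2.2)
  set u := PurePair.lift a1 (-d) l
  have ubu : u * b1 * u = 0 := by
    by_cases hu0 : u = 0
    · simp [hu0]
    exact (pair_transfer h2 P.ma P.mb P.aba hu hu0 (InRoot.self P.mb.fam) P.mb.ne).1
  refine ⟨(qu u hu.1.1)⁻¹, inv_mem (inRoot_qu_mem P.ma hu), ?_⟩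
  rw [inv_inv, coe_qu_inv, coe_qu]
  simp only [sub_mul, one_mul, mul_add, mul_one, ubu]
  rw [show b1 - u * b1 + (b1 * u - 0) = b1 + (b1 * u - u * b1) by abel, hbu]

theorem rootConj_of_commutator (h2 : (2 : k) ≠ 0) (h3 : Nat.card k ≠ 3) (hirr : IsIrreducibleFor G)
    (hA : IsRootOf G A a) (hB : IsRootOf G B b) (h1 : a * b * a = 0) (h1' : b * a * b = 0)
    (hne : a * b ≠ b * a) : RootConj G A B := by
  obtain ⟨d, hd, gdg, dgd⟩ := exists_opposite h2 h3 hirr (comm_struct hA.1 hB.1 h1 h1' hne).1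
  obtain ⟨a2, b2, ra, rb, P⟩ := reduce_pair h2 hA.1 hB.1 h1 h1' hne hd gdg dgd
  set γ := a * b - b * a
  set a1 := a - a2 with ha1
  set b1 := b - b2 with hb1
  obtain ⟨A1, hA1⟩ := exists_root_subgroup P.ma
  obtain ⟨B1, hB1⟩ := exists_root_subgroup P.mb
  obtain ⟨C, hC⟩ := exists_root_subgroup P.conj_minQ
  obtain ⟨ga, hga, ea⟩ := exists_mover h2 P.symm (l := a2) ⟨ra.1,
    by rw [LinearMap.range_neg]; exact ra.2.1, by rw [LinearMap.ker_neg]; exact ra.2.2⟩
  obtain ⟨gb, hgb, eb⟩ := exists_mover h2 P (l := b2) rb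
  rw [sub_add_cancel] at ea eb
  have r1 : RootConj G A1 A := rootConj_of_elements hA1 hA hga ea
  have r2 : RootConj G B1 B := rootConj_of_elements hB1 hB hgb eb
  have r3 : RootConj G B1 C := rootConj_of_elements hB1 hC
    (mul_mem (mul_mem (qu_mem_rootGroup P.mγ) (inv_mem (qu_mem_rootGroup P.md)))
      (qu_mem_rootGroup P.mγ)) P.conj_spec
  have ada : a1 * d * a1 = 0 := by simpa using P.symm.bdb h2
  have haca : a1 * (b1 * d - d * b1) * a1 = a1 := by
    conv_rhs => rw [P.pa, ← P.comm]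
    have e1 : b1 * (a1 * (d * a1)) = 0 := by rw [← mul_assoc a1 d a1, ada, mul_zero]
    have e2 : ∀ r, a1 * (d * (a1 * r)) = 0 := fun r => by
      rw [← mul_assoc, ← mul_assoc, ada, zero_mul]
    simp only [mul_sub, sub_mul, mul_assoc, e1, e2]
    abel
  have r4 : RootConj G A1 C := rootConj_of_rankOne hA1 hC (specialPair h2 h3 hA1 hC fun hn => by
    refine hA1.1.ne ?_
    rw [← haca]
    exact (aba_bab_zero h2 hA1.1 hC.1 hn).1).1
  exact r1.symm.trans (r4.trans (r3.symm.trans r2))

theorem rootConj_of_not_commute (h2 : (2 : k) ≠ 0) (h3 : Nat.card k ≠ 3) (hirr : IsIrreducibleFor G)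
    (hA : A ∈ quadraticRootSubgroups G) (hB : B ∈ quadraticRootSubgroups G) (h : ⁅A, B⁆ ≠ ⊥) :
    RootConj G A B := by
  obtain ⟨a, ha⟩ := exists_isRootOf hA
  obtain ⟨b, hb⟩ := exists_isRootOf hB
  rcases trichotomy h2 h3 ha hb with ⟨hc, -⟩ | ⟨hr, -⟩ | ⟨h1, h1', hne⟩
  · exact absurd hc h
  · exact rootConj_of_rankOne ha hb hr.1
  · exact rootConj_of_commutator h2 h3 hirr ha hb h1 h1' hne

/-- the class of a root subgroup -/
def classOf (G : Subgroup (GLM k M)) (A : Subgroup (GLM k M)) : Set (Subgroup (GLM k M)) :=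
  {B | RootConj G A B}

theorem classOf_subset (hA : A ∈ quadraticRootSubgroups G) : classOf G A ⊆ quadraticRootSubgroups G := by
  rintro _ ⟨g, hg, rfl⟩
  exact conj_mem_roots (rootGroup_le hg) hA

theorem classOf_eq_of_mem (h : B ∈ classOf G A) : classOf G B = classOf G A :=
  Set.ext fun _ => ⟨fun hC => h.trans hC, fun hC => h.symm.trans hC⟩

theorem commute_across (h2 : (2 : k) ≠ 0) (h3 : Nat.card k ≠ 3) (hirr : IsIrreducibleFor G)
    (hA : A ∈ quadraticRootSubgroups G) (hB : B ∈ quadraticRootSubgroups G)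
    (h : classOf G A ≠ classOf G B) : ⁅A, B⁆ = ⊥ := by
  by_contra hne
  exact h (classOf_eq_of_mem (rootConj_of_not_commute h2 h3 hirr hA hB hne)).symm

theorem commute_classes (h2 : (2 : k) ≠ 0) (h3 : Nat.card k ≠ 3) (hirr : IsIrreducibleFor G)
    (hA : A ∈ quadraticRootSubgroups G) (hB : B ∈ quadraticRootSubgroups G)
    (h : classOf G A ≠ classOf G B) :
    ⁅H98.famSup (classOf G A), H98.famSup (classOf G B)⁆ = ⊥ := by
  rw [Subgroup.commutator_eq_bot_iff_le_centralizer]
  refine iSup₂_le fun C hC => Subgroup.le_centralizer_iff.mpr (iSup₂_le fun D hD => ?_)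
  refine Subgroup.le_centralizer_iff.mpr (Subgroup.commutator_eq_bot_iff_le_centralizer.mp ?_)
  refine commute_across h2 h3 hirr (classOf_subset hA hC) (classOf_subset hB hD) ?_
  rwa [classOf_eq_of_mem hC, classOf_eq_of_mem hD]

/-- conjugation by a root element is realised inside the class -/
theorem conj_inside (h2 : (2 : k) ≠ 0) (h3 : Nat.card k ≠ 3) (hirr : IsIrreducibleFor G)
    (hA : A ∈ quadraticRootSubgroups G) {g : GLM k M} (hg : g ∈ rootGroup G) :
    ∀ B ∈ classOf G A, ∃ l ∈ H98.famSup (classOf G A), conjBy B g = conjBy B l := by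
  have hg' : g ∈ Subgroup.closure (⋃ A ∈ quadraticRootSubgroups G, (A : Set (GLM k M))) := by
    have e : rootGroup G ≤ Subgroup.closure (⋃ A ∈ quadraticRootSubgroups G, (A : Set (GLM k M))) :=
      iSup₂_le fun A hA x hx => Subgroup.subset_closure (Set.mem_biUnion hA hx)
    exact e hg
  have hconj : ∀ l ∈ H98.famSup (classOf G A), ∀ B ∈ classOf G A, conjBy B l ∈ classOf G A := by
    intro l hl B hB
    have hle : H98.famSup (classOf G A) ≤ rootGroup G :=
      iSup₂_le fun C hC => H98.le_famSup (classOf_subset hA hC)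
    exact RootConj.trans hB ⟨l, hle hl, rfl⟩
  clear hg
  induction hg' using Subgroup.closure_induction with
  | mem x hx =>
    obtain ⟨C, hC, hx⟩ := Set.mem_iUnion₂.mp hx
    intro B hB
    by_cases hCA : C ∈ classOf G A
    · exact ⟨x, H98.le_famSup hCA hx, rfl⟩
    · refine ⟨1, one_mem _, ?_⟩
      have hc : ⁅B, C⁆ = ⊥ := commute_across h2 h3 hirr (classOf_subset hA hB) hC fun e => hCA (by
        rw [← classOf_eq_of_mem hB, e]; exact RootConj.refl C)
      rw [H98.conjBy_one]
      refine Eq.trans (SetLike.coe_injective (Set.image_congr fun y hy => ?_)) (Subgroup.map_id B)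
      show x * y * x⁻¹ = y
      rw [← (H98.commute_of_commutator_eq_bot hc hy hx).eq, mul_inv_cancel_right]
  | one => exact fun B _ => ⟨1, one_mem _, rfl⟩
  | mul x y _ _ hx hy =>
    intro B hB
    obtain ⟨l, hl, e⟩ := hy B hB
    obtain ⟨l', hl', e'⟩ := hx _ (hconj l hl B hB)
    exact ⟨l' * l, mul_mem hl' hl, by rw [← H98.conjBy_conjBy, e, e', H98.conjBy_conjBy]⟩
  | inv x hxg hx =>
    intro B hB
    have hxr : x ∈ rootGroup G := by
      refine (Subgroup.closure_le _).mpr ?_ hxg
      exact Set.iUnion₂_subset fun C hC => H98.le_famSup hC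
    have hB' : conjBy B x⁻¹ ∈ classOf G A := RootConj.trans hB ⟨x⁻¹, inv_mem hxr, rfl⟩
    obtain ⟨l, hl, e⟩ := hx _ hB'
    rw [H98.conjBy_conjBy, mul_inv_cancel, H98.conjBy_one] at e
    refine ⟨l⁻¹, inv_mem hl, ?_⟩
    conv_rhs => rw [e, H98.conjBy_conjBy, inv_mul_cancel, H98.conjBy_one]

theorem finite_classes (h2 : (2 : k) ≠ 0) (h3 : Nat.card k ≠ 3) (hirr : IsIrreducibleFor G) :
    Finite ↥((classOf G) '' quadraticRootSubgroups G) := by
  classical
  have hrep : ∀ c : ↥((classOf G) '' quadraticRootSubgroups G), ∃ (A : Subgroup (GLM k M)) (a : Module.End k M)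
      (D : Subgroup (GLM k M)) (d : Module.End k M), IsRootOf G A a ∧ IsRootOf G D d ∧
      classOf G A = c.1 ∧ classOf G D = c.1 ∧ a * d * a = a := by
    rintro ⟨_, A, hA, rfl⟩
    obtain ⟨a, ha⟩ := exists_isRootOf hA
    obtain ⟨D, d, hD, hs, e1, -⟩ := exists_partner_subgroup h2 h3 hirr ha
    exact ⟨A, a, D, d, ha, hD, rfl, classOf_eq_of_mem (rootConj_of_rankOne ha hD hs.1), e1⟩
  choose A a D d hA hD hcA hcD hada using hrep
  refine LinearIndependent.finite_of_isNoetherian (R := k) (v := a) (linearIndependent_iff'.mpr ?_)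
  intro s g hsum i hi
  have hcomm : ∀ j, j ≠ i → a j * d i = d i * a j := by
    intro j hj
    have hc : ⁅A j, D i⁆ = ⊥ := commute_across h2 h3 hirr (hA j).mem_quadraticRoot (hD i).mem_quadraticRoot
      (by rw [hcA, hcD]; exact fun e => hj (Subtype.ext e))
    have := congrArg (fun g : GLM k M => (g : Module.End k M))
      (H98.commute_of_commutator_eq_bot hc ((hA j).qu_mem (InRoot.self (hA j).1.fam))
        ((hD i).qu_mem (InRoot.self (hD i).1.fam))).eq
    simp only [Units.val_mul, coe_qu, add_mul, mul_add, one_mul, mul_one] at this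
    calc a j * d i = (1 + a j + (d i + a j * d i)) - (1 + a j + d i) := by abel
      _ = (1 + d i + (a j + d i * a j)) - (1 + a j + d i) := by rw [this]
      _ = d i * a j := by abel
  have h0 : g i • ((a i * d i - d i * a i) * a i) = 0 := by
    have := congrArg (fun z : Module.End k M => (z * d i - d i * z) * a i) hsum
    simp only [Finset.sum_mul, Finset.mul_sum, zero_mul, mul_zero, sub_self, smul_mul_assoc,
      mul_smul_comm, ← Finset.sum_sub_distrib] at this
    rw [Finset.sum_eq_single i (fun j _ hj => by rw [hcomm j hj, sub_self, zero_mul])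
      (fun h => absurd hi h), ← smul_sub, smul_mul_assoc] at this
    exact this
  rw [sub_mul, mul_assoc (d i), (hA i).1.sq, mul_zero, sub_zero, hada i] at h0
  exact (smul_eq_zero.mp h0).resolve_right (hA i).1.ne

end H56Q
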