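import Cfsg.Agent.H56.QPNil

/-!
Pairs with `a b a = 0 = b a b`: the commutator lies in one root subspace.
-/

set_option autoImplicit false
set_option linter.unusedSectionVars false

namespace H56Q

open Cfsg LinearMap

variable {k : Type*} [Field k] {M : Type*} [AddCommGroup M] [Module k M] [FiniteDimensional k M]
variable {G : Subgroup (GLM k M)} {a b x y : Module.End k M}

theorem finrank_map_add (f : Module.End k M) (W : Submodule k M) :
    Module.finrank k (W.map f) + Module.finrank k (W ⊓ ker f : Submodule k M) =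
      Module.finrank k W := by
  have h := LinearMap.finrank_range_add_finrank_ker (f.domRestrict W)
  rw [LinearMap.range_domRestrict, LinearMap.ker_domRestrict] at h
  have e : Module.finrank k (LinearMap.ker f |>.comap W.subtype) =
      Module.finrank k (W ⊓ ker f : Submodule k M) := by
    rw [← Submodule.finrank_map_subtype_eq]
    rw [Submodule.map_comap_subtype]
  first
    | omega
    | (rw [e] at h; exact h)

theorem range_mul (f g : Module.End k M) : range (f * g) = (range g).map f :=
  LinearMap.range_comp g f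

theorem map_range_le_ker (h : a * b * a = 0) : (range a).map b ≤ range b ⊓ ker a := by
  rintro _ ⟨_, ⟨m, rfl⟩, rfl⟩
  exact ⟨mem_range_self b _, by show (a * b * a) m = 0; rw [h]; rfl⟩

theorem finrank_map_add_map (ha : MinQ G a) (hb : MinQ G b) (h1 : a * b * a = 0) :
    Module.finrank k ((range b).map a) + Module.finrank k ((range a).map b) ≤ rk a := by
  have h := finrank_map_add a (range b)
  have h' := Submodule.finrank_mono (map_range_le_ker (k := k) h1)
  have := ha.rk_eq hb
  unfold rk at *
  omega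

/-- the structure of a pair with non-zero commutator -/
theorem comm_struct (ha : MinQ G a) (hb : MinQ G b) (h1 : a * b * a = 0) (h2 : b * a * b = 0)
    (hne : a * b ≠ b * a) :
    MinQ G (a * b - b * a) ∧ (range b).map a = range a ⊓ ker b ∧
    (range a).map b = range b ⊓ ker a ∧ Disjoint ((range b).map a) ((range a).map b) ∧
    range (a * b - b * a) = (range a ⊓ ker b) ⊔ (range b ⊓ ker a) ∧
    ker (a * b - b * a) = (range a ⊔ ker b) ⊓ (range b ⊔ ker a) := by
  set g := a * b - b * a with hg
  have hg0 : g ≠ 0 := sub_ne_zero.mpr hne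
  have hgF : Fam G g := ha.fam.bracket hb.fam h1 h2
  set A := (range b).map a with hA
  set B := (range a).map b with hB
  have hle : range g ≤ A ⊔ B := by
    rintro _ ⟨m, rfl⟩
    exact Submodule.sub_mem _ (Submodule.mem_sup_left ⟨_, mem_range_self b m, rfl⟩)
      (Submodule.mem_sup_right ⟨_, mem_range_self a m, rfl⟩)
  have h3 : rk a ≤ rk g := ha.min g hgF hg0
  have h4 : rk g ≤ Module.finrank k (A ⊔ B : Submodule k M) := Submodule.finrank_mono hle
  have h5 := Submodule.finrank_sup_add_finrank_inf_eq A B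
  have h6 := finrank_map_add_map ha hb h1
  rw [← hA, ← hB] at h6
  have hBle : B ≤ range b ⊓ ker a := map_range_le_ker h1
  have hAle : A ≤ range a ⊓ ker b := map_range_le_ker h2
  have e1 := finrank_map_add a (range b)
  have e2 := finrank_map_add b (range a)
  rw [← hA] at e1
  rw [← hB] at e2
  have hAB := ha.rk_eq hb
  have hU : Module.finrank k (range a) = rk a := rfl
  have hW : Module.finrank k (range b) = rk b := rfl
  have hA' : A = range a ⊓ ker b := Submodule.eq_of_le_of_finrank_le hAle (by omega)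
  have hB' : B = range b ⊓ ker a := Submodule.eq_of_le_of_finrank_le hBle (by omega)
  have hd : Disjoint A B := by
    rw [disjoint_iff, ← Submodule.finrank_eq_zero (R := k)]; omega
  have hr : range g = A ⊔ B := Submodule.eq_of_le_of_finrank_le hle (by
    show _ ≤ rk g
    omega)
  have hgM : MinQ G g := ha.of_rk_le hgF hg0 (by omega)
  refine ⟨hgM, hA', hB', hd, by rw [hr, hA', hB'], ?_⟩
  have ka : LinearMap.ker (a * b) = range a ⊔ ker b := by
    apply le_antisymm
    · intro m hm
      have hbm : b m ∈ range b ⊓ ker a := ⟨mem_range_self b m, hm⟩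
      rw [← hB'] at hbm
      obtain ⟨u, hu, e⟩ := hbm
      rw [show m = u + (m - u) by abel]
      exact Submodule.add_mem_sup hu (by show b (m - u) = 0; rw [map_sub, e, sub_self])
    · refine sup_le ?_ ?_
      · rintro _ ⟨m, rfl⟩; show (a * b * a) m = 0; rw [h1]; rfl
      · intro m (hm : b m = 0); show a (b m) = 0; rw [hm, map_zero]
  have kb : LinearMap.ker (b * a) = range b ⊔ ker a := by
    apply le_antisymm
    · intro m hm
      have ham : a m ∈ range a ⊓ ker b := ⟨mem_range_self a m, hm⟩
      rw [← hA'] at ham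
      obtain ⟨u, hu, e⟩ := ham
      rw [show m = u + (m - u) by abel]
      exact Submodule.add_mem_sup hu (by show a (m - u) = 0; rw [map_sub, e, sub_self])
    · refine sup_le ?_ ?_
      · rintro _ ⟨m, rfl⟩; show (b * a * b) m = 0; rw [h2]; rfl
      · intro m (hm : a m = 0); show b (a m) = 0; rw [hm, map_zero]
  rw [← ka, ← kb]
  symm
  have hsub : LinearMap.ker (a * b) ⊓ LinearMap.ker (b * a) ≤ LinearMap.ker g := by
    rintro m ⟨hm1, hm2⟩
    show (a * b) m - (b * a) m = 0
    rw [show (a * b) m = 0 from hm1, show (b * a) m = 0 from hm2, sub_self]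
  refine Submodule.eq_of_le_of_finrank_le hsub ?_
  have f1 := finrank_range_add_finrank_ker (a * b)
  have f2 := finrank_range_add_finrank_ker (b * a)
  have f3 := finrank_range_add_finrank_ker g
  have f4 := Submodule.finrank_sup_add_finrank_inf_eq (LinearMap.ker (a * b)) (LinearMap.ker (b * a))
  have f5 := Submodule.finrank_le (LinearMap.ker (a * b) ⊔ LinearMap.ker (b * a))
  rw [range_mul, ← hA] at f1
  rw [range_mul, ← hB] at f2
  have : rk g = Module.finrank k (range g) := rfl
  omega

theorem isNilpotent_of_eq_zero (h : a * b * a = 0) : IsNilpotent (b * a) :=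
  ⟨2, by rw [sq, show b * a * (b * a) = b * (a * b * a) by simp only [mul_assoc], h, mul_zero]⟩

/-- a pair stays such a pair inside the root subspaces -/
theorem pair_transfer (h2' : (2 : k) ≠ 0) (ha : MinQ G a) (hb : MinQ G b) (h1 : a * b * a = 0)
    (hx : InRoot G a x) (hx0 : x ≠ 0) (hy : InRoot G b y) (hy0 : y ≠ 0) :
    x * y * x = 0 ∧ y * x * y = 0 := by
  obtain ⟨hxM, hxr, hxk⟩ := hx.eq_of_ne ha hx0
  obtain ⟨hyM, hyr, hyk⟩ := hy.eq_of_ne hb hy0
  have hxb : x * b * x = 0 := by
    refine LinearMap.ext fun m => ?_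
    have : x m ∈ range a := hxr ▸ mem_range_self x m
    obtain ⟨n, hn⟩ := this
    show x (b (x m)) = 0
    have : b (x m) ∈ ker a := by rw [← hn]; show (a * b * a) n = 0; rw [h1]; rfl
    exact (hxk ▸ this : b (x m) ∈ ker x)
  have hbx := (aba_bab_zero h2' hxM hb (isNilpotent_of_eq_zero hxb)).2
  have hyxy : y * x * y = 0 := by
    refine LinearMap.ext fun m => ?_
    have : y m ∈ range b := hyr ▸ mem_range_self y m
    obtain ⟨n, hn⟩ := this
    show y (x (y m)) = 0
    have : x (y m) ∈ ker b := by rw [← hn]; show (b * x * b) n = 0; rw [hbx]; rfl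
    exact (hyk ▸ this : x (y m) ∈ ker y)
  exact ⟨(aba_bab_zero h2' hyM hxM (isNilpotent_of_eq_zero hyxy)).2, hyxy⟩

theorem commute_all (h2' : (2 : k) ≠ 0) (ha : MinQ G a) (hb : MinQ G b) (hab : a * b = b * a)
    (hx : InRoot G a x) (hy : InRoot G b y) : x * y = y * x := by
  by_cases hx0 : x = 0
  · rw [hx0, zero_mul, mul_zero]
  by_cases hy0 : y = 0
  · rw [hy0, zero_mul, mul_zero]
  by_contra hne
  have h1 : a * b * a = 0 := by rw [hab, mul_assoc, ha.sq, mul_zero]
  have h2 : b * a * b = 0 := by rw [← hab, mul_assoc, hb.sq, mul_zero]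
  obtain ⟨g1, g2⟩ := pair_transfer h2' ha hb h1 hx hx0 hy hy0
  obtain ⟨hxM, hxr, hxk⟩ := hx.eq_of_ne ha hx0
  obtain ⟨hyM, hyr, hyk⟩ := hy.eq_of_ne hb hy0
  obtain ⟨hg, hA, hB, hd, hr, -⟩ := comm_struct hxM hyM g1 g2 hne
  rw [hxr, hyr, hyk] at hA
  rw [hxr, hyr, hxk] at hB
  rw [hxr, hyr] at hd
  rw [hA, hB] at hd
  have i1 : (range b).map a ≤ range a ⊓ ker b := map_range_le_ker h2
  have i2 : (range a).map b ≤ range b ⊓ ker a := map_range_le_ker h1
  have e1 := finrank_map_add a (range b)
  have e2 := finrank_map_add b (range a)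
  have e3 := finrank_map_add x (range b)
  rw [hxk, hA] at e3
  have e4 := finrank_map_add y (range a)
  rw [hyk, hB] at e4
  have hAB := ha.rk_eq hb
  unfold rk at hAB
  have j1 : (range b).map a = range a ⊓ ker b := Submodule.eq_of_le_of_finrank_le i1 (by omega)
  have j2 : (range a).map b = range b ⊓ ker a := Submodule.eq_of_le_of_finrank_le i2 (by omega)
  have heq : range a ⊓ ker b = range b ⊓ ker a := by
    rw [← j1, ← j2, ← range_mul, ← range_mul, hab]
  rw [heq, disjoint_self] at hd
  rw [hxr, hyr, hxk, hyk, heq, hd, sup_bot_eq] at hr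
  exact hg.ne (LinearMap.range_eq_bot.mp hr)

/-- the commutators of one pair of root subspaces fill one root subspace -/
theorem bracket_mem (h2' : (2 : k) ≠ 0) (ha : MinQ G a) (hb : MinQ G b) (h1 : a * b * a = 0)
    (h2 : b * a * b = 0) (hne : a * b ≠ b * a) (hx : InRoot G a x) (hy : InRoot G b y) :
    InRoot G (a * b - b * a) (x * y - y * x) := by
  by_cases hx0 : x = 0
  · rw [hx0]; simpa using InRoot.zero
  by_cases hy0 : y = 0
  · rw [hy0]; simpa using InRoot.zero
  obtain ⟨g1, g2⟩ := pair_transfer h2' ha hb h1 hx hx0 hy hy0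
  obtain ⟨hxM, hxr, hxk⟩ := hx.eq_of_ne ha hx0
  obtain ⟨hyM, hyr, hyk⟩ := hy.eq_of_ne hb hy0
  have hne' : x * y ≠ y * x := fun e => hne (commute_all h2' hxM hyM e
    ⟨ha.fam, hxr.ge, hxk.le⟩ ⟨hb.fam, hyr.ge, hyk.le⟩)
  obtain ⟨hg, -, -, -, hr, hk⟩ := comm_struct hxM hyM g1 g2 hne'
  obtain ⟨-, -, -, -, hr', hk'⟩ := comm_struct ha hb h1 h2 hne
  rw [hxr, hyr, hxk, hyk] at hr hk
  exact ⟨hg.fam, (hr.trans hr'.symm).le, (hk'.trans hk.symm).le⟩

/-- a root element normalising another root subspace commutes with it -/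
theorem commute_of_normalizing (h2' : (2 : k) ≠ 0) (hx : MinQ G x) (hb : MinQ G b)
    (hn : InRoot G b (cj x b)) : x * b = b * x := by
  have hbxb : b * x * b = 0 := by
    refine LinearMap.ext fun m => ?_
    show b (x (b m)) = 0
    have h : cj x b m ∈ range b := hn.2.1 (mem_range_self _ m)
    have h' : cj x b (m + x m) ∈ range b := hn.2.1 (mem_range_self _ _)
    have hxx : x (x m) = 0 := by show (x * x) m = 0; rw [hx.sq]; rfl
    have e : cj x b (m + x m) = b m + x (b m) := by
      show (1 + x) (b ((1 - x) (m + x m))) = _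
      simp [hxx, LinearMap.add_apply, LinearMap.sub_apply]
    rw [e] at h'
    have h3 : x (b m) ∈ range b := by
      have := Submodule.sub_mem _ h' (mem_range_self b m)
      simpa using this
    obtain ⟨n, hn'⟩ := h3
    rw [← hn']
    show (b * b) n = 0
    rw [hb.sq]; rfl
  have hxbx := (aba_bab_zero h2' hb hx (isNilpotent_of_eq_zero hbxb)).2
  by_contra hne
  obtain ⟨hg, hA, hB, -, hr, hk⟩ := comm_struct hx hb hxbx hbxb hne
  have hroot : InRoot G b (x * b - b * x) := by
    have e : x * b - b * x = cj x b + (-1 : k) • b := by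
      rw [show cj x b = cj ((1 : k) • x) b by rw [one_smul], cj_smul, hxbx, neg_one_smul, one_smul,
        one_smul, smul_zero, sub_zero]
      abel
    rw [e]
    exact hn.add hb.sq ((InRoot.self hb.fam).smul _)
  obtain ⟨-, hr2, hk2⟩ := hroot.eq_of_ne hb hg.ne
  have hx_le : range x ≤ ker b := by
    rw [← hk2]
    rintro _ ⟨m, rfl⟩
    show x (b (x m)) - b (x (x m)) = 0
    rw [show x (x m) = (x * x) m from rfl, hx.sq, show x (b (x m)) = (x * b * x) m from rfl, hxbx]
    simp
  have hxW : range (x * b - b * x) ≤ range x := by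
    rintro _ ⟨m, rfl⟩
    show x (b m) - b (x m) ∈ range x
    rw [show b (x m) = 0 from hx_le (mem_range_self x m), sub_zero]
    exact mem_range_self x _
  rw [hr2] at hxW
  apply hne
  have hbx : b * x = 0 := LinearMap.ext fun m => hx_le (mem_range_self x m)
  rw [hbx]
  refine LinearMap.ext fun m => ?_
  obtain ⟨n, e⟩ := hxW (mem_range_self b m)
  show x (b m) = 0
  rw [← e]
  show (x * x) n = 0
  rw [hx.sq]; rfl

end H56Q
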