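import Cfsg.Agent.H56.QPComm

/-!
Subgroup versions: root subgroups, unipotent action, class two.
-/

set_option autoImplicit false
set_option linter.unusedSectionVars false

namespace H56Q

open Cfsg LinearMap

variable {k : Type*} [Field k] {M : Type*} [AddCommGroup M] [Module k M] [FiniteDimensional k M]
variable {G : Subgroup (GLM k M)} {a b x y : Module.End k M}

theorem two_ne_zero' (hk2 : ringChar k ≠ 2) : (2 : k) ≠ 0 := Ring.two_ne_zero hk2

/-- `A` is the root subgroup of `a` -/
def IsRootOf (G : Subgroup (GLM k M)) (A : Subgroup (GLM k M)) (a : Module.End k M) : Prop :=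
  MinQ G a ∧ ∀ g : GLM k M, g ∈ A ↔ InRoot G a ((g : Module.End k M) - 1)

theorem exists_isRootOf {A : Subgroup (GLM k M)} (hA : A ∈ quadraticRootSubgroups G) :
    ∃ a, IsRootOf G A a := mem_quadraticRoot hA

theorem IsRootOf.qu_mem {A : Subgroup (GLM k M)} (h : IsRootOf G A a) (hx : InRoot G a x) :
    qu x hx.1.1 ∈ A := (h.2 _).mpr (by simpa using hx)

theorem IsRootOf.le {A : Subgroup (GLM k M)} (h : IsRootOf G A a) : A ≤ G := fun g hg => by
  have hx := (h.2 g).mp hg
  exact hx.1.mem_of_eq (c := 1) (by simp)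

theorem IsRootOf.change {A : Subgroup (GLM k M)} (h : IsRootOf G A a) (hx : InRoot G a x)
    (hx0 : x ≠ 0) : IsRootOf G A x := by
  obtain ⟨hM, hr, hk⟩ := hx.eq_of_ne h.1 hx0
  refine ⟨hM, fun g => (h.2 g).trans ?_⟩
  unfold InRoot
  rw [hr, hk]

theorem IsRootOf.mem_quadraticRoot {A : Subgroup (GLM k M)} (h : IsRootOf G A a) :
    A ∈ quadraticRootSubgroups G := by
  refine ⟨_, minimal_of_minQ h.1, Subgroup.ext fun g => ?_⟩
  rw [h.2 g, mem_sameAction (minimal_of_minQ h.1)]
  simp

theorem isNilpotent_of_unipotentOn {H : Subgroup (GLM k M)} (hu : IsUnipotentOn H)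
    (ha : a * a = 0) (hb : b * b = 0) (haH : qu a ha ∈ H) (hbH : qu b hb ∈ H) :
    IsNilpotent (b * a) := by
  obtain ⟨n, hn⟩ := hu
  let l : ℕ → List (GLM k M) := fun j => (List.replicate j [qu b hb, qu a ha]).flatten
  have hl : ∀ j, ∀ g ∈ l j, g ∈ H := by
    intro j g hg
    simp only [l, List.mem_flatten, List.mem_replicate] at hg
    obtain ⟨_, ⟨-, rfl⟩, hg⟩ := hg
    rcases List.mem_cons.mp hg with rfl | hg
    · exact hbH
    · rw [List.mem_singleton] at hg; exact hg ▸ haH
  have hlen : ∀ j, (l j).length = 2 * j := fun j => by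
    simp [l, List.length_flatten, mul_comm]
  have hprod : ∀ j, ((l j).map fun g : GLM k M => (g : Module.End k M) - 1).prod = (b * a) ^ j := by
    intro j
    induction j with
    | zero => simp [l]
    | succ j ih =>
      have : l (j + 1) = [qu b hb, qu a ha] ++ l j := by simp [l, List.replicate_succ]
      rw [this, List.map_append, List.prod_append, ih, pow_succ']
      simp
  refine ⟨n, ?_⟩
  rw [← hprod, ← List.take_append_drop n (l n), List.map_append, List.prod_append]
  have := hn ((l n).take n) (fun g hg => hl n g (List.mem_of_mem_take hg))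
    (by rw [List.length_take, hlen]; omega)
  simp only [List.pure_def, List.bind_eq_flatMap, ← List.map_eq_flatMap, List.map_map] at this
  simp only [Function.comp_def] at this
  rw [this, zero_mul]

theorem bab_zero_of_class_two (h2 : (2 : k) ≠ 0) (ha : Fam G a) (hb : Fam G b)
    (h : ∀ c : k, cj (c • a) b * b = b * cj (c • a) b) : b * a * b = 0 := by
  have hb2 : ∀ r, b * (b * r) = 0 := fun r => by rw [← mul_assoc, hb.1, zero_mul]
  have key : ∀ c : k, (2 * c) • (b * a * b) + (c * c) • (a * b * a * b - b * a * b * a) = 0 := by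
    intro c
    have := sub_eq_zero.mpr (h c).symm
    rw [cj_smul] at this
    simp only [mul_add, mul_sub, add_mul, sub_mul, smul_mul_assoc, mul_smul_comm, mul_assoc, hb2,
      hb.1, mul_zero, smul_zero, zero_add, sub_zero] at this
    rw [← this]
    simp only [smul_sub, two_mul, add_smul, mul_assoc]
    abel
  have h4 := congrArg₂ (· - ·) (key 1) (key (-1))
  simp only [mul_one, mul_neg, neg_neg, neg_smul, sub_zero] at h4
  have : (4 : k) • (b * a * b) = 0 := by
    rw [← h4, show (4 : k) = 2 + 2 by norm_num, add_smul]; abel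
  refine (smul_eq_zero.mp this).resolve_left ?_
  rw [show (4 : k) = 2 * 2 by norm_num]; exact mul_ne_zero h2 h2

theorem commute_of_mem {E F : Subgroup (GLM k M)} (hcomm : ∀ x y, InRoot G a x → InRoot G b y →
    x * y = y * x) (hE : IsRootOf G E a) (hF : IsRootOf G F b) : ⁅E, F⁆ = ⊥ := by
  rw [Subgroup.commutator_eq_bot_iff_le_centralizer]
  intro e he
  rw [Subgroup.mem_centralizer_iff]
  intro f hf
  apply Units.ext
  have := hcomm _ _ ((hE.2 e).mp he) ((hF.2 f).mp hf)
  simp only [Units.val_mul]
  calc (f : Module.End k M) * e = ((f : Module.End k M) - 1) * ((e : Module.End k M) - 1) +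
        ((f : Module.End k M) - 1) + ((e : Module.End k M) - 1) + 1 := by
        rw [sub_mul, mul_sub, mul_one, one_mul]; abel
    _ = _ := by rw [← this, sub_mul, mul_sub, mul_one, one_mul]; abel

end H56Q
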