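import Cfsg.Agent.H56.QPFinite
import Cfsg.Agent.H56.QPSub

/-!
A pair of least rank with non-nilpotent `b a`: `k[z]` is a field on `a`, and all its multiples
lie in the group.
-/

set_option autoImplicit false
set_option linter.unusedSectionVars false

universe u

namespace H56Q

open Polynomial LinearMap

variable {k : Type u} [Field k] {M : Type*} [AddCommGroup M] [Module k M] [FiniteDimensional k M]
variable {G H : Subgroup (GLM k M)} {a b : Module.End k M}

theorem card_ge_four (h2 : (2 : k) ≠ 0) (h3 : Nat.card k ≠ 3) [Finite k] : 4 ≤ Nat.card k := by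
  have h1 : 1 < Nat.card k := Finite.one_lt_card
  have : Nat.card k ≠ 2 := by
    intro h
    apply h2
    have := Fintype.ofFinite k
    have h0 := Nat.cast_card_eq_zero k
    rw [← Nat.card_eq_fintype_card, h] at h0
    simpa using h0
  omega

theorem fam_power (h2 : (2 : k) ≠ 0) (h3 : Nat.card k ≠ 3) (ha : Fam H a) (hb : Fam H b) :
    ∃ e : ℕ, ∀ r : k[X], X ^ e ∣ r → Fam H (aeval (zed a b) r * a) := by
  cases finite_or_infinite k with
  | inl h => exact fam_finite h2 (card_ge_four h2 h3) ha hb
  | inr h => exact ⟨0, fun r _ => fam_all_infinite h2 ha hb r⟩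

theorem pow_zed_mul (ha : a * a = 0) (n : ℕ) : zed a b ^ n * a = a * (b * a) ^ n := by
  induction n with
  | zero => simp
  | succ n ih =>
    rw [pow_succ', mul_assoc, ih, ← mul_assoc, (zed_commute_left ha).eq, pow_succ' (b * a) n,
      zed, mul_add, ← mul_assoc a a b, ha, zero_mul, zero_add]
    simp only [mul_assoc]

theorem core_left (h2 : (2 : k) ≠ 0) (h3 : Nat.card k ≠ 3) (hHG : H ≤ G) (ha : Fam H a)
    (hb : Fam H b) (hA : MinQ G a) (hn : ¬ IsNilpotent (b * a)) :
    ∃ f : k[X], f.Monic ∧ Irreducible f ∧ f.coeff 0 ≠ 0 ∧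
      (∀ P : k[X], aeval (zed a b) P * a = 0 ↔ f ∣ P) ∧
      ∀ r : k[X], Fam H (aeval (zed a b) r * a) := by
  set z := zed a b
  classical
  obtain ⟨e, he⟩ := fam_power (b := b) h2 h3 ha hb
  have hzn : ∀ n, aeval z (X ^ n : k[X]) * a ≠ 0 := by
    intro n h
    apply hn
    rw [aeval_X_pow, pow_zed_mul ha.1] at h
    exact ⟨n + 1, by rw [pow_succ', mul_assoc, h, mul_zero]⟩
  have hrange : ∀ P : k[X], X ^ e ∣ P → aeval z P * a ≠ 0 →
      range (aeval z P * a) = range a := by
    intro P hP h0
    refine Submodule.eq_of_le_of_finrank_le ?_ (hA.min _ (Fam.mono hHG (he P hP)) h0)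
    rw [(aev_commute_left ha.1 P).eq]
    exact LinearMap.range_comp_le_range _ _
  let I : Ideal k[X] :=
    { carrier := {P | aeval z P * a = 0}
      zero_mem' := by simp
      add_mem' := fun {P Q} hP hQ => by
        show aeval z (P + Q) * a = 0
        rw [map_add, add_mul, hP, hQ, add_zero]
      smul_mem' := fun Q P hP => by
        show aeval z (Q • P) * a = 0
        rw [smul_eq_mul, map_mul, mul_assoc, hP, mul_zero] }
  have hkill : ∀ P Q : k[X], range (aeval z P * a) = range a → aeval z Q * (aeval z P * a) = 0 →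
      aeval z Q * a = 0 := by
    intro P Q hr h
    refine LinearMap.ext fun m => ?_
    obtain ⟨n, hn'⟩ : a m ∈ range (aeval z P * a) := hr ▸ mem_range_self a m
    show aeval z Q (a m) = 0
    rw [← hn']
    exact LinearMap.congr_fun h n
  have hprime : I.IsPrime := by
    refine ⟨fun h => hzn 0 ?_, fun {P Q} hPQ => ?_⟩
    · have h1 : aeval z (1 : k[X]) * a = 0 :=
        (h ▸ Submodule.mem_top : (1 : k[X]) ∈ I)
      rwa [← pow_zero (X : k[X])] at h1
    · change aeval z (P * Q) * a = 0 at hPQ
      show aeval z P * a = 0 ∨ aeval z Q * a = 0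
      have hXe := hrange (X ^ e) dvd_rfl (hzn e)
      by_cases h : aeval z (X ^ e * P) * a = 0
      · left
        refine hkill _ P hXe ?_
        rw [← mul_assoc, ← map_mul, mul_comm P]; exact h
      · right
        refine hkill _ Q (hrange _ (dvd_mul_right _ _) h) ?_
        rw [← mul_assoc, ← map_mul, show Q * (X ^ e * P) = X ^ e * (P * Q) by ring, map_mul,
          mul_assoc, hPQ, mul_zero]
  have hIne : I ≠ ⊥ := by
    intro h
    have : minpoly k z ∈ I := by
      show aeval z (minpoly k z) * a = 0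
      rw [minpoly.aeval, zero_mul]
    rw [h, Ideal.mem_bot] at this
    exact minpoly.ne_zero (Algebra.IsIntegral.isIntegral z) this
  obtain ⟨g, hg⟩ := (IsPrincipalIdealRing.principal I).principal
  have hg0 : g ≠ 0 := fun h => hIne (by rw [hg, h]; simp)
  have hgI : ∀ P, aeval z P * a = 0 ↔ g ∣ P := fun P => by
    rw [← Ideal.mem_span_singleton, ← Ideal.submodule_span_eq, ← hg]; rfl
  have hgp : Prime g := by
    refine (Ideal.span_singleton_prime hg0).mp ?_
    rw [← Ideal.submodule_span_eq, ← hg]; exact hprime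
  refine ⟨normalize g, Polynomial.monic_normalize hg0, ?_, ?_, fun P => ?_, ?_⟩
  · exact ((normalize_associated g).symm.irreducible hgp.irreducible)
  · intro h
    have hX : X ∣ normalize g := X_dvd_iff.mpr h
    have : Associated (X : k[X]) (normalize g) :=
      irreducible_X.associated_of_dvd ((normalize_associated g).symm.irreducible hgp.irreducible) hX
    refine hzn 1 ((hgI _).mpr ?_)
    rw [pow_one]
    exact ((this.trans (normalize_associated g)).symm).dvd
  · rw [hgI P, normalize_dvd_iff]
  · intro r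
    have hco : IsCoprime (X ^ e) g := by
      refine IsCoprime.pow_left ((irreducible_X.coprime_iff_not_dvd).mpr fun hX => hzn 1 ((hgI _).mpr ?_))
      rw [pow_one]
      exact (irreducible_X.associated_of_dvd hgp.irreducible hX).symm.dvd
    obtain ⟨u, v, huv⟩ := hco
    have h1 : aeval z r * a = aeval z (X ^ e * (u * r)) * a := by
      have : aeval z (r - X ^ e * (u * r)) * a = 0 := (hgI _).mpr ⟨v * r, by linear_combination (-r) * huv⟩
      rwa [map_sub, sub_mul, sub_eq_zero] at this
    rw [h1]
    exact he _ (dvd_mul_right _ _)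

theorem not_nilpotent_symm (h : ¬ IsNilpotent (b * a)) : ¬ IsNilpotent (a * b) := by
  rintro ⟨n, hn⟩
  refine h ⟨n + 1, ?_⟩
  have : ∀ n, (b * a) ^ (n + 1) = b * (a * b) ^ n * a := by
    intro n
    induction n with
    | zero => simp
    | succ n ih => rw [pow_succ, ih, pow_succ]; simp only [mul_assoc]
  rw [this, hn, mul_zero, zero_mul]

/-- the field data of a non-nilpotent pair -/
structure CoreData (H : Subgroup (GLM k M)) (a b : Module.End k M) where
  f : k[X]
  monic : f.Monic
  irr : Irreducible f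
  coeff_zero : f.coeff 0 ≠ 0
  left_iff : ∀ P : k[X], aeval (zed a b) P * a = 0 ↔ f ∣ P
  right_iff : ∀ P : k[X], aeval (zed a b) P * b = 0 ↔ f ∣ P
  famA : ∀ r : k[X], Fam H (aeval (zed a b) r * a)
  famB : ∀ r : k[X], Fam H (aeval (zed a b) r * b)

theorem nonempty_core (h2 : (2 : k) ≠ 0) (h3 : Nat.card k ≠ 3) (hHG : H ≤ G) (ha : Fam H a)
    (hb : Fam H b) (hA : MinQ G a) (hB : MinQ G b) (hn : ¬ IsNilpotent (b * a)) :
    Nonempty (CoreData H a b) := by
  obtain ⟨f, fm, fi, f0, fiff, famA⟩ := core_left h2 h3 hHG ha hb hA hn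
  obtain ⟨g, gm, gi, g0, giff, famB⟩ := core_left h2 h3 hHG hb ha hB (not_nilpotent_symm hn)
  simp only [zed_comm] at giff famB
  have hfg : f = g := by
    have h1 : aeval (zed a b) (f * X) * b = 0 := by
      have h2' : aeval (zed a b) f * (b * a * b) = 0 := by
        rw [← mul_assoc, ← mul_assoc, (aev_commute_right hb.1 f).eq, mul_assoc b, (fiff f).mpr dvd_rfl,
          mul_zero, zero_mul]
      rw [map_mul, aeval_X, mul_assoc, show zed a b * b = b * a * b by
        rw [zed, add_mul, mul_assoc a b b, hb.1, mul_zero, zero_add]]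
      exact h2'
    have hdvd : g ∣ f := by
      rcases gi.prime.dvd_or_dvd ((giff _).mp h1) with h | h
      · exact h
      · exact absurd (X_dvd_iff.mp ((gi.associated_of_dvd irreducible_X h).symm.dvd)) g0
    exact eq_of_monic_of_associated fm gm ((gi.associated_of_dvd fi hdvd).symm)
  subst hfg
  exact ⟨⟨f, fm, fi, f0, fiff, giff, famA, famB⟩⟩

end H56Q
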