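import Mathlib
import Cfsg.Prelude.Def_RootSubgroups

/-!
Quadratic pairs: the one parameter families `1 + c a`, elements of least rank, root subgroups.
-/

set_option autoImplicit false
set_option linter.unusedSectionVars false

namespace H56Q

open Cfsg

variable {k : Type*} [Field k] {M : Type*} [AddCommGroup M] [Module k M]

/-- the linear group of `M` -/
abbrev GLM (k M : Type*) [Field k] [AddCommGroup M] [Module k M] :=
  LinearMap.GeneralLinearGroup k M

/-- the unit `1 + a` for `a` of square zero -/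
def qu (a : Module.End k M) (ha : a * a = 0) : GLM k M where
  val := 1 + a
  inv := 1 - a
  val_inv := by simp [mul_sub, add_mul, ha]
  inv_val := by simp [mul_add, sub_mul, ha]

@[simp] theorem coe_qu (a : Module.End k M) (ha : a * a = 0) :
    ((qu a ha : GLM k M) : Module.End k M) = 1 + a := rfl

theorem coe_qu_inv (a : Module.End k M) (ha : a * a = 0) :
    (((qu a ha)⁻¹ : GLM k M) : Module.End k M) = 1 - a := rfl

/-- the family `1 + c a` lies in `G` -/
def Fam (G : Subgroup (GLM k M)) (a : Module.End k M) : Prop :=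
  a * a = 0 ∧ ∀ c : k, ∃ g ∈ G, (g : Module.End k M) = 1 + c • a

variable {G : Subgroup (GLM k M)} {a b : Module.End k M}

theorem sq_smul (ha : a * a = 0) (c : k) : (c • a) * (c • a) = 0 := by
  rw [smul_mul_smul_comm, ha, smul_zero]

theorem Fam.sq (h : Fam G a) : a * a = 0 := h.1

theorem Fam.qu_mem (h : Fam G a) : qu a h.1 ∈ G := by
  obtain ⟨g, hg, e⟩ := h.2 1
  rw [one_smul] at e
  exact (Units.ext e : g = qu a h.1) ▸ hg

theorem Fam.smul (h : Fam G a) (c : k) : Fam G (c • a) :=
  ⟨sq_smul h.1 c, fun d => by rw [smul_smul]; exact h.2 (d * c)⟩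

theorem Fam.mem_of_eq (h : Fam G a) {g : GLM k M} {c : k}
    (e : (g : Module.End k M) = 1 + c • a) : g ∈ G := by
  obtain ⟨g', hg', e'⟩ := h.2 c
  rwa [Units.ext (e.trans e'.symm)]

theorem Fam.zero : Fam G (0 : Module.End k M) :=
  ⟨zero_mul 0, fun c => ⟨1, one_mem G, by simp⟩⟩

theorem Fam.neg (h : Fam G a) : Fam G (-a) := by simpa using h.smul (-1)

theorem Fam.mono {H : Subgroup (GLM k M)} (hHG : H ≤ G) (h : Fam H a) : Fam G a :=
  ⟨h.1, fun c => let ⟨g, hg, e⟩ := h.2 c; ⟨g, hHG hg, e⟩⟩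

theorem Fam.add (ha : Fam G a) (hb : Fam G b) (h1 : a * b = 0) (h2 : b * a = 0) : Fam G (a + b) := by
  refine ⟨by simp [add_mul, mul_add, ha.1, hb.1, h1, h2], fun c => ?_⟩
  obtain ⟨g, hg, eg⟩ := ha.2 c
  obtain ⟨g', hg', eg'⟩ := hb.2 c
  refine ⟨g * g', mul_mem hg hg', ?_⟩
  rw [Units.val_mul, eg, eg']
  simp only [mul_add, add_mul, one_mul, mul_one, smul_mul_smul_comm, h1, smul_zero, smul_add]
  abel

theorem conj_coe (g : GLM k M) {x : GLM k M} (e : (x : Module.End k M) = 1 + a) :
    ((g * x * g⁻¹ : GLM k M) : Module.End k M) =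
      1 + (g : Module.End k M) * a * ((g⁻¹ : GLM k M) : Module.End k M) := by
  rw [Units.val_mul, Units.val_mul, e, mul_add, mul_one, add_mul, Units.mul_inv]

theorem Fam.conj {g : GLM k M} (hg : g ∈ G) (h : Fam G a) :
    Fam G ((g : Module.End k M) * a * ((g⁻¹ : GLM k M) : Module.End k M)) := by
  refine ⟨?_, fun c => ?_⟩
  · simp only [mul_assoc, Units.inv_mul_cancel_left]
    rw [← mul_assoc a a, h.1, zero_mul, mul_zero]
  · obtain ⟨x, hx, e⟩ := h.2 c
    refine ⟨g * x * g⁻¹, mul_mem (mul_mem hg hx) (inv_mem hg), ?_⟩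
    rw [conj_coe g e, mul_smul_comm, smul_mul_assoc]

/-- conjugation of `b` by `1 + a` -/
def cj (a b : Module.End k M) : Module.End k M := (1 + a) * b * (1 - a)

theorem Fam.cj (ha : Fam G a) (hb : Fam G b) : Fam G (cj a b) :=
  hb.conj ha.qu_mem

/-- `dim (a M)` -/
noncomputable def rk (a : Module.End k M) : ℕ := Module.finrank k (LinearMap.range a)

variable [FiniteDimensional k M]

omit [FiniteDimensional k M] in
theorem rk_smul {c : k} (hc : c ≠ 0) (a : Module.End k M) : rk (c • a) = rk a := by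
  rw [rk, rk, LinearMap.range_smul a c hc]

theorem rk_pos (ha : a ≠ 0) : 0 < rk a := by
  rw [rk, Nat.pos_iff_ne_zero]
  intro h
  exact ha (LinearMap.range_eq_bot.mp (Submodule.finrank_eq_zero.mp h))

theorem rk_conj (g : GLM k M) (a : Module.End k M) :
    rk ((g : Module.End k M) * a * ((g⁻¹ : GLM k M) : Module.End k M)) = rk a := by
  let e : M ≃ₗ[k] M := LinearMap.GeneralLinearGroup.toLinearEquiv g
  have h : LinearMap.range ((g : Module.End k M) * a * ((g⁻¹ : GLM k M) : Module.End k M)) =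
      (LinearMap.range a).map e.toLinearMap := by
    ext x
    simp only [LinearMap.mem_range, Submodule.mem_map]
    constructor
    · rintro ⟨y, rfl⟩
      exact ⟨_, ⟨((g⁻¹ : GLM k M) : Module.End k M) y, rfl⟩, rfl⟩
    · rintro ⟨_, ⟨y, rfl⟩, rfl⟩
      exact ⟨(g : Module.End k M) y, by simp [Module.End.mul_apply, ← Module.End.mul_apply, e]; rfl⟩
  rw [rk, rk, h]
  exact LinearEquiv.finrank_map_eq e _

/-- a non-zero family element of least rank -/
structure MinQ (G : Subgroup (GLM k M)) (a : Module.End k M) : Prop where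
  fam : Fam G a
  ne : a ≠ 0
  min : ∀ x, Fam G x → x ≠ 0 → rk a ≤ rk x

theorem MinQ.sq (h : MinQ G a) : a * a = 0 := h.fam.1

theorem MinQ.smul (h : MinQ G a) {c : k} (hc : c ≠ 0) : MinQ G (c • a) :=
  ⟨h.fam.smul c, smul_ne_zero hc h.ne, fun x hx hx0 => (rk_smul hc a).trans_le (h.min x hx hx0)⟩

theorem MinQ.conj {g : GLM k M} (hg : g ∈ G) (h : MinQ G a) :
    MinQ G ((g : Module.End k M) * a * ((g⁻¹ : GLM k M) : Module.End k M)) := by
  refine ⟨h.fam.conj hg, fun h0 => h.ne ?_, fun x hx hx0 => (rk_conj g a).trans_le (h.min x hx hx0)⟩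
  apply LinearMap.range_eq_bot.mp
  apply Submodule.finrank_eq_zero.mp
  show rk a = 0
  rw [← rk_conj g a, h0, rk, LinearMap.range_zero, finrank_bot]

theorem MinQ.cj (ha : Fam G a) (hb : MinQ G b) : MinQ G (cj a b) :=
  hb.conj ha.qu_mem

theorem MinQ.rk_eq (ha : MinQ G a) (hb : MinQ G b) : rk a = rk b :=
  le_antisymm (ha.min b hb.fam hb.ne) (hb.min a ha.fam ha.ne)

theorem MinQ.of_rk_le (ha : MinQ G a) (hb : Fam G b) (hb0 : b ≠ 0) (h : rk b ≤ rk a) : MinQ G b :=
  ⟨hb, hb0, fun x hx hx0 => h.trans (ha.min x hx hx0)⟩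

/-! ### translation -/

omit [FiniteDimensional k M] in
theorem fam_of_quadratic {σ : GLM k M} (h : σ ∈ quadraticElements G) :
    Fam G ((σ : Module.End k M) - 1) := by
  refine ⟨h.2.1.1, fun c => ?_⟩
  have hsq : (c • ((σ : Module.End k M) - 1)) * (c • ((σ : Module.End k M) - 1)) = 0 :=
    sq_smul h.2.1.1 c
  exact ⟨qu _ hsq, h.2.2 ⟨c, rfl⟩, rfl⟩

omit [FiniteDimensional k M] in
theorem qu_mem_quadratic (ha : Fam G a) (h0 : a ≠ 0) : qu a ha.1 ∈ quadraticElements G := by
  refine ⟨ha.qu_mem, ⟨?_, ?_⟩, ?_⟩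
  · simpa using ha.1
  · simpa using h0
  · rintro τ ⟨c, hc⟩
    exact ha.mem_of_eq (c := c) (by simpa using hc)

omit [FiniteDimensional k M] in
theorem commutatorRank_eq (σ : GLM k M) : commutatorRank σ = rk ((σ : Module.End k M) - 1) := rfl

theorem minQ_of_minimal {σ : GLM k M} (h : σ ∈ minimalQuadraticElements G) :
    MinQ G ((σ : Module.End k M) - 1) := by
  refine ⟨fam_of_quadratic h.1, h.1.2.1.2, fun x hx hx0 => ?_⟩
  have := h.2 _ (qu_mem_quadratic hx hx0)
  rwa [commutatorRank_eq, commutatorRank_eq, coe_qu, add_sub_cancel_left] at this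

theorem minimal_of_minQ (ha : MinQ G a) : qu a ha.fam.1 ∈ minimalQuadraticElements G := by
  refine ⟨qu_mem_quadratic ha.fam ha.ne, fun τ hτ => ?_⟩
  rw [commutatorRank_eq, commutatorRank_eq, coe_qu, add_sub_cancel_left]
  exact ha.min _ (fam_of_quadratic hτ) hτ.2.1.2

/-- the elements of the root subspace of `a` -/
def InRoot (G : Subgroup (GLM k M)) (a x : Module.End k M) : Prop :=
  Fam G x ∧ LinearMap.range x ≤ LinearMap.range a ∧ LinearMap.ker a ≤ LinearMap.ker x

omit [FiniteDimensional k M] in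
theorem mul_eq_zero_of_le {x y : Module.End k M} (hx : LinearMap.ker a ≤ LinearMap.ker x)
    (hy : LinearMap.range y ≤ LinearMap.range a) (ha : a * a = 0) : x * y = 0 := by
  refine LinearMap.ext fun m => ?_
  obtain ⟨n, hn⟩ := hy (LinearMap.mem_range_self y m)
  show x (y m) = 0
  rw [← hn]
  refine hx ?_
  show (a * a) n = 0
  rw [ha]; rfl

omit [FiniteDimensional k M] in
theorem InRoot.add (ha : a * a = 0) {x y : Module.End k M} (hx : InRoot G a x)
    (hy : InRoot G a y) : InRoot G a (x + y) := by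
  refine ⟨hx.1.add hy.1 (mul_eq_zero_of_le hx.2.2 hy.2.1 ha) (mul_eq_zero_of_le hy.2.2 hx.2.1 ha),
    ?_, fun m hm => ?_⟩
  · rintro _ ⟨m, rfl⟩
    exact Submodule.add_mem _ (hx.2.1 (LinearMap.mem_range_self x m)) (hy.2.1 (LinearMap.mem_range_self y m))
  · have h1 : x m = 0 := hx.2.2 hm
    have h2 : y m = 0 := hy.2.2 hm
    show x m + y m = 0
    rw [h1, h2, add_zero]

omit [FiniteDimensional k M] in
theorem InRoot.self (ha : Fam G a) : InRoot G a a := ⟨ha, le_rfl, le_rfl⟩

omit [FiniteDimensional k M] in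
theorem InRoot.zero : InRoot G a 0 :=
  ⟨Fam.zero, by rw [LinearMap.range_zero]; exact bot_le, by rw [LinearMap.ker_zero]; exact le_top⟩

omit [FiniteDimensional k M] in
theorem InRoot.smul {x : Module.End k M} (hx : InRoot G a x) (c : k) : InRoot G a (c • x) := by
  refine ⟨hx.1.smul c, ?_, fun m hm => ?_⟩
  · rintro _ ⟨m, rfl⟩
    exact Submodule.smul_mem _ c (hx.2.1 (LinearMap.mem_range_self x m))
  · show c • x m = 0
    rw [(hx.2.2 hm : x m = 0), smul_zero]

theorem InRoot.eq_of_ne (ha : MinQ G a) {x : Module.End k M} (hx : InRoot G a x) (h0 : x ≠ 0) :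
    MinQ G x ∧ LinearMap.range x = LinearMap.range a ∧ LinearMap.ker x = LinearMap.ker a := by
  have h1 : rk a ≤ rk x := ha.min x hx.1 h0
  have h2 : rk x ≤ rk a := Submodule.finrank_mono hx.2.1
  have hr : LinearMap.range x = LinearMap.range a := Submodule.eq_of_le_of_finrank_le hx.2.1 h1
  refine ⟨ha.of_rk_le hx.1 h0 h2, hr, (Submodule.eq_of_le_of_finrank_le hx.2.2 ?_).symm⟩
  have e1 := LinearMap.finrank_range_add_finrank_ker x
  have e2 := LinearMap.finrank_range_add_finrank_ker a
  rw [hr] at e1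
  omega

/-- membership in `E(σ)` -/
theorem mem_sameAction {σ : GLM k M} (hσ : σ ∈ minimalQuadraticElements G) {g : GLM k M} :
    g ∈ sameActionSubgroup G σ ↔
      InRoot G ((σ : Module.End k M) - 1) ((g : Module.End k M) - 1) := by
  set a := (σ : Module.End k M) - 1 with hadef
  have ha : MinQ G a := minQ_of_minimal hσ
  constructor
  · intro h
    induction h using Subgroup.closure_induction with
    | mem x hx => exact ⟨fam_of_quadratic hx.1.1, hx.2.2.le, hx.2.1.ge⟩
    | one =>
      rw [show ((1 : GLM k M) : Module.End k M) - 1 = 0 by rw [Units.val_one, sub_self]]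
      exact InRoot.zero
    | mul x y _ _ hx hy =>
      have e : ((x * y : GLM k M) : Module.End k M) - 1 =
          ((x : Module.End k M) - 1) + ((y : Module.End k M) - 1) := by
        have h0 := mul_eq_zero_of_le hx.2.2 hy.2.1 ha.sq
        rw [sub_mul, mul_sub, one_mul, mul_one, sub_sub, sub_eq_zero] at h0
        rw [Units.val_mul, h0]
        abel
      rw [e]
      exact hx.add ha.sq hy
    | inv x _ hx =>
      have hs : ((x : Module.End k M) - 1) * ((x : Module.End k M) - 1) = 0 :=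
        mul_eq_zero_of_le hx.2.2 hx.2.1 ha.sq
      have hxe : x = qu _ hs := Units.ext (by simp)
      have e : ((x⁻¹ : GLM k M) : Module.End k M) - 1 = (-1 : k) • ((x : Module.End k M) - 1) := by
        conv_lhs => rw [hxe, coe_qu_inv]
        rw [neg_one_smul]; abel
      rw [e]
      exact hx.smul (-1)
  · intro h
    by_cases h0 : (g : Module.End k M) - 1 = 0
    · rw [show g = 1 from Units.ext (sub_eq_zero.mp h0)]
      exact one_mem _
    · obtain ⟨hq, hr, hk⟩ := h.eq_of_ne ha h0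
      refine Subgroup.subset_closure ⟨?_, hk, hr⟩
      convert minimal_of_minQ hq using 1
      exact Units.ext (by simp)

theorem mem_quadraticRoot {A : Subgroup (GLM k M)} (hA : A ∈ quadraticRootSubgroups G) :
    ∃ a, MinQ G a ∧ ∀ g : GLM k M, g ∈ A ↔ InRoot G a ((g : Module.End k M) - 1) := by
  obtain ⟨σ, hσ, rfl⟩ := hA
  exact ⟨_, minQ_of_minimal hσ, fun g => mem_sameAction hσ⟩

end H56Q
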