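import Cfsg.Agent.H56.QPChain

/-!
Over an infinite field the families of `a` and `b` contain those of all `r(z) a`.
-/

set_option autoImplicit false
set_option linter.unusedSectionVars false

namespace H56Q

open Polynomial

variable {k : Type*} [Field k] {M : Type*} [AddCommGroup M] [Module k M]
variable {H : Subgroup (GLM k M)} {a b : Module.End k M}

/-- the polynomials `r` such that the family of `r(z) a` lies in `H` -/
noncomputable def famPolys (ha : Fam H a) (b : Module.End k M) : Submodule k k[X] where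
  carrier := {r | Fam H (aeval (zed a b) r * a)}
  zero_mem' := by
    show Fam H (aeval (zed a b) (0 : k[X]) * a)
    rw [map_zero, zero_mul]; exact Fam.zero
  add_mem' {r s} hr hs := by
    show Fam H (aeval (zed a b) (r + s) * a)
    have h0 : ∀ P Q : k[X], aeval (zed a b) P * a * (aeval (zed a b) Q * a) = 0 := fun P Q => by
      rw [mul_assoc, ← mul_assoc a, ← (aev_commute_left ha.1 Q).eq, mul_assoc, ha.1, mul_zero, mul_zero]
    rw [map_add, add_mul]
    exact hr.add hs (h0 r s) (h0 s r)
  smul_mem' c r hr := by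
    show Fam H (aeval (zed a b) (c • r) * a)
    rw [map_smul, smul_mul_assoc]
    exact hr.smul c

theorem mem_famPolys {ha : Fam H a} {r : k[X]} :
    r ∈ famPolys ha b ↔ Fam H (aeval (zed a b) r * a) := Iff.rfl

variable [FiniteDimensional k M]

theorem fam_all_infinite [Infinite k] (h2 : (2 : k) ≠ 0) (ha : Fam H a) (hb : Fam H b) (r : k[X]) :
    Fam H (aeval (zed a b) r * a) := by
  classical
  let z := zed a b
  let F : k[X] := X * minpoly k z
  have hz : IsIntegral k z := Algebra.IsIntegral.isIntegral z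
  have hFm : F.Monic := monic_X.mul (minpoly.monic hz)
  have hFz : aeval z F = 0 := by rw [map_mul, minpoly.aeval, mul_zero]
  set n := F.natDegree with hndef
  have hn : 1 ≤ n := by
    rw [hndef, natDegree_X_mul (minpoly.ne_zero hz)]; omega
  obtain ⟨A, hS, hc⟩ := exists_chain n F hFm.coeff_natDegree
    (fun i hi => coeff_eq_zero_of_natDegree_lt hi)
  set S := famPolys ha b
  have hsq : ∀ (A' : k[X]), Shape n A' (X * F) → Chain n A' (X * F) → A' * A' ∈ S := by
    intro A' hS' hc'
    obtain ⟨g, hg, g00, g10⟩ := chain_reach n _ _ hS' hc'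
    have hf := fam_sq_of_triangular ha hb hFz hg
      ⟨C (A'.coeff 0)⁻¹, by rw [g10]; ring⟩
    have h0 := Chain.coeff_zero_ne hS' hc'
    have := S.smul_mem (A'.coeff 0 * A'.coeff 0) (show g 0 0 * g 0 0 ∈ S from hf)
    rwa [g00, Polynomial.smul_eq_C_mul, show C (A'.coeff 0 * A'.coeff 0) *
      (C (A'.coeff 0)⁻¹ * A' * (C (A'.coeff 0)⁻¹ * A')) =
      C (A'.coeff 0 * (A'.coeff 0)⁻¹ * (A'.coeff 0 * (A'.coeff 0)⁻¹)) * (A' * A') by
        rw [C_mul, C_mul, C_mul]; ring, mul_inv_cancel₀ h0, one_mul, C_1, one_mul] at this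
  have hone : (1 : k[X]) ∈ S := by
    show Fam H (aeval z (1 : k[X]) * a)
    rwa [map_one, one_mul]
  have hline : ∀ (A' : k[X]), Shape n A' (X * F) → Chain n A' (X * F) → ∀ j, j ≤ n →
      A' * X ^ j ∈ S ∧ X ^ j * X ^ j ∈ S ∧
        ∃ u : k, u ≠ 0 ∧ Chain n (A' + C u * X ^ j) (X * F) ∧ Shape n (A' + C u * X ^ j) (X * F) := by
    intro A' hS' hc' j hj
    have hev : ∀ t : k, (A'.map C + C (X : k[X]) * (X : k[X][X]) ^ j).map (evalRingHom t) =
        A' + C t * X ^ j := fun t => by simp [Polynomial.map_map, evalRingHom_comp_C]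
    have hev2 : ∀ t : k, ((X * F).map C).map (evalRingHom t) = X * F := fun t => by
      simp [Polynomial.map_map, evalRingHom_comp_C]
    obtain ⟨T, hT, hT'⟩ := chain_open n (A'.map C + C (X : k[X]) * (X : k[X][X]) ^ j)
      ((X * F).map C) 0 (by rw [hev, hev2]; simpa using hc')
    have hsh : ∀ t : k, Shape n (A' + C t * X ^ j) (X * F) := fun t =>
      ⟨fun i hi => by rw [coeff_add, hS'.1 i hi, coeff_C_mul_X_pow, if_neg (by omega), add_zero],
        hS'.2⟩
    have hgood : ∀ t, t ∉ T → (A' + C t * X ^ j) * (A' + C t * X ^ j) ∈ S := fun t ht =>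
      hsq _ (hsh t) (by have := hT' t ht; rwa [hev, hev2] at this)
    obtain ⟨u, hu⟩ := (hT.union (Set.finite_singleton (0 : k))).exists_notMem
    simp only [Set.mem_union, Set.mem_singleton_iff, not_or] at hu
    obtain ⟨w, hw⟩ := ((hT.union (Set.finite_singleton (0 : k))).union
      (Set.finite_singleton u)).exists_notMem
    simp only [Set.mem_union, Set.mem_singleton_iff, not_or] at hw
    have h0 := hsq A' hS' hc'
    set P := A' * X ^ j
    set Q : k[X] := X ^ j * X ^ j
    have key : ∀ t, t ∉ T → t ≠ 0 → (2 : k) • P + t • Q ∈ S := by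
      intro t ht ht0
      have h1 := S.smul_mem t⁻¹ (S.sub_mem (hgood t ht) h0)
      convert h1 using 1
      rw [smul_eq_C_mul, smul_eq_C_mul, smul_eq_C_mul]
      calc C 2 * P + C t * Q = C 2 * (C t⁻¹ * C t) * P + C t * (C t⁻¹ * C t) * Q := by
            rw [← C_mul (a := t⁻¹), inv_mul_cancel₀ ht0, C_1, mul_one, mul_one]
        _ = _ := by
            simp only [P, Q, map_ofNat]; ring
    have hQ : Q ∈ S := by
      have h1 := S.smul_mem (w - u)⁻¹ (S.sub_mem (key w hw.1.1 hw.1.2) (key u hu.1 hu.2))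
      convert h1 using 1
      rw [add_sub_add_left_eq_sub, ← sub_smul, smul_smul, inv_mul_cancel₀ (sub_ne_zero.mpr hw.2),
        one_smul]
    have hP : P ∈ S := by
      have h1 := S.smul_mem (2 : k)⁻¹ (S.sub_mem (key u hu.1 hu.2) (S.smul_mem u hQ))
      rwa [add_sub_cancel_right, smul_smul, inv_mul_cancel₀ h2, one_smul] at h1
    refine ⟨hP, hQ, u, hu.2, ?_, hsh u⟩
    have := hT' u hu.1
    rwa [hev, hev2] at this
  have hpow : ∀ i j, i ≤ n → j ≤ n → X ^ (i + j) ∈ S := by
    intro i j hi hj
    obtain ⟨hAj, -, -⟩ := hline A hS hc j hj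
    obtain ⟨-, -, u, hu, hc', hS'⟩ := hline A hS hc i hi
    obtain ⟨hA'j, -, -⟩ := hline _ hS' hc' j hj
    have h1 := S.smul_mem u⁻¹ (S.sub_mem hA'j hAj)
    convert h1 using 1
    rw [smul_eq_C_mul, pow_add]
    calc X ^ i * X ^ j = (C u⁻¹ * C u) * (X ^ i * X ^ j) := by
          rw [← C_mul, inv_mul_cancel₀ hu, C_1, one_mul]
      _ = _ := by ring
  have hall : ∀ m, X ^ m ∈ S := by
    intro m
    induction m using Nat.strong_induction_on with
    | _ m ih =>
      rcases le_or_gt m (2 * n) with hm | hm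
      · rcases le_or_gt m n with hm' | hm'
        · simpa using hpow 0 m (Nat.zero_le _) hm'
        · have := hpow (m - n) n (by omega) le_rfl
          rwa [Nat.sub_add_cancel hm'.le] at this
      · have hX : X ^ (m - n) * F ∈ S := by
          show Fam H (aeval z (X ^ (m - n) * F) * a)
          rw [map_mul, hFz, mul_zero, zero_mul]; exact Fam.zero
        have he : X ^ m = X ^ (m - n) * F -
            ∑ i ∈ Finset.range n, F.coeff i • X ^ (m - n + i) := by
          conv_rhs => arg 1; rw [hFm.as_sum, ← hndef]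
          rw [mul_add, ← pow_add, Nat.sub_add_cancel (by omega), Finset.mul_sum]
          simp only [smul_eq_C_mul, pow_add]
          rw [add_sub_assoc, ← Finset.sum_sub_distrib]
          rw [Finset.sum_eq_zero fun i _ => by ring, add_zero]
        rw [he]
        refine S.sub_mem hX (S.sum_mem fun i hi => S.smul_mem _ (ih _ ?_))
        rw [Finset.mem_range] at hi
        omega
  show r ∈ S
  rw [r.as_sum_range_C_mul_X_pow]
  exact S.sum_mem fun i _ => by rw [← smul_eq_C_mul]; exact S.smul_mem _ (hall i)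

end H56Q
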