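import Cfsg.Agent.H56.QPStepB
import Cfsg.Agent.H56.QPBase
import Cfsg.Agent.H56.QPInf

/-!
Over a finite field the families of `a` and `b` contain those of `r(z) a`, `r` in a power of `X`.
-/

set_option autoImplicit false
set_option linter.unusedSectionVars false

universe u

namespace H56Q

open Polynomial Matrix

variable {k : Type u} [Field k]

/-- reduction of the polynomial group modulo `f` -/
noncomputable def redGroup (f : k[X]) : Subgroup (SpecialLinearGroup (Fin 2) (AdjoinRoot f)) :=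
  (polyGroup k).map (SpecialLinearGroup.map (AdjoinRoot.mk f))

theorem redGroup_up (f : k[X]) (c : k) : upr (algebraMap k (AdjoinRoot f) c) ∈ redGroup f :=
  ⟨_, polyGroup_upr c, by rw [map_upr, AdjoinRoot.mk_C, AdjoinRoot.algebraMap_eq]⟩

theorem redGroup_low (f : k[X]) (c : k) :
    lwr (algebraMap k (AdjoinRoot f) c * AdjoinRoot.root f) ∈ redGroup f :=
  ⟨_, polyGroup_lwr c, by
    rw [map_lwr, map_mul, AdjoinRoot.mk_C, AdjoinRoot.mk_X, AdjoinRoot.algebraMap_eq, mul_comm]⟩

theorem finite_adjoinRoot [Finite k] {f : k[X]} (hf : f ≠ 0) : Finite (AdjoinRoot f) :=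
  haveI : Module.Finite k (AdjoinRoot f) := (AdjoinRoot.powerBasis hf).finite
  Module.finite_of_finite k

theorem redGroup_full [Finite k] (h2 : (2 : k) ≠ 0) (hk : 4 ≤ Nat.card k) :
    ∀ (n : ℕ) (f : k[X]), f.natDegree = n → f.coeff 0 ≠ 0 → FullRoots (redGroup f) := by
  intro n
  induction n using Nat.strong_induction_on with
  | _ n ih =>
    intro f hn hf0
    have hf : f ≠ 0 := fun h => hf0 (by simp [h])
    by_cases hu : IsUnit f
    · intro r
      have : Subsingleton (AdjoinRoot f) := by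
        rw [← not_nontrivial_iff_subsingleton]
        intro hnt
        have : AdjoinRoot.mk f (1 : k[X]) = 0 := AdjoinRoot.mk_eq_zero.mpr hu.dvd
        rw [map_one] at this
        exact one_ne_zero this
      refine ⟨?_, ?_⟩
      · rw [Subsingleton.elim r 0, upr_zero]; exact one_mem _
      · rw [Subsingleton.elim r 0, lwr_zero]; exact one_mem _
    obtain ⟨π, hπ, f', rfl⟩ := WfDvdMonoid.exists_irreducible_factor hu hf
    haveI : Fact (Irreducible π) := ⟨hπ⟩
    have hf'0 : f'.coeff 0 ≠ 0 := fun h => hf0 (by simp [mul_coeff_zero, h])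
    have hπ0 : π.coeff 0 ≠ 0 := fun h => hf0 (by simp [mul_coeff_zero, h])
    have hf' : f' ≠ 0 := fun h => hf'0 (by simp [h])
    have hπne : π ≠ 0 := hπ.ne_zero
    have hπd : 0 < π.natDegree := hπ.natDegree_pos
    haveI := finite_adjoinRoot (k := k) hπne
    by_cases hu' : IsUnit f'
    · -- irreducible
      haveI : Fact (Irreducible (π * f')) := ⟨(irreducible_mul_isUnit hu').mpr hπ⟩
      haveI := finite_adjoinRoot (k := k) hf
      refine base_full h2 hk (AdjoinRoot.root (π * f')) ?_ (AdjoinRoot.adjoinRoot_eq_top)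
        _ (redGroup_up _) (redGroup_low _)
      rw [← AdjoinRoot.mk_X, Ne, AdjoinRoot.mk_eq_zero]
      intro hd
      have := (irreducible_mul_isUnit hu').mpr hπ
      have hX : Associated (π * f') X := this.associated_of_dvd irreducible_X hd
      obtain ⟨v, hv⟩ := hX.symm
      exact hf0 (by rw [← hv]; simp [mul_coeff_zero])
    have hdeg' : f'.natDegree < n := by
      rw [← hn, natDegree_mul hπne hf']; omega
    have hdegπ : π.natDegree < n := by
      rw [← hn, natDegree_mul hπne hf']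
      have : 0 < f'.natDegree := by
        by_contra h
        exact hu' (isUnit_iff_degree_eq_zero.mpr (by
          rw [degree_eq_natDegree hf']; simp [Nat.eq_zero_of_not_pos h]))
      omega
    have hFullπ := (ih _ hdegπ π rfl hπ0).eq_top_field
    have hFull' := ih _ hdeg' f' rfl hf'0
    haveI := finite_adjoinRoot (k := k) hf
    set R := AdjoinRoot (π * f')
    let mkf := AdjoinRoot.mk (π * f')
    let ρ : R →+* AdjoinRoot f' := AdjoinRoot.lift (algebraMap k _) (AdjoinRoot.root f') (by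
      rw [eval₂_mul, AdjoinRoot.algebraMap_eq, AdjoinRoot.eval₂_root, mul_zero])
    let σ : R →+* AdjoinRoot π := AdjoinRoot.lift (algebraMap k _) (AdjoinRoot.root π) (by
      rw [eval₂_mul, AdjoinRoot.algebraMap_eq, AdjoinRoot.eval₂_root, zero_mul])
    have hρmk : ∀ p, ρ (mkf p) = AdjoinRoot.mk f' p := fun p => by
      show AdjoinRoot.lift _ _ _ (AdjoinRoot.mk _ p) = _
      rw [AdjoinRoot.lift_mk, ← AdjoinRoot.aeval_eq, aeval_def]
    have hσmk : ∀ p, σ (mkf p) = AdjoinRoot.mk π p := fun p => by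
      show AdjoinRoot.lift _ _ _ (AdjoinRoot.mk _ p) = _
      rw [AdjoinRoot.lift_mk, ← AdjoinRoot.aeval_eq, aeval_def]
    have hρc : ρ.comp mkf = AdjoinRoot.mk f' := RingHom.ext hρmk
    have hσc : σ.comp mkf = AdjoinRoot.mk π := RingHom.ext hσmk
    have hlu : IsUnit (AdjoinRoot.root (π * f')) := by
      have hco : IsCoprime (X : k[X]) (π * f') :=
        (irreducible_X.coprime_iff_not_dvd).mpr fun hd => hf0 (by
          obtain ⟨v, hv⟩ := hd; rw [hv]; simp)
      obtain ⟨p, q, e⟩ := hco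
      refine IsUnit.of_mul_eq_one (mkf p) ?_
      have := congrArg mkf e
      rw [map_add, map_mul, map_mul, show mkf (π * f') = 0 from AdjoinRoot.mk_self, mul_zero,
        add_zero, map_one, show mkf X = AdjoinRoot.root (π * f') from AdjoinRoot.mk_X] at this
      exact (mul_comm _ _).trans this
    obtain ⟨linv, hlinv⟩ := hlu.exists_right_inv
    have hgen : Algebra.adjoin k ({linv} : Set R) = ⊤ := by
      rw [eq_top_iff, ← AdjoinRoot.adjoinRoot_eq_top]
      refine Algebra.adjoin_le ?_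
      rintro _ rfl
      obtain ⟨u, hu⟩ := (IsUnit.of_mul_eq_one (AdjoinRoot.root (π * f'))
        ((mul_comm _ _).trans hlinv) : IsUnit linv)
      obtain ⟨m, hm, hm1⟩ := (isOfFinOrder_of_finite u).exists_pow_eq_one
      obtain ⟨j, rfl⟩ : ∃ j, m = j + 1 := ⟨m - 1, by omega⟩
      have e : linv ^ j = AdjoinRoot.root (π * f') := by
        have h1 : linv ^ (j + 1) = 1 := by rw [← hu, ← Units.val_pow_eq_pow_val, hm1, Units.val_one]
        calc linv ^ j = linv ^ j * (AdjoinRoot.root (π * f') * linv) := by rw [hlinv, mul_one]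
          _ = AdjoinRoot.root (π * f') * linv ^ (j + 1) := by rw [pow_succ]; ring
          _ = _ := by rw [h1, mul_one]
      rw [← e]
      exact pow_mem (Algebra.self_mem_adjoin_singleton k linv) j
    let D : StepData k R (AdjoinRoot f') (AdjoinRoot π) :=
      { H := redGroup (π * f')
        lam := AdjoinRoot.root (π * f')
        linv := linv
        lam_inv := hlinv
        gen := hgen
        ρ := ρ
        σ := σ
        ρ_surj := fun y => by obtain ⟨p, rfl⟩ := AdjoinRoot.mk_surjective y; exact ⟨_, hρmk p⟩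
        σ_surj := fun y => by obtain ⟨p, rfl⟩ := AdjoinRoot.mk_surjective y; exact ⟨_, hσmk p⟩
        φ := mkf f'
        ρφ := by rw [hρmk, AdjoinRoot.mk_self]
        φ_ne := fun h => by
          obtain ⟨t, ht⟩ := AdjoinRoot.mk_eq_zero.mp h
          have h1 : f' * 1 = f' * (π * t) := by rw [mul_one]; linear_combination ht
          exact hπ.not_isUnit (IsUnit.of_mul_eq_one t (mul_left_cancel₀ hf' h1).symm)
        span := fun x hx => by
          obtain ⟨p, rfl⟩ := AdjoinRoot.mk_surjective x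
          rw [hρmk, AdjoinRoot.mk_eq_zero] at hx
          obtain ⟨t, rfl⟩ := hx
          exact ⟨mkf t, (congrArg mkf (mul_comm f' t)).trans (map_mul mkf t f')⟩
        ann := fun x hx => by
          obtain ⟨p, rfl⟩ := AdjoinRoot.mk_surjective x
          rw [hσmk, AdjoinRoot.mk_eq_zero] at hx
          obtain ⟨t, rfl⟩ := hx
          rw [← map_mul, AdjoinRoot.mk_eq_zero]
          exact ⟨t, by ring⟩
        up_mem := redGroup_up _
        low_mem := redGroup_low _
        liftρ := fun r => by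
          obtain ⟨⟨g, hg, e⟩, g', hg', e'⟩ := hFull' r
          have hcomp : ∀ x, SpecialLinearGroup.map ρ (SpecialLinearGroup.map mkf x) =
              SpecialLinearGroup.map (AdjoinRoot.mk f') x := fun x => by
            exact ext2 (hρmk _) (hρmk _) (hρmk _) (hρmk _)
          exact ⟨⟨_, Subgroup.mem_map_of_mem _ hg, (hcomp g).trans e⟩,
            _, Subgroup.mem_map_of_mem _ hg', (hcomp g').trans e'⟩
        liftσ := fun g₀ => by
          obtain ⟨g, hg, e⟩ : g₀ ∈ redGroup π := hFullπ ▸ Subgroup.mem_top _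
          exact ⟨_, Subgroup.mem_map_of_mem _ hg,
            (ext2 (hσmk _) (hσmk _) (hσmk _) (hσmk _) : SpecialLinearGroup.map σ
              (SpecialLinearGroup.map mkf g) = SpecialLinearGroup.map (AdjoinRoot.mk π) g).trans e⟩ }
    refine D.full h2 hk (le_trans hk ?_)
    exact Nat.card_le_card_of_injective _ (algebraMap k (AdjoinRoot π)).injective

variable {M : Type*} [AddCommGroup M] [Module k M] [FiniteDimensional k M]
variable {H : Subgroup (GLM k M)} {a b : Module.End k M}

theorem fam_finite [Finite k] (h2 : (2 : k) ≠ 0) (hk : 4 ≤ Nat.card k) (ha : Fam H a)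
    (hb : Fam H b) :
    ∃ e : ℕ, ∀ r : k[X], X ^ e ∣ r → Fam H (aeval (zed a b) r * a) := by
  classical
  let z := zed a b
  obtain ⟨p, hp⟩ := CharP.exists k
  haveI := hp
  haveI hpf : Fact p.Prime := ⟨CharP.char_is_prime k p⟩
  have hne : minpoly k z ≠ 0 := minpoly.ne_zero (Algebra.IsIntegral.isIntegral z)
  obtain ⟨f, hF, hfX⟩ := exists_eq_pow_rootMultiplicity_mul_and_not_dvd (minpoly k z) hne 0
  simp only [map_zero, sub_zero] at hF hfX
  set e := (minpoly k z).rootMultiplicity 0
  have hFz : aeval z (X ^ e * f) = 0 := hF ▸ minpoly.aeval k z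
  have hf0 : f.coeff 0 ≠ 0 := fun h => hfX (X_dvd_iff.mpr h)
  have hfne : f ≠ 0 := fun h => hf0 (by simp [h])
  refine ⟨e, ?_⟩
  -- a torus element killing the unipotent part
  have hFull := redGroup_full h2 hk f.natDegree f rfl hf0
  obtain ⟨m, hm⟩ : ∃ m, e + 1 ≤ p ^ m := ⟨e + 1, Nat.le_of_lt (Nat.lt_pow_self hpf.out.one_lt)⟩
  haveI : Fintype k := Fintype.ofFinite k
  obtain ⟨c, -, hc⟩ := Finset.exists_mem_notMem_of_card_lt_card
    (s := ({0, 1, -1} : Finset k)) (t := Finset.univ) (by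
      rw [Finset.card_univ, ← Nat.card_eq_fintype_card]
      have := Finset.card_le_three (a := (0 : k)) (b := 1) (c := -1)
      omega)
  simp only [Finset.mem_insert, Finset.mem_singleton, not_or] at hc
  set S := AdjoinRoot f
  let φ := algebraMap k S
  obtain ⟨d, hd0, hd1, hd2, hd3, -⟩ :=
    diag_eq (t := φ c) (s := φ c⁻¹) (by rw [← map_mul, mul_inv_cancel₀ hc.1, map_one])
  obtain ⟨g₀, hg₀, hg₀d⟩ : d ∈ redGroup f :=
    hFull.mem_of_unit d (s := φ c⁻¹) (by rw [hd0, ← map_mul, mul_inv_cancel₀ hc.1, map_one])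
  set N := p ^ (m + 1)
  set g := g₀ ^ N with hg
  have hgm : g ∈ polyGroup k := pow_mem hg₀ N
  have hgpow : ∀ q : SpecialLinearGroup (Fin 2) k[X], InGamma q →
      ∀ i j, X ^ (e + 1) ∣ ((q ^ N) i j - (1 : Matrix (Fin 2) (Fin 2) k[X]) i j) := by
    intro q hq i j
    let A := AdjoinRoot ((X : k[X]) ^ (e + 1))
    let μ := AdjoinRoot.mk ((X : k[X]) ^ (e + 1))
    have hpA : (p : A) = 0 := by rw [← map_natCast (algebraMap k A), CharP.cast_eq_zero, map_zero]
    haveI : Nontrivial A := by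
      refine ⟨⟨1, 0, ?_⟩⟩
      rw [← map_one μ, Ne, AdjoinRoot.mk_eq_zero]
      intro hd
      exact not_isUnit_X (isUnit_of_dvd_one ((dvd_pow_self X (Nat.succ_ne_zero e)).trans hd))
    haveI : CharP A p := (CharP.charP_iff_prime_eq_zero hpf.out).mpr hpA
    obtain ⟨g1, g2, g3⟩ := hq
    -- split off the constant upper entry
    have hqp : X ∣ (q ^ p) 0 0 - 1 ∧ X ∣ (q ^ p) 0 1 ∧ X ∣ (q ^ p) 1 0 ∧ X ∣ (q ^ p) 1 1 - 1 := by
      let ev : k[X] →+* k := constantCoeff
      have h1 : SpecialLinearGroup.map ev q = upr ((q 0 1).coeff 0) :=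
        ext2 (by simpa [ev] using g1) (by simp [ev]) (by simpa [ev] using g2) (by simpa [ev] using g3)
      have hup : ∀ n : ℕ, upr ((q 0 1).coeff 0) ^ n = upr ((n : k) * (q 0 1).coeff 0) := by
        intro n
        induction n with
        | zero => simp [upr_zero]
        | succ n ihn => rw [pow_succ, ihn, ← upr_add]; congr 1; push_cast; ring
      have h2 : SpecialLinearGroup.map ev (q ^ p) = 1 := by
        rw [map_pow, h1, hup, CharP.cast_eq_zero, zero_mul, upr_zero]
      obtain ⟨a1, a2, a3, a4⟩ := map_entries ev h2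
      simp [ev] at a1 a2 a3 a4
      refine ⟨?_, ?_, ?_, ?_⟩ <;> rw [X_dvd_iff] <;> simp [a1, a2, a3, a4]
    obtain ⟨t, ht⟩ : ∃ t : Matrix (Fin 2) (Fin 2) k[X],
        ((q ^ p : SpecialLinearGroup (Fin 2) k[X]) : Matrix (Fin 2) (Fin 2) k[X]) =
          1 + (X : k[X]) • t := by
      obtain ⟨⟨a1, b1⟩, ⟨a2, b2⟩, ⟨a3, b3⟩, ⟨a4, b4⟩⟩ := hqp
      refine ⟨!![a1, a2; a3, a4], Matrix.ext fun i j => ?_⟩
      fin_cases i <;> fin_cases j <;>
        simp only [Fin.zero_eta, Fin.mk_one, Fin.isValue, Matrix.add_apply, Matrix.smul_apply,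
          Matrix.of_apply, Matrix.cons_val', Matrix.cons_val_zero, Matrix.cons_val_one,
          Matrix.cons_val_fin_one, smul_eq_mul, Matrix.one_apply_eq, ne_eq, zero_ne_one, one_ne_zero,
          not_false_eq_true, Matrix.one_apply_ne, zero_add] <;>
        first | linear_combination b1 | linear_combination b2 | linear_combination b3 | linear_combination b4
    let μm : Matrix (Fin 2) (Fin 2) k[X] →+* Matrix (Fin 2) (Fin 2) A := μ.mapMatrix
    haveI : CharP (Matrix (Fin 2) (Fin 2) A) p := Matrix.charP p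
    have key : μm ((1 + (X : k[X]) • t) ^ (p ^ m)) = 1 := by
      rw [map_pow, map_add, map_one, add_pow_char_pow_of_commute _ _ (Commute.one_left _), one_pow,
        ← map_pow, _root_.smul_pow]
      have : μm ((X : k[X]) ^ p ^ m • t ^ p ^ m) = 0 := by
        ext i' j'
        show μ (((X : k[X]) ^ p ^ m • t ^ p ^ m) i' j') = 0
        rw [Matrix.smul_apply, smul_eq_mul, AdjoinRoot.mk_eq_zero]
        exact Dvd.dvd.mul_right (pow_dvd_pow X hm) _
      rw [this, add_zero]
    have hpowN : ((q ^ N : SpecialLinearGroup (Fin 2) k[X]) : Matrix (Fin 2) (Fin 2) k[X]) =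
        (1 + (X : k[X]) • t) ^ (p ^ m) := by
      have hNe : q ^ N = (q ^ p) ^ (p ^ m) := by rw [← pow_mul, ← pow_succ']
      rw [hNe]
      exact Eq.trans (Matrix.SpecialLinearGroup.coe_pow (q ^ p) (p ^ m)) (congrArg (fun A : Matrix (Fin 2) (Fin 2) k[X] => A ^ p ^ m) ht)
    rw [← AdjoinRoot.mk_eq_zero (f := (X : k[X]) ^ (e + 1)), map_sub, sub_eq_zero]
    have := congrFun (congrFun key i) j
    rw [← hpowN] at this
    refine this.trans ?_
    rw [Matrix.one_apply, Matrix.one_apply]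
    split_ifs <;> simp
  suffices hF1 : ∀ r : k[X], X ^ e ∣ r → ∃ x ∈ H, (x : Module.End k M) = 1 + aeval z r * a by
    intro r hr
    refine ⟨?_, fun cc => ?_⟩
    · rw [mul_assoc, ← mul_assoc a, ← (aev_commute_left ha.1 _).eq, mul_assoc, ha.1, mul_zero, mul_zero]
    · obtain ⟨y, hy, hye⟩ := hF1 (C cc * r) (hr.mul_left _)
      exact ⟨y, hy, hye.trans (by rw [map_mul, aeval_C, Algebra.smul_def, mul_assoc])⟩
  intro r hr
  set cN := c ^ N
  have hcN : cN * cN ≠ 1 := by
    intro h
    have h' : (c * c) ^ N = 1 ^ N := by rw [mul_pow, one_pow]; exact h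
    have := iterateFrobenius_inj k p (m + 1) (a₁ := c * c) (a₂ := 1) (by simpa [iterateFrobenius_def, N] using h')
    exact (mul_self_eq_one_iff.mp this).elim hc.2.1 hc.2.2
  obtain ⟨s, hs⟩ : ∃ s : S, (φ (cN * cN) - 1) * s = AdjoinRoot.mk f r := by
    refine ⟨φ (cN * cN - 1)⁻¹ * AdjoinRoot.mk f r, ?_⟩
    rw [← map_one φ, ← map_sub, ← mul_assoc, ← map_mul, mul_inv_cancel₀ (sub_ne_zero.mpr hcN),
      map_one, one_mul]
  obtain ⟨h, hh, hhs⟩ := (hFull s).1
  set w := g * h * g⁻¹ * h⁻¹ with hw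
  have hwm : w ∈ polyGroup k := mul_mem (mul_mem (mul_mem hgm hh) (inv_mem hgm)) (inv_mem hh)
  obtain ⟨hwΓ, x, hx, hxe⟩ := polyGroup_spec ha hb hwm
  have hgS : SpecialLinearGroup.map (AdjoinRoot.mk f) g = d ^ N := by rw [hg, map_pow, hg₀d]
  have hdN : ∀ n : ℕ, (d ^ n) 0 0 = φ c ^ n ∧ (d ^ n) 1 0 = 0 := by
    intro n
    induction n with
    | zero => simp
    | succ n ihn => rw [pow_succ, mul00, mul10, ihn.1, ihn.2, hd2, hd0]; simp [pow_succ]
  have hwf : SpecialLinearGroup.map (AdjoinRoot.mk f) w = upr (AdjoinRoot.mk f r) := by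
    rw [hw, map_mul, map_mul, map_mul, map_inv, map_inv, hgS, hhs]
    obtain ⟨e00, e01, e10, e11⟩ := conj_upr (d ^ N) s
    obtain ⟨n00, n10⟩ := hdN N
    have : d ^ N * upr s * (d ^ N)⁻¹ = upr (φ c ^ N * φ c ^ N * s) :=
      ext2 (by rw [e00, n10]; simp) (by rw [e01, n00, upr_01]; ring) (by rw [e10, n10]; simp)
        (by rw [e11, n10]; simp)
    rw [this, ← upr_neg, ← upr_add, ← hs]
    congr 1
    rw [← map_pow, map_mul]; ring
  have hwX : ∀ i j, X ^ (e + 1) ∣ (w i j - (1 : Matrix (Fin 2) (Fin 2) k[X]) i j) := by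
    intro i j
    obtain ⟨hΓ0, -⟩ := polyGroup_spec ha hb hg₀
    let μ := AdjoinRoot.mk ((X : k[X]) ^ (e + 1))
    have h1 : SpecialLinearGroup.map μ g = 1 := by
      refine ext2 ?_ ?_ ?_ ?_ <;>
      · simp only [SpecialLinearGroup.map_apply_coe, RingHom.mapMatrix_apply, Matrix.map_apply]
        first
          | (have h' := AdjoinRoot.mk_eq_zero.mpr (hgpow _ hΓ0 0 0); simp [sub_eq_zero] at h'; simpa [μ, hg] using h')
          | (have h' := AdjoinRoot.mk_eq_zero.mpr (hgpow _ hΓ0 0 1); simp [sub_eq_zero] at h'; simpa [μ, hg] using h')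
          | (have h' := AdjoinRoot.mk_eq_zero.mpr (hgpow _ hΓ0 1 0); simp [sub_eq_zero] at h'; simpa [μ, hg] using h')
          | (have h' := AdjoinRoot.mk_eq_zero.mpr (hgpow _ hΓ0 1 1); simp [sub_eq_zero] at h'; simpa [μ, hg] using h')
    have hwμ : SpecialLinearGroup.map μ w = 1 := by
      rw [hw, map_mul, map_mul, map_mul, map_inv, map_inv, h1]; group
    obtain ⟨b00, b01, b10, b11⟩ := map_entries μ hwμ
    rw [← AdjoinRoot.mk_eq_zero, map_sub, sub_eq_zero]
    fin_cases i <;> fin_cases j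
    · exact b00.trans (by simp)
    · exact b01.trans (by simp)
    · exact b10.trans (by simp)
    · exact b11.trans (by simp)
  obtain ⟨a00, a01, a10, a11⟩ := map_entries (AdjoinRoot.mk f) hwf
  simp only [upr_00, upr_01, upr_10, upr_11] at a00 a01 a10 a11
  have hco : IsCoprime ((X : k[X]) ^ (e + 1)) f :=
    IsCoprime.pow_left ((irreducible_X.coprime_iff_not_dvd).mpr hfX)
  have hd : ∀ (x y : k[X]), X ^ (e + 1) ∣ x - y → AdjoinRoot.mk f x = AdjoinRoot.mk f y →
      ∃ t, x - y = X * (X ^ e * f * t) := by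
    intro x y h1 h2
    obtain ⟨t, ht⟩ := hco.mul_dvd h1 (AdjoinRoot.mk_eq_zero.mp (by rw [map_sub, h2, sub_self]))
    exact ⟨t, by rw [ht, pow_succ]; ring⟩
  obtain ⟨t00, ht00⟩ := hd _ 1 (by simpa using hwX 0 0) (by rw [a00, map_one])
  obtain ⟨t10, ht10⟩ := hd _ 0 (by simpa using hwX 1 0) (by rw [a10, map_zero])
  obtain ⟨t11, ht11⟩ := hd _ 1 (by simpa using hwX 1 1) (by rw [a11, map_one])
  obtain ⟨t01, ht01⟩ : X ^ e * f ∣ w 0 1 - r := by
    refine IsCoprime.mul_dvd (IsCoprime.pow_left ((irreducible_X.coprime_iff_not_dvd).mpr hfX)) ?_ ?_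
    · exact dvd_sub ((pow_dvd_pow X (Nat.le_succ e)).trans (by simpa using hwX 0 1)) hr
    · exact AdjoinRoot.mk_eq_zero.mp (by rw [map_sub, a01, sub_self])
  have htheta : theta a b w = 1 + aeval z r * a := by
    have e00 : (w 0 0).divX = X ^ e * f * t00 := by
      rw [show w 0 0 = C (1 : k) + X * (X ^ e * f * t00) by rw [C_1, ← ht00]; ring, divX_add_X_mul]
    have e10 : (w 1 0).divX = X ^ e * f * t10 := by
      rw [show w 1 0 = C (0 : k) + X * (X ^ e * f * t10) by rw [C_0, ← ht10]; ring, divX_add_X_mul]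
    have e11 : (w 1 1).divX = X ^ e * f * t11 := by
      rw [show w 1 1 = C (1 : k) + X * (X ^ e * f * t11) by rw [C_1, ← ht11]; ring, divX_add_X_mul]
    unfold theta
    rw [e00, e10, e11, show w 0 1 = r + X ^ e * f * t01 by rw [← ht01]; ring]
    simp only [map_mul, map_add]
    rw [show aeval (zed a b) (X ^ e) * aeval (zed a b) f = 0 by rw [← map_mul]; exact hFz]
    simp [z]
  exact ⟨x, hx, hxe.trans htheta⟩

end H56Q
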