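import Cfsg.Agent.H56.QPSurj

/-!
Surjectivity of the commutator map for arbitrary pairs.
-/

set_option autoImplicit false
set_option linter.unusedSectionVars false

universe u

namespace H56Q

open Cfsg LinearMap

variable {k : Type u} [Field k] {M : Type*} [AddCommGroup M] [Module k M] [FiniteDimensional k M]
variable {G : Subgroup (GLM k M)} {a b γ d l x y : Module.End k M}

/-- the outer part of `a` for the pair `γ, d` -/
def outer (γ d a : Module.End k M) : Module.End k M := γ * d * a * d * γ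

theorem reduce_one (h2 : (2 : k) ≠ 0) (ha : MinQ G a) (hγ : MinQ G γ) (hd : MinQ G d)
    (gdg : γ * d * γ = γ) (dgd : d * γ * d = d) (ga : γ * a = 0) (ag : a * γ = 0)
    (hker : ∀ m, γ m = 0 → a m ∈ range γ) :
    InRoot G γ (outer γ d a) ∧ Fam G (a - outer γ d a) ∧ rk (a - outer γ d a) ≤ rk a ∧
      a - outer γ d a = γ * d * (a - outer γ d a) + (a - outer γ d a) * d * γ := by
  set a2 := outer γ d a with ha2
  set E := γ * d + d * γ with hE
  have f0 : γ * d * a2 = a2 ∧ a2 * d * γ = a2 := by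
    constructor
    · rw [ha2, outer]
      calc γ * d * (γ * d * a * d * γ) = (γ * d * γ) * (d * a * d * γ) := by simp only [mul_assoc]
        _ = γ * d * a * d * γ := by rw [gdg]; simp only [mul_assoc]
    · rw [ha2, outer]
      calc γ * d * a * d * γ * d * γ = γ * d * a * d * (γ * d * γ) := by simp only [mul_assoc]
        _ = γ * d * a * d * γ := by rw [gdg]
  have hEa : E * a = γ * d * a := by rw [hE, add_mul, mul_assoc d γ a, ga, mul_zero, add_zero]
  have haE : a * E = a * d * γ := by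
    rw [hE, mul_add, ← mul_assoc, ag, zero_mul, zero_add, mul_assoc]
  have hsum : γ * d * a + a * d * γ = a + a2 := by
    have h : γ * d * (a - a * d * γ) = a - a * d * γ := by
      refine LinearMap.ext fun m => ?_
      have hn : γ (m - γ (d m) - d (γ m)) = 0 := by
        rw [map_sub, map_sub, show γ (γ (d m)) = 0 from LinearMap.congr_fun hγ.sq (d m), sub_zero,
          show γ (d (γ m)) = γ m from LinearMap.congr_fun gdg m, sub_self]
      obtain ⟨p, hp⟩ := hker _ hn
      have e : (a - a * d * γ) m = a (m - γ (d m) - d (γ m)) := by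
        rw [map_sub, map_sub, show a (γ (d m)) = 0 from LinearMap.congr_fun ag (d m), sub_zero]
        rfl
      show γ (d ((a - a * d * γ) m)) = (a - a * d * γ) m
      rw [e, ← hp]
      exact LinearMap.congr_fun gdg p
    rw [mul_sub, show γ * d * (a * d * γ) = a2 by rw [ha2, outer]; simp only [mul_assoc],
      sub_eq_iff_eq_add] at h
    rw [h]; abel
  have a2a : a2 * a = 0 := by rw [ha2, outer, mul_assoc, ga, mul_zero]
  have aa2 : a * a2 = 0 := by
    rw [ha2, outer, ← mul_assoc, ← mul_assoc, ← mul_assoc, ← mul_assoc, ag, zero_mul, zero_mul,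
      zero_mul, zero_mul]
  set i := weyl γ d hγ.sq hd.sq * weyl γ d hγ.sq hd.sq with hi
  have hiG : i ∈ G := by
    have : weyl γ d hγ.sq hd.sq ∈ G :=
      mul_mem (mul_mem hγ.fam.qu_mem (inv_mem hd.fam.qu_mem)) hγ.fam.qu_mem
    exact mul_mem this this
  have hie : (i : Module.End k M) = 1 - (2 : k) • E := coe_weyl_sq _ _ gdg dgd
  have hEE : E * E = E := by
    have e1 : γ * d * (γ * d) = γ * d := by rw [← mul_assoc, gdg]
    have e2 : d * γ * (d * γ) = d * γ := by rw [← mul_assoc, dgd]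
    have e3 : γ * d * (d * γ) = 0 := by rw [mul_assoc, ← mul_assoc d, hd.sq, zero_mul, mul_zero]
    have e4 : d * γ * (γ * d) = 0 := by rw [mul_assoc, ← mul_assoc γ, hγ.sq, zero_mul, mul_zero]
    simp only [hE, mul_add, add_mul, e1, e2, e3, e4, add_zero, zero_add]
  have hii : i⁻¹ = i := by
    refine inv_eq_of_mul_eq_one_right (Units.ext ?_)
    rw [Units.val_mul, hie, Units.val_one, two_smul]
    simp only [sub_mul, mul_sub, one_mul, mul_one, mul_add, add_mul, hEE]
    abel
  have hconj : Fam G ((2 : k) • a2 + (-1 : k) • a) := by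
    have := ha.fam.conj hiG
    rw [hii, hie] at this
    convert this using 1
    have e1 : E * a * E = a2 := by
      rw [hEa, mul_assoc (γ * d) a E, haE, ha2, outer]; simp only [mul_assoc]
    simp only [two_smul, neg_one_smul, sub_mul, mul_sub, add_mul, mul_add, one_mul, mul_one, e1]
    rw [hEa, haE]
    calc a2 + a2 + -a = a - (a + a2) - (a + a2) + (a2 + a2) + (a2 + a2) := by abel
      _ = _ := by rw [← hsum]; abel
  have hF2 : Fam G a2 := by
    have h := hconj.add ha.fam (by simp [add_mul, smul_mul_assoc, a2a, ha.sq])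
      (by simp [mul_add, mul_smul_comm, aa2, ha.sq])
    have := h.smul (2 : k)⁻¹
    rwa [neg_one_smul, neg_add_cancel_right, smul_smul, inv_mul_cancel₀ h2, one_smul] at this
  have hroot : InRoot G γ a2 := inRoot_of_eq hF2 f0.1 f0.2
  have hF1 : Fam G (a - a2) := by
    have := ha.fam.add (hF2.smul (-1)) (by rw [mul_smul_comm, aa2, smul_zero])
      (by rw [smul_mul_assoc, a2a, smul_zero])
    rwa [neg_one_smul, ← sub_eq_add_neg] at this
  refine ⟨hroot, hF1, ?_, ?_⟩
  · set f : Module.End k M := 1 - γ * d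
    have hle : range (a - a2) ≤ (range a ⊓ ker f) ⊔ (range a).map f := by
      rintro _ ⟨m, rfl⟩
      have e : a - a2 = (a - a * d * γ) + f * a * d * γ := by
        simp only [f, sub_mul, one_mul, ha2, outer]; abel
      rw [e, LinearMap.add_apply]
      refine Submodule.add_mem_sup ⟨⟨m - d (γ m), by rw [map_sub]; rfl⟩, ?_⟩
        ⟨a (d (γ m)), mem_range_self a _, rfl⟩
      show (f * (a - a * d * γ)) m = 0
      have : f * (a - a * d * γ) = 0 := by
        simp only [f, sub_mul, one_mul, mul_sub]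
        rw [show γ * d * (a * d * γ) = a2 by rw [ha2, outer]; simp only [mul_assoc]]
        calc a - γ * d * a - (a * d * γ - a2) = (a + a2) - (γ * d * a + a * d * γ) := by abel
          _ = 0 := by rw [hsum, sub_self]
      rw [this]; rfl
    have h1 := Submodule.finrank_mono hle
    have h2' := Submodule.finrank_add_le_finrank_add_finrank (range a ⊓ ker f) ((range a).map f)
    have h3 := finrank_map_add f (range a)
    unfold rk
    omega
  · rw [mul_sub, sub_mul, sub_mul, f0.1, f0.2]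
    calc a - a2 = (γ * d * a + a * d * γ) - (a2 + a2) := by rw [hsum]; abel
      _ = _ := by abel

theorem reduce_pair (h2 : (2 : k) ≠ 0) (ha : MinQ G a) (hb : MinQ G b) (h1 : a * b * a = 0)
    (h1' : b * a * b = 0) (hne : a * b ≠ b * a) (hd : MinQ G d)
    (gdg : (a * b - b * a) * d * (a * b - b * a) = a * b - b * a) (dgd : d * (a * b - b * a) * d = d) :
    ∃ a2 b2, InRoot G (a * b - b * a) a2 ∧ InRoot G (a * b - b * a) b2 ∧
      PurePair G (a - a2) (b - b2) (a * b - b * a) d := by
  obtain ⟨hγ, hA, hB, -, hr, hk⟩ := comm_struct ha hb h1 h1' hne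
  set γ := a * b - b * a with hg
  have ga : γ * a = 0 := by rw [hg, sub_mul, h1, mul_assoc b a a, ha.sq, mul_zero, sub_zero]
  have ag : a * γ = 0 := by rw [hg, mul_sub, ← mul_assoc, ha.sq, zero_mul, ← mul_assoc, h1, sub_zero]
  have gb : γ * b = 0 := by rw [hg, sub_mul, h1', mul_assoc a b b, hb.sq, mul_zero, sub_zero]
  have bg : b * γ = 0 := by
    rw [hg, mul_sub, ← mul_assoc b b, hb.sq, zero_mul, ← mul_assoc, h1', sub_zero]
  have ka : ∀ m, γ m = 0 → a m ∈ range γ := by
    intro m hm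
    have : m ∈ ker γ := hm
    rw [hk] at this
    obtain ⟨_, ⟨p, rfl⟩, q, hq, rfl⟩ := Submodule.mem_sup.mp this.2
    rw [map_add, show a q = 0 from hq, add_zero, hr]
    exact Submodule.mem_sup_left (hA ▸ ⟨b p, mem_range_self b p, rfl⟩)
  have kb : ∀ m, γ m = 0 → b m ∈ range γ := by
    intro m hm
    have : m ∈ ker γ := hm
    rw [hk] at this
    obtain ⟨_, ⟨p, rfl⟩, q, hq, rfl⟩ := Submodule.mem_sup.mp this.1
    rw [map_add, show b q = 0 from hq, add_zero, hr]
    exact Submodule.mem_sup_right (hB ▸ ⟨a p, mem_range_self a p, rfl⟩)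
  obtain ⟨ra, fa, ka', pa⟩ := reduce_one h2 ha hγ hd gdg dgd ga ag ka
  obtain ⟨rb, fb, kb', pb⟩ := reduce_one h2 hb hγ hd gdg dgd gb bg kb
  refine ⟨_, _, ra, rb, ?_⟩
  set a2 := outer γ d a
  set b2 := outer γ d b
  have zab : a * b2 = 0 := mul_eq_zero_of_range_le ag rb.2.1
  have zba : b2 * a = 0 := mul_eq_zero_of_ker_le ga rb.2.2
  have zab' : a2 * b = 0 := mul_eq_zero_of_ker_le gb ra.2.2
  have zba' : b * a2 = 0 := mul_eq_zero_of_range_le bg ra.2.1
  have z22 : a2 * b2 = 0 := mul_eq_zero_of_le ra.2.2 rb.2.1 hγ.sq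
  have z22' : b2 * a2 = 0 := mul_eq_zero_of_le rb.2.2 ra.2.1 hγ.sq
  have e1 : (a - a2) * (b - b2) = a * b := by simp [sub_mul, mul_sub, zab, zab', z22]
  have e2 : (b - b2) * (a - a2) = b * a := by simp [sub_mul, mul_sub, zba, zba', z22']
  have hane : a - a2 ≠ 0 := fun h => hne (by
    have e1' := e1; have e2' := e2
    rw [h, zero_mul] at e1'; rw [h, mul_zero] at e2'
    rw [← e1', ← e2'])
  have hbne : b - b2 ≠ 0 := fun h => hne (by
    have e1' := e1; have e2' := e2
    rw [h, mul_zero] at e1'; rw [h, zero_mul] at e2'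
    rw [← e1', ← e2'])
  refine
    { ma := ha.of_rk_le fa hane ka'
      mb := hb.of_rk_le fb hbne kb'
      mγ := hγ
      md := hd
      aba := ?_
      bab := ?_
      comm := by rw [e1, e2]
      gdg := gdg
      dgd := dgd
      pa := pa
      pb := pb }
  · rw [e1, mul_sub, h1, mul_assoc a b a2, zba', mul_zero, sub_zero]
  · rw [e2, mul_sub, h1', mul_assoc b a b2, zab, mul_zero, sub_zero]

theorem comm_surj (h2 : (2 : k) ≠ 0) (h3 : Nat.card k ≠ 3) (hirr : IsIrreducibleFor G)
    (ha : MinQ G a) (hb : MinQ G b) (h1 : a * b * a = 0) (h1' : b * a * b = 0) (hne : a * b ≠ b * a)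
    (hl : InRoot G (a * b - b * a) l) : ∃ y, InRoot G b y ∧ a * y - y * a = l := by
  obtain ⟨d, hd, gdg, dgd⟩ :=
    exists_opposite h2 h3 hirr (comm_struct ha hb h1 h1' hne).1
  obtain ⟨a2, b2, ra, rb, P⟩ := reduce_pair h2 ha hb h1 h1' hne hd gdg dgd
  set γ := a * b - b * a
  set a1 := a - a2 with ha1
  set b1 := b - b2 with hb1
  obtain ⟨hy, hay⟩ := P.lift_spec h2 hl
  set y := PurePair.lift b1 d l
  -- an element moving `b1` to `b`
  obtain ⟨hu, hbu⟩ := P.symm.lift_spec h2 (l := b2) (by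
    refine ⟨rb.1, ?_, ?_⟩
    · rw [LinearMap.range_neg]; exact rb.2.1
    · rw [LinearMap.ker_neg]; exact rb.2.2)
  set u := PurePair.lift a1 (-d) b2
  have hne1 : a1 * b1 ≠ b1 * a1 := sub_ne_zero.mp (P.comm ▸ P.mγ.ne)
  have ubu : u * b1 * u = 0 := by
    by_cases hu0 : u = 0
    · simp [hu0]
    exact (pair_transfer h2 P.ma P.mb P.aba hu hu0 (InRoot.self P.mb.fam) P.mb.ne).1
  have uyu : u * y * u = 0 := by
    by_cases hu0 : u = 0
    · simp [hu0]
    by_cases hy0 : y = 0
    · simp [hy0]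
    exact (pair_transfer h2 P.ma P.mb P.aba hu hu0 hy hy0).1
  have hinv : ((qu u hu.1.1)⁻¹ : GLM k M) ∈ G := inv_mem hu.1.qu_mem
  have hy' := hy.conj hinv
  rw [inv_inv, coe_qu_inv, coe_qu] at hy'
  have hb' : (1 - u) * b1 * (1 + u) = b := by
    simp only [sub_mul, one_mul, mul_add, mul_one, ubu]
    rw [show b1 - u * b1 + (b1 * u - 0) = b1 + (b1 * u - u * b1) by abel, hbu, hb1, sub_add_cancel]
  rw [hb'] at hy'
  refine ⟨_, hy', ?_⟩
  have hm : InRoot G γ (u * y - y * u) := by
    have := bracket_mem h2 P.ma P.mb P.aba P.bab hne1 hu hy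
    rwa [P.comm] at this
  have am : a * (u * y - y * u) = 0 := mul_eq_zero_of_range_le (by
    rw [mul_sub, ← mul_assoc, ha.sq, zero_mul, ← mul_assoc, h1, sub_zero]) hm.2.1
  have ma' : (u * y - y * u) * a = 0 := mul_eq_zero_of_ker_le (by
    rw [sub_mul, h1, mul_assoc b a a, ha.sq, mul_zero, sub_zero]) hm.2.2
  have a2y : a2 * y = 0 := mul_eq_zero_of_range_le
    (mul_eq_zero_of_ker_le P.gb ra.2.2) hy.2.1
  have ya2 : y * a2 = 0 := mul_eq_zero_of_ker_le
    (mul_eq_zero_of_range_le P.bg ra.2.1) hy.2.2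
  have e : (1 - u) * y * (1 + u) = y - (u * y - y * u) := by
    simp only [sub_mul, one_mul, mul_add, mul_one, uyu]
    abel
  rw [e, mul_sub, sub_mul, am, ma', sub_zero, sub_zero]
  rw [show a = a1 + a2 by rw [ha1, sub_add_cancel], add_mul, mul_add, a2y, ya2, add_zero, add_zero]
  exact hay

end H56Q
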