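import Mathlib

/-!
Elementary `2 × 2` matrices of determinant one over a commutative ring.
-/

set_option autoImplicit false

namespace H56Q

open Matrix

variable {R S : Type*} [CommRing R] [CommRing S]

/-- upper unitriangular -/
def upr (s : R) : SpecialLinearGroup (Fin 2) R :=
  ⟨!![1, s; 0, 1], by simp [Matrix.det_fin_two_of]⟩

/-- lower unitriangular -/
def lwr (s : R) : SpecialLinearGroup (Fin 2) R :=
  ⟨!![1, 0; s, 1], by simp [Matrix.det_fin_two_of]⟩

theorem coe_upr (s : R) : (upr s : Matrix (Fin 2) (Fin 2) R) = !![1, s; 0, 1] := rfl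

theorem coe_lwr (s : R) : (lwr s : Matrix (Fin 2) (Fin 2) R) = !![1, 0; s, 1] := rfl

@[simp] theorem upr_00 (s : R) : upr s 0 0 = 1 := rfl
@[simp] theorem upr_01 (s : R) : upr s 0 1 = s := rfl
@[simp] theorem upr_10 (s : R) : upr s 1 0 = 0 := rfl
@[simp] theorem upr_11 (s : R) : upr s 1 1 = 1 := rfl
@[simp] theorem lwr_00 (s : R) : lwr s 0 0 = 1 := rfl
@[simp] theorem lwr_01 (s : R) : lwr s 0 1 = 0 := rfl
@[simp] theorem lwr_10 (s : R) : lwr s 1 0 = s := rfl
@[simp] theorem lwr_11 (s : R) : lwr s 1 1 = 1 := rfl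

theorem mul00 (g h : SpecialLinearGroup (Fin 2) R) :
    (g * h) 0 0 = g 0 0 * h 0 0 + g 0 1 * h 1 0 := by
  simp [SpecialLinearGroup.coe_mul, mul_apply, Fin.sum_univ_two]

theorem mul01 (g h : SpecialLinearGroup (Fin 2) R) :
    (g * h) 0 1 = g 0 0 * h 0 1 + g 0 1 * h 1 1 := by
  simp [SpecialLinearGroup.coe_mul, mul_apply, Fin.sum_univ_two]

theorem mul10 (g h : SpecialLinearGroup (Fin 2) R) :
    (g * h) 1 0 = g 1 0 * h 0 0 + g 1 1 * h 1 0 := by
  simp [SpecialLinearGroup.coe_mul, mul_apply, Fin.sum_univ_two]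

theorem mul11 (g h : SpecialLinearGroup (Fin 2) R) :
    (g * h) 1 1 = g 1 0 * h 0 1 + g 1 1 * h 1 1 := by
  simp [SpecialLinearGroup.coe_mul, mul_apply, Fin.sum_univ_two]

@[simp] theorem inv00 (g : SpecialLinearGroup (Fin 2) R) : (g⁻¹) 0 0 = g 1 1 := by
  simp [SpecialLinearGroup.coe_inv, adjugate_fin_two]

@[simp] theorem inv01 (g : SpecialLinearGroup (Fin 2) R) : (g⁻¹) 0 1 = -g 0 1 := by
  simp [SpecialLinearGroup.coe_inv, adjugate_fin_two]

@[simp] theorem inv10 (g : SpecialLinearGroup (Fin 2) R) : (g⁻¹) 1 0 = -g 1 0 := by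
  simp [SpecialLinearGroup.coe_inv, adjugate_fin_two]

@[simp] theorem inv11 (g : SpecialLinearGroup (Fin 2) R) : (g⁻¹) 1 1 = g 0 0 := by
  simp [SpecialLinearGroup.coe_inv, adjugate_fin_two]

theorem det2 (g : SpecialLinearGroup (Fin 2) R) : g 0 0 * g 1 1 - g 0 1 * g 1 0 = 1 := by
  have h := g.det_coe
  rwa [det_fin_two] at h

theorem ext2 {g h : SpecialLinearGroup (Fin 2) R} (h00 : g 0 0 = h 0 0) (h01 : g 0 1 = h 0 1)
    (h10 : g 1 0 = h 1 0) (h11 : g 1 1 = h 1 1) : g = h := by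
  ext i j
  fin_cases i <;> fin_cases j <;> assumption

theorem upr_add (s t : R) : upr (s + t) = upr s * upr t :=
  ext2 (by simp [mul00]) (by simp [mul01, add_comm]) (by simp [mul10]) (by simp [mul11])

theorem lwr_add (s t : R) : lwr (s + t) = lwr s * lwr t :=
  ext2 (by simp [mul00]) (by simp [mul01]) (by simp [mul10]) (by simp [mul11])

theorem upr_zero : upr (0 : R) = 1 := ext2 (by simp) (by simp) (by simp) (by simp)

theorem lwr_zero : lwr (0 : R) = 1 := ext2 (by simp) (by simp) (by simp) (by simp)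

theorem upr_neg (s : R) : upr (-s) = (upr s)⁻¹ :=
  eq_inv_of_mul_eq_one_left (by rw [← upr_add, neg_add_cancel, upr_zero])

theorem lwr_neg (s : R) : lwr (-s) = (lwr s)⁻¹ :=
  eq_inv_of_mul_eq_one_left (by rw [← lwr_add, neg_add_cancel, lwr_zero])

/-- entrywise map of a ring homomorphism -/
theorem map_upr (f : R →+* S) (s : R) : SpecialLinearGroup.map f (upr s) = upr (f s) :=
  ext2 (by simp) (by simp) (by simp) (by simp)

theorem map_lwr (f : R →+* S) (s : R) : SpecialLinearGroup.map f (lwr s) = lwr (f s) :=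
  ext2 (by simp) (by simp) (by simp) (by simp)

/-- conjugate of an upper unitriangular element -/
theorem conj_upr (g : SpecialLinearGroup (Fin 2) R) (c : R) :
    (g * upr c * g⁻¹) 0 0 = 1 - c * g 0 0 * g 1 0 ∧
    (g * upr c * g⁻¹) 0 1 = c * (g 0 0 * g 0 0) ∧
    (g * upr c * g⁻¹) 1 0 = -(c * (g 1 0 * g 1 0)) ∧
    (g * upr c * g⁻¹) 1 1 = 1 + c * g 0 0 * g 1 0 := by
  have h := det2 g
  refine ⟨?_, ?_, ?_, ?_⟩ <;> simp [mul00, mul01, mul10, mul11] <;>
    first
      | ring1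
      | linear_combination h

end H56Q
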