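import Cfsg.Agent.H56.QPFam

/-!
Pairs of least rank with nilpotent `a b`: `a b a = 0`, and the commutator map.
-/

set_option autoImplicit false
set_option linter.unusedSectionVars false

namespace H56Q

open Cfsg

variable {k : Type*} [Field k] {M : Type*} [AddCommGroup M] [Module k M] [FiniteDimensional k M]
variable {G : Subgroup (GLM k M)} {a b : Module.End k M}

/-- the commutator of two square-zero maps with `x y x = 0 = y x y` -/
theorem Fam.bracket {x y : Module.End k M} (hx : Fam G x) (hy : Fam G y) (h1 : x * y * x = 0)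
    (h2 : y * x * y = 0) : Fam G (x * y - y * x) := by
  have hx2 : ∀ r, x * (x * r) = 0 := fun r => by rw [← mul_assoc, hx.1, zero_mul]
  have hy2 : ∀ r, y * (y * r) = 0 := fun r => by rw [← mul_assoc, hy.1, zero_mul]
  have h1' : x * (y * x) = 0 := by rw [← mul_assoc]; exact h1
  have h2' : y * (x * y) = 0 := by rw [← mul_assoc]; exact h2
  have h1r : ∀ r, x * (y * (x * r)) = 0 := fun r => by rw [← mul_assoc, ← mul_assoc, h1, zero_mul]
  refine ⟨?_, fun c => ?_⟩
  · simp only [sub_mul, mul_sub, mul_assoc, hx2, hy2, h1r, h2', mul_zero, sub_self,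
      show y * (x * (y * x)) = 0 by rw [h1', mul_zero]]
  · refine ⟨qu _ (sq_smul hx.1 c) * qu y hy.1 * (qu _ (sq_smul hx.1 c))⁻¹ * (qu y hy.1)⁻¹,
      mul_mem (mul_mem (mul_mem (hx.smul c).qu_mem hy.qu_mem) (inv_mem (hx.smul c).qu_mem))
        (inv_mem hy.qu_mem), ?_⟩
    simp only [Units.val_mul, coe_qu, coe_qu_inv]
    simp only [add_mul, mul_sub, sub_mul, mul_add, one_mul, mul_one, smul_mul_assoc, mul_smul_comm,
      smul_smul, mul_assoc, hx.1, hy.1, hy2, h1', h2', mul_zero, smul_zero, smul_add,
      sub_zero, add_zero, smul_sub]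
    abel

theorem cj_smul (a b : Module.End k M) (c : k) :
    cj (c • a) b = b + c • (a * b) - c • (b * a) - (c * c) • (a * b * a) := by
  simp only [cj, add_mul, mul_sub, one_mul, mul_one, smul_mul_assoc, mul_smul_comm, smul_smul,
    mul_assoc, smul_add, add_sub, sub_add]
  abel

theorem mul_cj_mul (hb : b * b = 0) (c : k) :
    b * cj (c • a) b * b = -((c * c) • (b * a * b * a * b)) := by
  have hb2 : ∀ r, b * (b * r) = 0 := fun r => by rw [← mul_assoc, hb, zero_mul]
  rw [cj_smul]
  simp only [mul_add, mul_sub, add_mul, sub_mul, smul_mul_assoc, mul_smul_comm, mul_assoc, hb2,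
    hb, mul_zero, smul_zero, add_zero, zero_add, sub_zero, zero_sub]

theorem cj_mul_cj (ha : a * a = 0) (hb : b * b = 0) (c : k)
    (h : b * a * b * a * b = 0) : cj (c • a) b * b * cj (c • a) b = 0 := by
  have hu : (1 - c • a) * (1 + c • a) = 1 := by
    simp [sub_mul, mul_add, ha]
  have h0 : b * cj ((-c) • a) b * b = 0 := by rw [mul_cj_mul hb, h, smul_zero, neg_zero]
  have e : cj ((-c) • a) b = (1 - c • a) * b * (1 + c • a) := by
    simp [cj, neg_smul, sub_eq_add_neg]
  rw [e] at h0
  calc cj (c • a) b * b * cj (c • a) b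
      = (1 + c • a) * b * (1 - c • a) * ((1 * b) * 1) * ((1 + c • a) * b * (1 - c • a)) := by
        simp [cj]
    _ = (1 + c • a) * (b * ((1 - c • a) * b * (1 + c • a)) * b) * (1 - c • a) := by
        simp only [one_mul, mul_one, mul_assoc]
    _ = 0 := by rw [h0, mul_zero, zero_mul]

theorem pow_mul_cj (ha : a * a = 0) (hb : b * b = 0) (m : ℕ) :
    ∃ r : Module.End k M, (b * cj a b) ^ (m + 1) = (b * a) ^ (2 * m + 1) * r := by
  have hb2 : ∀ r, b * (b * r) = 0 := fun r => by rw [← mul_assoc, hb, zero_mul]
  have e1 : b * cj a b = b * a * (b - b * a) := by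
    simp only [cj, add_mul, mul_add, one_mul, mul_sub, mul_one, mul_assoc, hb, hb2, zero_add, sub_zero]
  have e2 : b * cj a b * b = -(b * a * b * a * b) := by
    have := mul_cj_mul (k := k) (a := a) hb 1
    rwa [one_smul, one_mul, one_smul] at this
  suffices h : ∃ s : k, (b * cj a b) ^ (m + 1) = s • ((b * a) ^ (2 * m) * (b * cj a b)) by
    obtain ⟨s, hs⟩ := h
    refine ⟨s • (b - b * a), ?_⟩
    rw [hs, e1, pow_succ, mul_smul_comm]
    simp only [mul_assoc]
  induction m with
  | zero => exact ⟨1, by simp⟩
  | succ m ih =>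
    obtain ⟨s, hs⟩ := ih
    refine ⟨-s, ?_⟩
    rw [pow_succ _ (m + 1), hs, smul_mul_assoc,
      show (b * a) ^ (2 * m) * (b * cj a b) * (b * cj a b) =
        (b * a) ^ (2 * m) * ((b * cj a b * b) * cj a b) by simp only [mul_assoc],
      e2, show 2 * (m + 1) = 2 * m + 1 + 1 from rfl, pow_succ, pow_succ, neg_mul, mul_neg, smul_neg,
      neg_smul]
    simp only [mul_assoc]

/-- nilpotent `b a` forces `b a b = 0` -/
theorem bab_zero (h2 : (2 : k) ≠ 0) : ∀ (N : ℕ) (a b : Module.End k M), Fam G a → MinQ G b →
    (b * a) ^ N = 0 → b * a * b = 0 := by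
  intro N
  induction N using Nat.strong_induction_on with
  | _ N ih =>
    intro a b ha hb hN
    have h5 : b * a * b * a * b = 0 := by
      rcases le_or_gt N 2 with hle | hgt
      · have : (b * a) ^ 2 = 0 := pow_eq_zero_of_le hle hN
        rw [sq] at this
        rw [mul_assoc (b * a) b a, this, zero_mul]
      · have hz : (b * cj a b) ^ (N / 2 + 1) = 0 := by
          obtain ⟨r, hr⟩ := pow_mul_cj (k := k) ha.1 hb.sq (N / 2)
          rw [hr, pow_eq_zero_of_le (by omega) hN, zero_mul]
        have := ih (N / 2 + 1) (by omega) _ b (Fam.cj ha hb.fam) hb hz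
        rw [show cj a b = cj ((1 : k) • a) b by rw [one_smul], mul_cj_mul hb.sq] at this
        simpa using this
    have key : ∀ c : k, Fam G ((2 * c) • (b * a * b) + (c * c) • (a * b * a * b - b * a * b * a)) := by
      intro c
      have := hb.fam.bracket ((ha.smul c).cj hb.fam)
        (by rw [mul_cj_mul hb.sq, h5, smul_zero, neg_zero]) (cj_mul_cj ha.1 hb.sq c h5)
      convert this using 1
      have hb2 : ∀ r, b * (b * r) = 0 := fun r => by rw [← mul_assoc, hb.sq, zero_mul]
      rw [cj_smul]
      simp only [mul_add, mul_sub, add_mul, sub_mul, smul_mul_assoc, mul_smul_comm, mul_assoc, hb2,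
        hb.sq, mul_zero, smul_zero, zero_add, sub_zero, smul_sub, two_mul, add_smul]
      abel
    set p := b * a * b with hp
    set q := a * b * a * b - b * a * b * a with hq
    have hpp : p * p = 0 := by
      rw [hp, show b * a * b * (b * a * b) = b * a * (b * b) * (a * b) by simp only [mul_assoc],
        hb.sq]; simp
    have hpq : p * q = 0 := by
      rw [hp, hq, mul_sub, show b * a * b * (a * b * a * b) = b * a * b * a * b * (a * b) by
          simp only [mul_assoc], h5,
        show b * a * b * (b * a * b * a) = b * a * (b * b) * (a * b * a) by simp only [mul_assoc],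
        hb.sq]
      simp
    have hqp : q * p = 0 := by
      rw [hp, hq, sub_mul, show a * b * a * b * (b * a * b) = a * b * a * (b * b) * (a * b) by
          simp only [mul_assoc], hb.sq,
        show b * a * b * a * (b * a * b) = b * a * b * a * b * (a * b) by simp only [mul_assoc], h5]
      simp
    have hqq : q * q = 0 := by
      rw [hq, sub_mul, mul_sub, mul_sub,
        show a * b * a * b * (a * b * a * b) = a * (b * a * b * a * b) * (a * b) by
          simp only [mul_assoc], h5,
        show a * b * a * b * (b * a * b * a) = a * b * a * (b * b) * (a * b * a) by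
          simp only [mul_assoc], hb.sq,
        show b * a * b * a * (a * b * a * b) = b * a * b * (a * a) * (b * a * b) by
          simp only [mul_assoc], ha.1,
        show b * a * b * a * (b * a * b * a) = b * a * b * a * b * (a * b * a) by
          simp only [mul_assoc], h5]
      simp
    have hprod : ∀ s t s' t' : k, (s • p + t • q) * (s' • p + t' • q) = 0 := fun s t s' t' => by
      simp [add_mul, mul_add, smul_mul_smul_comm, hpp, hpq, hqp, hqq]
    have hpF : Fam G p := by
      have h4 : Fam G ((4 : k) • p) := by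
        have := (key 1).add (key (-1)).neg (by rw [mul_neg, hprod, neg_zero])
          (by rw [neg_mul, hprod, neg_zero])
        convert this using 1
        simp only [mul_one, mul_neg, neg_neg, neg_smul, neg_add_rev]
        rw [show (4 : k) = 2 + 2 by norm_num, add_smul]
        abel
      have h40 : (4 : k) ≠ 0 := by
        rw [show (4 : k) = 2 * 2 by norm_num]; exact mul_ne_zero h2 h2
      have := h4.smul (4 : k)⁻¹
      rwa [smul_smul, inv_mul_cancel₀ h40, one_smul] at this
    by_contra hp0
    have hle : LinearMap.range p ≤ LinearMap.range b := by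
      rw [hp, mul_assoc]; rintro _ ⟨m, rfl⟩; exact ⟨_, rfl⟩
    have heq := Submodule.eq_of_le_of_finrank_le hle (hb.min p hpF hp0)
    have hmap : (LinearMap.range b).map (b * a) = LinearMap.range b := by
      rw [← LinearMap.range_comp]; exact heq
    have hpow : ∀ n, LinearMap.range b ≤ LinearMap.range ((b * a) ^ n) := by
      intro n
      induction n with
      | zero => rw [pow_zero, Module.End.one_eq_id, LinearMap.range_id]; exact le_top
      | succ n ihn =>
        rw [pow_succ', Module.End.mul_eq_comp, LinearMap.range_comp]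
        exact le_trans hmap.ge (Submodule.map_mono ihn)
    have := hpow N
    rw [hN, LinearMap.range_zero, le_bot_iff, LinearMap.range_eq_bot] at this
    exact hb.ne this

theorem aba_bab_zero (h2 : (2 : k) ≠ 0) (ha : MinQ G a) (hb : MinQ G b)
    (h : IsNilpotent (b * a)) : a * b * a = 0 ∧ b * a * b = 0 := by
  obtain ⟨N, hN⟩ := h
  refine ⟨bab_zero h2 (N + 1) b a hb.fam ha ?_, bab_zero h2 N a b ha.fam hb hN⟩
  have : ∀ n, (a * b) ^ (n + 1) = a * (b * a) ^ n * b := by
    intro n
    induction n with
    | zero => simp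
    | succ n ih => rw [pow_succ, ih, pow_succ]; simp only [mul_assoc]
  rw [this, hN, mul_zero, zero_mul]

end H56Q
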