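import Cfsg.Agent.H56.QPPair
import Cfsg.Agent.H98.Unipotent

/-!
Every root element of an irreducible quadratic pair has an opposite.
-/

set_option autoImplicit false
set_option linter.unusedSectionVars false

universe u

namespace H56Q

open Cfsg LinearMap

variable {k : Type u} [Field k] {M : Type*} [AddCommGroup M] [Module k M] [FiniteDimensional k M]
variable {G : Subgroup (GLM k M)} {a b γ : Module.End k M}

theorem isNilSub_pair {u v : GLM k M} (hu : ((u : Module.End k M) - 1) * ((u : Module.End k M) - 1) = 0)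
    (hv : ((v : Module.End k M) - 1) * ((v : Module.End k M) - 1) = 0)
    (h1 : ((u : Module.End k M) - 1) * ((v : Module.End k M) - 1) * ((u : Module.End k M) - 1) = 0)
    (h2 : ((v : Module.End k M) - 1) * ((u : Module.End k M) - 1) * ((v : Module.End k M) - 1) = 0) :
    H98.IsNilSub (H98.augNU k ({u, v} : Set (GLM k M))) := by
  set x := (u : Module.End k M) - 1 with hx
  set y := (v : Module.End k M) - 1 with hy
  set V : Submodule k (Module.End k M) := Submodule.span k {x, y} with hV
  have h3 : V * V * V = ⊥ := by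
    rw [hV, Submodule.span_mul_span, Submodule.span_mul_span, Submodule.span_eq_bot]
    rintro _ ⟨_, ⟨p, hp, q, hq, rfl⟩, r, hr, rfl⟩
    show p * q * r = 0
    rcases hp with rfl | rfl <;> rcases hq with rfl | rfl <;> rcases hr with rfl | rfl
    all_goals
      first
        | exact h1
        | exact h2
        | rw [hu, zero_mul]
        | rw [hv, zero_mul]
        | rw [mul_assoc, hu, mul_zero]
        | rw [mul_assoc, hv, mul_zero]
  have hW2 : (V ⊔ V * V) * (V ⊔ V * V) ≤ V * V := by
    simp [Submodule.mul_sup, Submodule.sup_mul, ← mul_assoc, h3]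
  refine H98.IsNilSub.mono ⟨2, le_bot_iff.mp ?_⟩
    (H98.augNU_le (L := V ⊔ V * V) ?_ (hW2.trans le_sup_right))
  · rw [show (2 + 1 : ℕ) = 3 from rfl, pow_succ, pow_two]
    refine (mul_le_mul_left hW2 _).trans ?_
    simp [Submodule.mul_sup, ← mul_assoc, h3]
  · rintro g (rfl | rfl)
    · exact Submodule.mem_sup_left (Submodule.subset_span (Or.inl hx.symm))
    · exact Submodule.mem_sup_left (Submodule.subset_span (Or.inr hy.symm))

theorem exists_common_kernel {L : Submodule k (Module.End k M)} (hL : H98.IsNilSub L)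
    (hM : ∃ m : M, m ≠ 0) : ∃ m : M, m ≠ 0 ∧ ∀ x ∈ L, x m = 0 := by
  by_contra hcon
  push Not at hcon
  have key : ∀ j, ∀ m : M, m ≠ 0 → ∃ x ∈ L ^ (j + 1), x m ≠ 0 := by
    intro j
    induction j with
    | zero => intro m hm; simpa using hcon m hm
    | succ j ih =>
      intro m hm
      obtain ⟨x, hx, hxm⟩ := hcon m hm
      obtain ⟨y, hy, hym⟩ := ih _ hxm
      exact ⟨y * x, pow_succ L (j + 1) ▸ Submodule.mul_mem_mul hy hx, hym⟩
  obtain ⟨n, hn⟩ := hL
  obtain ⟨m, hm⟩ := hM
  obtain ⟨x, hx, hxm⟩ := key n m hm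
  rw [hn, Submodule.mem_bot] at hx
  exact hxm (by rw [hx]; rfl)

theorem exists_opposite (h2 : (2 : k) ≠ 0) (h3 : Nat.card k ≠ 3) (hirr : IsIrreducibleFor G)
    (hγ : MinQ G γ) : ∃ d, MinQ G d ∧ γ * d * γ = γ ∧ d * γ * d = d := by
  by_contra hcon
  push Not at hcon
  set T : Set (GLM k M) := {t | ∃ g ∈ G, t = g * qu γ hγ.sq * g⁻¹} with hT
  have hqu : qu γ hγ.sq ∈ G := hγ.fam.qu_mem
  have hmin : ∀ t ∈ T, MinQ G ((t : Module.End k M) - 1) := by
    rintro t ⟨g, hg, rfl⟩
    rw [conj_coe g (coe_qu γ hγ.sq), add_sub_cancel_left]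
    exact hγ.conj hg
  have hTG : ∀ t ∈ T, t ∈ G := by
    rintro t ⟨g, hg, rfl⟩
    exact mul_mem (mul_mem hg hqu) (inv_mem hg)
  have hconj : ∀ g ∈ G, ∀ t ∈ T, g * t * g⁻¹ ∈ T := by
    rintro g hg t ⟨h, hh, rfl⟩
    exact ⟨g * h, mul_mem hg hh, by group⟩
  have hnil : ∀ s ∈ T, ∀ t ∈ T, IsNilpotent (((s : Module.End k M) - 1) * ((t : Module.End k M) - 1)) := by
    rintro s hs t ⟨g, hg, rfl⟩
    rw [conj_coe g (coe_qu γ hγ.sq), add_sub_cancel_left]
    have hs' := hconj g⁻¹ (inv_mem hg) s hs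
    rw [inv_inv] at hs'
    set d := ((g⁻¹ * s * g : GLM k M) : Module.End k M) - 1 with hd
    by_contra hn
    have hn' : ¬ IsNilpotent (d * γ) := by
      rintro ⟨N, hN⟩
      refine hn ⟨N, ?_⟩
      have e : ((s : Module.End k M) - 1) * ((g : Module.End k M) * γ * ((g⁻¹ : GLM k M) : Module.End k M)) =
          (g : Module.End k M) * (d * γ) * ((g⁻¹ : GLM k M) : Module.End k M) := by
        rw [hd]
        simp [sub_mul, mul_sub, mul_assoc]
      rw [e, Units.conj_pow, hN, mul_zero, zero_mul]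
    obtain ⟨v, hv, e1, e2, -⟩ := exists_partner h2 h3 hγ (hmin _ hs') hn'
    have hv0 : v ≠ 0 := by rintro rfl; exact hγ.ne (by simpa using e1.symm)
    exact hcon v (hv.eq_of_ne (hmin _ hs') hv0).1 e1 e2
  have hL := H98.isNilSub_of_pairwise (k := k) (T := T) (fun a ha b hb => hconj a (hTG a ha) b hb)
    (fun s hs t ht => by
      obtain ⟨z1, z2⟩ := aba_bab_zero h2 (hmin t ht) (hmin s hs) (hnil s hs t ht)
      exact isNilSub_pair (hmin s hs).sq (hmin t ht).sq z2 z1)
  set W : Submodule k M := ⨅ x ∈ H98.augNU k T, ker x with hW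
  obtain ⟨m, hm0, hm⟩ := exists_common_kernel hL hirr.1
  rcases hirr.2 W (fun g hg w hw => by
      simp only [hW, Submodule.mem_iInf, LinearMap.mem_ker] at hw ⊢
      intro x hx
      have h' := H98.conj_mem_augNU (k := k) (z := g⁻¹)
        (fun t ht => hconj g⁻¹ (inv_mem hg) t ht) hx
      have := hw _ h'
      rw [inv_inv] at this
      have h3 := congrArg (g : Module.End k M) this
      rw [map_zero] at h3
      rw [← h3]
      exact (LinearMap.congr_fun (Units.mul_inv g) _).symm) with h | h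
  · have : m ∈ W := by simpa [hW] using hm
    rw [h] at this
    exact hm0 (by simpa using this)
  · apply hγ.ne
    refine LinearMap.ext fun w => ?_
    have hw : w ∈ W := h ▸ Submodule.mem_top
    simp only [hW, Submodule.mem_iInf, LinearMap.mem_ker] at hw
    have := hw _ (H98.mem_augNU (k := k) (X := T) ⟨1, one_mem G, rfl⟩)
    simpa using this

end H56Q
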