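import Cfsg.Agent.H56.QPSub

/-!
Nilpotent pairs of root subspaces generate unipotent groups.
-/

set_option autoImplicit false
set_option linter.unusedSectionVars false

namespace H56Q

open Cfsg LinearMap

variable {k : Type*} [Field k] {M : Type*} [AddCommGroup M] [Module k M] [FiniteDimensional k M]
variable {G : Subgroup (GLM k M)} {a b x y : Module.End k M}

open scoped Pointwise in
theorem unipotent_closure {SA SB : Set (Module.End k M)} (hAA : ∀ x ∈ SA, ∀ x' ∈ SA, x * x' = 0)
    (hBB : ∀ y ∈ SB, ∀ y' ∈ SB, y * y' = 0)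
    (hABA : ∀ x ∈ SA, ∀ y ∈ SB, ∀ x' ∈ SA, x * y * x' = 0)
    (hBAB : ∀ y ∈ SB, ∀ x ∈ SA, ∀ y' ∈ SB, y * x * y' = 0) {T : Set (GLM k M)}
    (hT : ∀ g ∈ T, (g : Module.End k M) - 1 ∈ SA ∪ SB) : IsUnipotentOn (Subgroup.closure T) := by
  set V : Submodule k (Module.End k M) := Submodule.span k (SA ∪ SB) with hV
  have h3 : V * V * V = ⊥ := by
    rw [hV, Submodule.span_mul_span, Submodule.span_mul_span, Submodule.span_eq_bot]
    rintro _ ⟨_, ⟨p, hp, q, hq, rfl⟩, r, hr, rfl⟩
    show p * q * r = 0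
    rcases hp with hp | hp <;> rcases hq with hq | hq <;> rcases hr with hr | hr
    all_goals
      first
        | exact hABA _ hp _ hq _ hr
        | exact hBAB _ hp _ hq _ hr
        | rw [hAA _ hp _ hq, zero_mul]
        | rw [hBB _ hp _ hq, zero_mul]
        | rw [mul_assoc, hAA _ hq _ hr, mul_zero]
        | rw [mul_assoc, hBB _ hq _ hr, mul_zero]
  set W := V ⊔ V * V with hW
  have hW2 : W * W ≤ V * V := by
    simp [hW, Submodule.mul_sup, Submodule.sup_mul, sup_le_iff, ← mul_assoc, h3]
  have hW3 : W * W * W = ⊥ := by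
    refine le_bot_iff.mp ((mul_le_mul_left hW2 W).trans ?_)
    simp [hW, Submodule.mul_sup, ← mul_assoc, h3]
  have key : ∀ g ∈ Subgroup.closure T, (g : Module.End k M) - 1 ∈ W := by
    intro g hg
    induction hg using Subgroup.closure_induction with
    | mem x hx => exact Submodule.mem_sup_left (Submodule.subset_span (hT x hx))
    | one => simp
    | mul x y _ _ hx hy =>
      have : ((x * y : GLM k M) : Module.End k M) - 1 =
          ((x : Module.End k M) - 1) * ((y : Module.End k M) - 1) + ((x : Module.End k M) - 1) +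
            ((y : Module.End k M) - 1) := by
        rw [Units.val_mul, sub_mul, mul_sub, one_mul, mul_one]; abel
      rw [this]
      exact add_mem (add_mem (Submodule.mem_sup_right (hW2 (Submodule.mul_mem_mul hx hy))) hx) hy
    | inv x _ hx =>
      set u := (x : Module.End k M) - 1 with hu
      have hu3 : u * u * u = 0 := by
        have := Submodule.mul_mem_mul (Submodule.mul_mem_mul hx hx) hx
        rwa [hW3, Submodule.mem_bot] at this
      have : ((x⁻¹ : GLM k M) : Module.End k M) = 1 - u + u * u := by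
        apply Units.inv_eq_of_mul_eq_one_right
        rw [show (x : Module.End k M) = 1 + u by rw [hu]; abel]
        simp only [mul_add, mul_sub, add_mul, one_mul, mul_one, ← mul_assoc, hu3]
        abel
      rw [this, show 1 - u + u * u - 1 = u * u - u by abel]
      exact sub_mem (Submodule.mem_sup_right (hW2 (Submodule.mul_mem_mul hx hx))) hx
  refine ⟨3, fun l hl hlen => ?_⟩
  obtain ⟨g1, g2, g3, rfl⟩ := List.length_eq_three.mp hlen
  simp only [List.mem_cons, List.not_mem_nil, or_false, forall_eq_or_imp, forall_eq] at hl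
  have := Submodule.mul_mem_mul (Submodule.mul_mem_mul (key _ hl.1) (key _ hl.2.1)) (key _ hl.2.2)
  rw [hW3, Submodule.mem_bot] at this
  simpa [List.pure_def, List.bind_eq_flatMap, mul_assoc] using this

theorem apply_zero_of_triple (h : a * b * a = 0) (hx : ker a ≤ ker x) (hy : range y ≤ range a) :
    x * b * y = 0 := by
  refine LinearMap.ext fun m => ?_
  obtain ⟨n, hn⟩ := hy (mem_range_self y m)
  show x (b (y m)) = 0
  refine hx ?_
  show a (b (y m)) = 0
  rw [← hn]
  exact LinearMap.congr_fun h n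

/-- one nilpotent pair makes all triple products of the two root subspaces vanish -/
theorem triples_zero (h2 : (2 : k) ≠ 0) (ha : MinQ G a) (hb : MinQ G b) (hn : IsNilpotent (b * a)) :
    (∀ x x' y, InRoot G a x → InRoot G a x' → InRoot G b y → x * y * x' = 0) ∧
    (∀ y y' x, InRoot G b y → InRoot G b y' → InRoot G a x → y * x * y' = 0) := by
  obtain ⟨h1, h2'⟩ := aba_bab_zero h2 ha hb hn
  constructor
  · intro x x' y hx hx' hy
    by_cases hy0 : y = 0
    · rw [hy0, mul_zero, zero_mul]
    refine apply_zero_of_triple ?_ hx.2.2 hx'.2.1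
    exact (pair_transfer h2 ha hb h1 (InRoot.self ha.fam) ha.ne hy hy0).1
  · intro y y' x hy hy' hx
    by_cases hx0 : x = 0
    · rw [hx0, mul_zero, zero_mul]
    refine apply_zero_of_triple ?_ hy.2.2 hy'.2.1
    exact (pair_transfer h2 ha hb h1 hx hx0 (InRoot.self hb.fam) hb.ne).2

theorem unipotentOn_sup (h2 : (2 : k) ≠ 0) {A B : Subgroup (GLM k M)} (hA : IsRootOf G A a)
    (hB : IsRootOf G B b) (hn : IsNilpotent (b * a)) : IsUnipotentOn (A ⊔ B) := by
  obtain ⟨hABA, hBAB⟩ := triples_zero h2 hA.1 hB.1 hn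
  rw [show A ⊔ B = Subgroup.closure ((A : Set (GLM k M)) ∪ B) by
    rw [Subgroup.closure_union, Subgroup.closure_eq, Subgroup.closure_eq]]
  refine unipotent_closure (SA := {x | InRoot G a x}) (SB := {y | InRoot G b y})
    (fun x hx x' hx' => mul_eq_zero_of_le hx.2.2 hx'.2.1 hA.1.sq)
    (fun x hx x' hx' => mul_eq_zero_of_le hx.2.2 hx'.2.1 hB.1.sq)
    (fun x hx y hy x' hx' => hABA x x' y hx hx' hy)
    (fun y hy x hx y' hy' => hBAB y y' x hy hy' hx) ?_
  rintro g (hg | hg)
  · exact Or.inl ((hA.2 g).mp hg)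
  · exact Or.inr ((hB.2 g).mp hg)

theorem unipotentOn_families (h2 : (2 : k) ≠ 0) (ha : MinQ G a) (hb : MinQ G b)
    (hn : IsNilpotent (b * a)) {T : Set (GLM k M)}
    (hT : ∀ g ∈ T, (∃ c : k, (g : Module.End k M) - 1 = c • a) ∨ ∃ c : k, (g : Module.End k M) - 1 = c • b) :
    IsUnipotentOn (Subgroup.closure T) := by
  obtain ⟨hABA, hBAB⟩ := triples_zero h2 ha hb hn
  refine unipotent_closure (SA := {x | InRoot G a x}) (SB := {y | InRoot G b y})
    (fun x hx x' hx' => mul_eq_zero_of_le hx.2.2 hx'.2.1 ha.sq)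
    (fun x hx x' hx' => mul_eq_zero_of_le hx.2.2 hx'.2.1 hb.sq)
    (fun x hx y hy x' hx' => hABA x x' y hx hx' hy)
    (fun y hy x hx y' hy' => hBAB y y' x hy hy' hx) ?_
  intro g hg
  rcases hT g hg with ⟨c, e⟩ | ⟨c, e⟩ <;> rw [Set.mem_union, e]
  · exact Or.inl ((InRoot.self ha.fam).smul c)
  · exact Or.inr ((InRoot.self hb.fam).smul c)

end H56Q
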