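import Cfsg.Agent.H56.QPCore
import Cfsg.Agent.H56.QPUnip

/-!
A non-nilpotent pair: the partner element, rank one pairs.
-/

set_option autoImplicit false
set_option linter.unusedSectionVars false

universe u

namespace H56Q

open Cfsg Polynomial LinearMap

variable {k : Type u} [Field k] {M : Type*} [AddCommGroup M] [Module k M] [FiniteDimensional k M]
variable {G : Subgroup (GLM k M)} {a b x y : Module.End k M} {A B : Subgroup (GLM k M)}

theorem CoreData.exists_zeta (C : CoreData G a b) :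
    ∃ r : k[X], (aeval (zed a b) r * zed a b) * a = a ∧ (aeval (zed a b) r * zed a b) * b = b := by
  obtain ⟨r, s, hrs⟩ : IsCoprime (X : k[X]) C.f :=
    irreducible_X.coprime_iff_not_dvd.mpr fun h => C.coeff_zero (X_dvd_iff.mp h)
  refine ⟨r, ?_, ?_⟩
  · have h := (C.left_iff (r * X - 1)).mpr ⟨-s, by linear_combination hrs⟩
    rwa [map_sub, map_mul, aeval_X, map_one, sub_mul, one_mul, sub_eq_zero] at h
  · have h := (C.right_iff (r * X - 1)).mpr ⟨-s, by linear_combination hrs⟩
    rwa [map_sub, map_mul, aeval_X, map_one, sub_mul, one_mul, sub_eq_zero] at h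

theorem inRoot_aev (hb : b * b = 0) {r : k[X]} (h : Fam G (aeval (zed a b) r * b)) :
    InRoot G b (aeval (zed a b) r * b) := by
  refine ⟨h, ?_, fun m hm => ?_⟩
  · rw [(aev_commute_right hb r).eq]
    exact LinearMap.range_comp_le_range _ _
  · show aeval (zed a b) r (b m) = 0
    rw [(hm : b m = 0), map_zero]

/-- the opposite element of `x` in the root subspace of `b` -/
theorem exists_partner (h2 : (2 : k) ≠ 0) (h3 : Nat.card k ≠ 3) (hx : MinQ G x) (hb : MinQ G b)
    (hn : ¬ IsNilpotent (b * x)) :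
    ∃ v, InRoot G b v ∧ x * v * x = x ∧ v * x * v = v ∧ (x * v + v * x) * b = b := by
  obtain ⟨C⟩ := nonempty_core h2 h3 le_rfl hx.fam hb.fam hx hb hn
  obtain ⟨r, hrx, hrb⟩ := C.exists_zeta
  set Z := aeval (zed x b) r with hZ
  have cx : Z * x = x * Z := (aev_commute_left hx.sq r).eq
  have cb : Z * b = b * Z := (aev_commute_right hb.sq r).eq
  have e1 : x * (Z * b) + Z * b * x = Z * zed x b := by
    rw [← mul_assoc, ← cx, zed, mul_add, mul_assoc, mul_assoc]
  refine ⟨Z * b, inRoot_aev hb.sq (C.famB r), ?_, ?_, ?_⟩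
  · calc x * (Z * b) * x = (x * (Z * b) + Z * b * x) * x := by
          rw [add_mul, mul_assoc (Z * b) x x, hx.sq, mul_zero, add_zero]
      _ = x := by rw [e1]; exact hrx
  · calc Z * b * x * (Z * b) = (x * (Z * b) + Z * b * x) * (Z * b) := by
          rw [add_mul, mul_assoc x (Z * b) (Z * b), mul_assoc Z b (Z * b), ← mul_assoc b Z b, ← cb,
            mul_assoc Z b b, hb.sq, mul_zero, mul_zero, mul_zero, zero_add]
      _ = Z * b := by
          rw [e1, mul_assoc Z (zed x b) (Z * b), ← mul_assoc (zed x b) Z b,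
            (aev_commute_zed r).eq, mul_assoc Z _ b]
          exact congrArg (Z * ·) hrb
  · rw [e1]; exact hrb
where
  aev_commute_zed (r : k[X]) : Commute (zed x b) (aeval (zed x b) r) := by
    show zed x b * _ = _ * zed x b
    conv_lhs => arg 1; rw [← aeval_X (R := k) (zed x b)]
    conv_rhs => arg 2; rw [← aeval_X (R := k) (zed x b)]
    rw [← map_mul, ← map_mul, mul_comm]

theorem InRoot.conj {g : GLM k M} (hg : g ∈ G) (hx : InRoot G a x) :
    InRoot G ((g : Module.End k M) * a * ((g⁻¹ : GLM k M) : Module.End k M))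
      ((g : Module.End k M) * x * ((g⁻¹ : GLM k M) : Module.End k M)) := by
  refine ⟨hx.1.conj hg, ?_, fun m hm => ?_⟩
  · rintro _ ⟨m, rfl⟩
    obtain ⟨n, hn⟩ := hx.2.1 (mem_range_self x (((g⁻¹ : GLM k M) : Module.End k M) m))
    refine ⟨(g : Module.End k M) n, ?_⟩
    simp only [Module.End.mul_apply, ← Module.End.mul_apply ((g⁻¹ : GLM k M) : Module.End k M),
      Units.inv_mul, Module.End.one_apply, hn]
  · show (g : Module.End k M) (x (((g⁻¹ : GLM k M) : Module.End k M) m)) = 0
    have : a (((g⁻¹ : GLM k M) : Module.End k M) m) = 0 := by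
      have h := congrArg ((g⁻¹ : GLM k M) : Module.End k M) (hm : (g : Module.End k M) (a _) = 0)
      rw [map_zero] at h
      exact (LinearMap.congr_fun (Units.inv_mul g) _).symm.trans h
    rw [(hx.2.2 this : x _ = 0), map_zero]

theorem IsRootOf.conj (hA : IsRootOf G A a) {g : GLM k M} (hg : g ∈ G) :
    IsRootOf G (conjBy A g) ((g : Module.End k M) * a * ((g⁻¹ : GLM k M) : Module.End k M)) := by
  refine ⟨hA.1.conj hg, fun h => ?_⟩
  have hmem : h ∈ conjBy A g ↔ g⁻¹ * h * g ∈ A := by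
    constructor
    · rintro ⟨s, hs, rfl⟩
      simpa [MulAut.conj_apply, mul_assoc] using hs
    · intro hs
      exact ⟨_, hs, by simp [MulAut.conj_apply, mul_assoc]⟩
  have e : ((g⁻¹ * h * g : GLM k M) : Module.End k M) - 1 =
      ((g⁻¹ : GLM k M) : Module.End k M) * ((h : Module.End k M) - 1) * (g : Module.End k M) := by
    rw [mul_sub, sub_mul, mul_one, Units.inv_mul, Units.val_mul, Units.val_mul]
  rw [hmem, hA.2, e]
  constructor
  · intro h'
    have := h'.conj hg
    simpa [mul_assoc] using this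
  · intro h'
    have := h'.conj (inv_mem hg)
    simpa [mul_assoc] using this

theorem IsRootOf.unique (hA : IsRootOf G A a) (hB : IsRootOf G B a) : A = B :=
  Subgroup.ext fun g => (hA.2 g).trans (hB.2 g).symm

theorem qu_inv_mul (hx : x * x = 0) (hy : y * y = 0) :
    (((qu x hx)⁻¹ * qu y hy : GLM k M) : Module.End k M) = 1 - x + y - x * y := by
  rw [Units.val_mul, coe_qu_inv, coe_qu, sub_mul, one_mul, mul_add, mul_one]; abel

theorem pair_nonnilpotent (h2 : (2 : k) ≠ 0) (ha : MinQ G a) (hb : MinQ G b)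
    (hn : ¬ IsNilpotent (b * a)) (hx : InRoot G a x) (hx0 : x ≠ 0) (hy : InRoot G b y) (hy0 : y ≠ 0) :
    ¬ IsNilpotent (y * x) := by
  intro h
  obtain ⟨hxM, hxr, hxk⟩ := hx.eq_of_ne ha hx0
  obtain ⟨hyM, hyr, hyk⟩ := hy.eq_of_ne hb hy0
  obtain ⟨h1, -⟩ := aba_bab_zero h2 hxM hyM h
  exact hn (isNilpotent_of_eq_zero
    (pair_transfer h2 hxM hyM h1 ⟨ha.fam, hxr.ge, hxk.le⟩ ha.ne ⟨hb.fam, hyr.ge, hyk.le⟩ hb.ne).1)

theorem conj_identity (hxx : x * x = 0) (hyy : y * y = 0) (e1 : x * y * x = x) (e2 : y * x * y = y) :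
    (1 - y) * x * (1 + y) = -((1 - x) * y * (1 + x)) := by
  simp only [mul_add, add_mul, sub_mul, one_mul, mul_one, e1, e2]
  abel

theorem partner_spec (h2 : (2 : k) ≠ 0) (h3 : Nat.card k ≠ 3) (hA : IsRootOf G A a)
    (hB : IsRootOf G B b) (hn : ¬ IsNilpotent (b * a)) {g : GLM k M} (hg : g ∈ A) (hg1 : g ≠ 1) :
    ∃ v, InRoot G b v ∧ v ≠ 0 ∧ ∃ hv : v * v = 0,
      ((g : Module.End k M) - 1) * v * ((g : Module.End k M) - 1) = (g : Module.End k M) - 1 ∧
      v * ((g : Module.End k M) - 1) * v = v ∧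
      conjBy A (qu v hv)⁻¹ = conjBy B g⁻¹ := by
  set x := (g : Module.End k M) - 1 with hxdef
  have hx : InRoot G a x := (hA.2 g).mp hg
  have hx0 : x ≠ 0 := fun h => hg1 (Units.ext (by simpa [hxdef, sub_eq_zero] using h))
  obtain ⟨v, hv, e1, e2, -⟩ := exists_partner h2 h3 (hx.eq_of_ne hA.1 hx0).1 hB.1
    (pair_nonnilpotent h2 hA.1 hB.1 hn hx hx0 (InRoot.self hB.1.fam) hB.1.ne)
  have hv0 : v ≠ 0 := by rintro rfl; exact hx0 (by simpa using e1.symm)
  refine ⟨v, hv, hv0, hv.1.1, e1, e2, ?_⟩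
  have hgq : g = qu x hx.1.1 := Units.ext (by simp [hxdef])
  have h1 := (hA.change hx hx0).conj (inv_mem hv.1.qu_mem)
  have h2' := (hB.change hv hv0).conj (inv_mem hx.1.qu_mem)
  rw [inv_inv, coe_qu_inv, coe_qu] at h1 h2'
  rw [conj_identity hx.1.1 hv.1.1 e1 e2] at h1
  rw [hgq]
  refine h1.unique ?_
  refine h2'.change ?_ (neg_ne_zero.mpr h2'.1.ne)
  simpa using (InRoot.self h2'.1.fam).smul (-1)

theorem rankOneCondition (h2 : (2 : k) ≠ 0) (h3 : Nat.card k ≠ 3) (hA : IsRootOf G A a)
    (hB : IsRootOf G B b) (hn : ¬ IsNilpotent (b * a)) : RankOneCondition A B := by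
  intro g hg hg1
  obtain ⟨v, hv, hv0, hvv, -, -, hc⟩ := partner_spec h2 h3 hA hB hn hg hg1
  refine ⟨qu v hvv, hB.qu_mem hv, fun h => hv0 ?_, hc⟩
  simpa using congrArg (fun u : GLM k M => (u : Module.End k M)) h

theorem IsRootOf.isMulCommutative (hA : IsRootOf G A a) : IsMulCommutative A := by
  refine ⟨⟨fun g h => Subtype.ext (Units.ext ?_)⟩⟩
  have e : ∀ g h : GLM k M, g ∈ A → h ∈ A → (g : Module.End k M) * h = g + h - 1 := fun g h hg hh => by
    have := mul_eq_zero_of_le ((hA.2 g).mp hg).2.2 ((hA.2 h).mp hh).2.1 hA.1.sq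
    rw [sub_mul, mul_sub, one_mul, mul_one, sub_eq_zero, sub_eq_iff_eq_add] at this
    rw [this]; abel
  simp only [Subgroup.coe_mul, Units.val_mul]
  rw [e _ _ g.2 h.2, e _ _ h.2 g.2]
  abel

theorem isNilpotent_of_comm {G' : Type*} [Group G'] (H : Subgroup G') [IsMulCommutative H] :
    Group.IsNilpotent H := by
  constructor
  refine ⟨1, ?_⟩
  rw [Subgroup.upperCentralSeries_one, eq_top_iff]
  exact fun h _ => Subgroup.mem_center_iff.mpr fun g => mul_comm' g h

theorem specialPair (h2 : (2 : k) ≠ 0) (h3 : Nat.card k ≠ 3) (hA : IsRootOf G A a)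
    (hB : IsRootOf G B b) (hn : ¬ IsNilpotent (b * a)) : IsSpecialRankOnePair A B := by
  haveI := hA.isMulCommutative
  haveI := hB.isMulCommutative
  refine ⟨⟨?_, isNilpotent_of_comm A, isNilpotent_of_comm B, rankOneCondition h2 h3 hA hB hn,
    rankOneCondition h2 h3 hB hA (not_nilpotent_symm hn)⟩, ?_⟩
  · rintro rfl
    have : InRoot G b a := by
      have := (hB.2 _).mp (hA.qu_mem (InRoot.self hA.1.fam))
      simpa using this
    exact hn ⟨1, by rw [pow_one]; exact mul_eq_zero_of_le le_rfl this.2.1 hB.1.sq⟩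
  · intro g hg hg1 h hh hh1 hc
    obtain ⟨v, hv, hv0, hvv, e1, e2, hcv⟩ := partner_spec h2 h3 hA hB hn hg hg1
    set x := (g : Module.End k M) - 1 with hxdef
    have hx : InRoot G a x := (hA.2 g).mp hg
    have hx0 : x ≠ 0 := fun h => hg1 (Units.ext (by simpa [hxdef, sub_eq_zero] using h))
    set w := (h : Module.End k M) - 1 with hwdef
    have hw : InRoot G b w := (hB.2 h).mp hh
    have hgq : g = qu x hx.1.1 := Units.ext (by simp [hxdef])
    have hhq : h = qu w hw.1.1 := Units.ext (by simp [hwdef])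
    have hwv : w = v := by
      by_contra hne
      set t := v + (-1 : k) • w with htdef
      have ht : InRoot G b t := hv.add hB.1.sq (hw.smul _)
      have ht0 : t ≠ 0 := fun e => hne (by
        rw [htdef, neg_one_smul, ← sub_eq_add_neg, sub_eq_zero] at e; exact e.symm)
      have hq : qu v hvv * h⁻¹ = qu t ht.1.1 := by
        apply Units.ext
        rw [hhq, Units.val_mul, coe_qu_inv, coe_qu, coe_qu, htdef, add_mul, one_mul, mul_sub, mul_one,
          mul_eq_zero_of_le hv.2.2 hw.2.1 hB.1.sq, neg_one_smul]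
        abel
      have hfix : conjBy A (qu t ht.1.1) = A := by
        rw [← hq]
        have hh' : conjBy A h⁻¹ = conjBy A (qu v hvv)⁻¹ := hc.trans hcv.symm
        calc conjBy A (qu v hvv * h⁻¹) = conjBy (conjBy A h⁻¹) (qu v hvv) := by
              rw [conjBy, conjBy, conjBy, Subgroup.map_map, map_mul]; rfl
          _ = conjBy (conjBy A (qu v hvv)⁻¹) (qu v hvv) := by rw [hh']
          _ = A := by
              rw [conjBy, conjBy, Subgroup.map_map]
              convert Subgroup.map_id A using 2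
              ext z; simp [MulAut.conj_apply, mul_assoc]
      have hm : InRoot G a ((1 + t) * x * (1 - t)) := by
        have hmem : qu t ht.1.1 * g * (qu t ht.1.1)⁻¹ ∈ A := by
          have : qu t ht.1.1 * g * (qu t ht.1.1)⁻¹ ∈ conjBy A (qu t ht.1.1) := ⟨g, hg, rfl⟩
          rwa [hfix] at this
        have := (hA.2 _).mp hmem
        rwa [conj_coe (a := x) _ (by simp [hxdef]), add_sub_cancel_left, coe_qu, coe_qu_inv] at this
      have h0 : x * ((1 + t) * x * (1 - t)) = 0 := mul_eq_zero_of_le hx.2.2 hm.2.1 hA.1.sq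
      have h1 : x * t * x * (1 - t) = 0 := by
        simpa [mul_add, add_mul, ← mul_assoc, hx.1.1] using h0
      have h4 : x * t * x = 0 := by
        rw [← mul_one (x * t * x), show (1 : Module.End k M) = (1 - t) * (1 + t) by
          simp [sub_mul, mul_add, ht.1.1], ← mul_assoc, h1, zero_mul]
      exact pair_nonnilpotent h2 hA.1 hB.1 hn hx hx0 ht ht0 (isNilpotent_of_eq_zero h4)
    apply Units.ext
    rw [hgq, hhq]
    simp only [Units.val_mul, coe_qu, coe_qu_inv, hwv]
    simp only [mul_add, add_mul, sub_mul, mul_sub, one_mul, mul_one, e1, e2, hx.1.1, hv.1.1]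
    abel

end H56Q
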