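import Cfsg.Agent.H56.QPClass
import Cfsg.Agent.H98.Criterion

/-!
Each class generates a quasisimple group.
-/

set_option autoImplicit false
set_option linter.unusedSectionVars false

universe u

namespace H56Q

open Cfsg LinearMap

variable {k : Type u} [Field k] {M : Type*} [AddCommGroup M] [Module k M] [FiniteDimensional k M]
variable {G : Subgroup (GLM k M)}

/-- a unipotent set normalised by `N` stays unipotent after conjugating by `Y ⊇ N` normalising `N` -/
theorem nil_ascend {N Y : Subgroup (GLM k M)} (hNY : N ≤ Y) (hY : ∀ y ∈ Y, ∀ n ∈ N, y * n * y⁻¹ ∈ N)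
    {T : Set (GLM k M)} (hT : ∀ t ∈ T, t ∈ N) (hn : ∀ n ∈ N, ∀ t ∈ T, n * t * n⁻¹ ∈ T)
    (hnil : H98.IsNilSub (H98.augNU k T)) :
    ∃ T' : Set (GLM k M), T ⊆ T' ∧ (∀ t ∈ T', t ∈ N) ∧ (∀ y ∈ Y, ∀ t ∈ T', y * t * y⁻¹ ∈ T') ∧
      H98.IsNilSub (H98.augNU k T') := by
  set T' : Set (GLM k M) := {t | ∃ y ∈ Y, y⁻¹ * t * y ∈ T} with hT'
  have hin : ∀ t ∈ T', t ∈ N := by
    rintro t ⟨y, hy, ht⟩
    have := hY y hy _ (hT _ ht)
    rwa [show y * (y⁻¹ * t * y) * y⁻¹ = t by group] at this
  have hconj : ∀ y ∈ Y, ∀ t ∈ T', y * t * y⁻¹ ∈ T' := by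
    rintro y hy t ⟨z, hz, ht⟩
    exact ⟨y * z, mul_mem hy hz, by rwa [show (y * z)⁻¹ * (y * t * y⁻¹) * (y * z) = z⁻¹ * t * z by group]⟩
  refine ⟨T', fun t ht => ⟨1, one_mem _, by simpa using ht⟩, hin, hconj, ?_⟩
  -- conjugation preserves nilpotence
  have hone : ∀ y : GLM k M, H98.IsNilSub (H98.augNU k {t : GLM k M | y⁻¹ * t * y ∈ T}) := by
    intro y
    obtain ⟨n, hn'⟩ := hnil
    let f : Module.End k M →ₗ[k] Module.End k M :=
      (LinearMap.mulRight k (y : Module.End k M)).comp (LinearMap.mulLeft k ((y⁻¹ : GLM k M) : Module.End k M))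
    have hf : ∀ p q, f (p * q) = f p * f q := fun p q => by
      simp [f, mul_assoc]
    have hle : H98.augNU k {t : GLM k M | y⁻¹ * t * y ∈ T} ≤ (H98.augNU k T).comap f := by
      refine H98.augNU_le (fun t ht => ?_) (Submodule.mul_le.mpr fun p hp q hq => ?_)
      · have := H98.mem_augNU (k := k) (X := T) ht
        show f _ ∈ H98.augNU k T
        convert this using 1
        simp [f, mul_sub, sub_mul]
      · show f (p * q) ∈ H98.augNU k T
        rw [hf]
        exact H98.augNU_mul_le T (Submodule.mul_mem_mul hp hq)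
    refine ⟨n, le_bot_iff.mp ?_⟩
    have hpow : ∀ j, ((H98.augNU k T).comap f) ^ (j + 1) ≤ ((H98.augNU k T) ^ (j + 1)).comap f := by
      intro j
      induction j with
      | zero => simp
      | succ j ih =>
        rw [pow_succ _ (j + 1), pow_succ (H98.augNU k T) (j + 1)]
        refine Submodule.mul_le.mpr fun p hp q hq => ?_
        rw [Submodule.mem_comap, hf]
        exact Submodule.mul_mem_mul (ih hp) hq
    refine ((pow_le_pow_left' hle _).trans (hpow n)).trans ?_
    rw [hn']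
    intro p hp
    have hp0 : f p = 0 := hp
    rw [Submodule.mem_bot]
    have := congrArg (fun z : Module.End k M => (y : Module.End k M) * z * ((y⁻¹ : GLM k M) : Module.End k M)) hp0
    simpa [f, mul_assoc] using this
  refine H98.isNilSub_of_pairwise (fun a ha b hb => hconj a (hNY (hin a ha)) b hb) fun a ha b hb => ?_
  obtain ⟨y, hy, hay⟩ := ha
  refine (H98.isNilSub_augNU_union (D := {t : GLM k M | y⁻¹ * t * y ∈ T}) (Z := {b}) (hone y) ?_ ?_).mono
    (H98.augNU_mono ?_)
  · obtain ⟨z, hz, hbz⟩ := hb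
    exact (hone z).mono (H98.augNU_mono (by rintro _ rfl; exact hbz))
  · rintro _ rfl t ht
    have hbN := hin _ hb
    have := hn _ (hY y⁻¹ (inv_mem hy) _ hbN) _ ht
    rw [inv_inv] at this
    show y⁻¹ * (_ * t * _⁻¹) * y ∈ T
    convert this using 1
    group
  · rintro x (rfl | rfl)
    · exact Or.inl hay
    · exact Or.inr rfl

theorem trivial_of_invariant_nil (hirr : IsIrreducibleFor G) {T : Set (GLM k M)}
    (hn : ∀ g ∈ G, ∀ t ∈ T, g * t * g⁻¹ ∈ T) (hnil : H98.IsNilSub (H98.augNU k T)) :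
    ∀ t ∈ T, t = 1 := by
  obtain ⟨m, hm0, hm⟩ := exists_common_kernel hnil hirr.1
  set W : Submodule k M := ⨅ x ∈ H98.augNU k T, ker x with hW
  rcases hirr.2 W (fun g hg w hw => by
      simp only [hW, Submodule.mem_iInf, LinearMap.mem_ker] at hw ⊢
      intro x hx
      have h' := H98.conj_mem_augNU (k := k) (z := g⁻¹) (fun t ht => hn g⁻¹ (inv_mem hg) t ht) hx
      have := hw _ h'
      rw [inv_inv] at this
      have h3 := congrArg (g : Module.End k M) this
      rw [map_zero] at h3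
      rw [← h3]
      exact (LinearMap.congr_fun (Units.mul_inv g) _).symm) with h | h
  · have : m ∈ W := by simpa [hW] using hm
    rw [h] at this
    exact absurd (by simpa using this) hm0
  · intro t ht
    refine Units.ext (LinearMap.ext fun w => ?_)
    have hw : w ∈ W := h ▸ Submodule.mem_top
    simp only [hW, Submodule.mem_iInf, LinearMap.mem_ker] at hw
    exact sub_eq_zero.mp (hw _ (H98.mem_augNU ht))

theorem conj_famSup {S : Set (Subgroup (GLM k M))} {y : GLM k M} (h : ∀ A ∈ S, conjBy A y ∈ S)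
    {n : GLM k M} (hn : n ∈ H98.famSup S) : y * n * y⁻¹ ∈ H98.famSup S := by
  have : H98.famSup S ≤ (H98.famSup S).comap (MulAut.conj y).toMonoidHom :=
    iSup₂_le fun A hA => Subgroup.map_le_iff_le_comap.mp (H98.le_famSup (h A hA))
  exact this hn

theorem card_root (h2 : (2 : k) ≠ 0) (h3 : Nat.card k ≠ 3) {A : Subgroup (GLM k M)} {a : Module.End k M}
    (hA : IsRootOf G A a) : 3 < ENat.card A := by
  let f : k → A := fun c => ⟨qu (c • a) (sq_smul hA.1.sq c), hA.qu_mem ((InRoot.self hA.1.fam).smul c)⟩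
  have hf : Function.Injective f := by
    intro c c' e
    have := congrArg (fun g : A => ((g : GLM k M) : Module.End k M)) e
    simp only [f, coe_qu, add_right_inj] at this
    exact smul_left_injective k hA.1.ne this
  refine lt_of_lt_of_le ?_ (ENat.card_le_card_of_injective hf)
  cases finite_or_infinite k with
  | inl h =>
    have := card_ge_four h2 h3
    rw [ENat.card_eq_coe_natCard]
    exact_mod_cast (by omega : 3 < Nat.card k)
  | inr h => rw [ENat.card_eq_top_of_infinite]; exact ENat.coe_lt_top 3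

variable {A₀ : Subgroup (GLM k M)}

theorem classOf_conj (hA₀ : A₀ ∈ quadraticRootSubgroups G) {A : Subgroup (GLM k M)}
    (hA : A ∈ classOf G A₀) {g : GLM k M} (hg : g ∈ rootGroup G) : conjBy A g ∈ classOf G A₀ :=
  RootConj.trans hA ⟨g, hg, rfl⟩

theorem classGroup_le (hA₀ : A₀ ∈ quadraticRootSubgroups G) :
    H98.famSup (classOf G A₀) ≤ rootGroup G :=
  iSup₂_le fun _ hA => H98.le_famSup (classOf_subset hA₀ hA)

theorem class_closed (h2 : (2 : k) ≠ 0) (h3 : Nat.card k ≠ 3) (hirr : IsIrreducibleFor G)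
    (hA₀ : A₀ ∈ quadraticRootSubgroups G) {A B : Subgroup (GLM k M)} (hA : A ∈ classOf G A₀)
    (hB : B ∈ classOf G A₀) (hD : ⁅A, B⁆ ∈ quadraticRootSubgroups G) : ⁅A, B⁆ ∈ classOf G A₀ := by
  by_contra hne
  obtain ⟨d, hd⟩ := exists_isRootOf hD
  obtain ⟨D', d', hD', hs, -, -⟩ := exists_partner_subgroup h2 h3 hirr hd
  have hc : ∀ C ∈ classOf G A₀, ⁅C, D'⁆ = ⊥ := by
    intro C hC
    refine commute_across h2 h3 hirr (classOf_subset hA₀ hC) hD'.mem_quadraticRoot fun e => hne ?_
    rw [← classOf_eq_of_mem hC, e, classOf_eq_of_mem (rootConj_of_rankOne hd hD' hs.1)]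
    exact RootConj.refl _
  have hle : ⁅A, B⁆ ≤ Subgroup.centralizer (D' : Set (GLM k M)) := by
    refine le_trans ?_ (sup_le (Subgroup.commutator_eq_bot_iff_le_centralizer.mp (hc A hA))
      (Subgroup.commutator_eq_bot_iff_le_centralizer.mp (hc B hB)))
    exact (Subgroup.commutator_le).mpr fun g hg h hh => by
      rw [commutatorElement_def]
      exact mul_mem (mul_mem (mul_mem (Subgroup.mem_sup_left hg) (Subgroup.mem_sup_right hh))
        (inv_mem (Subgroup.mem_sup_left hg))) (inv_mem (Subgroup.mem_sup_right hh))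
  exact not_rankOne_commuting hd (Subgroup.commutator_eq_bot_iff_le_centralizer.mpr hle) hs.1

theorem class_commutator (h2 : (2 : k) ≠ 0) (h3 : Nat.card k ≠ 3) (hirr : IsIrreducibleFor G)
    (hA₀ : A₀ ∈ quadraticRootSubgroups G) :
    H98.famSup (classOf G A₀) ≤ ⁅H98.famSup (classOf G A₀), H98.famSup (classOf G A₀)⁆ := by
  refine iSup₂_le fun A hA => ?_
  obtain ⟨a, ha⟩ := exists_isRootOf (classOf_subset hA₀ hA)
  obtain ⟨B, b, hb, hs, -, -⟩ := exists_partner_subgroup h2 h3 hirr ha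
  have hB : B ∈ classOf G A₀ := RootConj.trans hA (rootConj_of_rankOne ha hb hs.1)
  have hle : A ⊔ B ≤ H98.famSup (classOf G A₀) := sup_le (H98.le_famSup hA) (H98.le_famSup hB)
  exact le_sup_left.trans ((H98.sup_le_commutator hs ⟨ha.isMulCommutative, hb.isMulCommutative⟩
    (card_root h2 h3 ha)).trans (Subgroup.commutator_mono hle hle))

theorem comm_self_bot {X : Type*} [Group X] (C : Subgroup X) [IsMulCommutative C] : ⁅C, C⁆ = ⊥ :=
  Subgroup.commutator_eq_bot_iff_le_centralizer.mpr (Subgroup.le_centralizer C)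

theorem class_normal_cases_aux (h2 : (2 : k) ≠ 0) (h3 : Nat.card k ≠ 3) (hG : IsQuadraticPair G)
    (hA₀ : A₀ ∈ quadraticRootSubgroups G) {P : Set (Subgroup (GLM k M))} (hP : P = classOf G A₀)
    (N : Subgroup ↥(H98.famSup P)) [hNn : N.Normal] :
    N = ⊤ ∨ N ≤ Subgroup.center _ := by
  subst hP
  have hLconj : ∀ y ∈ rootGroup G, ∀ n ∈ (H98.famSup (classOf G A₀)), y * n * y⁻¹ ∈ (H98.famSup (classOf G A₀)) := fun y hy n hn =>
    conj_famSup (fun A hA => classOf_conj hA₀ hA hy) hn
  set N' := N.map (H98.famSup (classOf G A₀)).subtype with hN'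
  have hN'L : N' ≤ (H98.famSup (classOf G A₀)) := by rintro _ ⟨n, -, rfl⟩; exact n.2
  have hN'conj : ∀ l ∈ (H98.famSup (classOf G A₀)), ∀ n ∈ N', l * n * l⁻¹ ∈ N' := by
    rintro l hl _ ⟨n, hn, rfl⟩
    exact ⟨⟨l, hl⟩ * n * ⟨l, hl⟩⁻¹, hNn.conj_mem n hn ⟨l, hl⟩, rfl⟩
  have htop : ∀ E ∈ (classOf G A₀), E ≤ N' → N = ⊤ := by
    intro E hE hEN
    rw [eq_top_iff]
    have hle : (H98.famSup (classOf G A₀)) ≤ N' := by
      refine iSup₂_le fun A hA => ?_
      obtain ⟨g, hg, hAg⟩ := RootConj.trans (RootConj.symm hE) hA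
      obtain ⟨l, hl, e⟩ := conj_inside h2 h3 hG.1 hA₀ hg E hE
      rw [hAg, e]
      rintro _ ⟨x, hx, rfl⟩
      exact hN'conj l hl x (hEN hx)
    intro x _
    obtain ⟨n, hn, e⟩ := hle x.2
    rwa [← Subtype.ext e]
  by_cases hcom : ∀ n ∈ N', ∀ A ∈ (classOf G A₀), ⁅A, conjBy A n⁆ = ⊥
  · right
    have hcent : ∀ n ∈ N', ∀ A ∈ (classOf G A₀), ∀ x ∈ A, n * x = x * n := by
      intro n hn A hA x hx
      obtain ⟨a, ha⟩ := exists_isRootOf (classOf_subset hA₀ hA)
      set T : Set (GLM k M) := {t | ∃ m ∈ N', m⁻¹ * t * m ∈ A} with hT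
      have hTroot : ∀ t ∈ T, ∃ m ∈ N', t ∈ conjBy A m ∧
          ((t : Module.End k M) - 1) * ((t : Module.End k M) - 1) = 0 := by
        rintro t ⟨m, hm, ht⟩
        have hmem : t ∈ conjBy A m := H98.mem_conjBy.mpr ht
        exact ⟨m, hm, hmem,
          ((((ha.conj (rootGroup_le (classGroup_le hA₀ (hN'L hm)))).2 t).mp hmem).1).1⟩
      have hTcomm : ∀ s ∈ T, ∀ t ∈ T, s * t = t * s := by
        intro s hs t ht
        obtain ⟨m, hm, hsm, -⟩ := hTroot s hs
        obtain ⟨m', hm', htm, -⟩ := hTroot t ht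
        have h := hcom (m⁻¹ * m') (mul_mem (inv_mem hm) hm') A hA
        have h' : ⁅conjBy A m, conjBy (conjBy A (m⁻¹ * m')) m⁆ = ⊥ := by
          rw [conjBy, conjBy, ← Subgroup.map_commutator, h, Subgroup.map_bot]
        rw [H98.conjBy_conjBy, mul_inv_cancel_left] at h'
        exact (H98.commute_of_commutator_eq_bot h' hsm htm).eq
      have hTnil : H98.IsNilSub (H98.augNU k T) := by
        refine H98.isNilSub_of_pairwise (fun s hs t ht => ?_) fun s hs t ht => ?_
        · rwa [hTcomm s hs t ht, mul_inv_cancel_right]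
        · obtain ⟨-, -, -, hs2⟩ := hTroot s hs
          obtain ⟨-, -, -, ht2⟩ := hTroot t ht
          have hc : Commute ((s : Module.End k M) - 1) ((t : Module.End k M) - 1) := by
            have := congrArg (fun g : GLM k M => (g : Module.End k M)) (hTcomm s hs t ht)
            simp only [Units.val_mul] at this
            exact ((show Commute (s : Module.End k M) (t : Module.End k M) from this).sub_left
              (Commute.one_left _)).sub_right (Commute.one_right _)
          refine isNilSub_pair hs2 ht2 ?_ ?_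
          · rw [hc.eq, mul_assoc, hs2, mul_zero]
          · rw [← hc.eq, mul_assoc, ht2, mul_zero]
      let U : Set (GLM k M) := {t : GLM k M | t ∈ N' ∧ (t : Module.End k M) - 1 ∈ H98.augNU k T}
      have hTn : ∀ m ∈ N', ∀ t ∈ T, m * t * m⁻¹ ∈ T := by
        rintro m hm t ⟨m', hm', ht⟩
        exact ⟨m * m', mul_mem hm hm', by
          rwa [show (m * m')⁻¹ * (m * t * m⁻¹) * (m * m') = m'⁻¹ * t * m' by group]⟩
      have hUn : ∀ m ∈ N', ∀ t ∈ U, m * t * m⁻¹ ∈ U := fun m hm t ht =>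
        ⟨mul_mem (mul_mem hm ht.1) (inv_mem hm), by
          rw [H98.conj_val_sub_one]; exact H98.conj_mem_augNU (hTn m hm) ht.2⟩
      have hUnil : H98.IsNilSub (H98.augNU k U) :=
        hTnil.mono (H98.augNU_le (fun t ht => ht.2) (H98.augNU_mul_le T))
      obtain ⟨U1, hU1, hU1L, hU1c, hU1n⟩ := nil_ascend hN'L hN'conj (fun t ht => ht.1) hUn hUnil
      obtain ⟨U2, hU2, hU2L, hU2c, hU2n⟩ := nil_ascend (classGroup_le hA₀)
        hLconj (fun t ht => hN'L (hU1L t ht)) hU1c hU1n
      have hG0 : ∀ g ∈ G, ∀ n ∈ rootGroup G, g * n * g⁻¹ ∈ rootGroup G := fun g hg n hn =>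
        conj_famSup (fun A hA => conj_mem_roots hg hA) hn
      obtain ⟨U3, hU3, -, hU3c, hU3n⟩ := nil_ascend rootGroup_le hG0
        (fun t ht => classGroup_le hA₀ (hU2L t ht)) hU2c hU2n
      have htriv := trivial_of_invariant_nil hG.1 hU3c hU3n
      have hcom' : n * x * n⁻¹ * x⁻¹ ∈ U := by
        refine ⟨?_, ?_⟩
        · have h1 := hN'conj x (H98.le_famSup hA hx) n⁻¹ (inv_mem hn)
          have := mul_mem hn h1
          convert this using 1
          group
        · have hxT : x ∈ T := ⟨1, one_mem _, by simpa using hx⟩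
          have h1 : n * x * n⁻¹ ∈ H98.oneAdd (H98.augNU k T) (H98.augNU_mul_le T) hTnil :=
            H98.mem_augNU (hTn n hn x hxT)
          have h2' : x ∈ H98.oneAdd (H98.augNU k T) (H98.augNU_mul_le T) hTnil := H98.mem_augNU hxT
          exact mul_mem h1 (inv_mem h2')
      have := htriv _ (hU3 (hU2 (hU1 hcom')))
      exact mul_inv_eq_iff_eq_mul.mp (mul_inv_eq_one.mp this)
    intro n hn
    rw [Subgroup.mem_center_iff]
    intro g
    have hle : (H98.famSup (classOf G A₀)) ≤ Subgroup.centralizer {(n : GLM k M)} := by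
      refine iSup₂_le fun A hA x hx => ?_
      rw [Subgroup.mem_centralizer_singleton_iff]
      exact (hcent _ ⟨n, hn, rfl⟩ A hA x hx).symm
    exact Subtype.ext (Subgroup.mem_centralizer_singleton_iff.mp (hle g.2))
  · left
    push Not at hcom
    obtain ⟨n, hn, A, hA, hne⟩ := hcom
    have hCP : conjBy A n ∈ (classOf G A₀) := classOf_conj hA₀ hA (classGroup_le hA₀ (hN'L hn))
    obtain ⟨a, ha⟩ := exists_isRootOf (classOf_subset hA₀ hA)
    obtain ⟨c, hc⟩ := exists_isRootOf (classOf_subset hA₀ hCP)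
    have hAL : A ≤ (H98.famSup (classOf G A₀)) := H98.le_famSup hA
    have hCL : conjBy A n ≤ (H98.famSup (classOf G A₀)) := H98.le_famSup hCP
    have hACN : ⁅A, conjBy A n⁆ ≤ N' := by
      rw [Subgroup.commutator_le]
      intro x hx y hy
      obtain ⟨z, hz, rfl⟩ := hy
      obtain ⟨m, hm, hmd⟩ : ∃ m, m ∈ N' ∧ m = n * z * n⁻¹ * z⁻¹ := ⟨_, by
        have := mul_mem hn (hN'conj z (hAL hz) n⁻¹ (inv_mem hn))
        convert this using 1
        group, rfl⟩
      have hxz : x * z = z * x := congrArg Subtype.val (ha.isMulCommutative.1.comm ⟨x, hx⟩ ⟨z, hz⟩)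
      rw [commutatorElement_def,
        show (MulAut.conj n).toMonoidHom z = m * z by rw [hmd, inv_mul_cancel_right]; rfl]
      have e : x * (m * z) * x⁻¹ * (m * z)⁻¹ = x * m * x⁻¹ * (x * z * x⁻¹ * z⁻¹) * m⁻¹ := by group
      rw [e, hxz, mul_inv_cancel_right, mul_inv_cancel, mul_one]
      exact mul_mem (hN'conj x (hAL hx) m hm) (inv_mem hm)
    rcases trichotomy h2 h3 ha hc with ⟨hz, -⟩ | ⟨hr, -⟩ | ⟨h1, h1', hne'⟩
    · exact absurd hz hne
    · have hle : A ⊔ conjBy A n ≤ (H98.famSup (classOf G A₀)) := sup_le hAL hCL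
      have hc' : ⁅A.subgroupOf (H98.famSup (classOf G A₀)), (conjBy A n).subgroupOf (H98.famSup (classOf G A₀))⁆ ≤ N := by
        intro x hx
        have hx' : (x : GLM k M) ∈ ⁅A, conjBy A n⁆ := by
          have h := Subgroup.mem_map_of_mem (H98.famSup (classOf G A₀)).subtype hx
          rw [Subgroup.map_commutator, Subgroup.subgroupOf_map_subtype, Subgroup.subgroupOf_map_subtype,
            inf_eq_left.mpr hAL, inf_eq_left.mpr hCL] at h
          exact h
        obtain ⟨m, hm, e⟩ := hACN hx'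
        rwa [← Subtype.ext e]
      refine htop A hA ?_
      intro x hx
      have hperf := H98.sup_le_commutator hr ⟨ha.isMulCommutative, hc.isMulCommutative⟩ (card_root h2 h3 ha)
      have hAC' : ⁅A ⊔ conjBy A n, A ⊔ conjBy A n⁆ ≤ N' := by
        have h1 : ⁅A.subgroupOf (H98.famSup (classOf G A₀)) ⊔ (conjBy A n).subgroupOf (H98.famSup (classOf G A₀)), A.subgroupOf (H98.famSup (classOf G A₀)) ⊔ (conjBy A n).subgroupOf (H98.famSup (classOf G A₀))⁆ ≤ N := by
          haveI := H98.famIn_commutative (S := (classOf G A₀)) ha.isMulCommutative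
          haveI := H98.famIn_commutative (S := (classOf G A₀)) hc.isMulCommutative
          rw [H98.commutator_le_normal_iff, Subgroup.map_sup]
          refine H98.commutator_sup_self_eq_bot ?_ ?_ (H98.commutator_le_normal_iff.mp hc') <;>
            rw [← Subgroup.map_commutator, comm_self_bot, Subgroup.map_bot]
        have h2' := Subgroup.map_mono (f := (H98.famSup (classOf G A₀)).subtype) h1
        rwa [Subgroup.map_commutator, Subgroup.map_sup, Subgroup.subgroupOf_map_subtype,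
          Subgroup.subgroupOf_map_subtype, inf_eq_left.mpr hAL, inf_eq_left.mpr hCL] at h2'
      exact hAC' (hperf (Subgroup.mem_sup_left hx))
    · obtain ⟨hD, -⟩ := commutator_case h2 h3 hG.1 ha hc h1 h1' hne'
      exact htop _ (class_closed h2 h3 hG.1 hA₀ hA hCP hD.mem_quadraticRoot) hACN

theorem class_normal_cases (h2 : (2 : k) ≠ 0) (h3 : Nat.card k ≠ 3) (hG : IsQuadraticPair G)
    (hA₀ : A₀ ∈ quadraticRootSubgroups G) (N : Subgroup ↥(H98.famSup (classOf G A₀))) [N.Normal] :
    N = ⊤ ∨ N ≤ Subgroup.center _ :=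
  class_normal_cases_aux h2 h3 hG hA₀ rfl N

end H56Q
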