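import Cfsg.Agent.H56.QPCentral
import Cfsg.Agent.H68.Iso

/-!
A quadratic pair is a central product of quasisimple groups.
-/

set_option autoImplicit false
set_option linter.unusedSectionVars false

universe u

namespace H56Q

open Cfsg LinearMap

variable {k : Type u} [Field k]

theorem class_quasisimple {M : Type*} [AddCommGroup M] [Module k M] [FiniteDimensional k M]
    {G : Subgroup (GLM k M)} {A₀ : Subgroup (GLM k M)} (h2 : (2 : k) ≠ 0) (h3 : Nat.card k ≠ 3)
    (hG : IsQuadraticPair G) (hA₀ : A₀ ∈ quadraticRootSubgroups G) :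
    IsQuasisimple ↥(H98.famSup (classOf G A₀)) := by
  set P := classOf G A₀ with hP
  haveI hperf : Group.IsPerfect ↥(H98.famSup P) := by
    refine ⟨eq_top_iff.mpr fun x _ => ?_⟩
    have hx := class_commutator h2 h3 hG.1 hA₀ x.2
    rw [← Subgroup.map_subtype_commutator] at hx
    obtain ⟨y, hy, hyx⟩ := hx
    rwa [← Subtype.ext hyx]
  refine ⟨hperf, ?_⟩
  obtain ⟨a, ha⟩ := exists_isRootOf hA₀
  obtain ⟨B, b, hb, hs, -, -⟩ := exists_partner_subgroup h2 h3 hG.1 ha
  have hBP : B ∈ P := rootConj_of_rankOne ha hb hs.1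
  have hsurj := QuotientGroup.mk'_surjective (Subgroup.center ↥(H98.famSup P))
  haveI : Nontrivial (↥(H98.famSup P) ⧸ Subgroup.center ↥(H98.famSup P)) := by
    rw [QuotientGroup.nontrivial_iff]
    intro htop
    refine not_rankOne_commuting ha ?_ hs.1
    rw [Subgroup.commutator_eq_bot_iff_le_centralizer]
    intro x hx
    rw [Subgroup.mem_centralizer_iff]
    intro y hy
    have hz : (⟨x, H98.le_famSup (RootConj.refl A₀) hx⟩ : ↥(H98.famSup P)) ∈
        Subgroup.center ↥(H98.famSup P) := by rw [htop]; trivial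
    exact congrArg Subtype.val (Subgroup.mem_center_iff.mp hz ⟨y, H98.le_famSup hBP hy⟩)
  refine ⟨fun N hN => ?_⟩
  haveI := hN.comap (QuotientGroup.mk' (Subgroup.center ↥(H98.famSup P)))
  rcases class_normal_cases h2 h3 hG hA₀
    (N.comap (QuotientGroup.mk' (Subgroup.center ↥(H98.famSup P)))) with h | h
  · right
    rw [← Subgroup.map_comap_eq_self_of_surjective hsurj N, h,
      Subgroup.map_top_of_surjective _ hsurj]
  · left
    rw [← Subgroup.map_comap_eq_self_of_surjective hsurj N, Subgroup.map_eq_bot_iff,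
      QuotientGroup.ker_mk']
    exact h

/-- the conclusion of the structure theorem -/
def HasDecomp {M : Type u} [AddCommGroup M] [Module k M] (G : Subgroup (GLM k M)) : Prop :=
  ∃ (ι : Type u) (_ : Finite ι) (Gi : ι → Subgroup (GLM k M)),
    (∀ i, Gi i ≤ G ∧ ∀ g ∈ G, conjBy (Gi i) g = Gi i) ∧ (∀ i j, i ≠ j → ⁅Gi i, Gi j⁆ = ⊥) ∧
    (∀ i, IsQuasisimple ↥(Gi i) ∧ Subgroup.closure (quadraticElements G ∩ (Gi i : Set (GLM k M))) = Gi i) ∧
    quadraticElements G ⊆ ⋃ i, (Gi i : Set (GLM k M))

theorem conjBy_eq_of_invariant {X : Type*} [Group X] {H : Subgroup X} {g : X}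
    (h1 : ∀ n ∈ H, g * n * g⁻¹ ∈ H) (h2 : ∀ n ∈ H, g⁻¹ * n * g ∈ H) : conjBy H g = H := by
  ext n
  constructor
  · rintro ⟨m, hm, rfl⟩
    exact h1 m hm
  · intro hn
    refine ⟨g⁻¹ * n * g, h2 n hn, ?_⟩
    show g * (g⁻¹ * n * g) * g⁻¹ = n
    group

/-- a minimal non-zero invariant subspace -/
theorem exists_minimal_invariant {M : Type*} [AddCommGroup M] [Module k M] [FiniteDimensional k M]
    (H : Subgroup (GLM k M)) (hM : ∃ m : M, m ≠ 0) :
    ∃ W : Submodule k M, W ≠ ⊥ ∧ (∀ g ∈ H, ∀ w ∈ W, (g : Module.End k M) w ∈ W) ∧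
      ∀ U : Submodule k M, (∀ g ∈ H, ∀ w ∈ U, (g : Module.End k M) w ∈ U) → U ≤ W → U = ⊥ ∨ U = W := by
  classical
  have hex : ∃ n, ∃ W : Submodule k M, W ≠ ⊥ ∧ (∀ g ∈ H, ∀ w ∈ W, (g : Module.End k M) w ∈ W) ∧
      Module.finrank k W = n := ⟨_, ⊤, fun h => by
        obtain ⟨m, hm⟩ := hM
        exact hm (by simpa using (h ▸ Submodule.mem_top : m ∈ (⊥ : Submodule k M))),
        fun _ _ _ _ => Submodule.mem_top, rfl⟩
  obtain ⟨W, hW0, hWi, hWn⟩ := Nat.find_spec hex
  refine ⟨W, hW0, hWi, fun U hU hUW => ?_⟩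
  by_cases hU0 : U = ⊥
  · exact Or.inl hU0
  · refine Or.inr (Submodule.eq_of_le_of_finrank_le hUW ?_)
    have := Nat.find_min' hex ⟨U, hU0, hU, rfl⟩
    omega

/-- restriction of automorphisms to an invariant subspace -/
def restrictHom {M : Type*} [AddCommGroup M] [Module k M] (H : Subgroup (GLM k M)) (W : Submodule k M)
    (hW : ∀ g ∈ H, ∀ w ∈ W, (g : Module.End k M) w ∈ W) : H →* GLM k ↥W :=
  MonoidHom.toHomUnits
    { toFun := fun g => ((g : GLM k M) : Module.End k M).restrict (hW g g.2)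
      map_one' := by apply LinearMap.ext; intro w; apply Subtype.ext; rfl
      map_mul' := fun g h => by apply LinearMap.ext; intro w; apply Subtype.ext; rfl }

theorem coe_restrictHom {M : Type*} [AddCommGroup M] [Module k M] (H : Subgroup (GLM k M))
    (W : Submodule k M) (hW : ∀ g ∈ H, ∀ w ∈ W, (g : Module.End k M) w ∈ W) (g : H) (w : W) :
    ((restrictHom H W hW g : Module.End k ↥W) w : M) = ((g : GLM k M) : Module.End k M) (w : M) := rfl

variable {M : Type u} [AddCommGroup M] [Module k M] [FiniteDimensional k M]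

theorem hasDecomp_step (h2 : (2 : k) ≠ 0) (h3 : Nat.card k ≠ 3) {G : Subgroup (GLM k M)}
    (hG : IsQuadraticPair G)
    (ih : ∀ (W : Submodule k M), W ≠ ⊤ → ∀ R : Subgroup (GLM k ↥W), IsQuadraticPair R → HasDecomp R) :
    HasDecomp G := by
  classical
  have hfin := finite_classes h2 h3 hG.1
  set G0 := rootGroup G with hG0
  set Q := quadraticElements G ∩ (Subgroup.centralizer (G0 : Set (GLM k M)) : Set (GLM k M)) with hQ
  set G' := Subgroup.closure Q with hG'
  have hG'G : G' ≤ G := (Subgroup.closure_le _).mpr fun σ hσ => hσ.1.1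
  have hG'C : ∀ h ∈ G', ∀ l ∈ G0, h * l = l * h := by
    intro h hh l hl
    have hle : G' ≤ Subgroup.centralizer (G0 : Set (GLM k M)) := (Subgroup.closure_le _).mpr fun σ hσ => hσ.2
    exact (Subgroup.mem_centralizer_iff.mp (hle hh) l hl).symm
  have hsup : G0 ⊔ G' = G := by
    refine le_antisymm (sup_le rootGroup_le hG'G) ?_
    conv_lhs => rw [← hG.2]
    rw [Subgroup.closure_le]
    intro σ hσ
    rcases class_or_centralizes h2 h3 hG hσ with h | ⟨A₁, hA₁, h⟩
    · exact Subgroup.mem_sup_right (Subgroup.subset_closure ⟨hσ, h⟩)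
    · exact Subgroup.mem_sup_left (classGroup_le hA₁ h)
  -- the pieces coming from classes
  let ι₁ := ↥((classOf G) '' quadraticRootSubgroups G)
  let L : ι₁ → Subgroup (GLM k M) := fun i => H98.famSup i.1
  have hL : ∀ i : ι₁, (L i ≤ G ∧ ∀ g ∈ G, conjBy (L i) g = L i) ∧ IsQuasisimple ↥(L i) ∧
      Subgroup.closure (quadraticElements G ∩ (L i : Set (GLM k M))) = L i ∧ L i ≤ G0 := by
    rintro ⟨_, A, hA, rfl⟩
    refine ⟨⟨(classGroup_le hA).trans rootGroup_le, fun g hg => conjBy_eq_of_invariant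
      (fun n hn => classGroup_conj h2 h3 hG hA hg hn)
      (fun n hn => by simpa using classGroup_conj h2 h3 hG hA (inv_mem hg) hn)⟩,
      class_quasisimple h2 h3 hG hA, ?_, classGroup_le hA⟩
    refine le_antisymm ((Subgroup.closure_le _).mpr fun x hx => hx.2) (iSup₂_le fun B hB x hx => ?_)
    obtain ⟨b, hb⟩ := exists_isRootOf (classOf_subset hA hB)
    by_cases h0 : x = 1
    · rw [h0]; exact one_mem _
    · refine Subgroup.subset_closure ⟨?_, H98.le_famSup hB hx⟩
      have hxr := (hb.2 x).mp hx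
      have hne : (x : Module.End k M) - 1 ≠ 0 := fun h => h0 (Units.ext (sub_eq_zero.mp h))
      have := qu_mem_quadratic hxr.1 hne
      rwa [show qu _ hxr.1.1 = x from Units.ext (by simp)] at this
  have hLL : ∀ i j : ι₁, i ≠ j → ⁅L i, L j⁆ = ⊥ := by
    rintro ⟨_, A, hA, rfl⟩ ⟨_, B, hB, rfl⟩ hij
    exact commute_classes h2 h3 hG.1 hA hB fun e => hij (Subtype.ext e)
  have hcover : ∀ σ ∈ quadraticElements G,
      σ ∈ Subgroup.centralizer (G0 : Set (GLM k M)) ∨ ∃ i : ι₁, σ ∈ L i := fun σ hσ => by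
    rcases class_or_centralizes h2 h3 hG hσ with h | ⟨A₁, hA₁, h⟩
    · exact Or.inl h
    · exact Or.inr ⟨⟨_, A₁, hA₁, rfl⟩, h⟩
  -- the rest acts faithfully on a smaller space
  obtain ⟨W, hW0, hWi, hWmin⟩ := exists_minimal_invariant G' hG.1.1
  have hkill : ∀ x : Module.End k M, (∀ l ∈ G0, x * (l : GLM k M) = (l : Module.End k M) * x) →
      (∀ w ∈ W, x w = 0) → x = 0 := by
    intro x hx hxW
    set U : Submodule k M := ⨅ (y : Module.End k M)
      (_ : (∀ l ∈ G0, y * (l : GLM k M) = (l : Module.End k M) * y) ∧ ∀ w ∈ W, y w = 0), ker y with hU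
    rcases hG.1.2 U (fun g hg m hm => by
        simp only [hU, Submodule.mem_iInf, LinearMap.mem_ker] at hm ⊢
        rw [← hsup] at hg
        obtain ⟨l, hl, h, hh, rfl⟩ := exists_mul_of_commuting
          (fun l (hl : l ∈ G0) h (hh : h ∈ G') => (hG'C h hh l hl).symm) hg
        intro y hy
        have hyh : ∀ p ∈ G0, y * (h : Module.End k M) * (p : GLM k M) =
            (p : Module.End k M) * (y * (h : Module.End k M)) := fun p hp => by
          rw [mul_assoc, ← Units.val_mul, hG'C h hh p hp, Units.val_mul, ← mul_assoc, hy.1 p hp, mul_assoc]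
        have := hm (y * (h : Module.End k M)) ⟨hyh, fun w hw => hy.2 _ (hWi h hh w hw)⟩
        show y ((l : Module.End k M) ((h : Module.End k M) m)) = 0
        rw [show y ((l : Module.End k M) ((h : Module.End k M) m)) =
          (l : Module.End k M) (y ((h : Module.End k M) m)) from LinearMap.congr_fun (hy.1 l hl) _]
        rw [show y ((h : Module.End k M) m) = 0 from this, map_zero]) with hU' | hU'
    · exfalso
      apply hW0
      rw [eq_bot_iff, ← hU']
      intro w hw
      simp only [hU, Submodule.mem_iInf, LinearMap.mem_ker]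
      exact fun y hy => hy.2 w hw
    · refine LinearMap.ext fun m => ?_
      have hm : m ∈ U := hU' ▸ Submodule.mem_top
      simp only [hU, Submodule.mem_iInf, LinearMap.mem_ker] at hm
      exact hm x ⟨hx, hxW⟩
  by_cases hWtop : W = ⊤
  · -- then there are no quadratic elements
    have hno : quadraticElements G = ∅ := by
      by_contra hne
      rw [← Ne, ← Set.nonempty_iff_ne_empty] at hne
      obtain ⟨σ, hσ, hmin⟩ := exists_least_rank hne
      set a := (σ : Module.End k M) - 1 with ha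
      have haM : MinQ G a := minQ_of_minimal ⟨hσ, hmin⟩
      have hcom : ∀ h ∈ G', a * (h : GLM k M) = (h : Module.End k M) * a := by
        intro h hh
        exact commute_of_unit haM.sq (hG'C h hh _ (qu_mem_rootGroup haM))
      have hU : ∀ g ∈ G', ∀ w ∈ ker a, (g : Module.End k M) w ∈ ker a := fun g hg w hw => by
        show (a * (g : Module.End k M)) w = 0
        rw [hcom g hg]
        show (g : Module.End k M) (a w) = 0
        rw [show a w = 0 from hw, map_zero]
      rcases hWmin (ker a) hU (hWtop ▸ le_top) with h | h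
      · refine haM.ne (LinearMap.ext fun m => ?_)
        have : a m ∈ ker a := LinearMap.congr_fun haM.sq m
        rw [h] at this
        simpa using this
      · exact haM.ne (LinearMap.ker_eq_top.mp (h.trans hWtop))
    refine ⟨PEmpty, inferInstance, fun i => i.elim, fun i => i.elim, fun i => i.elim, fun i => i.elim, ?_⟩
    rw [hno]; exact Set.empty_subset _
  -- the restriction to `W`
  set r := restrictHom G' W hWi with hr
  have hlift : ∀ x : Module.End k M, (∀ l ∈ G0, x * (l : GLM k M) = (l : Module.End k M) * x) →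
      (∀ w : W, x w = 0) → x = 0 := fun x h1 h => hkill x h1 fun w hw => h ⟨w, hw⟩
  have hcomm_sub : ∀ g : G', ∀ l ∈ G0, (((g : GLM k M) : Module.End k M) - 1) * (l : GLM k M) =
      (l : Module.End k M) * (((g : GLM k M) : Module.End k M) - 1) := fun g l hl => by
    rw [sub_mul, mul_sub, one_mul, mul_one, ← Units.val_mul, hG'C g g.2 l hl, Units.val_mul]
  have hrsub : ∀ (g : G') (w : W), ((((r g : Module.End k ↥W)) - 1) w : M) =
      (((g : GLM k M) : Module.End k M) - 1) (w : M) := fun g w => by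
    rw [LinearMap.sub_apply, Submodule.coe_sub, coe_restrictHom]; rfl
  have hinj : Function.Injective r := by
    rw [injective_iff_map_eq_one]
    intro g hg
    refine Subtype.ext (Units.ext ?_)
    show ((g : GLM k M) : Module.End k M) = 1
    refine sub_eq_zero.mp (hlift _ (hcomm_sub g) fun w => ?_)
    rw [← hrsub g w, hg]
    simp
  set R := r.range with hR
  -- quadratic elements correspond
  have hquad : ∀ g : G', r g ∈ quadraticElements R ↔ (g : GLM k M) ∈ quadraticElements G := by
    intro g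
    set x := ((g : GLM k M) : Module.End k M) - 1 with hx
    have hxx : ∀ l ∈ G0, x * (l : GLM k M) = (l : Module.End k M) * x := hcomm_sub g
    constructor
    · rintro ⟨-, ⟨hsq, hne⟩, hfam⟩
      refine ⟨hG'G g.2, ⟨?_, ?_⟩, ?_⟩
      · refine hlift (x * x) (fun l hl => by rw [mul_assoc, hxx l hl, ← mul_assoc, hxx l hl, mul_assoc])
          fun w => ?_
        have h0 := congrArg Subtype.val (LinearMap.congr_fun hsq w)
        rw [Module.End.mul_apply, hrsub, hrsub] at h0
        exact h0
      · intro h0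
        refine hne (LinearMap.ext fun w => Subtype.ext ?_)
        rw [hrsub, ← hx, show x = 0 from h0]
        simp
      · rintro t ⟨c, hc⟩
        obtain ⟨g', hg'⟩ : ∃ u, u ∈ R ∧ (u : Module.End k ↥W) = 1 + c • ((r g : Module.End k ↥W) - 1) := by
          exact ⟨qu (c • ((r g : Module.End k ↥W) - 1)) (sq_smul hsq c), hfam ⟨c, rfl⟩, rfl⟩
        obtain ⟨⟨g'', hgg⟩, hge⟩ := hg'
        have heq : (((g'' : G') : GLM k M) : Module.End k M) - 1 - c • x = 0 := by
          refine hlift _ (fun l hl => by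
            rw [sub_mul, mul_sub, hcomm_sub g'' l hl, smul_mul_assoc, mul_smul_comm, hxx l hl]) fun w => ?_
          rw [LinearMap.sub_apply, LinearMap.smul_apply, ← hrsub g'', hgg, hge, add_sub_cancel_left,
            LinearMap.smul_apply, Submodule.coe_smul, hrsub, sub_self]
        have : t = (g'' : GLM k M) := Units.ext (by
          rw [hc, ← hx, ← sub_eq_zero.mp heq, add_sub_cancel])
        rw [this]
        exact hG'G g''.2
    · intro hg
      refine ⟨⟨g, rfl⟩, ⟨?_, ?_⟩, ?_⟩
      · refine LinearMap.ext fun w => Subtype.ext ?_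
        rw [Module.End.mul_apply, hrsub, hrsub]
        exact LinearMap.congr_fun hg.2.1.1 _
      · intro h0
        refine hg.2.1.2 (hlift x hxx fun w => ?_)
        rw [← hrsub g w, h0]
        simp
      · rintro t ⟨c, hc⟩
        have hxsq : x * x = 0 := hg.2.1.1
        have hmem : qu (c • x) (sq_smul hxsq c) ∈ G' := by
          by_cases hc0 : c • x = 0
          · rw [show qu (c • x) (sq_smul hxsq c) = 1 from Units.ext (by simp [hc0])]
            exact one_mem _
          refine Subgroup.subset_closure ⟨qu_mem_quadratic ((fam_of_quadratic hg).smul c) hc0, ?_⟩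
          refine Subgroup.mem_centralizer_iff.mpr fun l hl => Units.ext ?_
          simp only [Units.val_mul, coe_qu, mul_add, add_mul, one_mul, mul_one, smul_mul_assoc,
            mul_smul_comm, hxx l hl]
        refine ⟨⟨_, hmem⟩, Units.ext (LinearMap.ext fun w => Subtype.ext ?_)⟩
        rw [coe_restrictHom, hc, LinearMap.add_apply, Submodule.coe_add, LinearMap.smul_apply,
          Submodule.coe_smul, hrsub]
        simp [coe_qu, hx]
  have hRpair : IsQuadraticPair R := by
    refine ⟨⟨?_, fun U hU => ?_⟩, ?_⟩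
    · obtain ⟨w, hw, hw0⟩ := Submodule.exists_mem_ne_zero_of_ne_bot hW0
      exact ⟨⟨w, hw⟩, fun h => hw0 (congrArg Subtype.val h)⟩
    · rcases hWmin (U.map W.subtype) (fun g hg => by
          rintro _ ⟨u, hu, rfl⟩
          exact ⟨(r ⟨g, hg⟩ : Module.End k ↥W) u, hU _ ⟨⟨g, hg⟩, rfl⟩ u hu, rfl⟩)
        (Submodule.map_subtype_le _ _) with h | h
      · exact Or.inl ((Submodule.map_injective_of_injective W.subtype_injective) (by rw [h, Submodule.map_bot]))
      · refine Or.inr ((Submodule.map_injective_of_injective W.subtype_injective) ?_)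
        rw [h, Submodule.map_subtype_top]
    · refine le_antisymm ((Subgroup.closure_le _).mpr fun σ hσ => hσ.1) ?_
      rintro _ ⟨g, rfl⟩
      have hg : (g : GLM k M) ∈ Subgroup.closure Q := g.2
      have hle : Subgroup.closure Q ≤
          ((Subgroup.closure (quadraticElements R)).comap r).map G'.subtype := by
        rw [Subgroup.closure_le]
        intro σ hσ
        exact ⟨⟨σ, Subgroup.subset_closure hσ⟩, Subgroup.subset_closure ((hquad _).mpr hσ.1), rfl⟩
      obtain ⟨g', hg', e⟩ := hle hg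
      rwa [← Subtype.ext e]
  obtain ⟨ι₂, hι₂, Ri, hRc, hRR, hRq, hRcov⟩ := ih W hWtop R hRpair
  let J : ι₂ → Subgroup (GLM k M) := fun j => ((Ri j).comap r).map G'.subtype
  have hJle : ∀ j, J j ≤ G' := fun j => Subgroup.map_subtype_le _
  let Gi : ι₁ ⊕ ι₂ → Subgroup (GLM k M) := Sum.elim L J
  haveI : Finite ι₁ := hfin
  haveI : Finite ι₂ := hι₂
  have hcross : ∀ i j, ⁅L i, J j⁆ = ⊥ := fun i j => by
    rw [Subgroup.commutator_eq_bot_iff_le_centralizer]
    intro x hx
    rw [Subgroup.mem_centralizer_iff]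
    exact fun y hy => hG'C y (hJle j hy) x ((hL i).2.2.2 hx)
  refine ⟨ι₁ ⊕ ι₂, inferInstance, Gi, ?_, ?_, ?_, ?_⟩
  · rintro (i | j)
    · exact (hL i).1
    · refine ⟨(hJle j).trans hG'G, fun g hg => ?_⟩
      have key : ∀ g ∈ G, ∀ n ∈ J j, g * n * g⁻¹ ∈ J j := by
        rintro g hg _ ⟨n, hn, rfl⟩
        rw [← hsup] at hg
        obtain ⟨l, hl, h, hh, rfl⟩ := exists_mul_of_commuting
          (fun l (hl : l ∈ G0) h (hh : h ∈ G') => (hG'C h hh l hl).symm) hg
        have hm : (⟨h, hh⟩ : G') * n * (⟨h, hh⟩ : G')⁻¹ ∈ (Ri j).comap r := by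
          show r _ ∈ Ri j
          rw [map_mul, map_mul, map_inv]
          have := ((hRc j).2 _ ⟨⟨h, hh⟩, rfl⟩).le (Subgroup.mem_map_of_mem _ (hn : r n ∈ Ri j))
          exact this
        refine ⟨_, hm, ?_⟩
        show h * (n : GLM k M) * h⁻¹ = l * h * (n : GLM k M) * (l * h)⁻¹
        rw [show l * h * (n : GLM k M) * (l * h)⁻¹ = l * (h * (n : GLM k M) * h⁻¹) * l⁻¹ by group,
          ← hG'C _ (mul_mem (mul_mem hh n.2) (inv_mem hh)) l hl, mul_inv_cancel_right]
      exact conjBy_eq_of_invariant (key g hg)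
        (fun n hn => by
          have := key _ (inv_mem hg) n hn
          rw [inv_inv] at this
          exact this)
  · rintro (i | j) (i' | j') hne
    · exact hLL i i' fun e => hne (by rw [e])
    · exact hcross i j'
    · rw [Subgroup.commutator_comm]; exact hcross i' j
    · show ⁅J j, J j'⁆ = ⊥
      rw [← Subgroup.map_commutator, Subgroup.map_eq_bot_iff, Subgroup.ker_subtype, le_bot_iff]
      refine Subgroup.map_injective hinj ?_
      rw [Subgroup.map_commutator, Subgroup.map_bot, eq_bot_iff, ← hRR j j' fun e => hne (by rw [e])]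
      exact Subgroup.commutator_mono (Subgroup.map_comap_le _ _) (Subgroup.map_comap_le _ _)
  · rintro (i | j)
    · exact ⟨(hL i).2.1, (hL i).2.2.1⟩
    · have hjR : Ri j ≤ r.range := (hRc j).1
      have e1 : ((Ri j).comap r) ≃* ↥(J j) := Subgroup.equivMapOfInjective _ _ G'.subtype_injective
      have e2 : ((Ri j).comap r) ≃* ↥(Ri j) :=
        (Subgroup.equivMapOfInjective _ r hinj).trans
          (MulEquiv.subgroupCongr (Subgroup.map_comap_eq_self hjR))
      refine ⟨H68.isQuasisimple_of_equiv (e2.symm.trans e1) (hRq j).1, ?_⟩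
      refine le_antisymm ((Subgroup.closure_le _).mpr fun x hx => hx.2) ?_
      rintro _ ⟨n, hn, rfl⟩
      have hle : Ri j ≤ ((Subgroup.closure (quadraticElements G ∩ (J j : Set (GLM k M)))).comap G'.subtype).map r := by
        conv_lhs => rw [← (hRq j).2]
        rw [Subgroup.closure_le]
        intro τ hτ
        obtain ⟨g, rfl⟩ := hjR hτ.2
        exact ⟨g, Subgroup.subset_closure ⟨(hquad g).mp hτ.1, g, hτ.2, rfl⟩, rfl⟩
      obtain ⟨m, hm, e⟩ := hle (hn : r n ∈ Ri j)
      rwa [← hinj e]
  · intro σ hσ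
    rcases hcover σ hσ with h | ⟨i, h⟩
    · have hmem : σ ∈ G' := Subgroup.subset_closure ⟨hσ, h⟩
      obtain ⟨j, hj⟩ := Set.mem_iUnion.mp (hRcov ((hquad ⟨σ, hmem⟩).mpr hσ))
      exact Set.mem_iUnion.mpr ⟨Sum.inr j, ⟨⟨σ, hmem⟩, hj, rfl⟩⟩
    · exact Set.mem_iUnion.mpr ⟨Sum.inl i, h⟩
where
  exists_least_rank {G : Subgroup (GLM k M)} (hne : (quadraticElements G).Nonempty) :
      ∃ σ ∈ quadraticElements G, ∀ τ ∈ quadraticElements G, commutatorRank σ ≤ commutatorRank τ := by
    classical
    have hex : ∃ n, ∃ σ ∈ quadraticElements G, commutatorRank σ = n :=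
      ⟨_, hne.some, hne.some_mem, rfl⟩
    obtain ⟨σ, hσ, e⟩ := Nat.find_spec hex
    exact ⟨σ, hσ, fun τ hτ => e ▸ Nat.find_min' hex ⟨τ, hτ, rfl⟩⟩

theorem hasDecomp_all (h2 : (2 : k) ≠ 0) (h3 : Nat.card k ≠ 3) :
    ∀ (n : ℕ) (M : Type u) [AddCommGroup M] [Module k M] [FiniteDimensional k M]
      (G : Subgroup (GLM k M)), Module.finrank k M = n → IsQuadraticPair G → HasDecomp G := by
  intro n
  induction n using Nat.strong_induction_on with
  | _ n ih =>
    intro M _ _ _ G hn hG
    refine hasDecomp_step h2 h3 hG fun W hW R hR => ih _ ?_ W R rfl hR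
    rw [← hn]
    exact Submodule.finrank_lt hW

end H56Q
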