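import Cfsg.Agent.H56.QPCase
import Cfsg.Agent.H56.QPSL
import Cfsg.Agent.H98.SubFamily

/-!
The root subgroups of a quadratic pair form a set of abstract root subgroups.
-/

set_option autoImplicit false
set_option linter.unusedSectionVars false

universe u

namespace H56Q

open Cfsg LinearMap Polynomial

theorem rankOne_of_map {X Y : Type*} [Group X] [Group Y] {f : X →* Y} (hf : Function.Injective f)
    {A B : Subgroup X} (h : IsRankOnePair (A.map f) (B.map f)) : IsRankOnePair A B := by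
  have hc : ∀ (C : Subgroup X) (g : X), (conjBy C g).map f = conjBy (C.map f) (f g) := fun C g => by
    rw [conjBy, conjBy, Subgroup.map_map, Subgroup.map_map]
    congr 1
    ext z; simp
  have hn : ∀ C : Subgroup X, Group.IsNilpotent (C.map f) → Group.IsNilpotent C := fun C _ =>
    Group.nilpotent_of_mulEquiv (Subgroup.equivMapOfInjective C f hf).symm
  have hcond : ∀ A B : Subgroup X, RankOneCondition (A.map f) (B.map f) → RankOneCondition A B := by
    intro A B hAB a ha ha1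
    obtain ⟨_, ⟨b, hb, rfl⟩, hb1, e⟩ :=
      hAB (f a) ⟨a, ha, rfl⟩ fun e => ha1 (hf (e.trans (map_one f).symm))
    refine ⟨b, hb, fun e' => hb1 (by rw [e', map_one]), Subgroup.map_injective hf ?_⟩
    rw [hc, hc, map_inv, map_inv]
    exact e
  exact ⟨fun e => h.ne (by rw [e]), hn A h.nilpotent_left, hn B h.nilpotent_right,
    hcond A B h.cond_left, hcond B A h.cond_right⟩

variable {k : Type u} [Field k] {M : Type*} [AddCommGroup M] [Module k M] [FiniteDimensional k M]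
variable {G : Subgroup (GLM k M)} {a b γ x y : Module.End k M} {A B : Subgroup (GLM k M)}

/-- the three cases for two root subgroups -/
theorem trichotomy (h2 : (2 : k) ≠ 0) (h3 : Nat.card k ≠ 3) (hA : IsRootOf G A a) (hB : IsRootOf G B b) :
    (⁅A, B⁆ = ⊥ ∧ a * b = b * a) ∨ (IsSpecialRankOnePair A B ∧ ¬ IsNilpotent (b * a)) ∨
      (a * b * a = 0 ∧ b * a * b = 0 ∧ a * b ≠ b * a) := by
  by_cases hn : IsNilpotent (b * a)
  · by_cases hne : a * b = b * a
    · exact Or.inl ⟨commute_of_mem (fun x y hx hy => commute_all h2 hA.1 hB.1 hne hx hy) hA hB, hne⟩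
    · exact Or.inr (Or.inr ⟨(aba_bab_zero h2 hA.1 hB.1 hn).1, (aba_bab_zero h2 hA.1 hB.1 hn).2, hne⟩)
  · exact Or.inr (Or.inl ⟨specialPair h2 h3 hA hB hn, hn⟩)

theorem not_rankOne_commuting (hA : IsRootOf G A a) (hc : ⁅A, B⁆ = ⊥) (h : IsRankOnePair A B) : False := by
  obtain ⟨e, he, he1⟩ := H98.exists_mem_ne_one hA.ne_bot
  obtain ⟨f, hf, -, hef⟩ := h.cond_left e he he1
  refine h.ne ?_
  have hh : ∀ {C D : Subgroup (GLM k M)}, ⁅C, D⁆ = ⊥ → ∀ g ∈ D, conjBy C g = C := by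
    intro C D hCD g hg
    refine Eq.trans (SetLike.coe_injective (Set.image_congr ?_)) (Subgroup.map_id C)
    intro x hx
    show g * x * g⁻¹ = x
    rw [← (H98.commute_of_commutator_eq_bot hCD hx hg).eq, mul_inv_cancel_right]
  calc A = conjBy A f⁻¹ := (hh hc _ (inv_mem hf)).symm
    _ = conjBy B e⁻¹ := hef
    _ = B := hh (by rw [Subgroup.commutator_comm]; exact hc) _ (inv_mem he)

theorem not_nilpotent_of_rankOne (h2 : (2 : k) ≠ 0) (h3 : Nat.card k ≠ 3) (hirr : IsIrreducibleFor G)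
    (hA : IsRootOf G A a) (hB : IsRootOf G B b) (h : IsRankOnePair A B) : ¬ IsNilpotent (b * a) := by
  rcases trichotomy h2 h3 hA hB with ⟨hc, -⟩ | ⟨-, hn⟩ | ⟨h1, h1', hne⟩
  · exact (not_rankOne_commuting hA hc h).elim
  · exact hn
  exfalso
  obtain ⟨hD, hl, -, -, -, hcl, -⟩ := commutator_case h2 h3 hirr hA hB h1 h1' hne
  obtain ⟨e₀, he₀, he₀1⟩ := H98.exists_mem_ne_one hA.ne_bot
  obtain ⟨f₀, hf₀, -, hef⟩ := h.cond_left e₀ he₀ he₀1
  have hz := Subgroup.commutator_eq_bot_iff_le_centralizer.mp hcl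
  have key : ∀ p ∈ A ⊔ B, ∀ q ∈ A ⊔ B, ∀ r ∈ A ⊔ B, r * (p * q * p⁻¹ * q⁻¹) = p * q * p⁻¹ * q⁻¹ * r :=
    fun p hp q hq r hr => Subgroup.mem_centralizer_iff.mp
      (hz (Subgroup.commutator_mem_commutator hp hq)) r hr
  obtain ⟨f, hf, hfe⟩ : ∃ f ∈ B, e₀⁻¹ * f * e₀ = f₀⁻¹ * e₀ * f₀ := by
    have hm : f₀⁻¹ * e₀ * f₀ ∈ conjBy B e₀⁻¹ := hef ▸ ⟨e₀, he₀, by simp [MulAut.conj_apply]⟩
    obtain ⟨f, hf, e⟩ := hm
    exact ⟨f, hf, by simpa [MulAut.conj_apply] using e⟩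
  have hcomm : ∀ g ∈ B, e₀ * g * e₀⁻¹ * g⁻¹ = 1 := by
    intro g hg
    have me : e₀ ∈ A ⊔ B := Subgroup.mem_sup_left he₀
    have mf : f₀ ∈ A ⊔ B := Subgroup.mem_sup_right hf₀
    have mf' : f ∈ A ⊔ B := Subgroup.mem_sup_right hf
    have mg : g ∈ A ⊔ B := Subgroup.mem_sup_right hg
    set c1 := f₀⁻¹ * e₀ * f₀⁻¹⁻¹ * e₀⁻¹ with hc1
    set c2 := e₀⁻¹ * f * e₀⁻¹⁻¹ * f⁻¹ with hc2
    have k1 : g * c1 = c1 * g := key _ (inv_mem mf) _ me _ mg
    have k2 : g * c2 = c2 * g := key _ (inv_mem me) _ mf' _ mg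
    have kf : g * f = f * g := congrArg Subtype.val (hB.isMulCommutative.1.comm ⟨g, hg⟩ ⟨f, hf⟩)
    have he' : e₀ = c1⁻¹ * (c2 * f) := by
      have : c1 * e₀ = c2 * f := by
        rw [hc1, hc2, inv_inv, inv_inv, inv_mul_cancel_right, inv_mul_cancel_right, hfe]
      rw [← this, inv_mul_cancel_left]
    have hge : g * e₀ = e₀ * g := by
      rw [he']
      exact Commute.mul_right (Commute.inv_right (k1 : Commute g c1)) (Commute.mul_right (k2 : Commute g c2) kf)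
    rw [← hge, mul_inv_cancel_right, mul_inv_cancel]
  refine hD.ne_bot (le_bot_iff.mp ?_)
  rw [← hl e₀ he₀ he₀1, Subgroup.closure_le]
  rintro _ ⟨g, hg, rfl⟩
  exact Subgroup.mem_bot.mpr (hcomm g hg)

theorem conj_mem_roots {g : GLM k M} (hg : g ∈ G) (hA : A ∈ quadraticRootSubgroups G) :
    conjBy A g ∈ quadraticRootSubgroups G := by
  obtain ⟨a, ha⟩ := exists_isRootOf hA
  exact (ha.conj hg).mem_quadraticRoot

theorem exists_partner_subgroup (h2 : (2 : k) ≠ 0) (h3 : Nat.card k ≠ 3) (hirr : IsIrreducibleFor G)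
    (hA : IsRootOf G A a) : ∃ B d, IsRootOf G B d ∧ IsSpecialRankOnePair A B ∧ a * d * a = a ∧
      d * a * d = d := by
  obtain ⟨d, hd, e1, e2⟩ := exists_opposite h2 h3 hirr hA.1
  obtain ⟨B, hB⟩ := exists_root_subgroup hd
  refine ⟨B, d, hB, specialPair h2 h3 hA hB fun hn => hA.1.ne ?_, e1, e2⟩
  rw [← e1]
  exact (aba_bab_zero h2 hA.1 hd hn).1

theorem rootSet_famIn (h2 : (2 : k) ≠ 0) (h3 : Nat.card k ≠ 3) (hirr : IsIrreducibleFor G)
    {S : Set (Subgroup (GLM k M))} (hS : S ⊆ quadraticRootSubgroups G)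
    (hconj : ∀ A ∈ S, ∀ g ∈ H98.famSup S, conjBy A g ∈ S)
    (hcl : ∀ A ∈ S, ∀ B ∈ S, ⁅A, B⁆ ∈ quadraticRootSubgroups G → ⁅A, B⁆ ∈ S) :
    IsRootSubgroupSet (H98.famIn S) where
  commutative := by
    rintro _ ⟨A, hA, rfl⟩
    obtain ⟨a, ha⟩ := exists_isRootOf (hS hA)
    exact H98.famIn_commutative ha.isMulCommutative
  ne_bot := by
    rintro _ ⟨A, hA, rfl⟩
    obtain ⟨a, ha⟩ := exists_isRootOf (hS hA)
    exact H98.famIn_ne_bot hA ha.ne_bot
  generates := H98.famIn_generates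
  conj_mem := by
    rintro _ ⟨A, hA, rfl⟩ g
    refine ⟨conjBy A g, hconj A hA _ g.2, (H98.eq_subgroupOf_of_map (hconj A hA _ g.2) ?_).symm⟩
    conv_rhs => rw [← H98.map_subgroupOf_famSup hA]
    rw [conjBy, conjBy, Subgroup.map_map, Subgroup.map_map]
    congr 1
  pair := by
    rintro _ ⟨A, hA, rfl⟩ _ ⟨B, hB, rfl⟩
    obtain ⟨a, ha⟩ := exists_isRootOf (hS hA)
    obtain ⟨b, hb⟩ := exists_isRootOf (hS hB)
    rcases trichotomy h2 h3 ha hb with ⟨hc, -⟩ | ⟨hr, -⟩ | ⟨h1, h1', hne⟩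
    · exact Or.inl (H98.famIn_commutator_eq_bot hA hB hc)
    · refine Or.inr (Or.inl (rankOne_of_map (H98.famSup S).subtype_injective ?_))
      rw [H98.map_subgroupOf_famSup hA, H98.map_subgroupOf_famSup hB]
      exact hr.1
    · obtain ⟨hD, hl, hr, -, -, -, hc⟩ := commutator_case h2 h3 hirr ha hb h1 h1' hne
      exact Or.inr (Or.inr (H98.famIn_commutatorCase hA hB (hcl A hA B hB hD.mem_quadraticRoot) rfl
        (fun c hc' x hx => hc c hc' x (Subgroup.mem_sup_left hx))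
        (fun c hc' x hx => hc c hc' x (Subgroup.mem_sup_right hx)) hl hr))

theorem inRoot_aev_left (ha : a * a = 0) {r : k[X]} (h : Fam G (aeval (zed a b) r * a)) :
    InRoot G a (aeval (zed a b) r * a) := by
  rw [← zed_comm] at h ⊢
  exact inRoot_aev ha h

theorem exists_sl_subgroups (h2 : (2 : k) ≠ 0) (h3 : Nat.card k ≠ 3) (hA : IsRootOf G A a)
    (hB : IsRootOf G B b) (hn : ¬ IsNilpotent (b * a)) :
    ∃ A₀ B₀ : Subgroup (GLM k M), A₀ ≤ A ∧ B₀ ≤ B ∧
      ∃ (k₁ : Type u) (_ : Field k₁), 3 < ENat.card k₁ ∧ IsPSL2PairOver k₁ A₀ B₀ := by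
  obtain ⟨C⟩ := nonempty_core h2 h3 le_rfl hA.1.fam hB.1.fam hA.1 hB.1 hn
  haveI : Fact (Irreducible C.f) := ⟨C.irr⟩
  obtain ⟨φ, hinj, hup, hlow⟩ := exists_sl_embedding hA.1.fam hB.1.fam C
  have hroot : AdjoinRoot.root C.f ≠ 0 := by
    rw [← AdjoinRoot.mk_X, Ne, AdjoinRoot.mk_eq_zero]
    intro hd
    exact C.coeff_zero (X_dvd_iff.mp
      (C.irr.associated_of_dvd Polynomial.irreducible_X hd).symm.dvd)
  refine ⟨(upperUnipotentSL2 _).map φ, (lowerUnipotentSL2 _).map φ, ?_, ?_,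
    AdjoinRoot C.f, inferInstance, ?_, φ, ?_, ?_, rfl, rfl⟩
  · rw [upperUnipotentSL2, MonoidHom.map_closure, Subgroup.closure_le]
    rintro _ ⟨g, ⟨g10, g00, g11⟩, rfl⟩
    obtain ⟨P, hP⟩ := AdjoinRoot.mk_surjective (g 0 1)
    have : g = upr (AdjoinRoot.mk C.f P) := ext2 g00 hP.symm g10 g11
    rw [this, SetLike.mem_coe, hA.2, hup, add_sub_cancel_left]
    exact inRoot_aev_left hA.1.sq (C.famA P)
  · rw [lowerUnipotentSL2, MonoidHom.map_closure, Subgroup.closure_le]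
    rintro _ ⟨g, ⟨g01, g00, g11⟩, rfl⟩
    obtain ⟨P, hP⟩ := AdjoinRoot.mk_surjective (g 1 0 / AdjoinRoot.root C.f)
    have : g = lwr (AdjoinRoot.mk C.f P * AdjoinRoot.root C.f) :=
      ext2 g00 g01 (by rw [lwr_10, hP, div_mul_cancel₀ _ hroot]) g11
    rw [this, SetLike.mem_coe, hB.2, hlow, add_sub_cancel_left]
    exact inRoot_aev hB.1.sq (C.famB P)
  · have hinjK := (algebraMap k (AdjoinRoot C.f)).injective
    refine lt_of_lt_of_le ?_ (ENat.card_le_card_of_injective hinjK)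
    cases finite_or_infinite k with
    | inl h =>
      have := card_ge_four h2 h3
      rw [ENat.card_eq_coe_natCard]
      exact_mod_cast (by omega : 3 < Nat.card k)
    | inr h => rw [ENat.card_eq_top_of_infinite]; exact ENat.coe_lt_top 3
  · rw [← Subgroup.map_sup, MonoidHom.range_eq_map, H98.upper_sup_lower]
  · rw [(MonoidHom.ker_eq_bot_iff φ).mpr hinj]; exact bot_le

end H56Q
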