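import Cfsg.Agent.H56.QPSplit

/-!
A quadratic element without a root element below it centralises all root elements.
-/

set_option autoImplicit false
set_option linter.unusedSectionVars false

universe u

namespace H56Q

open Cfsg LinearMap

variable {k : Type u} [Field k] {M : Type*} [AddCommGroup M] [Module k M] [FiniteDimensional k M]
variable {G : Subgroup (GLM k M)} {A a x z w : Module.End k M}

/-- the span of the root elements -/
def rootSpan (G : Subgroup (GLM k M)) : Submodule k (Module.End k M) :=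
  Submodule.span k {x | MinQ G x}

/-- commutation with `w` -/
def adj (w : Module.End k M) : Module.End k M →ₗ[k] Module.End k M :=
  LinearMap.mulLeft k w - LinearMap.mulRight k w

theorem adj_apply (w x : Module.End k M) : adj w x = w * x - x * w := rfl

theorem adj_sq (hw : w * w = 0) (x : Module.End k M) : adj w (adj w x) = (-2 : k) • (w * x * w) := by
  have h1 : ∀ r, w * (w * r) = 0 := fun r => by rw [← mul_assoc, hw, zero_mul]
  simp only [adj_apply, mul_sub, sub_mul, mul_assoc, h1, hw, mul_zero]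
  rw [show (-2 : k) = -1 + -1 by norm_num, add_smul, neg_one_smul]
  abel

theorem conj_rootSpan {g : GLM k M} (hg : g ∈ G) (hx : x ∈ rootSpan G) :
    (g : Module.End k M) * x * ((g⁻¹ : GLM k M) : Module.End k M) ∈ rootSpan G := by
  let f : Module.End k M →ₗ[k] Module.End k M :=
    (LinearMap.mulRight k ((g⁻¹ : GLM k M) : Module.End k M)).comp (LinearMap.mulLeft k (g : Module.End k M))
  have hle : rootSpan G ≤ (rootSpan G).comap f :=
    Submodule.span_le.mpr fun y hy => Submodule.subset_span (MinQ.conj hg hy)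
  exact hle hx

theorem adj_rootSpan (h2 : (2 : k) ≠ 0) (hw : Fam G w) (hx : x ∈ rootSpan G) :
    adj w x ∈ rootSpan G := by
  have p := conj_rootSpan hw.qu_mem hx
  have m := conj_rootSpan (inv_mem hw.qu_mem) hx
  rw [inv_inv] at m
  rw [coe_qu, coe_qu_inv] at p m
  have e : adj w x = (2 : k)⁻¹ • ((1 + w) * x * (1 - w) - (1 - w) * x * (1 + w)) := by
    rw [show (1 + w) * x * (1 - w) - (1 - w) * x * (1 + w) = (2 : k) • (w * x - x * w) by
      rw [two_smul]; simp only [add_mul, sub_mul, mul_add, mul_sub, one_mul, mul_one]; abel,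
      smul_smul, inv_mul_cancel₀ h2, one_smul, adj_apply]
  rw [e]
  exact Submodule.smul_mem _ _ (Submodule.sub_mem _ p m)

theorem bracket_rootSpan (h2 : (2 : k) ≠ 0) (hz : z ∈ rootSpan G) (hx : x ∈ rootSpan G) :
    adj z x ∈ rootSpan G := by
  induction hz using Submodule.span_induction with
  | mem y hy => exact adj_rootSpan h2 hy.fam hx
  | zero => simp [adj_apply]
  | add p q _ _ hp hq =>
    rw [show adj (p + q) x = adj p x + adj q x by simp [adj_apply, add_mul, mul_add]; abel]
    exact Submodule.add_mem _ hp hq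
  | smul c p _ hp =>
    rw [show adj (c • p) x = c • adj p x by simp [adj_apply, smul_sub]]
    exact Submodule.smul_mem _ c hp

theorem adj_lie (w p q : Module.End k M) : adj w (adj p q) = adj (adj w p) q + adj p (adj w q) := by
  simp only [adj_apply, mul_sub, sub_mul, mul_assoc]; abel

/-- two images under a square zero derivation commute -/
theorem images_commute (h2 : (2 : k) ≠ 0) (hw : ∀ y ∈ rootSpan G, adj w (adj w y) = 0)
    (hz : z ∈ rootSpan G) (hx : x ∈ rootSpan G) : adj (adj w z) (adj w x) = 0 := by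
  have h := hw _ (bracket_rootSpan h2 hz hx)
  rw [adj_lie w z x, map_add, adj_lie w (adj w z) x, adj_lie w z (adj w x), hw z hz, hw x hx] at h
  simp only [show adj (0 : Module.End k M) x = 0 by simp [adj_apply], map_zero, zero_add, add_zero] at h
  rw [← two_smul k, smul_eq_zero] at h
  exact h.resolve_left h2

theorem triple_zero (h2 : (2 : k) ≠ 0) (hw : ∀ y ∈ rootSpan G, adj w (adj w y) = 0)
    (hz : z ∈ rootSpan G) (hx : x ∈ rootSpan G) : adj w (adj z (adj w x)) = 0 := by
  rw [adj_lie w z, images_commute h2 hw hz hx, hw x hx, zero_add, map_zero]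

/-- elements of the root span acting on it with square zero -/
def Sandwich (G : Subgroup (GLM k M)) (w : Module.End k M) : Prop :=
  w ∈ rootSpan G ∧ Fam (rootGroup G) w ∧ ∀ y ∈ rootSpan G, adj w (adj w y) = 0

theorem rootGroup_conj {g n : GLM k M} (hg : g ∈ G) (hn : n ∈ rootGroup G) : g * n * g⁻¹ ∈ rootGroup G :=
  conj_famSup (fun A hA => conj_mem_roots hg hA) hn

theorem sandwich_conj {g : GLM k M} (hg : g ∈ G) (hw : Sandwich G w) :
    Sandwich G ((g : Module.End k M) * w * ((g⁻¹ : GLM k M) : Module.End k M)) := by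
  obtain ⟨h1, h2', h3⟩ := hw
  refine ⟨conj_rootSpan hg h1, ⟨?_, fun c => ?_⟩, fun y hy => ?_⟩
  · simp only [mul_assoc, Units.inv_mul_cancel_left]
    rw [← mul_assoc w w, h2'.1, zero_mul, mul_zero]
  · obtain ⟨x, hx, e⟩ := h2'.2 c
    exact ⟨g * x * g⁻¹, rootGroup_conj hg hx, by rw [conj_coe g e, mul_smul_comm, smul_mul_assoc]⟩
  · have hy' := conj_rootSpan (inv_mem hg) hy
    rw [inv_inv] at hy'
    have h := h3 _ hy'
    have e : adj ((g : Module.End k M) * w * ((g⁻¹ : GLM k M) : Module.End k M))
        (adj ((g : Module.End k M) * w * ((g⁻¹ : GLM k M) : Module.End k M)) y) =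
        (g : Module.End k M) * adj w (adj w (((g⁻¹ : GLM k M) : Module.End k M) * y * (g : Module.End k M))) *
          ((g⁻¹ : GLM k M) : Module.End k M) := by
      simp [adj_apply, mul_sub, sub_mul, mul_assoc]
    rw [e, h, mul_zero, zero_mul]

/-- the elements of `G` acting on the root span -/
def actSpan (G : Subgroup (GLM k M)) : G →* (Module.End k ↥(rootSpan G))ˣ :=
  MonoidHom.toHomUnits
    { toFun := fun g =>
        { toFun := fun y => ⟨((g : GLM k M) : Module.End k M) * y.1 * (((g : GLM k M)⁻¹ : GLM k M) : Module.End k M),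
            conj_rootSpan g.2 y.2⟩
          map_add' := fun y y' => by
            apply Subtype.ext
            simp [mul_add, add_mul]
          map_smul' := fun c y => by
            apply Subtype.ext
            simp [mul_smul_comm, smul_mul_assoc] }
      map_one' := by apply LinearMap.ext; intro y; apply Subtype.ext; simp
      map_mul' := fun g h => by
        apply LinearMap.ext; intro y; apply Subtype.ext; simp [mul_assoc] }

theorem coe_actSpan (g : G) (y : ↥(rootSpan G)) :
    ((actSpan G g : Module.End k ↥(rootSpan G)) y).1 =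
      ((g : GLM k M) : Module.End k M) * y.1 * (((g : GLM k M)⁻¹ : GLM k M) : Module.End k M) := rfl

theorem central_trivial (hirr : IsIrreducibleFor G) {t : GLM k M} (ht : t ∈ rootGroup G)
    (hc : ∀ g ∈ rootGroup G, g * t = t * g) (hsq : ((t : Module.End k M) - 1) * ((t : Module.End k M) - 1) = 0) :
    t = 1 := by
  let T : Set (GLM k M) := {t | t ∈ rootGroup G ∧ (∀ g ∈ rootGroup G, g * t = t * g) ∧
    ((t : Module.End k M) - 1) * ((t : Module.End k M) - 1) = 0}
  have hconj : ∀ g ∈ G, ∀ t ∈ T, g * t * g⁻¹ ∈ T := by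
    rintro g hg t ⟨h1, h2', h3⟩
    refine ⟨rootGroup_conj hg h1, fun y hy => ?_, ?_⟩
    · have hy' := rootGroup_conj (inv_mem hg) hy
      rw [inv_inv] at hy'
      calc y * (g * t * g⁻¹) = g * (g⁻¹ * y * g * t) * g⁻¹ := by group
        _ = g * (t * (g⁻¹ * y * g)) * g⁻¹ := by rw [h2' _ hy']
        _ = g * t * g⁻¹ * y := by group
    · rw [H98.conj_val_sub_one]
      simp only [mul_assoc, Units.inv_mul_cancel_left]
      rw [← mul_assoc ((t : Module.End k M) - 1), h3, zero_mul, mul_zero]
  have hnil : H98.IsNilSub (H98.augNU k T) := by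
    refine H98.isNilSub_of_pairwise (fun a ha b hb => hconj a (rootGroup_le ha.1) b hb) ?_
    intro p hp q hq
    have hc' : Commute ((p : Module.End k M) - 1) ((q : Module.End k M) - 1) := by
      have := congrArg (fun g : GLM k M => (g : Module.End k M)) (hp.2.1 q hq.1)
      simp only [Units.val_mul] at this
      exact ((show Commute (p : Module.End k M) (q : Module.End k M) from this.symm).sub_left
        (Commute.one_left _)).sub_right (Commute.one_right _)
    refine isNilSub_pair hp.2.2 hq.2.2 ?_ ?_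
    · rw [hc'.eq, mul_assoc, hp.2.2, mul_zero]
    · rw [← hc'.eq, mul_assoc, hq.2.2, mul_zero]
  exact trivial_of_invariant_nil hirr hconj hnil t ⟨ht, hc, hsq⟩

theorem rep_nilpotent {V : Type*} [AddCommGroup V] [Module k V] [FiniteDimensional k V] {X : Type*} [Group X]
    (ρ : X →* GLM k V) {S : Set X} (hS : ∀ s ∈ S, ∀ t ∈ S, s * t * s⁻¹ ∈ S)
    (h : ∀ s ∈ S, ∀ t ∈ S, ((ρ s : Module.End k V) - 1) * ((ρ s : Module.End k V) - 1) = 0 ∧
      ((ρ s : Module.End k V) - 1) * ((ρ t : Module.End k V) - 1) * ((ρ s : Module.End k V) - 1) = 0)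
    {n : X} (hn : n ∈ Subgroup.closure S) : IsNilpotent ((ρ n : Module.End k V) - 1) := by
  have hT : H98.IsNilSub (H98.augNU k (ρ '' S : Set (GLM k V))) := by
    refine H98.isNilSub_of_pairwise ?_ ?_
    · rintro _ ⟨s, hs, rfl⟩ _ ⟨t, ht, rfl⟩
      exact ⟨s * t * s⁻¹, hS s hs t ht, by simp⟩
    · rintro _ ⟨s, hs, rfl⟩ _ ⟨t, ht, rfl⟩
      exact isNilSub_pair (h s hs s hs).1 (h t ht t ht).1 (h s hs t ht).2 (h t ht s hs).2
  have hle : Subgroup.closure S ≤
      (H98.oneAdd (H98.augNU k (ρ '' S : Set (GLM k V))) (H98.augNU_mul_le _) hT).comap ρ :=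
    (Subgroup.closure_le _).mpr fun s hs => H98.mem_augNU ⟨s, hs, rfl⟩
  have h1 : (ρ n : Module.End k V) - 1 ∈ H98.augNU k (ρ '' S : Set (GLM k V)) := hle hn
  obtain ⟨m, hm⟩ := hT
  refine ⟨m + 1, ?_⟩
  have := Submodule.pow_mem_pow _ h1 (m + 1)
  rwa [hm, Submodule.mem_bot] at this

theorem sandwich_zero (h2 : (2 : k) ≠ 0) (h3 : Nat.card k ≠ 3) (hG : IsQuadraticPair G)
    (hw : Sandwich G w) : w = 0 := by
  classical
  -- the group generated by all sandwich elements
  set S : Set (GLM k M) := {t | Sandwich G ((t : Module.End k M) - 1)} with hS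
  set N := Subgroup.closure S
  have hSG : ∀ t ∈ S, t ∈ rootGroup G := fun t ht => ht.2.1.mem_of_eq (c := 1) (by simp)
  have hNG : N ≤ rootGroup G := (Subgroup.closure_le _).mpr hSG
  have hSconj : ∀ g ∈ G, ∀ t ∈ S, g * t * g⁻¹ ∈ S := fun g hg t ht => by
    show Sandwich G _
    rw [H98.conj_val_sub_one]
    exact sandwich_conj hg ht
  have hNconj : ∀ g ∈ G, ∀ n ∈ N, g * n * g⁻¹ ∈ N := by
    intro g hg n hn
    have hle : N ≤ N.comap (MulAut.conj g).toMonoidHom :=
      (Subgroup.closure_le _).mpr fun t ht => Subgroup.subset_closure (hSconj g hg t ht)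
    exact hle hn
  let ρ := actSpan G
  have hval : ∀ t : G, (t : GLM k M) ∈ S → ∀ y : ↥(rootSpan G),
      ((((ρ t : Module.End k ↥(rootSpan G))) - 1) y).1 = adj (((t : GLM k M) : Module.End k M) - 1) y.1 := by
    intro t ht y
    set v := ((t : GLM k M) : Module.End k M) - 1 with hv
    have hvv : v * v = 0 := ht.2.1.1
    have e1 : ((t : GLM k M) : Module.End k M) = 1 + v := by rw [hv]; abel
    have e2 : (((t : GLM k M)⁻¹ : GLM k M) : Module.End k M) = 1 - v := by
      apply Units.inv_eq_of_mul_eq_one_right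
      rw [e1]; simp [add_mul, mul_sub, hvv]
    have hyv : v * y.1 * v = 0 := by
      have h := adj_sq hvv y.1
      rw [ht.2.2 y.1 y.2] at h
      exact (smul_eq_zero.mp h.symm).resolve_left (neg_ne_zero.mpr h2)
    rw [LinearMap.sub_apply, Submodule.coe_sub, coe_actSpan, e1, e2, Module.End.one_apply, adj_apply]
    simp only [add_mul, mul_sub, one_mul, mul_one, hyv]
    abel
  let S' : Set G := {t : G | (t : GLM k M) ∈ S}
  have hNn : ∀ n : G, (n : GLM k M) ∈ N → IsNilpotent ((ρ n : Module.End k ↥(rootSpan G)) - 1) := by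
    intro n hn
    refine rep_nilpotent ρ (S := S') (fun s hs t ht => hSconj _ s.2 _ ht) (fun s hs t ht => ⟨?_, ?_⟩) ?_
    · refine LinearMap.ext fun y => Subtype.ext ?_
      rw [Module.End.mul_apply, hval s hs, hval s hs]
      exact hs.2.2 _ y.2
    · refine LinearMap.ext fun y => Subtype.ext ?_
      rw [Module.End.mul_apply, Module.End.mul_apply, hval s hs, hval t ht, hval s hs]
      exact triple_zero h2 hs.2.2 ht.1 y.2
    · have hle : N ≤ (Subgroup.closure S').map G.subtype :=
        (Subgroup.closure_le _).mpr fun t ht =>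
          ⟨⟨t, rootGroup_le (hSG t ht)⟩, Subgroup.subset_closure ht, rfl⟩
      obtain ⟨m, hm, e⟩ := hle hn
      rwa [← Subtype.ext e]
  -- each class group meets it centrally
  have hcent : ∀ n ∈ N, ∀ A ∈ quadraticRootSubgroups G, ∀ g ∈ A, g * n = n * g := by
    intro n hn A hA g hg
    set P := classOf G A with hP
    have hLG : H98.famSup P ≤ G := (classGroup_le hA).trans rootGroup_le
    haveI : (N.subgroupOf (H98.famSup (classOf G A))).Normal :=
      ⟨fun x hx l => hNconj _ (hLG l.2) _ hx⟩
    rcases class_normal_cases h2 h3 hG hA (N.subgroupOf (H98.famSup (classOf G A))) with h | h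
    · exfalso
      obtain ⟨a, ha⟩ := exists_isRootOf hA
      obtain ⟨B, d, hB, hs, e1, e2⟩ := exists_partner_subgroup h2 h3 hG.1 ha
      obtain ⟨c, hc0, hc1, hc2⟩ := exists_scalar h2 h3
      have hBP : B ∈ P := rootConj_of_rankOne ha hB hs.1
      have hqa : ∀ s : k, qu (s • a) (sq_smul ha.1.sq s) ∈ H98.famSup P := fun s =>
        H98.le_famSup (RootConj.refl A) (ha.qu_mem ((InRoot.self ha.1.fam).smul s))
      have hqd : ∀ s : k, qu (s • d) (sq_smul hB.1.sq s) ∈ H98.famSup P := fun s =>
        H98.le_famSup hBP (hB.qu_mem ((InRoot.self hB.1.fam).smul s))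
      have htm : torusEl a d ha.1.sq hB.1.sq c ∈ H98.famSup P :=
        mul_mem (mul_mem (mul_mem (hqa _) (inv_mem (hqd _))) (hqa _))
          (mul_mem (mul_mem (hqa _) (inv_mem (hqd _))) (hqa _))
      have hN' : (⟨_, htm⟩ : ↥(H98.famSup P)) ∈ N.subgroupOf (H98.famSup P) := by rw [h]; trivial
      set τ : G := ⟨_, hLG htm⟩
      obtain ⟨m, hm⟩ := hNn τ hN'
      set y : ↥(rootSpan G) := ⟨a, Submodule.subset_span ha.1⟩
      have hy : ((ρ τ : Module.End k ↥(rootSpan G)) - 1) y = (c * c - 1) • y := by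
        apply Subtype.ext
        rw [LinearMap.sub_apply, Submodule.coe_sub, coe_actSpan, coe_torusEl ha.1.sq hB.1.sq e1 e2 hc0,
          coe_torusEl_inv ha.1.sq hB.1.sq e1 e2 hc0]
        have a1 : a * (d * a) = a := by rw [← mul_assoc, e1]
        have aa := ha.1.sq
        have a3 : ∀ r, a * (a * r) = 0 := fun r => by rw [← mul_assoc, aa, zero_mul]
        have a5 : ∀ r, a * (d * (a * r)) = a * r := fun r => by
          rw [← mul_assoc d, ← mul_assoc a (d * a), a1]
        simp only [y, Submodule.coe_smul, Module.End.one_apply, add_mul, mul_add, one_mul, mul_one,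
          smul_mul_assoc, mul_smul_comm, smul_smul, mul_assoc, a1, aa, a3, a5, mul_zero, smul_zero,
          add_zero]
        match_scalars
        ring
      have hpw : ∀ j : ℕ, (((ρ τ : Module.End k ↥(rootSpan G)) - 1) ^ j) y = (c * c - 1) ^ j • y := by
        intro j
        induction j with
        | zero => simp
        | succ j ih => rw [pow_succ', Module.End.mul_apply, ih, map_smul, hy, smul_smul, ← pow_succ]
      have := hpw m
      rw [hm, LinearMap.zero_apply] at this
      rcases smul_eq_zero.mp this.symm with h' | h'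
      · have := mul_self_eq_one_iff.mp (sub_eq_zero.mp (pow_eq_zero_iff'.mp h').1)
        exact this.elim hc1 hc2
      · exact ha.1.ne (congrArg Subtype.val h')
    · have hgen : ∀ p ∈ H98.famSup P, ∀ q ∈ H98.famSup P,
          n * (p * q * p⁻¹ * q⁻¹) * n⁻¹ = p * q * p⁻¹ * q⁻¹ := by
        intro p hp q hq
        have hz : ∀ p ∈ H98.famSup P, ∃ z ∈ H98.famSup P, n * p * n⁻¹ = z * p ∧
            ∀ r ∈ H98.famSup P, z * r = r * z := by
          intro p hp
          have hzL : n * p * n⁻¹ * p⁻¹ ∈ H98.famSup P :=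
            mul_mem (conj_famSup (fun C hC => classOf_conj hA hC (hNG hn)) hp) (inv_mem hp)
          have hzN : n * p * n⁻¹ * p⁻¹ ∈ N := by
            have := mul_mem hn (hNconj p (hLG hp) _ (inv_mem hn))
            simpa only [mul_assoc] using this
          have hz := Subgroup.mem_center_iff.mp (h (show (⟨_, hzL⟩ : ↥(H98.famSup P)) ∈ _ from hzN))
          exact ⟨_, hzL, by group, fun r hr => (congrArg Subtype.val (hz ⟨r, hr⟩)).symm⟩
        obtain ⟨z, hzm, e1, c1⟩ := hz p hp
        obtain ⟨z', hzm', e1', c1'⟩ := hz q hq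
        calc n * (p * q * p⁻¹ * q⁻¹) * n⁻¹
            = (n * p * n⁻¹) * (n * q * n⁻¹) * (n * p * n⁻¹)⁻¹ * (n * q * n⁻¹)⁻¹ := by group
          _ = z * p * (z' * q) * (z * p)⁻¹ * (z' * q)⁻¹ := by rw [e1, e1']
          _ = z * (p * (z' * q) * p⁻¹) * (z⁻¹ * (q⁻¹ * z'⁻¹)) := by group
          _ = (p * (z' * q) * p⁻¹) * z * (z⁻¹ * (q⁻¹ * z'⁻¹)) := by
            rw [c1 _ (mul_mem (mul_mem hp (mul_mem hzm' hq)) (inv_mem hp))]
          _ = (p * z') * q * p⁻¹ * q⁻¹ * z'⁻¹ := by group
          _ = (z' * p) * q * p⁻¹ * q⁻¹ * z'⁻¹ := by rw [← c1' p hp]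
          _ = (z' * (p * q * p⁻¹ * q⁻¹)) * z'⁻¹ := by group
          _ = (p * q * p⁻¹ * q⁻¹) * z' * z'⁻¹ := by
            rw [c1' _ (mul_mem (mul_mem (mul_mem hp hq) (inv_mem hp)) (inv_mem hq))]
          _ = p * q * p⁻¹ * q⁻¹ := mul_inv_cancel_right _ _
      have hle : ⁅H98.famSup P, H98.famSup P⁆ ≤ Subgroup.centralizer {n} := by
        rw [Subgroup.commutator_le]
        intro p hp q hq
        rw [commutatorElement_def, Subgroup.mem_centralizer_singleton_iff]
        have := hgen p hp q hq
        exact (mul_inv_eq_iff_eq_mul.mp this).symm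
      exact Subgroup.mem_centralizer_singleton_iff.mp
        (hle (class_commutator h2 h3 hG.1 hA (H98.le_famSup (RootConj.refl A) hg)))
  have hS1 : qu w hw.2.1.1 ∈ S := by simpa [hS] using hw
  have := central_trivial hG.1 (hSG _ hS1) (fun g hg => by
    have hle : rootGroup G ≤ Subgroup.centralizer {qu w hw.2.1.1} :=
      iSup₂_le fun A hA x hx => Subgroup.mem_centralizer_singleton_iff.mpr
        (hcent _ (Subgroup.subset_closure hS1) A hA x hx)
    exact Subgroup.mem_centralizer_singleton_iff.mp (hle hg))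
    (by simpa using hw.2.1.1)
  simpa using congrArg (fun g : GLM k M => (g : Module.End k M)) this

theorem commutes_of_no_small (h2 : (2 : k) ≠ 0) (h3 : Nat.card k ≠ 3) (hG : IsQuadraticPair G)
    (hA : Fam G A) (h : ∀ a, MinQ G a → a * A * a = 0 ∧ A * a * A = 0) (ha : MinQ G a) :
    A * a = a * A := by
  set u := A * a - a * A with hu
  have hA2 : ∀ y ∈ rootSpan G, adj A (adj A y) = 0 := by
    intro y hy
    induction hy using Submodule.span_induction with
    | mem y hy => rw [adj_sq hA.1, (h y hy).2, smul_zero]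
    | zero => simp
    | add p q _ _ hp hq => rw [map_add, map_add, hp, hq, add_zero]
    | smul c p _ hp => rw [map_smul, map_smul, hp, smul_zero]
  have haa := ha.sq
  obtain ⟨h1, h1'⟩ := h a ha
  have hu_mem : u ∈ rootSpan G := adj_rootSpan h2 hA (Submodule.subset_span ha)
  suffices hw : Sandwich G u from sub_eq_zero.mp (sandwich_zero h2 h3 hG hw)
  refine ⟨hu_mem, ?_, fun y hy => ?_⟩
  · refine ⟨?_, fun c => ⟨qu (c • A) (sq_smul hA.1 c) * qu a haa * (qu (c • A) (sq_smul hA.1 c))⁻¹ *
      (qu a haa)⁻¹, mul_mem (rootGroup_conj (hA.smul c).qu_mem (qu_mem_rootGroup ha))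
        (inv_mem (qu_mem_rootGroup ha)), ?_⟩⟩
    · have hA2' : ∀ r, A * (A * r) = 0 := fun r => by rw [← mul_assoc, hA.1, zero_mul]
      have h1r : ∀ r, a * (A * (a * r)) = 0 := fun r => by rw [← mul_assoc, ← mul_assoc, h1, zero_mul]
      have h1'' : a * (A * a) = 0 := by rw [← mul_assoc, h1]
      have h1''' : A * (a * A) = 0 := by rw [← mul_assoc, h1']
      simp [hu, sub_mul, mul_sub, mul_assoc, hA2', h1r, h1'', h1''', ← mul_assoc a a, haa]
    · have a1 : a * (A * a) = 0 := by rw [← mul_assoc, h1]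
      have a2 : A * (a * A) = 0 := by rw [← mul_assoc, h1']
      have a3 : ∀ r, A * (a * (A * r)) = 0 := fun r => by rw [← mul_assoc, ← mul_assoc, h1', zero_mul]
      simp only [Units.val_mul, coe_qu, coe_qu_inv, add_mul, mul_sub, sub_mul, mul_add, one_mul, mul_one,
        smul_mul_assoc, mul_smul_comm, smul_smul, mul_assoc, haa, a1, a2, a3, mul_zero, smul_zero, hu,
        smul_sub, add_zero, sub_zero, zero_add, smul_add, hA.1, show A * (A * a) = 0 by rw [← mul_assoc, hA.1, zero_mul]]
      abel
  · -- the square of the derivation of `u` vanishes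
    have aspan : a ∈ rootSpan G := Submodule.subset_span ha
    have hAy := adj_rootSpan h2 hA hy
    have hua : adj u a = 0 := by
      have h1'' : a * (A * a) = 0 := by rw [← mul_assoc, h1]
      simp [adj_apply, hu, sub_mul, mul_sub, mul_assoc, h1'', haa, ← mul_assoc a a]
    have hdu : ∀ q, adj u q = adj A (adj a q) - adj a (adj A q) := fun q => by
      rw [adj_lie A a q, show adj A a = u from rfl]; abel
    have hz1 : adj A (adj a (adj A (adj a y))) = 0 :=
      triple_zero h2 hA2 aspan (adj_rootSpan h2 ha.fam hy)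
    have hz2 : adj a (adj A (adj a (adj A y))) = 0 := by
      rw [triple_zero h2 hA2 aspan hy, map_zero]
    have hz3 : adj a (adj A (adj A (adj a y))) = 0 := by
      rw [hA2 _ (adj_rootSpan h2 ha.fam hy), map_zero]
    have hz4 : adj A (adj a (adj a (adj A y))) = 0 := by
      have hco : adj u (adj A y) = 0 := images_commute h2 hA2 aspan hy
      rw [adj_lie A a, show adj A a = u from rfl, triple_zero h2 hA2 aspan hy, map_zero, add_zero,
        adj_lie u a, hua, hco, map_zero, add_zero]
      simp [adj_apply]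
    rw [hdu, hdu, map_sub, map_sub, map_sub, map_sub, hz1, hz2, hz3, hz4]
    simp

end H56Q
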