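import Cfsg.Agent.H56.QPQuasi

/-!
Peeling a root element off an arbitrary quadratic element.
-/

set_option autoImplicit false
set_option linter.unusedSectionVars false

universe u

namespace H56Q

open Cfsg LinearMap Polynomial

variable {k : Type u} [Field k] {M : Type*} [AddCommGroup M] [Module k M] [FiniteDimensional k M]
variable {G X : Subgroup (GLM k M)} {A a e d : Module.End k M}

/-- a root element below a quadratic element -/
theorem exists_small (h2 : (2 : k) ≠ 0) (h3 : Nat.card k ≠ 3) (hA : Fam G A) (ha : MinQ G a)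
    (h : ¬ (a * A * a = 0 ∧ A * a * A = 0)) :
    ∃ e, MinQ G e ∧ A * e = 0 ∧ e * A = 0 ∧ range e ≤ range A ∧
      ∀ b, A * b = b * A → a * b = b * a → e * b = b * e := by
  have hA2 : ∀ r, A * (A * r) = 0 := fun r => by rw [← mul_assoc, hA.1, zero_mul]
  suffices key : ∃ Y : Module.End k M, Fam G (A * a * Y) ∧ A * a * Y ≠ 0 ∧ A * a * Y * A = 0 ∧
      ∀ b, A * b = b * A → a * b = b * a → Y * b = b * Y by
    obtain ⟨Y, hf, hne, hr, hc⟩ := key
    refine ⟨_, ha.of_rk_le hf hne ?_, by rw [mul_assoc A a Y, hA2], hr, ?_, fun b h1 h2' => ?_⟩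
    · unfold rk
      calc Module.finrank k (range (A * a * Y))
          ≤ Module.finrank k (range (A * a)) := Submodule.finrank_mono (LinearMap.range_comp_le_range _ _)
        _ ≤ Module.finrank k (range a) := by
          rw [range_mul]; exact Submodule.finrank_map_le A (range a)
    · rw [mul_assoc]; exact LinearMap.range_comp_le_range _ _
    · exact (((show Commute A b from h1).mul_left (show Commute a b from h2')).mul_left
        (show Commute Y b from hc b h1 h2')).eq
  by_cases hn : IsNilpotent (a * A)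
  · obtain ⟨N, hN⟩ := hn
    have h1 : a * A * a = 0 := bab_zero h2 N A a hA ha hN
    have h1r : ∀ r, a * (A * (a * r)) = 0 := fun r => by rw [← mul_assoc, ← mul_assoc, h1, zero_mul]
    have h1' : a * (A * a) = 0 := by rw [← mul_assoc, h1]
    have hne : A * a * A ≠ 0 := fun h' => h ⟨h1, h'⟩
    refine ⟨A, ?_, hne, by simp [mul_assoc, hA.1], fun b h1 _ => h1⟩
    -- the family of `A a A`
    set r := A * a * A with hr
    set u := A * a - a * A with hu
    have hy : ∀ t : k, cj (t • A) a = a + t • u - (t * t) • r := by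
      intro t
      simp only [cj, hu, hr, add_mul, mul_sub, one_mul, mul_one, smul_mul_assoc, mul_smul_comm, smul_smul,
        smul_sub, smul_add, mul_assoc]
      abel
    have z1 : a * u = 0 := by simp [hu, mul_sub, ← mul_assoc, ha.sq, h1]
    have z2 : u * a = 0 := by simp [hu, sub_mul, mul_assoc, ha.sq, h1']
    have z3 : a * r = 0 := by simp [hr, ← mul_assoc, h1]
    have z4 : r * a = 0 := by simp [hr, mul_assoc, h1']
    have z5 : u * u = 0 := by
      simp [hu, sub_mul, mul_sub, mul_assoc, h1', h1r, hA2, ← mul_assoc a a, ha.sq]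
    have z6 : u * r = 0 := by simp [hu, hr, sub_mul, mul_assoc, h1r, hA2]
    have z7 : r * u = 0 := by simp [hu, hr, mul_sub, mul_assoc, h1', h1r, hA2]
    have z8 : r * r = 0 := by simp [hr, mul_assoc, hA2]
    have hf : ∀ t : k, Fam G (t • u - (t * t) • r) := by
      intro t
      have hyF : Fam G (a + t • u - (t * t) • r) := hy t ▸ (hA.smul t).cj ha.fam
      have := hyF.add ha.fam.neg (by simp [sub_mul, add_mul, ha.sq, z2, z4])
        (by simp [mul_sub, mul_add, ha.sq, z1, z3])
      convert this using 1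
      abel
    have := (hf 1).add (hf (-1)) (by simp [sub_mul, mul_sub, add_mul, mul_add, z5, z6, z7, z8])
      (by simp [sub_mul, mul_sub, add_mul, mul_add, z5, z6, z7, z8])
    have h' := this.smul (-(2 : k)⁻¹)
    convert h' using 1
    rw [show (1 : k) • u - ((1 : k) * 1) • r + ((-1 : k) • u - ((-1 : k) * -1) • r) = (-2 : k) • r by
      rw [show (-2 : k) = -1 + -1 by norm_num, add_smul, neg_one_smul, neg_one_smul, one_smul, mul_one,
        neg_mul_neg, mul_one, one_smul]
      abel, smul_smul, neg_mul_neg, inv_mul_cancel₀ h2, one_smul]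
  · obtain ⟨e0, he⟩ := fam_power h2 h3 hA ha.fam
    have hz : aeval (zed A a) (X ^ (e0 + 1) : k[X]) * A = A * a * (A * (a * A) ^ e0) := by
      rw [aeval_X_pow, pow_zed_mul hA.1, pow_succ']
      simp only [mul_assoc]
    refine ⟨A * (a * A) ^ e0, ?_, ?_, ?_, fun b h1 h2' => ?_⟩
    · rw [← hz]; exact he _ (pow_dvd_pow X (Nat.le_succ e0))
    · intro h0
      rw [← hz, aeval_X_pow, pow_zed_mul hA.1] at h0
      exact hn ⟨e0 + 2, by rw [pow_succ', mul_assoc, h0, mul_zero]⟩
    · rw [← hz, mul_assoc, hA.1, mul_zero]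
    · exact ((show Commute A b from h1).mul_left
        (((show Commute a b from h2').mul_left (show Commute A b from h1)).pow_left e0)).eq

/-- the torus element of an opposite pair -/
def torusEl (e d : Module.End k M) (he : e * e = 0) (hd : d * d = 0) (s : k) : GLM k M :=
  weyl (s • e) (s⁻¹ • d) (sq_smul he s) (sq_smul hd s⁻¹) *
    weyl ((-1 : k) • e) ((-1 : k) • d) (sq_smul he (-1)) (sq_smul hd (-1))

theorem coe_torusEl (he : e * e = 0) (hd : d * d = 0) (e1 : e * d * e = e) (e2 : d * e * d = d)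
    {s : k} (hs : s ≠ 0) :
    (torusEl e d he hd s : Module.End k M) = 1 + (s - 1) • (e * d) + (s⁻¹ - 1) • (d * e) := by
  have w1 : (s • e) * (s⁻¹ • d) * (s • e) = s • e := by
    rw [smul_mul_smul_comm, smul_mul_smul_comm, e1, mul_inv_cancel₀ hs, one_mul]
  have w2 : ((-1 : k) • e) * ((-1 : k) • d) * ((-1 : k) • e) = (-1 : k) • e := by
    rw [smul_mul_smul_comm, smul_mul_smul_comm, e1]; norm_num
  rw [torusEl, Units.val_mul, coe_weyl _ _ w1, coe_weyl _ _ w2]
  have a1 : e * (d * e) = e := by rw [← mul_assoc, e1]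
  have a2 : d * (e * d) = d := by rw [← mul_assoc, e2]
  have a3 : ∀ r, e * (e * r) = 0 := fun r => by rw [← mul_assoc, he, zero_mul]
  have a4 : ∀ r, d * (d * r) = 0 := fun r => by rw [← mul_assoc, hd, zero_mul]
  have a5 : ∀ r, e * (d * (e * r)) = e * r := fun r => by
    rw [← mul_assoc d, ← mul_assoc e (d * e), a1]
  have a6 : ∀ r, d * (e * (d * r)) = d * r := fun r => by
    rw [← mul_assoc e, ← mul_assoc d (e * d), a2]
  simp only [smul_mul_smul_comm, mul_inv_cancel₀ hs, inv_mul_cancel₀ hs, one_smul, neg_mul_neg, one_mul,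
    sub_smul, neg_one_smul, mul_add, add_mul, mul_sub, sub_mul, mul_one, neg_mul, mul_neg, neg_neg,
    smul_mul_assoc, mul_smul_comm, mul_assoc, a1, a2, a3, a4, a5, a6, he, hd, mul_zero, smul_zero]
  simp only [smul_smul, mul_inv_cancel₀ hs, inv_mul_cancel₀ hs, one_smul]
  abel

theorem coe_torusEl_inv (he : e * e = 0) (hd : d * d = 0) (e1 : e * d * e = e) (e2 : d * e * d = d)
    {s : k} (hs : s ≠ 0) :
    (((torusEl e d he hd s)⁻¹ : GLM k M) : Module.End k M) =
      1 + (s⁻¹ - 1) • (e * d) + (s - 1) • (d * e) := by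
  apply Units.inv_eq_of_mul_eq_one_right
  rw [coe_torusEl he hd e1 e2 hs]
  have p1 : e * d * (e * d) = e * d := by rw [← mul_assoc, e1]
  have p2 : d * e * (d * e) = d * e := by rw [← mul_assoc, e2]
  have p3 : e * d * (d * e) = 0 := by rw [mul_assoc, ← mul_assoc d, hd, zero_mul, mul_zero]
  have p4 : d * e * (e * d) = 0 := by rw [mul_assoc, ← mul_assoc e, he, zero_mul, mul_zero]
  simp only [add_mul, mul_add, one_mul, mul_one, smul_mul_smul_comm, p1, p2, p3, p4, smul_zero,
    add_zero, zero_add]
  match_scalars <;> field_simp <;> ring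

theorem exists_scalar (h2 : (2 : k) ≠ 0) (h3 : Nat.card k ≠ 3) :
    ∃ c : k, c ≠ 0 ∧ c ≠ 1 ∧ c ≠ -1 := by
  classical
  cases finite_or_infinite k with
  | inl h =>
    haveI := Fintype.ofFinite k
    have := card_ge_four h2 h3
    obtain ⟨c, -, hc⟩ := Finset.exists_mem_notMem_of_card_lt_card
      (s := ({0, 1, -1} : Finset k)) (t := Finset.univ) (by
        rw [Finset.card_univ, ← Nat.card_eq_fintype_card]
        have := Finset.card_le_three (a := (0 : k)) (b := 1) (c := -1)
        omega)
    simp only [Finset.mem_insert, Finset.mem_singleton, not_or] at hc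
    exact ⟨c, hc⟩
  | inr h =>
    obtain ⟨c, hc⟩ := Infinite.exists_notMem_finset ({0, 1, -1} : Finset k)
    simp only [Finset.mem_insert, Finset.mem_singleton, not_or] at hc
    exact ⟨c, hc⟩

theorem decompose (h2 : (2 : k) ≠ 0) (h3 : Nat.card k ≠ 3) (hA : Fam G A) (he : MinQ G e)
    (hd : MinQ G d) (e1 : e * d * e = e) (e2 : d * e * d = d) (hAe : A * e = 0) (heA : e * A = 0)
    (hr : range e ≤ range A) (hX : ∀ g ∈ G, ∀ x ∈ X, g * x * g⁻¹ ∈ X)
    (hXe : ∀ c : k, qu (c • e) (sq_smul he.sq c) ∈ X) (hXd : ∀ c : k, qu (c • d) (sq_smul hd.sq c) ∈ X) :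
    ∃ A0, ∃ h0 : Fam G A0, rk A0 < rk A ∧ ∃ x ∈ X, qu A hA.1 = x * qu A0 h0.1 := by
  set B := e * d * A with hB
  set C := A * d * e with hC
  set A2 := e * d * A * d * e with hA2
  have ee := he.sq
  have dd := hd.sq
  have AA : ∀ r, A * (A * r) = 0 := fun r => by rw [← mul_assoc, hA.1, zero_mul]
  have Ae : ∀ r, A * (e * r) = 0 := fun r => by rw [← mul_assoc, hAe, zero_mul]
  have eA : ∀ r, e * (A * r) = 0 := fun r => by rw [← mul_assoc, heA, zero_mul]
  have eer : ∀ r, e * (e * r) = 0 := fun r => by rw [← mul_assoc, ee, zero_mul]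
  have hWA : ∀ α β : k, (α • (B + C) + β • A2) * A = 0 ∧ A * (α • (B + C) + β • A2) = 0 := by
    intro α β
    simp [hB, hC, hA2, mul_assoc, mul_add, add_mul, hA.1, AA, Ae, heA]
  have hWW : ∀ α β α' β' : k, (α • (B + C) + β • A2) * (α' • (B + C) + β' • A2) = 0 := by
    intro α β α' β'
    simp [hB, hC, hA2, mul_assoc, mul_add, add_mul, AA, Ae, eA, eer]
  have htor : ∀ s : k, torusEl e d ee dd s ∈ G ∧ torusEl e d ee dd s ∈ X := by
    intro s
    constructor
    · exact mul_mem
        (mul_mem (mul_mem (he.fam.smul s).qu_mem (inv_mem (hd.fam.smul s⁻¹).qu_mem)) (he.fam.smul s).qu_mem)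
        (mul_mem (mul_mem (he.fam.smul _).qu_mem (inv_mem (hd.fam.smul _).qu_mem)) (he.fam.smul _).qu_mem)
    · exact mul_mem (mul_mem (mul_mem (hXe s) (inv_mem (hXd s⁻¹))) (hXe s))
        (mul_mem (mul_mem (hXe _) (inv_mem (hXd _))) (hXe _))
  have hfam : ∀ s : k, s ≠ 0 → Fam X ((s - 1) • (B + C) + ((s - 1) * (s - 1)) • A2) := by
    intro s hs
    set W := (s - 1) • (B + C) + ((s - 1) * (s - 1)) • A2 with hW
    refine ⟨hWW _ _ _ _, fun t => ?_⟩
    set h := torusEl e d ee dd s
    set g := qu (t • A) (sq_smul hA.1 t)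
    refine ⟨h * g * h⁻¹ * g⁻¹, ?_, ?_⟩
    · have := mul_mem (htor s).2 (hX g ((hA.smul t).qu_mem) _ (inv_mem (htor s).2))
      simpa only [mul_assoc] using this
    · have hconj : ((h * g * h⁻¹ : GLM k M) : Module.End k M) = 1 + t • (A + W) := by
        rw [conj_coe h (coe_qu (t • A) (sq_smul hA.1 t))]
        congr 1
        rw [mul_smul_comm, smul_mul_assoc]
        congr 1
        rw [coe_torusEl ee dd e1 e2 hs, coe_torusEl_inv ee dd e1 e2 hs, hW, hB, hC, hA2]
        simp only [mul_assoc, mul_add, add_mul, one_mul, mul_one, smul_mul_assoc, mul_smul_comm,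
          smul_smul, Ae, eA, heA, mul_zero, smul_zero, smul_add, add_zero, zero_add]
        abel
      have w1 : W * A = 0 := (hWA _ _).1
      rw [Units.val_mul, hconj, coe_qu_inv]
      simp only [mul_sub, add_mul, one_mul, smul_mul_smul_comm, hA.1, w1, smul_zero, smul_add, mul_one,
        smul_mul_assoc, mul_smul_comm]
      abel
  obtain ⟨c, hc0, hc1, hc2⟩ := exists_scalar h2 h3
  have hF1 := hfam (-1) (neg_ne_zero.mpr one_ne_zero)
  have hF2 := hfam c hc0
  have hlin : ∀ α β : k, Fam X (α • (B + C) + β • A2) := by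
    intro α β
    set p : k := (-1 - 1)
    set q : k := (c - 1)
    have hp : p ≠ 0 := by
      simp only [p]; intro hh; apply h2; linear_combination -hh
    have hq : q ≠ 0 := sub_ne_zero.mpr hc1
    have hqp : q - p ≠ 0 := by
      simp only [p, q]; intro hh; apply hc2; linear_combination hh
    set μ := (β - α * p) / (q * (q - p))
    set l := (α - μ * q) / p
    have := (hF1.smul l).add (hF2.smul μ) (by rw [smul_mul_smul_comm, hWW, smul_zero])
      (by rw [smul_mul_smul_comm, hWW, smul_zero])
    convert this using 1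
    simp only [smul_add, smul_smul]
    have ea : α = l * p + μ * q := by simp only [l]; field_simp; ring
    have eb : β = l * (p * p) + μ * (q * q) := by simp only [l, μ]; field_simp; ring
    conv_lhs => rw [ea, eb]
    simp only [add_smul]
    abel
  set W := (1 : k) • (B + C) + (-1 : k) • A2 with hW
  have hWF : Fam X W := hlin 1 (-1)
  have hXG : Fam G W := by
    refine ⟨hWF.1, fun t => ?_⟩
    obtain ⟨x, hx, hxe⟩ := hWF.2 t
    refine ⟨x, ?_, hxe⟩
    have hd' : ((x : Module.End k M) - 1) = t • W := by rw [hxe, add_sub_cancel_left]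
    -- realise it inside `G`
    have hG : ∀ s : k, s ≠ 0 → Fam G ((s - 1) • (B + C) + ((s - 1) * (s - 1)) • A2) := by
      intro s hs
      set W' := (s - 1) • (B + C) + ((s - 1) * (s - 1)) • A2
      have h1 := hA.conj (htor s).1
      have h2' := h1.add hA.neg ?_ ?_
      · convert h2' using 1
        rw [coe_torusEl ee dd e1 e2 hs, coe_torusEl_inv ee dd e1 e2 hs]
        simp only [W', hB, hC, hA2, mul_assoc, mul_add, add_mul, one_mul, mul_one, smul_mul_assoc,
          mul_smul_comm, smul_smul, Ae, eA, heA, mul_zero, smul_zero, smul_add, add_zero, zero_add]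
        abel
      · rw [coe_torusEl ee dd e1 e2 hs, coe_torusEl_inv ee dd e1 e2 hs]
        simp [mul_assoc, mul_add, add_mul, hA.1, AA, Ae, eA, heA]
      · rw [coe_torusEl ee dd e1 e2 hs, coe_torusEl_inv ee dd e1 e2 hs]
        simp [mul_assoc, mul_add, add_mul, hA.1, AA, Ae, eA, heA]
    set p : k := (-1 - 1)
    set q : k := (c - 1)
    have hp : p ≠ 0 := by
      simp only [p]; intro hh; apply h2; linear_combination -hh
    have hq : q ≠ 0 := sub_ne_zero.mpr hc1
    have hqp : q - p ≠ 0 := by
      simp only [p, q]; intro hh; apply hc2; linear_combination hh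
    set μ := (-1 - p) / (q * (q - p))
    set l := (1 - μ * q) / p
    have hGW := ((hG (-1) (neg_ne_zero.mpr one_ne_zero)).smul l).add ((hG c hc0).smul μ)
      (by rw [smul_mul_smul_comm, hWW, smul_zero]) (by rw [smul_mul_smul_comm, hWW, smul_zero])
    refine hGW.mem_of_eq (c := t) (hxe.trans ?_)
    congr 2
    simp only [hW, smul_add, smul_smul]
    have ea : (1 : k) = l * p + μ * q := by simp only [l]; field_simp; ring
    have eb : (-1 : k) = l * (p * p) + μ * (q * q) := by simp only [l, μ]; field_simp; ring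
    conv_lhs => rw [eb]; arg 1; arg 1; rw [ea]
    conv_lhs => arg 1; arg 2; rw [ea]
    simp only [add_smul]
    abel
  have hA0 : Fam G (A + -W) := hA.add hXG.neg
    (by rw [mul_neg, hW, (hWA _ _).2, neg_zero]) (by rw [neg_mul, hW, (hWA _ _).1, neg_zero])
  refine ⟨A + -W, hA0, ?_, qu W hWF.1, hWF.qu_mem, ?_⟩
  · set f : Module.End k M := 1 - e * d with hf
    have e' : A + -W = f * (A * (1 - d * e)) := by
      simp only [hf, hW, hB, hC, hA2, one_smul, neg_one_smul, sub_mul, mul_sub, one_mul, mul_one, mul_assoc]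
      abel
    have hle : range (A + -W) ≤ (range A).map f := by
      rw [e', range_mul]
      exact Submodule.map_mono (LinearMap.range_comp_le_range _ _)
    have hker : range e ≤ range A ⊓ ker f := le_inf hr (by
      rintro _ ⟨m, rfl⟩
      show (f * e) m = 0
      rw [hf, sub_mul, one_mul, e1, sub_self]; rfl)
    have h1 := Submodule.finrank_mono hle
    have h2' := Submodule.finrank_mono hker
    have h3' := finrank_map_add f (range A)
    have h4 := rk_pos he.ne
    unfold rk at *
    omega
  · apply Units.ext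
    have w1 : W * A = 0 := (hWA _ _).1
    have w2 : W * W = 0 := hWW _ _ _ _
    simp only [Units.val_mul, coe_qu, mul_add, add_mul, one_mul, mul_one, mul_neg, w1, w2, neg_zero]
    abel

end H56Q
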