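import Cfsg.Agent.H56.QPStep

/-!
The group contains a non-trivial upper element of the minimal ideal.
-/

set_option autoImplicit false
set_option linter.unusedSectionVars false

namespace H56Q

open Matrix

variable {k R R' K : Type*} [Field k] [CommRing R] [Algebra k R] [CommRing R'] [Field K]

theorem conj_lwr (g : SpecialLinearGroup (Fin 2) R) (c : R) :
    (g * lwr c * g⁻¹) 0 0 = 1 + c * g 0 1 * g 1 1 ∧
    (g * lwr c * g⁻¹) 0 1 = -(c * (g 0 1 * g 0 1)) ∧
    (g * lwr c * g⁻¹) 1 0 = c * (g 1 1 * g 1 1) ∧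
    (g * lwr c * g⁻¹) 1 1 = 1 - c * g 0 1 * g 1 1 := by
  have h := det2 g
  refine ⟨?_, ?_, ?_, ?_⟩ <;> simp [mul00, mul01, mul10, mul11] <;>
    first
      | ring1
      | linear_combination h

theorem map_entries {S : Type*} [CommRing S] (f : R →+* S) {g : SpecialLinearGroup (Fin 2) R}
    {g' : SpecialLinearGroup (Fin 2) S} (e : SpecialLinearGroup.map f g = g') :
    f (g 0 0) = g' 0 0 ∧ f (g 0 1) = g' 0 1 ∧ f (g 1 0) = g' 1 0 ∧ f (g 1 1) = g' 1 1 := by
  subst e; simp

namespace StepData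

variable (D : StepData k R R' K)
include D

theorem inj_pair (hφ : D.σ D.φ ≠ 0) {x y : R} (hρ : D.ρ x = D.ρ y) (hσ : D.σ x = D.σ y) : x = y := by
  obtain ⟨u, hu⟩ := D.span (x - y) (by rw [map_sub, hρ, sub_self])
  have : D.σ u * D.σ D.φ = 0 := by rw [← map_mul, ← hu, map_sub, hσ, sub_self]
  have := D.ann u ((mul_eq_zero.mp this).resolve_right hφ)
  rwa [← hu, sub_eq_zero] at this

theorem exists_ideal [Finite R] (h2 : (2 : k) ≠ 0) (hk : 4 ≤ Nat.card k) (hK : 4 ≤ Nat.card K) :
    ∃ i : R, D.ρ i = 0 ∧ i ≠ 0 ∧ upr i ∈ D.H := by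
  by_contra hno
  push Not at hno
  have hU0 : ∀ i, D.ρ i = 0 → upr i ∈ D.H → i = 0 := fun i hi hm =>
    by_contra fun hne => hno i hi hne hm
  have hL0 : ∀ i, D.ρ i = 0 → lwr i ∈ D.H → i = 0 := by
    intro i hi hm
    obtain ⟨g, hg, hgw⟩ := D.liftσ (upr 1 * lwr (-1) * upr 1)
    obtain ⟨e00, -, e10, -⟩ := map_entries D.σ hgw
    have g00 : D.σ (g 0 0) = 0 := by simpa [mul00, mul10] using e00
    have g10 : D.σ (g 1 0) = -1 := by simpa [mul00, mul10] using e10
    have hi' : D.ρ (-i) = 0 := by rw [map_neg, hi, neg_zero]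
    have hc := D.conj_ideal_anti hi' g g00
    have h1 : (g 1 0 * g 1 0 - 1) * i = 0 :=
      D.mul_eq_zero_of (by rw [map_sub, map_mul, g10, map_one]; ring) hi
    rw [show -(-i * (g 1 0 * g 1 0)) = i by linear_combination h1] at hc
    have : upr (-i) ∈ D.H := by
      have := mul_mem (mul_mem (inv_mem hg) hm) hg
      rw [← hc] at this
      rwa [show g⁻¹ * (g * upr (-i) * g⁻¹) * g = upr (-i) by group] at this
    simpa using hU0 _ hi' this
  have two : IsUnit (2 : R) := D.two_unit h2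
  have htri : ∀ g ∈ D.H, SpecialLinearGroup.map D.ρ g = 1 → g 1 0 = 0 →
      g 0 1 = 0 ∧ g 0 0 = g 1 1 := by
    intro g hg hgρ h10
    obtain ⟨a00, a01, -, -⟩ := map_entries D.ρ hgρ
    simp at a00 a01
    have hdet := det2 g
    rw [h10, mul_zero, sub_zero] at hdet
    obtain ⟨e00, e01, e10, e11⟩ := conj_upr g 1
    have hx : g 0 0 * g 0 0 = 1 := by
      have hm := mul_mem (mul_mem (mul_mem hg D.one_mem_up) (inv_mem hg)) (inv_mem D.one_mem_up)
      have e : g * upr 1 * g⁻¹ * (upr 1)⁻¹ = upr (g 0 0 * g 0 0 - 1) := by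
        refine ext2 ?_ ?_ ?_ ?_
        · rw [mul00, e00, e01]; simp [h10]
        · rw [mul01, e00, e01]; simp [h10]; ring
        · rw [mul10, e10, e11]; simp [h10]
        · rw [mul11, e10, e11]; simp [h10]
      rw [e] at hm
      exact sub_eq_zero.mp (hU0 _ (by rw [map_sub, map_mul, a00, map_one]; ring) hm)
    have h11 : g 1 1 = g 0 0 := by linear_combination (g 0 0) * hdet - (g 1 1) * hx
    have e : g * g = upr (2 * g 0 0 * g 0 1) := by
      refine ext2 ?_ ?_ ?_ ?_ <;> simp [mul00, mul01, mul10, mul11, h10, h11] <;>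
        first | ring1 | linear_combination hx
    have h0 := hU0 (2 * g 0 0 * g 0 1) (by rw [map_mul, a01, mul_zero]) (e ▸ mul_mem hg hg)
    refine ⟨?_, h11.symm⟩
    obtain ⟨u, hu⟩ := two
    have : g 0 1 = (↑u⁻¹ : R) * g 0 0 * (2 * g 0 0 * g 0 1) := by
      rw [← hu]
      linear_combination (-g 0 1) * (↑u⁻¹ * ↑u : R) * hx - g 0 1 * u.inv_mul
    rw [this, h0, mul_zero]
  have hker : ∀ g ∈ D.H, SpecialLinearGroup.map D.ρ g = 1 →
      g 1 0 = 0 ∧ g 0 1 = 0 ∧ g 0 0 = g 1 1 := by
    intro g hg hgρ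
    obtain ⟨a00, a01, a10, a11⟩ := map_entries D.ρ hgρ
    simp at a00 a01 a10 a11
    by_cases hφ : D.σ D.φ = 0
    · suffices h10 : g 1 0 = 0 by exact ⟨h10, htri g hg hgρ h10⟩
      have hσ : ∀ x, D.ρ x = 0 → D.σ x = 0 := fun x hx => by
        obtain ⟨u, rfl⟩ := D.span x hx; rw [map_mul, hφ, mul_zero]
      have hcc : g 1 0 * g 1 0 = 0 := D.mul_eq_zero_of (hσ _ a10) a10
      obtain ⟨e00, e01, e10, e11⟩ := conj_upr g 1
      set Cm := g * upr 1 * g⁻¹ * (upr 1)⁻¹ with hCm
      have hm : Cm ∈ D.H :=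
        mul_mem (mul_mem (mul_mem hg D.one_mem_up) (inv_mem hg)) (inv_mem D.one_mem_up)
      have hρ : SpecialLinearGroup.map D.ρ Cm = 1 := by
        rw [hCm, map_mul, map_mul, map_mul, map_inv, map_inv, hgρ]; group
      have c10 : Cm 1 0 = 0 := by rw [hCm, mul10, e10, e11]; simp [hcc]
      obtain ⟨-, hd⟩ := htri Cm hm hρ c10
      rw [hCm, mul00, mul11, e00, e01, e10, e11] at hd
      simp [hcc] at hd
      have h0 : 2 * g 0 0 * g 1 0 = 0 := by linear_combination -hd
      obtain ⟨u, hu⟩ := (two.mul (D.unit_of (x := g 0 0) (by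
        have : D.σ (g 0 0 - 1) = 0 := hσ _ (by rw [map_sub, a00, map_one, sub_self])
        rw [map_sub, map_one, sub_eq_zero] at this
        rw [this]; exact one_ne_zero) (a00 ▸ isUnit_one))).exists_left_inv
      calc g 1 0 = u * (2 * g 0 0) * g 1 0 := by rw [hu, one_mul]
        _ = 0 := by rw [mul_assoc, h0, mul_zero]
    · let N : Subgroup (SpecialLinearGroup (Fin 2) K) :=
        (D.H ⊓ (SpecialLinearGroup.map D.ρ).ker).map (SpecialLinearGroup.map D.σ)
      have : N.Normal := ⟨fun x hx y => by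
        obtain ⟨h, ⟨hh, hhk⟩, rfl⟩ := hx
        obtain ⟨z, hz, rfl⟩ := D.liftσ y
        refine ⟨z * h * z⁻¹, ⟨D.H.mul_mem (D.H.mul_mem hz hh) (D.H.inv_mem hz), ?_⟩, by simp [map_mul, map_inv]⟩
        show _ = _
        rw [map_mul, map_mul, map_inv, MonoidHom.mem_ker.mp hhk]; group⟩
      rcases normal_eq_top_or_center hK N with hN | hN
      · exfalso
        obtain ⟨h, ⟨hh, hhk⟩, he⟩ : upr (D.σ D.φ) ∈ N := hN ▸ Subgroup.mem_top _
        obtain ⟨b00, b01, b10, b11⟩ := map_entries D.ρ (MonoidHom.mem_ker.mp hhk)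
        obtain ⟨c00, c01, c10, c11⟩ := map_entries D.σ he
        simp at b00 b01 b10 b11 c00 c01 c10 c11
        have : h = upr D.φ := ext2
          (D.inj_pair hφ (by simp [b00]) (by simp [c00]))
          (D.inj_pair hφ (by simp [b01, D.ρφ]) (by simp [c01]))
          (D.inj_pair hφ (by simp [b10]) (by simp [c10]))
          (D.inj_pair hφ (by simp [b11]) (by simp [c11]))
        exact D.φ_ne (hU0 _ D.ρφ (this ▸ hh))
      · have hc := hN (Subgroup.mem_map_of_mem (SpecialLinearGroup.map D.σ) ⟨hg, hgρ⟩)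
        rw [Subgroup.mem_center_iff] at hc
        have q1 := congrArg (fun x : SpecialLinearGroup (Fin 2) K => x 0 0) (hc (upr 1))
        have q2 := congrArg (fun x : SpecialLinearGroup (Fin 2) K => x 0 1) (hc (upr 1))
        have q3 := congrArg (fun x : SpecialLinearGroup (Fin 2) K => x 0 0) (hc (lwr 1))
        simp [mul00, mul01] at q1 q2 q3
        refine ⟨D.inj_pair hφ (by simp [a10]) ?_, D.inj_pair hφ (by simp [a01]) ?_,
          D.inj_pair hφ (by simp [a00, a11]) ?_⟩
        · simp; linear_combination q1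
        · simp; linear_combination q3
        · first | linear_combination q2 | linear_combination -q2 | (simp; linear_combination q2) | (simp; linear_combination -q2)
  have hUs : ∀ r : R', ∃ u, upr u ∈ D.H ∧ D.ρ u = r := by
    intro r
    obtain ⟨h, hh⟩ := two
    obtain ⟨g, hg, hgρ⟩ := (D.liftρ (D.ρ ↑h⁻¹ * r)).1
    obtain ⟨a00, a01, a10, a11⟩ := map_entries D.ρ hgρ
    simp only [upr_00, upr_01, upr_10, upr_11] at a00 a01 a10 a11
    obtain ⟨e00, e01, e10, e11⟩ := conj_upr g 1
    set Cm := g * upr 1 * g⁻¹ * (upr 1)⁻¹ with hCm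
    have hm : Cm ∈ D.H :=
      mul_mem (mul_mem (mul_mem hg D.one_mem_up) (inv_mem hg)) (inv_mem D.one_mem_up)
    have hρ : SpecialLinearGroup.map D.ρ Cm = 1 := by
      rw [hCm, map_mul, map_mul, map_mul, map_inv, map_inv, hgρ, map_upr, map_one, ← upr_neg,
        ← upr_neg, ← upr_add, ← upr_add, ← upr_add]
      rw [show D.ρ ↑h⁻¹ * r + 1 + -(D.ρ ↑h⁻¹ * r) + -1 = 0 by ring, upr_zero]
    obtain ⟨c10, c01, cd⟩ := hker Cm hm hρ
    rw [hCm, mul10, e10, e11] at c10
    rw [hCm, mul01, e00, e01] at c01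
    rw [hCm, mul00, mul11, e00, e01, e10, e11] at cd
    simp at c10 c01 cd
    have hσ10 : D.σ (g 1 0) = 0 := by
      have := congrArg D.σ c10
      simpa using this
    have hu00 : IsUnit (g 0 0) := D.unit_of (fun h0 => by
      have := congrArg D.σ (det2 g); simp [h0, hσ10] at this) (a00 ▸ isUnit_one)
    have h10 : g 1 0 = 0 := by
      obtain ⟨u, hu⟩ := ((show IsUnit (2 : R) from hh ▸ h.isUnit).mul hu00).exists_left_inv
      calc g 1 0 = u * (2 * g 0 0) * g 1 0 := by rw [hu, one_mul]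
        _ = 0 := by
          rw [mul_assoc, show 2 * g 0 0 * g 1 0 = 0 by linear_combination -cd - c10, mul_zero]
    simp only [h10, mul_zero, zero_mul, sub_zero] at c01
    have hsq : g 0 0 * g 0 0 = 1 := by linear_combination c01
    have h11 : g 1 1 = g 0 0 := by
      have hdet := det2 g
      rw [h10, mul_zero, sub_zero] at hdet
      linear_combination (g 0 0) * hdet - (g 1 1) * hsq
    refine ⟨2 * g 0 0 * g 0 1, ?_, ?_⟩
    · have e : g * g = upr (2 * g 0 0 * g 0 1) := by
        refine ext2 ?_ ?_ ?_ ?_ <;> simp [mul00, mul01, mul10, mul11, h10, h11] <;>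
          first | ring1 | linear_combination hsq
      exact e ▸ mul_mem hg hg
    · rw [map_mul, map_mul, a00, a01, mul_one, ← mul_assoc, ← hh, ← map_mul, Units.mul_inv, map_one,
        one_mul]
  have hLs : ∀ r : R', ∃ u, lwr u ∈ D.H ∧ D.ρ u = r := by
    intro r
    obtain ⟨h, hh⟩ := two
    obtain ⟨g, hg, hgρ⟩ := (D.liftρ (D.ρ ↑h⁻¹ * r)).2
    obtain ⟨a00, a01, a10, a11⟩ := map_entries D.ρ hgρ
    simp only [lwr_00, lwr_01, lwr_10, lwr_11] at a00 a01 a10 a11
    obtain ⟨e00, e01, e10, e11⟩ := conj_lwr g D.lam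
    set Cm := g * lwr D.lam * g⁻¹ * (lwr D.lam)⁻¹ with hCm
    have hm : Cm ∈ D.H :=
      mul_mem (mul_mem (mul_mem hg D.lam_mem_low) (inv_mem hg)) (inv_mem D.lam_mem_low)
    have hρ : SpecialLinearGroup.map D.ρ Cm = 1 := by
      rw [hCm, map_mul, map_mul, map_mul, map_inv, map_inv, hgρ, map_lwr, ← lwr_neg,
        ← lwr_neg, ← lwr_add, ← lwr_add, ← lwr_add]
      rw [show D.ρ ↑h⁻¹ * r + D.ρ D.lam + -(D.ρ ↑h⁻¹ * r) + -D.ρ D.lam = 0 by ring, lwr_zero]
    obtain ⟨c10, c01, cd⟩ := hker Cm hm hρ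
    rw [hCm, mul10, e10, e11] at c10
    rw [hCm, mul01, e00, e01] at c01
    rw [hCm, mul00, mul11, e00, e01, e10, e11] at cd
    simp at c10 c01 cd
    have h01sq : g 0 1 * g 0 1 = 0 := by
      calc g 0 1 * g 0 1 = D.linv * D.lam * (g 0 1 * g 0 1) := by rw [mul_comm D.linv, D.lam_inv, one_mul]
        _ = 0 := by rw [mul_assoc, show D.lam * (g 0 1 * g 0 1) = 0 by linear_combination c01, mul_zero]
    have hσ01 : D.σ (g 0 1) = 0 := by
      have := congrArg D.σ h01sq
      simpa using this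
    have hu11 : IsUnit (g 1 1) := D.unit_of (fun h0 => by
      have := congrArg D.σ (det2 g); simp [h0, hσ01] at this) (a11 ▸ isUnit_one)
    have h01 : g 0 1 = 0 := by
      obtain ⟨u, hu⟩ := ((show IsUnit (2 : R) from hh ▸ h.isUnit).mul hu11).exists_left_inv
      have h0 : 2 * g 1 1 * (D.lam * g 0 1) = 0 := by
        linear_combination cd - D.lam * D.lam * h01sq
      calc g 0 1 = u * (2 * g 1 1) * (D.linv * D.lam) * g 0 1 := by
            rw [hu, mul_comm D.linv, D.lam_inv, one_mul, one_mul]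
        _ = u * D.linv * (2 * g 1 1 * (D.lam * g 0 1)) := by ring
        _ = 0 := by rw [h0, mul_zero]
    rw [h01] at c10
    have hsq : g 1 1 * g 1 1 = 1 := by
      calc g 1 1 * g 1 1 = D.lam * D.linv * (g 1 1 * g 1 1) := by rw [D.lam_inv, one_mul]
        _ = D.linv * D.lam := by linear_combination D.linv * c10
        _ = 1 := by rw [mul_comm, D.lam_inv]
    have h00 : g 0 0 = g 1 1 := by
      have hdet := det2 g
      rw [h01, zero_mul, sub_zero] at hdet
      linear_combination (g 1 1) * hdet - (g 0 0) * hsq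
    refine ⟨2 * g 1 1 * g 1 0, ?_, ?_⟩
    · have e : g * g = lwr (2 * g 1 1 * g 1 0) := by
        refine ext2 ?_ ?_ ?_ ?_ <;> simp [mul00, mul01, mul10, mul11, h01, h00] <;>
          first | ring1 | linear_combination hsq
      exact e ▸ mul_mem hg hg
    · rw [map_mul, map_mul, a11, a10, mul_one, ← mul_assoc, ← hh, ← map_mul, Units.mul_inv, map_one,
        one_mul]
  have hUinj : ∀ x y, upr x ∈ D.H → upr y ∈ D.H → D.ρ x = D.ρ y → x = y := fun x y hx hy he =>
    sub_eq_zero.mp (hU0 _ (by rw [map_sub, he, sub_self])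
      (by rw [sub_eq_add_neg, upr_add, upr_neg]; exact mul_mem hx (inv_mem hy)))
  have hpair : ∀ t s, upr t ∈ D.H → lwr s ∈ D.H → D.ρ (t * s) = 1 → t * s = 1 := by
    intro t s ht hs hts
    set e := 1 - t * s with he
    have heρ : D.ρ e = 0 := by rw [he, map_sub, map_one, hts, sub_self]
    have hwm : upr t * lwr (-s) * upr t ∈ D.H := by
      rw [lwr_neg]; exact mul_mem (mul_mem ht (inv_mem hs)) ht
    set w := upr t * lwr (-s) * upr t with hw
    have w00 : w 0 0 = e := by rw [hw]; simp [mul00, mul01, mul10, mul11, he]; ring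
    have w10 : w 1 0 = -s := by rw [hw]; simp [mul00, mul01, mul10, mul11]
    obtain ⟨e00, e01, e10, e11⟩ := conj_upr w 1
    obtain ⟨l, hl, hlρ⟩ := hLs (D.ρ (-(s * s)))
    set Cm := w * upr 1 * w⁻¹ * (lwr l)⁻¹ with hCm
    have hm : Cm ∈ D.H :=
      mul_mem (mul_mem (mul_mem hwm D.one_mem_up) (inv_mem hwm)) (inv_mem hl)
    have hρ : SpecialLinearGroup.map D.ρ Cm = 1 := by
      rw [hCm, map_mul, map_inv, map_lwr, hlρ, mul_inv_eq_one]
      have r00 : D.ρ (w 0 0) = 0 := by rw [w00, heρ]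
      refine ext2 ?_ ?_ ?_ ?_
      · rw [SpecialLinearGroup.map_apply_coe]
        simp only [RingHom.mapMatrix_apply, Matrix.map_apply, e00, lwr_00]
        simp [r00]
      · rw [SpecialLinearGroup.map_apply_coe]
        simp only [RingHom.mapMatrix_apply, Matrix.map_apply, e01, lwr_01]
        simp [r00]
      · rw [SpecialLinearGroup.map_apply_coe]
        simp only [RingHom.mapMatrix_apply, Matrix.map_apply, e10, lwr_10]
        simp [w10]
      · rw [SpecialLinearGroup.map_apply_coe]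
        simp only [RingHom.mapMatrix_apply, Matrix.map_apply, e11, lwr_11]
        simp [r00]
    obtain ⟨-, c01, cd⟩ := hker Cm hm hρ
    rw [hCm, mul01, e00, e01, w00] at c01
    rw [hCm, mul00, mul11, e00, e01, e10, e11, w00, w10] at cd
    simp at c01 cd
    have hee : e * e = 0 := by linear_combination c01
    have hes : 2 * (e * s) = 0 := by linear_combination cd + l * hee
    obtain ⟨u, hu⟩ := two.exists_left_inv
    have hes' : e * s = 0 := by
      calc e * s = u * 2 * (e * s) := by rw [hu, one_mul]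
        _ = 0 := by rw [mul_assoc, hes, mul_zero]
    have : e = 0 := by linear_combination t * hes' + hee + e * he
    linear_combination he.symm.trans this * (-1 : R)
  obtain ⟨one', h1', h1ρ⟩ := hUs 1
  have hneg1 : lwr (-1 : R) ∈ D.H := by
    obtain ⟨s, hs, hsρ⟩ := hLs 1
    have := hpair 1 s D.one_mem_up hs (by rw [one_mul, hsρ])
    rw [one_mul] at this
    subst this
    rw [lwr_neg]; exact inv_mem hs
  have hT : ∀ t : R, upr t ∈ D.H → IsUnit (D.ρ t) → ∀ u, upr u ∈ D.H → upr (t * t * u) ∈ D.H := by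
    intro t ht htu u hu
    obtain ⟨t', ht'⟩ := htu.exists_right_inv
    obtain ⟨s, hs, hsρ⟩ := hLs t'
    have hts := hpair t s ht hs (by rw [map_mul, hsρ, ht'])
    obtain ⟨d, a, b, c, e, hd⟩ := diag_eq hts
    have hdm : d ∈ D.H := diag_mem hts ht (by rw [lwr_neg]; exact inv_mem hs) D.one_mem_up hneg1 a b c e
    have hm := mul_mem (mul_mem hdm hu) (inv_mem hdm)
    obtain ⟨e00, e01, e10, e11⟩ := conj_upr d u
    rw [show d * upr u * d⁻¹ = upr (t * t * u) from ext2 (by rw [e00, c]; simp)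
      (by rw [e01, a, upr_01]; ring) (by rw [e10, c]; simp) (by rw [e11, c]; simp)] at hm
    exact hm
  let T : Subring R :=
    { carrier := {x | ∀ u, upr u ∈ D.H → upr (x * u) ∈ D.H}
      one_mem' := fun u hu => by simpa using hu
      zero_mem' := fun u _ => by rw [zero_mul, upr_zero]; exact one_mem _
      mul_mem' := fun {x y} hx hy u hu => by rw [mul_assoc]; exact hx _ (hy u hu)
      add_mem' := fun {x y} hx hy u hu => by rw [add_mul, upr_add]; exact mul_mem (hx u hu) (hy u hu)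
      neg_mem' := fun {x} hx u hu => by rw [neg_mul, upr_neg]; exact inv_mem (hx u hu) }
  have hT1 : ∀ x ∈ T, upr x ∈ D.H := fun x hx => by simpa using hx 1 D.one_mem_up
  have : Finite R' := Finite.of_surjective D.ρ D.ρ_surj
  have hTtop : T.map D.ρ = ⊤ := by
    have : Finite k := Nat.finite_of_card_ne_zero (by omega)
    obtain ⟨c, hc0, hc1⟩ : ∃ c : k, c ≠ 0 ∧ c * c ≠ 1 := by
      classical
      have := Fintype.ofFinite k
      obtain ⟨c, -, hc⟩ := Finset.exists_mem_notMem_of_card_lt_card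
        (s := ({0, 1, -1} : Finset k)) (t := Finset.univ) (by
          rw [Finset.card_univ, ← Nat.card_eq_fintype_card]
          have := Finset.card_le_three (a := (0 : k)) (b := 1) (c := -1)
          omega)
      simp only [Finset.mem_insert, Finset.mem_singleton, not_or] at hc
      exact ⟨c, hc.1, fun h => (mul_self_eq_one_iff.mp h).elim hc.2.1 hc.2.2⟩
    let φk : k →+* R' := D.ρ.comp (algebraMap k R)
    have hTk : ∀ c : k, φk c ∈ T.map D.ρ := by
      intro c
      refine ⟨algebraMap k R c, ?_, rfl⟩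
      have hsqk : ∀ d : k, algebraMap k R (d * d) ∈ T := by
        intro d
        by_cases hd : d = 0
        · subst hd; simp
        · intro u hu
          rw [map_mul]
          exact hT _ (D.up_mem d) ((IsUnit.mk0 _ hd).map φk) u hu
      have h40 : (4 : k) ≠ 0 := by rw [show (4 : k) = 2 * 2 by norm_num]; exact mul_ne_zero h2 h2
      have e : c = (c / 4 + 1) * (c / 4 + 1) - (c / 4 - 1) * (c / 4 - 1) := by field_simp; ring
      rw [e, map_sub]
      exact sub_mem (hsqk _) (hsqk _)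
    refine unit_squares_subring (c := φk c) ((IsUnit.mk0 _ hc0).map φk) ?_ ?_ _ ?_ ?_ ?_
    · simpa using (IsUnit.mk0 _ (sub_ne_zero.mpr hc1)).map φk
    · simpa [map_ofNat] using (IsUnit.mk0 _ h2).map φk
    · intro u hu
      obtain ⟨t, ht, htρ⟩ := hUs u
      exact ⟨t * t, fun v hv => hT t ht (htρ ▸ hu) v hv, by rw [map_mul, htρ]⟩
    · intro x hx
      have := mul_mem hx (hTk (c * c - 1)⁻¹)
      rwa [← map_one φk, ← map_mul, ← map_sub, mul_assoc, ← map_mul,
        mul_inv_cancel₀ (sub_ne_zero.mpr hc1), map_one, mul_one] at this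
    · intro x hx
      have h40 : (4 : k) ≠ 0 := by rw [show (4 : k) = 2 * 2 by norm_num]; exact mul_ne_zero h2 h2
      have := mul_mem (hTk (4 : k)⁻¹) hx
      rwa [← map_ofNat φk, ← mul_assoc, ← map_mul, inv_mul_cancel₀ h40, map_one, one_mul] at this
  have hUT : ∀ u, upr u ∈ D.H → u ∈ T := by
    intro u hu
    obtain ⟨x, hx, hxρ⟩ : D.ρ u ∈ T.map D.ρ := hTtop ▸ trivial
    rw [hUinj u x hu (hT1 x hx) hxρ.symm]
    exact hx
  have hlinv : D.linv ∈ T := by
    obtain ⟨t, ht, htρ⟩ := hUs (D.ρ D.linv)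
    have := hpair t D.lam ht D.lam_mem_low (by
      rw [map_mul, htρ, ← map_mul, mul_comm, D.lam_inv, map_one])
    have e : t = D.linv := by linear_combination D.linv * this - t * D.lam_inv
    exact hUT _ (e ▸ ht)
  have hall : ∀ x : R, x ∈ T := by
    intro x
    have hx : x ∈ Algebra.adjoin k ({D.linv} : Set R) := by rw [D.gen]; trivial
    induction hx using Algebra.adjoin_induction with
    | mem y hy => rw [Set.mem_singleton_iff] at hy; exact hy ▸ hlinv
    | algebraMap c => exact hUT _ (D.up_mem c)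
    | add y z _ _ hy hz => exact add_mem hy hz
    | mul y z _ _ hy hz => exact mul_mem hy hz
  exact D.φ_ne (hU0 _ D.ρφ (hT1 _ (hall D.φ)))

theorem full [Finite R] (h2 : (2 : k) ≠ 0) (hk : 4 ≤ Nat.card k) (hK : 4 ≤ Nat.card K) :
    FullRoots D.H := by
  obtain ⟨i, hi, hi0, him⟩ := D.exists_ideal h2 hk hK
  exact D.full_of_ideal (D.ideal_up h2 hi hi0 him)

end StepData

end H56Q
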