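import Cfsg.Agent.H56.QPOpp
import Cfsg.Agent.H56.QPInvol

/-!
Commutators with one root element fill the commutator root subspace.
-/

set_option autoImplicit false
set_option linter.unusedSectionVars false

universe u

namespace H56Q

open Cfsg LinearMap

variable {k : Type u} [Field k] {M : Type*} [AddCommGroup M] [Module k M] [FiniteDimensional k M]
variable {G : Subgroup (GLM k M)} {a b γ d l x y : Module.End k M}

theorem inRoot_of_eq (hf : Fam G x) (h1 : γ * d * x = x) (h2 : x * d * γ = x) : InRoot G γ x := by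
  refine ⟨hf, ?_, fun m hm => ?_⟩
  · rw [← h1, mul_assoc]; exact LinearMap.range_comp_le_range _ _
  · rw [← h2]
    show x (d (γ m)) = 0
    rw [(hm : γ m = 0), map_zero, map_zero]

theorem InRoot.eq_left (hd : γ * d * γ = γ) (hl : InRoot G γ l) : γ * d * l = l := by
  refine LinearMap.ext fun m => ?_
  obtain ⟨n, hn⟩ := hl.2.1 (mem_range_self l m)
  show γ (d (l m)) = l m
  rw [← hn]
  exact LinearMap.congr_fun hd n

theorem InRoot.eq_right (hd : γ * d * γ = γ) (hl : InRoot G γ l) : l * d * γ = l := by
  refine LinearMap.ext fun m => ?_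
  show l (d (γ m)) = l m
  rw [← sub_eq_zero, ← map_sub]
  refine hl.2.2 ?_
  show γ (d (γ m) - m) = 0
  rw [map_sub, sub_eq_zero]
  exact LinearMap.congr_fun hd m

theorem mul_eq_zero_of_range_le (h : x * γ = 0) (hl : range l ≤ range γ) : x * l = 0 := by
  refine LinearMap.ext fun m => ?_
  obtain ⟨n, hn⟩ := hl (mem_range_self l m)
  show x (l m) = 0
  rw [← hn]
  exact LinearMap.congr_fun h n

theorem mul_eq_zero_of_ker_le (h : γ * x = 0) (hl : ker γ ≤ ker l) : l * x = 0 :=
  LinearMap.ext fun m => hl (LinearMap.congr_fun h m : γ (x m) = 0)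

/-- a pair with commutator `γ`, homogeneous for the opposite `d` of `γ` -/
structure PurePair (G : Subgroup (GLM k M)) (a b γ d : Module.End k M) : Prop where
  ma : MinQ G a
  mb : MinQ G b
  mγ : MinQ G γ
  md : MinQ G d
  aba : a * b * a = 0
  bab : b * a * b = 0
  comm : a * b - b * a = γ
  gdg : γ * d * γ = γ
  dgd : d * γ * d = d
  pa : a = γ * d * a + a * d * γ
  pb : b = γ * d * b + b * d * γ

namespace PurePair

theorem ga (P : PurePair G a b γ d) : γ * a = 0 := by
  rw [← P.comm, sub_mul, P.aba, mul_assoc b a a, P.ma.sq, mul_zero, sub_zero]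

theorem ag (P : PurePair G a b γ d) : a * γ = 0 := by
  rw [← P.comm, mul_sub, ← mul_assoc, P.ma.sq, zero_mul, ← mul_assoc, P.aba, sub_zero]

theorem gb (P : PurePair G a b γ d) : γ * b = 0 := by
  rw [← P.comm, sub_mul, P.bab, mul_assoc a b b, P.mb.sq, mul_zero, sub_zero]

theorem bg (P : PurePair G a b γ d) : b * γ = 0 := by
  rw [← P.comm, mul_sub, ← mul_assoc b b, P.mb.sq, zero_mul, ← mul_assoc, P.bab, sub_zero]

theorem symm (P : PurePair G a b γ d) : PurePair G b a (-γ) (-d) where
  ma := P.mb
  mb := P.ma
  mγ := by simpa using P.mγ.smul (neg_ne_zero.mpr (one_ne_zero : (1 : k) ≠ 0))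
  md := by simpa using P.md.smul (neg_ne_zero.mpr (one_ne_zero : (1 : k) ≠ 0))
  aba := P.bab
  bab := P.aba
  comm := by rw [← P.comm, neg_sub]
  gdg := by rw [neg_mul_neg, mul_neg, P.gdg]
  dgd := by rw [neg_mul_neg, mul_neg, P.dgd]
  pa := by simpa using P.pb
  pb := by simpa using P.pa

theorem dbd (P : PurePair G a b γ d) : d * b * d = 0 := by
  have e : d * b * d = d * b * d + d * b * d := by
    conv_lhs => rw [P.pb]
    rw [mul_add, add_mul, ← mul_assoc d (γ * d), ← mul_assoc d γ, P.dgd, ← mul_assoc d (b * d),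
      ← mul_assoc d b, mul_assoc (d * b * d) γ d, mul_assoc (d * b) d (γ * d), ← mul_assoc d γ, P.dgd]
  exact left_eq_add.mp e

theorem el (P : PurePair G a b γ d) (hl : InRoot G γ l) :
    γ * d * l = l ∧ l * d * γ = l ∧ a * l = 0 ∧ l * a = 0 ∧ b * l = 0 ∧ l * b = 0 :=
  ⟨hl.eq_left P.gdg, hl.eq_right P.gdg, mul_eq_zero_of_range_le P.ag hl.2.1,
    mul_eq_zero_of_ker_le P.ga hl.2.2, mul_eq_zero_of_range_le P.bg hl.2.1,
    mul_eq_zero_of_ker_le P.gb hl.2.2⟩

theorem conj_spec (P : PurePair G a b γ d) :
    b * d - d * b = (weyl γ d P.mγ.sq P.md.sq : Module.End k M) * b *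
      (((weyl γ d P.mγ.sq P.md.sq)⁻¹ : GLM k M) : Module.End k M) := by
  set w := weyl γ d P.mγ.sq P.md.sq with hw
  have hwc : (w : Module.End k M) = 1 - γ * d - d * γ + γ - d := by
    rw [hw, coe_weyl P.mγ.sq P.md.sq P.gdg]
    abel
  have hb := P.pb
  have h1 : (w : Module.End k M) * b = b * d * γ - d * b := by
    rw [hwc]
    simp only [add_mul, sub_mul, one_mul, mul_assoc d γ b, P.gb, mul_zero]
    conv_lhs => arg 1; arg 1; arg 1; arg 1; rw [hb]
    abel
  have h2 : (b * d - d * b) * (w : Module.End k M) = b * d * γ - d * b := by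
    have e1 : b * d * (γ * d) = b * d := by rw [mul_assoc, ← mul_assoc d, P.dgd]
    have e2 : d * b * (γ * d) = 0 := by rw [mul_assoc, ← mul_assoc b, P.bg, zero_mul, mul_zero]
    have e3 : b * d * (d * γ) = 0 := by rw [mul_assoc, ← mul_assoc d, P.md.sq, zero_mul, mul_zero]
    have e4 : d * b * (d * γ) = 0 := by rw [← mul_assoc, P.dbd, zero_mul]
    have e5 : d * b * γ = 0 := by rw [mul_assoc, P.bg, mul_zero]
    have e6 : b * d * d = 0 := by rw [mul_assoc, P.md.sq, mul_zero]
    rw [hwc]
    simp only [mul_add, mul_sub, sub_mul, mul_one, e1, e2, e3, e4, e5, e6, P.dbd]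
    abel
  have : b * d - d * b = (w : Module.End k M) * b * ((w⁻¹ : GLM k M) : Module.End k M) := by
    rw [h1, ← h2, Units.mul_inv_cancel_right]
  exact this

theorem conj_minQ (P : PurePair G a b γ d) : MinQ G (b * d - d * b) := by
  rw [P.conj_spec]
  exact P.mb.conj (mul_mem (mul_mem P.mγ.fam.qu_mem (inv_mem P.md.fam.qu_mem)) P.mγ.fam.qu_mem)

theorem bdldb (h2 : (2 : k) ≠ 0) (P : PurePair G a b γ d) (hl : InRoot G γ l) :
    b * d * l * d * b = 0 := by
  by_cases hl0 : l = 0
  · simp [hl0]
  obtain ⟨-, -, -, -, bl, lb⟩ := P.el hl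
  set c := b * d - d * b with hc
  have e1 : c * l = b * d * l := by rw [hc, sub_mul, mul_assoc d b l, bl, mul_zero, sub_zero]
  have hn : IsNilpotent (c * l) := ⟨2, by
    rw [sq, e1, show b * d * l * (b * d * l) = b * d * (l * b) * (d * l) by simp only [mul_assoc], lb,
      mul_zero, zero_mul]⟩
  have h3 := (aba_bab_zero h2 (hl.eq_of_ne P.mγ hl0).1 P.conj_minQ hn).2
  rw [← hc, e1] at h3
  have h4 : b * d * l * c = -(b * d * l * d * b) := by
    rw [hc, mul_sub, show b * d * l * (b * d) = b * d * (l * b) * d by simp only [mul_assoc], lb,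
      mul_zero, zero_mul, zero_sub, ← mul_assoc]
  rw [h4, neg_eq_zero] at h3
  exact h3

theorem bdb (h2 : (2 : k) ≠ 0) (P : PurePair G a b γ d) : b * d * b = 0 := by
  have := P.bdldb h2 (InRoot.self P.mγ.fam)
  rwa [mul_assoc b d γ, mul_assoc b (d * γ) d, P.dgd] at this

/-- the element of the root subspace of `b` with commutator `l` -/
def lift (b d l : Module.End k M) : Module.End k M := b * d * l + l * d * b

theorem lift_spec (h2 : (2 : k) ≠ 0) (P : PurePair G a b γ d) (hl : InRoot G γ l) :
    InRoot G b (lift b d l) ∧ a * lift b d l - lift b d l * a = l := by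
  have bdb := P.bdb h2
  have ada : a * d * a = 0 := by
    have := P.symm.bdb h2
    simpa using this
  set X := a * b with hX
  set Y := -(b * a) with hY
  have hg : γ = X + Y := by rw [← P.comm, hX, hY, sub_eq_add_neg]
  have xy : X * d * Y = 0 := by
    rw [hX, hY, show a * b * d * -(b * a) = -(a * (b * d * b) * a) by simp [mul_assoc], bdb]
    simp
  have yx : Y * d * X = 0 := by
    rw [hX, hY, show -(b * a) * d * (a * b) = -(b * (a * d * a) * b) by simp [mul_assoc], ada]
    simp
  have hdisj : Disjoint (range X) (range Y) := by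
    obtain ⟨-, -, -, hd, -, -⟩ := comm_struct P.ma P.mb P.aba P.bab
      (sub_ne_zero.mp (P.comm ▸ P.mγ.ne))
    rw [hX, hY, LinearMap.range_neg, range_mul, range_mul]
    exact hd
  have hsum : X * d * X + Y * d * Y = X + Y := by
    have := P.gdg
    rw [hg] at this
    simpa [mul_add, add_mul, xy, yx] using this
  have hXX : X * d * X = X ∧ Y * d * Y = Y := by
    have hm : ∀ m, (X * d * X - X) m = 0 := fun m => by
      refine Submodule.disjoint_def.mp hdisj _
        (Submodule.sub_mem _ (mem_range_self X (d (X m))) (mem_range_self X m)) ?_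
      have e : X * d * X - X = Y - Y * d * Y := by
        rw [sub_eq_sub_iff_add_eq_add, hsum, add_comm]
      show (X * d * X - X) m ∈ range Y
      rw [e]
      exact Submodule.sub_mem _ (mem_range_self Y m) (mem_range_self Y (d (Y m)))
    have e : X * d * X = X := sub_eq_zero.mp (LinearMap.ext hm)
    refine ⟨e, ?_⟩
    rw [e] at hsum
    exact add_left_cancel hsum
  have gX : γ * d * X = X := by rw [hg, add_mul, add_mul, hXX.1, yx, add_zero]
  have gY : γ * d * Y = Y := by rw [hg, add_mul, add_mul, hXX.2, xy, zero_add]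
  have Yg : Y * d * γ = Y := by rw [hg, mul_add, hXX.2, yx, zero_add]
  have hrec : ∀ l, InRoot G γ l → InRoot G γ (l * d * Y - Y * d * l) ∧
      Fam G (lift b d l) ∧ a * lift b d l - lift b d l * a = X * d * l + l * d * Y := by
    intro l hl
    obtain ⟨gl, lg, al, la, bl, lb⟩ := P.el hl
    have hfy : Fam G (lift b d l) := by
      by_cases hl0 : l = 0
      · simp only [lift, hl0, mul_zero, zero_mul, add_zero]; exact Fam.zero
      set c := b * d - d * b with hc
      have e1 : c * l = b * d * l := by rw [hc, sub_mul, mul_assoc d b l, bl, mul_zero, sub_zero]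
      have e2 : l * c = -(l * d * b) := by
        rw [hc, mul_sub, ← mul_assoc l b, lb, zero_mul, zero_sub, mul_assoc]
      have h3 : c * l * c = 0 := by
        rw [e1, hc, mul_sub, show b * d * l * (b * d) = b * d * (l * b) * d by simp only [mul_assoc],
          lb, mul_zero, zero_mul, ← mul_assoc, P.bdldb h2 hl, sub_zero]
      have h4 : l * c * l = 0 := by
        rw [e2, neg_mul, mul_assoc (l * d), bl, mul_zero, neg_zero]
      have := P.conj_minQ.fam.bracket hl.1 h3 h4
      rwa [← hc, e1, e2, sub_neg_eq_add] at this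
    have hay : a * lift b d l - lift b d l * a = X * d * l + l * d * Y := by
      simp only [lift, hX, hY, mul_add, add_mul, mul_neg, mul_assoc, la, mul_zero, ← mul_assoc a l,
        al, zero_mul]
      abel
    refine ⟨?_, hfy, hay⟩
    have hfc : Fam G (a * lift b d l - lift b d l * a) := by
      refine P.ma.fam.bracket hfy ?_ ?_
      · simp only [lift, mul_add, add_mul, mul_assoc, la, mul_zero, ← mul_assoc a l, al, zero_mul,
          add_zero]
      · simp only [lift, mul_add, add_mul, mul_assoc]
        rw [show l * (a * (b * (d * l))) = 0 by rw [← mul_assoc, la, zero_mul],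
          show l * (a * (l * (d * b))) = 0 by rw [← mul_assoc, la, zero_mul],
          show b * (a * (b * (d * l))) = 0 by rw [← mul_assoc, ← mul_assoc, P.bab, zero_mul],
          show a * (l * (d * b)) = 0 by rw [← mul_assoc, al, zero_mul]]
        simp
    rw [hay] at hfc
    have hroot : InRoot G γ (X * d * l + l * d * Y) := by
      refine inRoot_of_eq (d := d) hfc ?_ ?_
      · rw [mul_add, ← mul_assoc, ← mul_assoc, gX, ← mul_assoc, ← mul_assoc, gl]
      · rw [add_mul, add_mul, show X * d * l * d * γ = X * d * (l * d * γ) by simp only [mul_assoc], lg,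
          show l * d * Y * d * γ = l * d * (Y * d * γ) by simp only [mul_assoc], Yg]
    have e : l * d * Y - Y * d * l = (X * d * l + l * d * Y) + (-1 : k) • l := by
      have : l = X * d * l + Y * d * l := by
        conv_lhs => rw [← gl, hg, add_mul, add_mul]
      conv_rhs => arg 2; arg 2; rw [this]
      rw [neg_one_smul]; abel
    rw [e]
    exact hroot.add P.mγ.sq (hl.smul _)
  obtain ⟨gl, lg, al, la, bl, lb⟩ := P.el hl
  obtain ⟨hD, hfy, hay⟩ := hrec l hl
  obtain ⟨hDD, -, -⟩ := hrec _ hD
  have hl1 : l = X * d * l + Y * d * l := by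
    conv_lhs => rw [← gl, hg, add_mul, add_mul]
  have hl2 : l = l * d * X + l * d * Y := by
    conv_lhs => rw [← lg, hg, mul_add]
  have hDDe : (l * d * Y - Y * d * l) * d * Y - Y * d * (l * d * Y - Y * d * l) =
      l * d * Y + Y * d * l - (2 : k) • (Y * d * l * d * Y) := by
    have a1 : l * d * Y * d * Y = l * d * Y := by
      calc l * d * Y * d * Y = l * d * (Y * d * Y) := by simp only [mul_assoc]
        _ = l * d * Y := by rw [hXX.2]
    have a2 : Y * d * (Y * d * l) = Y * d * l := by
      rw [← mul_assoc, ← mul_assoc, hXX.2]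
    have a3 : Y * d * (l * d * Y) = Y * d * l * d * Y := by simp only [mul_assoc]
    simp only [sub_mul, mul_sub, a1, a2, a3, two_smul]
    abel
  rw [hDDe] at hDD
  have half : ∀ z : Module.End k M, InRoot G γ ((2 : k) • z) → InRoot G γ z := fun z hz => by
    simpa [smul_smul, h2] using hz.smul (2 : k)⁻¹
  have hZ : InRoot G γ (l * d * Y - Y * d * l * d * Y) := by
    refine half _ ?_
    have := hD.add P.mγ.sq hDD
    convert this using 1
    rw [two_smul, two_smul]; abel
  have hZ' : InRoot G γ (Y * d * l - Y * d * l * d * Y) := by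
    refine half _ ?_
    have := hDD.add P.mγ.sq (hD.smul (-1))
    convert this using 1
    rw [two_smul, two_smul, neg_one_smul]; abel
  have z0 : l * d * Y - Y * d * l * d * Y = 0 := by
    by_contra hne
    obtain ⟨-, hr, -⟩ := hZ.eq_of_ne P.mγ hne
    have e : l * d * Y - Y * d * l * d * Y = X * (d * l * d * Y) := by
      conv_lhs => arg 1; rw [hl1]
      simp only [add_mul, mul_assoc]; abel
    have hle : range Y ≤ range X := by
      refine le_trans ?_ (hr.symm.le.trans ?_)
      · rw [← gY, mul_assoc]; exact LinearMap.range_comp_le_range _ _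
      · rw [e]; exact LinearMap.range_comp_le_range _ _
    have : Y = 0 := LinearMap.range_eq_bot.mp (disjoint_self.mp (hdisj.mono_left hle))
    exact hne (by simp [this])
  have z1 : Y * d * l - Y * d * l * d * Y = 0 := by
    by_contra hne
    obtain ⟨-, hr, -⟩ := hZ'.eq_of_ne P.mγ hne
    have e : Y * d * l - Y * d * l * d * Y = Y * (d * (l * d * X)) := by
      conv_lhs => arg 1; rw [hl2]
      simp only [mul_add, mul_assoc]; abel
    have hle : range X ≤ range Y := by
      refine le_trans ?_ (hr.symm.le.trans ?_)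
      · rw [← gX, mul_assoc]; exact LinearMap.range_comp_le_range _ _
      · rw [e]; exact LinearMap.range_comp_le_range _ _
    have : X = 0 := LinearMap.range_eq_bot.mp (disjoint_self.mp (hdisj.mono_right hle))
    rw [this] at e
    exact hne (by simpa using e)
  have hY0 : l * d * Y = Y * d * l := (sub_eq_zero.mp z0).trans (sub_eq_zero.mp z1).symm
  have hX0 : X * d * l = l * d * X := by
    have := hl1.symm.trans hl2
    rw [hY0] at this
    exact add_right_cancel this
  refine ⟨⟨hfy, ?_, fun m hm => ?_⟩, ?_⟩
  · have e : lift b d l = b * (d * l - a * (d * l * d * b)) := by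
      have : l * d * b = -(b * (a * (d * l * d * b))) := by
        calc l * d * b = l * d * γ * d * b := by rw [lg]
          _ = l * d * (X * d * b) + l * d * Y * d * b := by
            rw [hg]; simp only [mul_add, add_mul, mul_assoc]
          _ = -(b * (a * (d * l * d * b))) := by
            rw [show X * d * b = a * (b * d * b) by rw [hX]; simp only [mul_assoc], bdb, mul_zero,
              mul_zero, zero_add, hY0, hY]
            simp only [neg_mul, mul_assoc]
      rw [lift, this, mul_sub, sub_eq_add_neg, mul_assoc b d l]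
    rw [e]
    exact LinearMap.range_comp_le_range _ _
  · have e : lift b d l = (b * d * l * d * a + l * d) * b := by
      have h1 : b * d * l = b * d * l * d * a * b := by
        calc b * d * l = b * d * (X * d * l) + b * d * Y * d * l := by
              conv_lhs => rw [hl1]
              simp only [mul_add, mul_assoc]
          _ = b * d * (l * d * X) := by
              rw [hX0, show b * d * Y = 0 by
                rw [hY, mul_neg, ← mul_assoc, bdb, zero_mul, neg_zero], zero_mul, zero_mul, add_zero]
          _ = b * d * l * d * a * b := by rw [hX]; simp only [mul_assoc]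
      rw [lift, add_mul, ← h1]
    rw [e]
    show (b * d * l * d * a + l * d) (b m) = 0
    rw [(hm : b m = 0), map_zero]
  · rw [hay, hY0]; exact hl1.symm

end PurePair

end H56Q
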