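import Cfsg.Agent.H56.QPFam
import Cfsg.Agent.H56.QPMat

/-!
Two square-zero maps as a matrix algebra over polynomials in `z = a b + b a`.
-/

set_option autoImplicit false
set_option linter.unusedSectionVars false

namespace H56Q

open Cfsg Polynomial

variable {k : Type*} [Field k] {M : Type*} [AddCommGroup M] [Module k M]

/-- the element `a b + b a` -/
def zed (a b : Module.End k M) : Module.End k M := a * b + b * a

variable {a b : Module.End k M}

theorem zed_comm (a b : Module.End k M) : zed b a = zed a b := add_comm _ _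

theorem zed_commute_left (ha : a * a = 0) : Commute (zed a b) a := by
  show (a * b + b * a) * a = a * (a * b + b * a)
  rw [add_mul, mul_add, mul_assoc b a a, ← mul_assoc a a b, ha, mul_zero, zero_mul, add_zero,
    zero_add, mul_assoc]

theorem aev_commute_left (ha : a * a = 0) (P : k[X]) : Commute (aeval (zed a b) P) a := by
  induction P using Polynomial.induction_on' with
  | add p q hp hq => rw [map_add]; exact hp.add_left hq
  | monomial n c =>
    rw [aeval_monomial]
    exact Commute.mul_left (Algebra.commutes c a) ((zed_commute_left ha).pow_left n)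

theorem aev_commute_right (hb : b * b = 0) (P : k[X]) : Commute (aeval (zed a b) P) b := by
  rw [← zed_comm]; exact aev_commute_left hb P

/-- the image in the endomorphisms of a matrix congruent to upper unitriangular modulo `X` -/
noncomputable def theta (a b : Module.End k M) (g : Matrix.SpecialLinearGroup (Fin 2) k[X]) :
    Module.End k M :=
  1 + aeval (zed a b) (g 0 0).divX * (a * b) + aeval (zed a b) (g 0 1) * a +
    aeval (zed a b) (g 1 0).divX * b + aeval (zed a b) (g 1 1).divX * (b * a)

/-- congruent to upper unitriangular modulo `X` -/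
def InGamma (g : Matrix.SpecialLinearGroup (Fin 2) k[X]) : Prop :=
  (g 0 0).coeff 0 = 1 ∧ (g 1 0).coeff 0 = 0 ∧ (g 1 1).coeff 0 = 1

theorem split_divX (p : k[X]) {c : k} (h : p.coeff 0 = c) : p = C c + X * p.divX := by
  conv_lhs => rw [← X_mul_divX_add p, h]
  rw [add_comm]

theorem divX_add_X_mul (c : k) (p : k[X]) : (C c + X * p).divX = p := by
  apply Polynomial.ext; intro n
  simp [coeff_divX, coeff_C]

theorem InGamma.mul {g h : Matrix.SpecialLinearGroup (Fin 2) k[X]} (hg : InGamma g) (hh : InGamma h) :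
    InGamma (g * h) := by
  obtain ⟨g1, g2, g3⟩ := hg
  obtain ⟨h1, h2, h3⟩ := hh
  simp [InGamma, mul00, mul10, mul11, mul_coeff_zero, g1, g2, g3, h1, h2, h3]

theorem inGamma_one : InGamma (1 : Matrix.SpecialLinearGroup (Fin 2) k[X]) := by
  simp [InGamma]

theorem theta_one : theta a b 1 = 1 := by simp [theta]

theorem theta_mul (ha : a * a = 0) (hb : b * b = 0) {g h : Matrix.SpecialLinearGroup (Fin 2) k[X]}
    (hg : InGamma g) (hh : InGamma h) : theta a b (g * h) = theta a b g * theta a b h := by
  obtain ⟨g1, g2, g3⟩ := hg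
  obtain ⟨h1, h2, h3⟩ := hh
  have e00 : ((g * h) 0 0).divX = (g 0 0).divX + (h 0 0).divX + X * ((g 0 0).divX * (h 0 0).divX) +
      g 0 1 * (h 1 0).divX := by
    rw [← divX_add_X_mul (1 : k) ((g 0 0).divX + (h 0 0).divX +
      X * ((g 0 0).divX * (h 0 0).divX) + g 0 1 * (h 1 0).divX)]
    congr 1
    simp only [mul00, mul01, mul10, mul11]
    conv_lhs => rw [split_divX (g 0 0) g1, split_divX (h 0 0) h1, split_divX (h 1 0) h2]
    simp only [map_one, map_zero]
    ring
  have e01 : (g * h) 0 1 = h 0 1 + X * ((g 0 0).divX * h 0 1) + g 0 1 +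
      X * (g 0 1 * (h 1 1).divX) := by
    simp only [mul00, mul01, mul10, mul11]
    conv_lhs => rw [split_divX (g 0 0) g1, split_divX (h 1 1) h3]
    simp only [map_one]
    ring
  have e10 : ((g * h) 1 0).divX = (g 1 0).divX + X * ((g 1 0).divX * (h 0 0).divX) + (h 1 0).divX +
      X * ((g 1 1).divX * (h 1 0).divX) := by
    rw [← divX_add_X_mul (0 : k) ((g 1 0).divX + X * ((g 1 0).divX * (h 0 0).divX) + (h 1 0).divX +
      X * ((g 1 1).divX * (h 1 0).divX))]
    congr 1
    simp only [mul00, mul01, mul10, mul11]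
    conv_lhs => rw [split_divX (g 1 0) g2, split_divX (g 1 1) g3, split_divX (h 0 0) h1,
      split_divX (h 1 0) h2]
    simp only [map_one, map_zero]
    ring
  have e11 : ((g * h) 1 1).divX = (g 1 1).divX + (h 1 1).divX + X * ((g 1 1).divX * (h 1 1).divX) +
      (g 1 0).divX * h 0 1 := by
    rw [← divX_add_X_mul (1 : k) ((g 1 1).divX + (h 1 1).divX +
      X * ((g 1 1).divX * (h 1 1).divX) + (g 1 0).divX * h 0 1)]
    congr 1
    simp only [mul00, mul01, mul10, mul11]
    conv_lhs => rw [split_divX (g 1 1) g3, split_divX (h 1 1) h3, split_divX (g 1 0) g2]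
    simp only [map_one, map_zero]
    ring
  set E := aeval (R := k) (zed a b) with hE
  have hc : ∀ (u : Module.End k M), (∀ P, Commute (E P) u) → ∀ (P Q : k[X]) (v : Module.End k M),
      (E P * u) * (E Q * v) = E (P * Q) * (u * v) := by
    intro u hu P Q v
    rw [map_mul, mul_assoc, ← mul_assoc u, ← (hu Q).eq]
    simp only [mul_assoc]
  have ca : ∀ P, Commute (E P) a := aev_commute_left ha
  have cb : ∀ P, Commute (E P) b := aev_commute_right hb
  have cab : ∀ P, Commute (E P) (a * b) := fun P => (ca P).mul_right (cb P)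
  have cba : ∀ P, Commute (E P) (b * a) := fun P => (cb P).mul_right (ca P)
  have hz : E X = zed a b := aeval_X _
  have za : zed a b * a = a * b * a := by
    rw [zed, add_mul, mul_assoc b a a, ha, mul_zero, add_zero]
  have zb : zed a b * b = b * a * b := by
    rw [zed, add_mul, mul_assoc a b b, hb, mul_zero, zero_add]
  have p2 : a * b * a = E X * a := by rw [hz, za]
  have p7 : b * (a * b) = E X * b := by rw [hz, zb, mul_assoc]
  have p1 : a * b * (a * b) = E X * (a * b) := by rw [← mul_assoc, p2, mul_assoc]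
  have p6 : a * (b * a) = E X * a := by rw [← mul_assoc, p2]
  have p11 : b * a * b = E X * b := by rw [mul_assoc, p7]
  have p12 : b * a * (b * a) = E X * (b * a) := by rw [← mul_assoc, p11, mul_assoc]
  have p3 : a * b * b = 0 := by rw [mul_assoc, hb, mul_zero]
  have p4 : a * b * (b * a) = 0 := by rw [← mul_assoc, p3, zero_mul]
  have p5 : a * (a * b) = 0 := by rw [← mul_assoc, ha, zero_mul]
  have p8 : b * (b * a) = 0 := by rw [← mul_assoc, hb, zero_mul]
  have p10 : b * a * a = 0 := by rw [mul_assoc, ha, mul_zero]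
  have p9 : b * a * (a * b) = 0 := by rw [← mul_assoc, p10, zero_mul]
  have hEr : ∀ (P Q : k[X]) (w : Module.End k M), E (P * Q) * (E X * w) = E (X * (P * Q)) * w := by
    intro P Q w
    rw [← mul_assoc, ← map_mul, mul_comm (P * Q) X]
  symm
  unfold theta
  rw [e00, e01, e10, e11, ← hE]
  simp only [add_mul, mul_add, one_mul, mul_one, hc _ ca, hc _ cb, hc _ cab, hc _ cba, ha, hb, p1,
    p2, p3, p4, p5, p6, p7, p8, p9, p10, p11, p12, mul_zero, hEr, add_zero]
  simp only [map_add, add_mul, mul_assoc]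
  abel

theorem inGamma_upr (q : k[X]) : InGamma (upr q) := by simp [InGamma]

theorem inGamma_lwr (r : k[X]) : InGamma (lwr (X * r)) := by simp [InGamma]

theorem theta_upr (q : k[X]) : theta a b (upr q) = 1 + aeval (zed a b) q * a := by
  simp [theta]

theorem theta_lwr (r : k[X]) : theta a b (lwr (X * r)) = 1 + aeval (zed a b) r * b := by
  have : (X * r).divX = r := by simpa using divX_add_X_mul (0 : k) r
  simp [theta, this]

theorem InGamma.inv {g : Matrix.SpecialLinearGroup (Fin 2) k[X]} (hg : InGamma g) :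
    InGamma g⁻¹ := by
  obtain ⟨g1, g2, g3⟩ := hg
  simp [InGamma, g1, g2, g3]

/-- the abstract group generated by the two families -/
noncomputable def polyGroup (k : Type*) [Field k] : Subgroup (Matrix.SpecialLinearGroup (Fin 2) k[X]) :=
  Subgroup.closure (Set.range (fun c : k => upr (C c)) ∪ Set.range (fun c : k => lwr (X * C c)))

variable {H : Subgroup (GLM k M)}

theorem polyGroup_spec (ha : Fam H a) (hb : Fam H b) {g : Matrix.SpecialLinearGroup (Fin 2) k[X]}
    (hg : g ∈ polyGroup k) :
    InGamma g ∧ ∃ h ∈ H, (h : Module.End k M) = theta a b g := by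
  induction hg using Subgroup.closure_induction with
  | mem x hx =>
    rcases hx with ⟨c, rfl⟩ | ⟨c, rfl⟩
    · obtain ⟨h, hh, e⟩ := ha.2 c
      exact ⟨inGamma_upr _, h, hh, by rw [theta_upr, e, aeval_C, Algebra.smul_def]⟩
    · obtain ⟨h, hh, e⟩ := hb.2 c
      exact ⟨inGamma_lwr _, h, hh, by rw [theta_lwr, e, aeval_C, Algebra.smul_def]⟩
  | one => exact ⟨inGamma_one, 1, one_mem H, by rw [theta_one]; rfl⟩
  | mul x y _ _ hx hy =>
    obtain ⟨x1, h, hh, e⟩ := hx
    obtain ⟨y1, h', hh', e'⟩ := hy
    exact ⟨x1.mul y1, h * h', mul_mem hh hh', by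
      rw [theta_mul ha.1 hb.1 x1 y1, ← e, ← e', Units.val_mul]⟩
  | inv x _ hx =>
    obtain ⟨x1, h, hh, e⟩ := hx
    refine ⟨x1.inv, h⁻¹, inv_mem hh, ?_⟩
    have h1 : theta a b x * theta a b x⁻¹ = 1 := by
      rw [← theta_mul ha.1 hb.1 x1 x1.inv, mul_inv_cancel, theta_one]
    rw [← e] at h1
    calc ((h⁻¹ : GLM k M) : Module.End k M)
        = ((h⁻¹ : GLM k M) : Module.End k M) * ((h : Module.End k M) * theta a b x⁻¹) := by
          rw [h1, mul_one]
      _ = _ := by rw [← mul_assoc, Units.inv_mul, one_mul]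

theorem polyGroup_upr (c : k) : upr (C c) ∈ polyGroup k := Subgroup.subset_closure (Or.inl ⟨c, rfl⟩)

theorem polyGroup_lwr (c : k) : lwr (X * C c) ∈ polyGroup k :=
  Subgroup.subset_closure (Or.inr ⟨c, rfl⟩)

/-- a triangular element conjugates the family of `a` to that of `p² a` -/
theorem fam_sq_of_triangular (ha : Fam H a) (hb : Fam H b) {F : k[X]} (hF : aeval (zed a b) F = 0)
    {g : Matrix.SpecialLinearGroup (Fin 2) k[X]} (hg : g ∈ polyGroup k) (hdiv : X * F ∣ g 1 0) :
    Fam H (aeval (zed a b) (g 0 0 * g 0 0) * a) := by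
  obtain ⟨t, ht⟩ := hdiv
  refine ⟨?_, fun c => ?_⟩
  · rw [mul_assoc, ← mul_assoc a, ← (aev_commute_left ha.1 _).eq, mul_assoc, ha.1, mul_zero,
      mul_zero]
  obtain ⟨hG, h, hh, e⟩ := polyGroup_spec ha hb
    (mul_mem (mul_mem hg (polyGroup_upr c)) (inv_mem hg))
  refine ⟨h, hh, e.trans ?_⟩
  obtain ⟨m00, m01, m10, m11⟩ := conj_upr g (C c)
  rw [ht] at m00 m10 m11
  unfold theta
  have d00 : (1 - C c * g 0 0 * (X * F * t)).divX = -(C c * g 0 0 * t) * F := by
    rw [show 1 - C c * g 0 0 * (X * F * t) = C (1 : k) + X * (-(C c * g 0 0 * t) * F) by rw [C_1]; ring,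
      divX_add_X_mul]
  have d11 : (1 + C c * g 0 0 * (X * F * t)).divX = C c * g 0 0 * t * F := by
    rw [show 1 + C c * g 0 0 * (X * F * t) = C (1 : k) + X * (C c * g 0 0 * t * F) by rw [C_1]; ring,
      divX_add_X_mul]
  have d10 : (-(C c * ((X * F * t) * (X * F * t)))).divX = -(C c * X * t * t * F) * F := by
    rw [show -(C c * ((X * F * t) * (X * F * t))) = C (0 : k) + X * (-(C c * X * t * t * F) * F) by
      rw [C_0]; ring, divX_add_X_mul]
  rw [m00, m01, m10, m11, d00, d10, d11]
  simp only [map_mul, hF, mul_zero, zero_mul, add_zero, aeval_C, Algebra.smul_def, mul_assoc]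

end H56Q
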