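import Cfsg.Agent.H56.Zassenhaus
import Cfsg.Agent.H56.FixedRingTwo
import Cfsg.Agent.H2.FPFSubgroup
import Cfsg.Agent.H2.FPFSylow
import Cfsg.Agent.H2.UniqueSubgroup

/-!
A doubly transitive group in which only the identity fixes three points, some non-identity element
fixes two points and which has a regular normal subgroup has degree `2 ^ p`, `p` prime.
-/

set_option autoImplicit false

open scoped Pointwise

namespace H56

theorem regular_two_prime {G Ω : Type*} [Group G] [MulAction G Ω] [Finite Ω] [FaithfulSMul G Ω]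
    (h2 : MulAction.IsMultiplyPretransitive G Ω 2)
    (h3 : ∀ g : G, ∀ a b c : Ω, a ≠ b → b ≠ c → a ≠ c → g • a = a → g • b = b → g • c = c → g = 1)
    (hfix : ∃ g : G, g ≠ 1 ∧ ∃ a b : Ω, a ≠ b ∧ g • a = a ∧ g • b = b)
    (N : Subgroup G) [hNn : N.Normal] (hNt : MulAction.IsPretransitive N Ω)
    (hNr : ∀ a : Ω, MulAction.stabilizer N a = ⊥) :
    ∃ p : ℕ, p.Prime ∧ Nat.card Ω = 2 ^ p := by
  classical
  have : Finite G := Finite.of_injective _ (MulAction.toPerm_injective (α := G) (β := Ω))
  obtain ⟨g0, hg01, a, b, hab, hg0a, hg0b⟩ := hfix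
  have hreg : ∀ n : N, ∀ c : Ω, n • c = c → n = 1 := fun n c h =>
    (Subgroup.eq_bot_iff_forall _).1 (hNr c) n h
  have hinj : ∀ n m : N, n • a = m • a → n = m := fun n m h => by
    have := hreg (m⁻¹ * n) a (by rw [mul_smul, h, inv_smul_smul])
    exact (inv_mul_eq_one.1 this).symm
  let A : Subgroup G := MulAction.stabilizer G a
  letI actA : MulDistribMulAction A N :=
    MulDistribMulAction.compHom N ((MulAut.conjNormal (G := G) (H := N)).comp A.subtype)
  have hact : ∀ (x : A) (n : N), ((x • n : N) : G) = (x : G) * (n : G) * (x : G)⁻¹ := fun x n => rfl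
  have hpt : ∀ (x : A) (n : N), (x • n) • a = (x : G) • (n • a) := by
    intro x n
    show ((x • n : N) : G) • a = _
    have hxa : (x : G)⁻¹ • a = a := by rw [inv_smul_eq_iff]; exact x.2.symm
    rw [hact, mul_smul, mul_smul, hxa]
    rfl
  -- a non-identity element of `A` centralizes at most one non-identity element of `N`
  have hC : ∀ x : A, x ≠ 1 → ∀ n m : N, n ≠ 1 → m ≠ 1 → x • n = n → x • m = m → n = m := by
    intro x hx n m hn hm hxn hxm
    by_contra hnm
    refine hx (Subtype.ext (h3 (x : G) a (n • a) (m • a) ?_ ?_ ?_ x.2 ?_ ?_))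
    · exact fun h => hn (hreg n a h.symm)
    · exact fun h => hnm (hinj n m h)
    · exact fun h => hm (hreg m a h.symm)
    · rw [← hpt, hxn]
    · rw [← hpt, hxm]
  obtain ⟨v, hv⟩ := hNt.exists_smul_eq a b
  have hv1 : v ≠ 1 := fun h => hab (by rw [← hv, h, one_smul])
  let x0 : A := ⟨g0, hg0a⟩
  have hx0 : x0 ≠ 1 := fun h => hg01 (congrArg Subtype.val h)
  have hx0v : x0 • v = v := hinj _ _ (by rw [hpt, hv]; exact hg0b)
  have hvv : v * v = 1 := by
    by_contra h
    exact hv1 (mul_eq_left.1 (hC x0 hx0 v (v * v) hv1 h hx0v (by rw [smul_mul', hx0v])).symm)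
  have hconj : ∀ n : N, n ≠ 1 → ∃ x : A, x • v = n := by
    intro n hn
    obtain ⟨g, hga, hgb⟩ := exists_smul_pair h2 hab (show a ≠ n • a from fun h => hn (hreg n a h.symm))
    exact ⟨⟨g, hga⟩, hinj _ _ (by rw [hpt, hv]; exact hgb)⟩
  have hsq : ∀ n : N, n * n = 1 := by
    intro n
    by_cases hn : n = 1
    · rw [hn, one_mul]
    · obtain ⟨x, rfl⟩ := hconj n hn
      rw [← smul_mul', hvv, smul_one]
  have hcomm : ∀ n m : N, n * m = m * n := by
    intro n m
    have h1 : ∀ y : N, y⁻¹ = y := fun y => inv_eq_of_mul_eq_one_right (hsq y)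
    have h := h1 (n * m)
    rw [mul_inv_rev, h1 n, h1 m] at h
    exact h.symm
  letI : CommGroup N := { (inferInstance : Group N) with mul_comm := hcomm }
  have hcardN : Nat.card N = Nat.card Ω :=
    Nat.card_eq_of_bijective (fun n : N => n • a)
      ⟨fun n m h => hinj n m h, fun c => hNt.exists_smul_eq a c⟩
  have hN3 : 3 ≤ Nat.card N := by
    rw [hcardN]
    by_contra hlt
    have := Fintype.ofFinite Ω
    rw [Nat.card_eq_fintype_card] at hlt
    apply hg01
    refine eq_of_smul_eq_smul fun c : Ω => ?_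
    rw [one_smul]
    by_cases hca : c = a
    · rw [hca, hg0a]
    by_cases hcb : c = b
    · rw [hcb, hg0b]
    exfalso
    have h3' : ({a, b, c} : Finset Ω).card = 3 :=
      Finset.card_eq_three.2 ⟨a, b, c, hab, Ne.symm hca, Ne.symm hcb, rfl⟩
    have := Finset.card_le_univ ({a, b, c} : Finset Ω)
    omega
  -- the Frobenius group
  let H : Subgroup A := MulAction.stabilizer A v
  have hmemH : ∀ (g x : A), x ∈ MulAut.conj g • H ↔ x • g • v = g • v := by
    intro g x
    rw [H2.mem_conj_smul, MulAction.mem_stabilizer_iff, mul_smul, mul_smul, inv_smul_eq_iff]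
  have hFC : Cfsg.IsFrobeniusComplement H := by
    refine ⟨?_, ?_, ?_⟩
    · intro h
      exact hx0 ((Subgroup.eq_bot_iff_forall _).1 h x0 hx0v)
    · intro h
      have : ∀ n : N, n = 1 ∨ n = v := by
        intro n
        by_cases hn : n = 1
        · exact Or.inl hn
        · obtain ⟨x, rfl⟩ := hconj n hn
          exact Or.inr (MulAction.mem_stabilizer_iff.1 (show x ∈ H by rw [h]; exact Subgroup.mem_top x))
      have hle : Nat.card N ≤ Nat.card (Fin 2) := Nat.card_le_card_of_surjective
        (fun i : Fin 2 => if i = 0 then (1 : N) else v) (fun n => by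
          rcases this n with rfl | rfl
          · exact ⟨0, rfl⟩
          · exact ⟨1, rfl⟩)
      rw [Nat.card_fin] at hle
      omega
    · intro g hg
      rw [Subgroup.eq_bot_iff_forall]
      rintro x ⟨hx1, hx2⟩
      by_contra hx
      refine hg (hC x hx v (g • v) hv1 ?_ hx1 ((hmemH g x).1 hx2)).symm
      intro h
      exact hv1 (by rw [← inv_smul_smul g v, h, smul_one])
  obtain ⟨M, hMker, hMn, hMc⟩ := H2.exists_kernel hFC
  have hMfpf : ∀ x : M, x ≠ 1 → ∀ n : N, x • n = n → n = 1 := by
    intro x hx n hn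
    by_contra hn1
    obtain ⟨g, rfl⟩ := hconj n hn1
    have hxK : (x : A) ∈ Cfsg.frobeniusKernel H := by rw [← hMker]; exact x.2
    rcases hxK with h | h
    · exact hx (Subtype.ext h)
    · exact h g ((hmemH g x).2 hn)
  have hcardM : Nat.card M + 1 = Nat.card N := by
    rw [← hMc.index_eq_card, MulAction.index_stabilizer]
    have horb : MulAction.orbit A v = ({(1 : N)}ᶜ : Set N) := by
      ext n
      simp only [Set.mem_compl_iff, Set.mem_singleton_iff, MulAction.mem_orbit_iff]
      constructor
      · rintro ⟨x, rfl⟩ h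
        exact hv1 (by rw [← inv_smul_smul x v, h, smul_one])
      · exact hconj n
    rw [horb, Set.ncard_compl, Set.ncard_singleton]
    omega
  have hoddM : Odd (Nat.card M) := by
    have h2N : 2 ∣ Nat.card N := by
      have := orderOf_dvd_natCard v
      rwa [orderOf_eq_prime (by rw [pow_two, hvv]) hv1] at this
    rw [Nat.odd_iff]
    omega
  have hMne : M ≠ ⊥ := by
    intro h
    rw [h, Subgroup.card_bot] at hcardM
    omega
  have : Nontrivial N := ⟨v, 1, hv1⟩
  have hZ : IsZGroup M := ⟨fun p hp P => by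
    have := Fact.mk hp
    rcases H2.cyclic_or_quaternion_of_unique P.2 (fun S T hS hT =>
      H2.unique_subgroup_card_prime (M := N) (H2.fpf_restrict hMfpf P) P.2 S T hS hT) with h | ⟨rfl, -⟩
    · exact h
    · obtain ⟨k, hk⟩ := IsPGroup.iff_card.1 P.2
      have hd := (P : Subgroup M).card_subgroup_dvd_card
      rw [hk] at hd
      rcases Nat.eq_zero_or_pos k with rfl | hk0
      · have : Subsingleton (P : Subgroup M) := (Nat.card_eq_one_iff_unique.1 (by simpa using hk)).1
        exact isCyclic_of_subsingleton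
      · have : 2 ∣ Nat.card M := (dvd_pow_self 2 hk0.ne').trans hd
        exact absurd (even_iff_two_dvd.2 this) (Nat.not_even_iff_odd.2 hoddM)⟩
  obtain ⟨F, hFM, hFne, hFcyc, hFn⟩ :
      ∃ F : Subgroup A, F ≤ M ∧ F ≠ ⊥ ∧ IsCyclic F ∧ F.Normal := by
    by_cases hc : commutator M = ⊥
    · refine ⟨M, le_rfl, hMne, ?_, hMn⟩
      refine H2.isCyclic_of_fpf_comm (M := N) hMfpf fun x y => ?_
      rw [← commutatorElement_eq_one_iff_mul_comm, ← Subgroup.mem_bot, ← hc]
      exact Subgroup.commutator_mem_commutator (Subgroup.mem_top x) (Subgroup.mem_top y)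
    · have : IsCyclic (commutator M) := IsZGroup.isCyclic_commutator M
      refine ⟨(commutator M).map M.subtype, Subgroup.map_subtype_le _, ?_, ?_, inferInstance⟩
      · rwa [Ne, (commutator M).map_eq_bot_iff_of_injective M.subtype_injective]
      · exact ((commutator M).equivMapOfInjective _ M.subtype_injective).isCyclic.1 inferInstance
  have hoddF : Odd (Nat.card F) := hoddM.of_dvd_nat (Subgroup.card_dvd_of_le hFM)
  have hFfix : ∀ n : N, (∀ f : F, (f : A) • n = n) → n = 1 := by
    intro n hn
    obtain ⟨f, hf, hf1⟩ := F.bot_or_exists_ne_one.resolve_left hFne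
    exact hMfpf ⟨f, hFM hf⟩ (fun h => hf1 (congrArg Subtype.val h)) n (hn ⟨f, hf⟩)
  -- an element of prime order in the complement
  obtain ⟨r, hr, hrd⟩ := Nat.exists_prime_and_dvd (n := Nat.card H) (fun h => hFC.1 (Subgroup.eq_bot_of_card_eq _ h))
  have := Fact.mk hr
  obtain ⟨g', hg'⟩ := exists_prime_orderOf_dvd_card' r hrd
  set g : A := (g' : A) with hgdef
  have hgr : g ^ r = 1 := by rw [hgdef, ← hg']; exact congrArg Subtype.val (pow_orderOf_eq_one g')
  have hgne : ∀ i : ℕ, i ≠ 0 → i < r → g ^ i ≠ 1 := by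
    intro i hi hir h
    have h' : g' ^ i = 1 := Subtype.ext h
    exact hi (Nat.eq_zero_of_dvd_of_lt (hg' ▸ orderOf_dvd_of_pow_eq_one h') hir)
  have hgiv : ∀ i : ℕ, g ^ i • v = v := fun i => (g' ^ i).2
  have hgfix : ∀ n : N, g • n = n → n = 1 ∨ n = v := by
    intro n hn
    by_cases hn1 : n = 1
    · exact Or.inl hn1
    · have hg1 : g ≠ 1 := by simpa using hgne 1 one_ne_zero hr.one_lt
      exact Or.inr (hC g hg1 n v hn1 hv1 hn (by simpa using hgiv 1))
  have := Fintype.ofFinite F
  -- `N` is spanned by the `F`-orbit of `v`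
  have hspan : ∀ n : N, n ∈ Subgroup.closure (Set.range fun f : F => (f : A) • v) := by
    intro n
    let T : N → N := fun m => ∏ i ∈ Finset.range r, g ^ i • m
    have hT : ∀ m, g • T m = T m := by
      intro m
      simp only [T, Finset.smul_prod']
      obtain ⟨s, hs⟩ : ∃ s, r = s + 1 := ⟨r - 1, by have := hr.pos; omega⟩
      rw [hs, Finset.prod_range_succ, Finset.prod_range_succ' (fun i => g ^ i • m) s]
      congr 1
      · exact Finset.prod_congr rfl fun i _ => by rw [smul_smul, ← pow_succ']
      · rw [smul_smul, ← pow_succ', ← hs, hgr, pow_zero]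
    have hid : ∏ f : F, (f : A) • T ((f : A)⁻¹ • n) = n := by
      simp only [T, Finset.smul_prod', smul_smul]
      rw [Finset.prod_comm, Finset.prod_eq_single 0]
      · have : ∀ f : F, ((f : A) * (g ^ 0 * (f : A)⁻¹)) • n = n := by
          intro f; rw [pow_zero, one_mul, mul_inv_cancel, one_smul]
        simp only [this, Finset.prod_const, Finset.card_univ, ← Nat.card_eq_fintype_card]
        obtain ⟨k, hk⟩ := hoddF
        rw [hk, pow_succ, pow_mul, pow_two, hsq, one_pow, one_mul]
      · intro i hi hi0
        have hir := Finset.mem_range.1 hi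
        let φ : F → F := fun f => ⟨(f : A) * (g ^ i * (f : A)⁻¹ * (g ^ i)⁻¹),
          mul_mem f.2 (hFn.conj_mem _ (inv_mem f.2) _)⟩
        have hφ : Function.Bijective φ := by
          refine Finite.injective_iff_bijective.1 fun x y hxy => ?_
          have h := congrArg Subtype.val hxy
          simp only [φ, ← mul_assoc] at h
          have h' := mul_right_cancel h
          have hc : ((y : A)⁻¹ * x) * g ^ i = g ^ i * ((y : A)⁻¹ * x) := by
            calc ((y : A)⁻¹ * x) * g ^ i = (y : A)⁻¹ * ((x : A) * g ^ i * (x : A)⁻¹) * x := by group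
              _ = (y : A)⁻¹ * ((y : A) * g ^ i * (y : A)⁻¹) * x := by rw [h']
              _ = _ := by group
          set z : A := (y : A)⁻¹ * x with hz
          have hzF : z ∈ F := mul_mem (inv_mem y.2) x.2
          have hzv : z • v ≠ 1 := fun h => hv1 (by rw [← inv_smul_smul z v, h, smul_one])
          have := hC (g ^ i) (hgne i hi0 hir) (z • v) v hzv hv1
            (by rw [smul_smul, ← hc, mul_smul, hgiv]) (hgiv i)
          have hz1 : z = 1 := by
            by_contra hz1
            exact hv1 (hMfpf ⟨z, hFM hzF⟩ (fun h => hz1 (congrArg Subtype.val h)) v this)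
          exact Subtype.ext (inv_mul_eq_one.1 hz1).symm
        have hrw : ∀ f : F, ((f : A) * (g ^ i * (f : A)⁻¹)) • n = (φ f : A) • (g ^ i • n) := by
          intro f
          rw [smul_smul]
          congr 1
          simp only [φ]
          group
        simp only [hrw]
        rw [Function.Bijective.prod_comp hφ (fun f : F => (f : A) • (g ^ i • n))]
        refine hFfix _ fun f0 => ?_
        rw [Finset.smul_prod']
        simp only [smul_smul]
        exact Fintype.prod_equiv (Equiv.mulLeft f0) (fun f : F => ((f0 : A) * f * g ^ i) • n)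
          (fun f : F => ((f : A) * g ^ i) • n) (fun f => rfl) |>.trans (by rfl) |> fun h => by
            simpa [mul_assoc] using h
      · intro h
        exact absurd (Finset.mem_range.2 hr.pos) h
    rw [← hid]
    refine Subgroup.prod_mem _ fun f _ => ?_
    rcases hgfix _ (hT ((f : A)⁻¹ • n)) with h | h
    · rw [h, smul_one]; exact one_mem _
    · rw [h]; exact Subgroup.subset_closure ⟨f, rfl⟩
  -- the ring generated by `F`
  let ρ : A →* AddMonoid.End (Additive N) :=
    { toFun := fun x =>
        { toFun := fun m => Additive.ofMul (x • m.toMul)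
          map_zero' := by show Additive.ofMul (x • (1 : N)) = 0; rw [smul_one]; rfl
          map_add' := fun m m' => by
            show Additive.ofMul (x • (m.toMul * m'.toMul)) = _
            rw [smul_mul']; rfl }
      map_one' := AddMonoidHom.ext fun m => by
        show Additive.ofMul ((1 : A) • m.toMul) = m
        rw [one_smul]; rfl
      map_mul' := fun x y => AddMonoidHom.ext fun m => by
        show Additive.ofMul ((x * y) • m.toMul) = Additive.ofMul (x • y • m.toMul)
        rw [mul_smul] }
  set gens : Set (AddMonoid.End (Additive N)) := Set.range fun f : F => ρ (f : A) with hgens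
  let R := Subring.closure gens
  have hgcomm : ∀ x ∈ gens, ∀ y ∈ gens, x * y = y * x := by
    rintro _ ⟨f, rfl⟩ _ ⟨f', rfl⟩
    obtain ⟨c, hc⟩ := hFcyc.exists_generator
    obtain ⟨i, rfl⟩ := hc f
    obtain ⟨j, rfl⟩ := hc f'
    show ρ ((c ^ i : F) : A) * ρ ((c ^ j : F) : A) = _
    rw [← map_mul, ← map_mul, ← Subgroup.coe_mul, ← Subgroup.coe_mul, zpow_mul_comm]
  letI : IsMulCommutative R := Subring.isMulCommutative_closure hgcomm
  letI : CommRing R := { (inferInstance : Ring R) with mul_comm := fun x y => IsMulCommutative.is_comm.comm x y }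
  let v0 : Additive N := Additive.ofMul v
  have hkill : ∀ x : R, (x : AddMonoid.End (Additive N)) v0 = 0 → x = 0 := by
    intro x hx
    have key : ∀ n ∈ Subgroup.closure (Set.range fun f : F => (f : A) • v),
        (x : AddMonoid.End (Additive N)) (Additive.ofMul n) = 0 := by
      intro n hn
      induction hn using Subgroup.closure_induction with
      | mem m hm =>
        obtain ⟨f, rfl⟩ := hm
        have hfR : ρ (f : A) ∈ R := Subring.subset_closure ⟨f, rfl⟩
        have h := congrArg Subtype.val (mul_comm x ⟨ρ (f : A), hfR⟩)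
        have h' := congrArg (fun e : AddMonoid.End (Additive N) => e v0) h
        show (x : AddMonoid.End (Additive N)) (ρ (f : A) v0) = 0
        calc (x : AddMonoid.End (Additive N)) (ρ (f : A) v0) = ρ (f : A) ((x : AddMonoid.End (Additive N)) v0) := h'
          _ = 0 := by rw [hx, map_zero]
      | one => exact map_zero _
      | mul m m' _ _ ih ih' => rw [ofMul_mul, map_add, ih, ih', add_zero]
      | inv m _ ih => rw [ofMul_inv, map_neg, ih, neg_zero]
    exact Subtype.ext (AddMonoidHom.ext fun m => key m.toMul (hspan _))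
  have hsurj : ∀ n : N, ∃ x : R, (x : AddMonoid.End (Additive N)) v0 = Additive.ofMul n := by
    intro n
    induction hspan n using Subgroup.closure_induction with
    | mem m hm =>
      obtain ⟨f, rfl⟩ := hm
      exact ⟨⟨ρ (f : A), Subring.subset_closure ⟨f, rfl⟩⟩, rfl⟩
    | one => exact ⟨0, rfl⟩
    | mul m m' _ _ ih ih' =>
      obtain ⟨x, hx⟩ := ih
      obtain ⟨y, hy⟩ := ih'
      exact ⟨x + y, by rw [ofMul_mul, ← hx, ← hy]; rfl⟩
    | inv m _ ih =>
      obtain ⟨x, hx⟩ := ih
      exact ⟨-x, by rw [ofMul_inv, ← hx]; rfl⟩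
  let ev : R → N := fun x => ((x : AddMonoid.End (Additive N)) v0).toMul
  have hev : Function.Bijective ev := by
    refine ⟨fun x y h => ?_, fun n => ?_⟩
    · have h' : (x : AddMonoid.End (Additive N)) v0 = (y : AddMonoid.End (Additive N)) v0 :=
        Additive.toMul.injective h
      refine sub_eq_zero.1 (hkill (x - y) ?_)
      show (x : AddMonoid.End (Additive N)) v0 - (y : AddMonoid.End (Additive N)) v0 = 0
      rw [h', sub_self]
    · obtain ⟨x, hx⟩ := hsurj n
      exact ⟨x, congrArg Additive.toMul hx⟩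
  have : Finite R := Finite.of_injective ev hev.1
  have hcardR : Nat.card R = Nat.card N := Nat.card_eq_of_bijective ev hev
  have : Nontrivial R := by
    rw [← Finite.one_lt_card_iff_nontrivial, hcardR]; omega
  have hchar : ∀ x : R, x + x = 0 := by
    intro x
    refine hkill _ ?_
    show (x : AddMonoid.End (Additive N)) v0 + (x : AddMonoid.End (Additive N)) v0 = 0
    exact congrArg Additive.ofMul (hsq (ev x))
  have hsqsurj : ∀ x : R, ∃ y : R, y * y = x := by
    have key : ∀ z, ∀ hz : z ∈ R, ∃ y : R, y * y = ⟨z, hz⟩ := by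
      intro z hz
      induction hz using Subring.closure_induction with
      | mem z hz =>
        obtain ⟨f, rfl⟩ := hz
        obtain ⟨k, hk⟩ := hoddF
        refine ⟨⟨ρ ((f ^ (k + 1) : F) : A), Subring.subset_closure ⟨_, rfl⟩⟩, Subtype.ext ?_⟩
        show ρ ((f ^ (k + 1) : F) : A) * ρ ((f ^ (k + 1) : F) : A) = ρ (f : A)
        rw [← map_mul, ← Subgroup.coe_mul, ← pow_add]
        have : f ^ (k + 1 + (k + 1)) = f := by
          rw [show k + 1 + (k + 1) = Nat.card F + 1 by omega, pow_succ, pow_card_eq_one', one_mul]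
        rw [this]
      | zero => exact ⟨0, mul_zero _⟩
      | one => exact ⟨1, mul_one _⟩
      | add x y hx hy ihx ihy =>
        obtain ⟨a', ha'⟩ := ihx
        obtain ⟨b', hb'⟩ := ihy
        refine ⟨a' + b', ?_⟩
        have e : (a' + b') * (a' + b') = a' * a' + b' * b' + (a' * b' + a' * b') := by ring
        rw [e, hchar, add_zero, ha', hb']
        rfl
      | neg x hx ih =>
        obtain ⟨a', ha'⟩ := ih
        refine ⟨a', ?_⟩
        have : (⟨-x, neg_mem hx⟩ : R) = -⟨x, hx⟩ := rfl
        rw [this, ← ha', eq_neg_iff_add_eq_zero, hchar]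
      | mul x y hx hy ihx ihy =>
        obtain ⟨a', ha'⟩ := ihx
        obtain ⟨b', hb'⟩ := ihy
        refine ⟨a' * b', ?_⟩
        rw [mul_mul_mul_comm, ha', hb']
        rfl
    exact fun x => key x.1 x.2
  have hsqR : ∀ x : R, x * x = 0 → x = 0 := by
    have hinj2 : Function.Injective (fun y : R => y * y) :=
      Finite.injective_iff_surjective.2 hsqsurj
    intro x hx
    exact hinj2 (show x * x = 0 * 0 by rw [hx, mul_zero])
  let τ : AddMonoid.End (Additive N) →+* AddMonoid.End (Additive N) :=
    { toFun := fun x => ρ g * x * ρ g⁻¹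
      map_one' := by rw [mul_one, ← map_mul, mul_inv_cancel, map_one]
      map_mul' := fun x y => by
        have : ρ g⁻¹ * ρ g = 1 := by rw [← map_mul, inv_mul_cancel, map_one]
        simp only [mul_assoc]
        rw [← mul_assoc (ρ g⁻¹) (ρ g), this, one_mul]
      map_zero' := by rw [mul_zero, zero_mul]
      map_add' := fun x y => by rw [mul_add, add_mul] }
  have hτR : ∀ x ∈ R, τ x ∈ R := by
    intro x hx
    have hle : R ≤ R.comap τ := by
      refine Subring.closure_le.2 ?_
      rintro _ ⟨f, rfl⟩
      refine Subring.subset_closure ⟨⟨g * f * g⁻¹, hFn.conj_mem _ f.2 g⟩, ?_⟩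
      show ρ (g * f * g⁻¹) = ρ g * ρ f * ρ g⁻¹
      rw [map_mul, map_mul]
    exact hle hx
  let σ0 : R →+* R := (τ.comp R.subtype).codRestrict R fun x => hτR x.1 x.2
  have hσ0 : ∀ x : R, ((σ0 x : R) : AddMonoid.End (Additive N)) = ρ g * x * ρ g⁻¹ := fun x => rfl
  have hσinj : Function.Injective σ0 := by
    intro x y h
    have h' := congrArg (fun z : R => ρ g⁻¹ * (z : AddMonoid.End (Additive N)) * ρ g) h
    simp only [hσ0, ← mul_assoc] at h'
    have e : ρ g⁻¹ * ρ g = 1 := by rw [← map_mul, inv_mul_cancel, map_one]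
    simp only [mul_assoc, e, mul_one] at h'
    simp only [← mul_assoc, e, one_mul] at h'
    exact Subtype.ext h'
  let σ : R ≃+* R := RingEquiv.ofBijective σ0 (Finite.injective_iff_bijective.1 hσinj)
  have hσpow : ∀ i : ℕ, ∀ x : R, (((σ ^ i) x : R) : AddMonoid.End (Additive N)) =
      ρ (g ^ i) * x * ρ (g ^ i)⁻¹ := by
    intro i
    induction i with
    | zero => intro x; simp
    | succ i ih =>
      intro x
      have : (σ ^ (i + 1)) x = σ ((σ ^ i) x) := by rw [pow_succ']; rfl
      rw [this]
      show ρ g * (((σ ^ i) x : R) : AddMonoid.End (Additive N)) * ρ g⁻¹ = _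
      rw [ih, pow_succ', map_mul, mul_inv_rev, map_mul]
      simp only [mul_assoc]
  have hord : σ ^ r = 1 := by
    ext x : 1
    apply Subtype.ext
    rw [hσpow, hgr]
    simp
  have hfixσ : ∀ x : R, σ x = x → x = 0 ∨ x = 1 := by
    intro x hx
    have h := congrArg (fun z : R => ((z : AddMonoid.End (Additive N)) v0).toMul) hx
    have hg' : g⁻¹ • v = v := by rw [inv_smul_eq_iff]; simpa using (hgiv 1).symm
    have h' : g • ev x = ev x := by
      calc g • ev x = g • ((x : AddMonoid.End (Additive N)) (Additive.ofMul (g⁻¹ • v))).toMul := by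
            rw [hg']
        _ = ev x := h
    rcases hgfix _ h' with h1 | h1
    · exact Or.inl (hev.1 h1)
    · exact Or.inr (hev.1 h1)
  have hne : σ ≠ 1 := by
    intro h
    have hall : ∀ n : N, n = 1 ∨ n = v := by
      intro n
      obtain ⟨x, rfl⟩ := hev.2 n
      rcases hfixσ x (by rw [h]; rfl) with rfl | rfl
      · exact Or.inl rfl
      · exact Or.inr rfl
    have hle : Nat.card N ≤ Nat.card (Fin 2) := Nat.card_le_card_of_surjective
      (fun i : Fin 2 => if i = 0 then (1 : N) else v) (fun n => by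
        rcases hall n with rfl | rfl
        · exact ⟨0, rfl⟩
        · exact ⟨1, rfl⟩)
    rw [Nat.card_fin] at hle
    omega
  refine ⟨r, hr, ?_⟩
  rw [← hcardN, ← hcardR]
  exact card_ring_fixed_two hsqR σ hr hord hne hfixσ

end H56
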