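import Mathlib

/-!
There are three primes in `(n, 2 n]` for large `n`, and two primes with difference at least three
for `n ≥ 12`.
-/

set_option autoImplicit false

open Nat Finset

namespace H56

theorem centralBinom_le_of_few_primes (n : ℕ) (hn : 2 < n)
    (hfew : (((Finset.Ioc n (2 * n)).filter Nat.Prime)).card ≤ 2) :
    centralBinom n ≤ (2 * n) ^ sqrt (2 * n) * 4 ^ (2 * n / 3) * (2 * n) ^ 2 := by
  classical
  set f : ℕ → ℕ := fun x => x ^ n.centralBinom.factorization x with hf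
  have hf1 : ∀ x, ¬ x.Prime → f x = 1 := fun x hx => by
    rw [hf]; simp only; rw [factorization_eq_zero_of_not_prime n.centralBinom hx, _root_.pow_zero]
  have hf2n : ∀ x, f x ≤ 2 * n := fun x => pow_factorization_choose_le (by omega)
  have htot : ∏ x ∈ (range (2 * n + 1)).filter Nat.Prime, f x = centralBinom n := by
    rw [Finset.prod_filter_of_ne fun x _ h => by by_contra hx; exact h (hf1 x hx)]
    exact n.prod_pow_factorization_centralBinom
  set S := (range (2 * n + 1)).filter Nat.Prime with hS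
  have h1 : ∏ x ∈ S.filter (· ≤ sqrt (2 * n)), f x ≤ (2 * n) ^ sqrt (2 * n) := by
    refine (Finset.prod_le_prod' fun x _ => hf2n x).trans ?_
    rw [Finset.prod_const]
    refine pow_right_mono₀ (by omega) ?_
    refine le_trans (Finset.card_le_card fun x hx => ?_) (le_of_eq (Nat.card_Icc 1 (sqrt (2 * n))))
    obtain ⟨h1, h2⟩ := Finset.mem_filter.1 hx
    exact Finset.mem_Icc.2 ⟨(Finset.mem_filter.1 h1).2.one_lt.le, h2⟩
  have h3 : ∏ x ∈ (S.filter (¬ · ≤ sqrt (2 * n))).filter (· ≤ 2 * n / 3), f x ≤ 4 ^ (2 * n / 3) := by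
    refine le_trans ?_ (primorial_le_four_pow (2 * n / 3))
    refine (Finset.prod_le_prod' fun x hx => (?_ : f x ≤ x)).trans ?_
    · have h := (Finset.mem_filter.1 (Finset.mem_filter.1 hx).1)
      refine (pow_right_mono₀ (Finset.mem_filter.1 h.1).2.one_lt.le ?_).trans (pow_one x).le
      exact Nat.factorization_choose_le_one (sqrt_lt'.mp <| not_le.1 h.2)
    · refine Finset.prod_le_prod_of_subset_of_one_le' (fun x hx => ?_) fun p hp _ =>
        (Finset.mem_filter.1 hp).2.one_lt.le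
      have h := Finset.mem_filter.1 hx
      exact Finset.mem_filter.2 ⟨Finset.mem_range.2 (Nat.lt_succ_of_le h.2),
        (Finset.mem_filter.1 (Finset.mem_filter.1 h.1).1).2⟩
  have h4 : ∏ x ∈ (S.filter (¬ · ≤ sqrt (2 * n))).filter (¬ · ≤ 2 * n / 3), f x ≤ (2 * n) ^ 2 := by
    rw [← Finset.prod_filter_mul_prod_filter_not _ (· ≤ n)]
    have hone : ∏ x ∈ ((S.filter (¬ · ≤ sqrt (2 * n))).filter (¬ · ≤ 2 * n / 3)).filter (· ≤ n), f x = 1 := by
      refine Finset.prod_eq_one fun x hx => ?_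
      have h := Finset.mem_filter.1 hx
      have h' := (Finset.mem_filter.1 h.1).2
      rw [hf]; simp only
      rw [Nat.factorization_centralBinom_of_two_mul_self_lt_three_mul hn h.2 (by omega), pow_zero]
    rw [hone, one_mul]
    refine (Finset.prod_le_prod' fun x _ => hf2n x).trans ?_
    rw [Finset.prod_const]
    refine pow_right_mono₀ (by omega) (le_trans (Finset.card_le_card fun x hx => ?_) hfew)
    have h := Finset.mem_filter.1 hx
    have hxS := (Finset.mem_filter.1 (Finset.mem_filter.1 h.1).1).1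
    rw [hS, Finset.mem_filter, Finset.mem_range] at hxS
    exact Finset.mem_filter.2 ⟨Finset.mem_Ioc.2 ⟨not_le.1 h.2, by omega⟩, hxS.2⟩
  rw [← htot, ← Finset.prod_filter_mul_prod_filter_not S (· ≤ sqrt (2 * n)),
    ← Finset.prod_filter_mul_prod_filter_not (S.filter (¬ · ≤ sqrt (2 * n))) (· ≤ 2 * n / 3), mul_assoc]
  exact Nat.mul_le_mul h1 (Nat.mul_le_mul h3 h4)

theorem exp_inequality : ∀ k : ℕ, 14 ≤ k → 3 * k * (2 ^ ((k + 1) / 2) + 3) ≤ 2 ^ (k - 1) := by
  intro k
  induction k using Nat.strong_induction_on with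
  | _ k ih =>
    intro hk
    rcases Nat.lt_or_ge k 16 with h | h
    · interval_cases k <;> norm_num
    · obtain ⟨j, rfl⟩ : ∃ j, k = j + 2 := ⟨k - 2, by omega⟩
      have := ih j (by omega) (by omega)
      rw [show (j + 2 + 1) / 2 = (j + 1) / 2 + 1 by omega, show j + 2 - 1 = (j - 1) + 2 by omega, pow_succ,
        pow_add]
      nlinarith [pow_pos (two_pos : (0:ℕ) < 2) ((j + 1) / 2)]

theorem exists_three_primes (n : ℕ) (hn : 4096 ≤ n) :
    3 ≤ ((Finset.Ioc n (2 * n)).filter Nat.Prime).card := by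
  by_contra h
  have h1 := centralBinom_le_of_few_primes n (by omega) (by omega)
  have h2 := Nat.four_pow_lt_mul_centralBinom n (by omega)
  set k := Nat.log 2 (2 * n) + 1 with hk
  have hlt : 2 * n < 2 ^ k := Nat.lt_pow_succ_log_self one_lt_two _
  have hle : 2 ^ (k - 1) ≤ 2 * n := by
    rw [hk, Nat.add_sub_cancel]
    exact Nat.pow_log_le_self 2 (by omega)
  have hk14 : 14 ≤ k := by
    by_contra h'
    have := Nat.pow_le_pow_right (two_pos : (0:ℕ) < 2) (show k ≤ 13 by omega)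
    omega
  set s := sqrt (2 * n) with hs
  have hse : s < 2 ^ ((k + 1) / 2) := by
    rw [hs, Nat.sqrt_lt', ← pow_mul]
    exact lt_of_lt_of_le hlt (Nat.pow_le_pow_right two_pos (by omega))
  have h3 : 3 * (k * (s + 3)) ≤ 2 * n := by
    have := exp_inequality k hk14
    nlinarith
  have h4 : n * ((2 * n) ^ s * 4 ^ (2 * n / 3) * (2 * n) ^ 2) ≤ 4 ^ n := by
    calc n * ((2 * n) ^ s * 4 ^ (2 * n / 3) * (2 * n) ^ 2)
        ≤ 2 * n * ((2 * n) ^ s * 4 ^ (2 * n / 3) * (2 * n) ^ 2) := Nat.mul_le_mul_right _ (by omega)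
      _ = (2 * n) ^ (s + 3) * 4 ^ (2 * n / 3) := by ring
      _ ≤ (2 ^ k) ^ (s + 3) * 4 ^ (2 * n / 3) :=
          Nat.mul_le_mul_right _ (Nat.pow_le_pow_left hlt.le _)
      _ = 2 ^ (k * (s + 3) + 2 * (2 * n / 3)) := by
          rw [pow_add 2 (k * (s + 3)), ← pow_mul, pow_mul 2 2]; norm_num
      _ ≤ 2 ^ (2 * n) := Nat.pow_le_pow_right two_pos (by omega)
      _ = 4 ^ n := by rw [pow_mul]; norm_num
  have h5 := Nat.mul_le_mul_left n h1
  omega

/-- Two primes in `(n, 2 n]` with difference at least three. -/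
theorem exists_gap_primes (n : ℕ) (hn : 12 ≤ n) :
    ∃ p q : ℕ, p.Prime ∧ q.Prime ∧ n < p ∧ p + 3 ≤ q ∧ q ≤ 2 * n := by
  rcases Nat.lt_or_ge n 4096 with h | h
  · rcases Nat.lt_or_ge n 19 with h1 | h1
    · exact ⟨19, 23, by norm_num, by norm_num, by omega, by omega, by omega⟩
    rcases Nat.lt_or_ge n 31 with h2 | h2
    · exact ⟨31, 37, by norm_num, by norm_num, by omega, by omega, by omega⟩
    rcases Nat.lt_or_ge n 53 with h3 | h3
    · exact ⟨53, 61, by norm_num, by norm_num, by omega, by omega, by omega⟩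
    rcases Nat.lt_or_ge n 97 with h4 | h4
    · exact ⟨97, 103, by norm_num, by norm_num, by omega, by omega, by omega⟩
    rcases Nat.lt_or_ge n 181 with h5 | h5
    · exact ⟨181, 191, by norm_num, by norm_num, by omega, by omega, by omega⟩
    rcases Nat.lt_or_ge n 349 with h6 | h6
    · exact ⟨349, 359, by norm_num, by norm_num, by omega, by omega, by omega⟩
    rcases Nat.lt_or_ge n 683 with h7 | h7
    · exact ⟨683, 691, by norm_num, by norm_num, by omega, by omega, by omega⟩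
    rcases Nat.lt_or_ge n 1327 with h8 | h8
    · exact ⟨1327, 1361, by norm_num, by norm_num, by omega, by omega, by omega⟩
    rcases Nat.lt_or_ge n 2633 with h9 | h9
    · exact ⟨2633, 2647, by norm_num, by norm_num, by omega, by omega, by omega⟩
    · exact ⟨5227, 5233, by norm_num, by norm_num, by omega, by omega, by omega⟩
  · obtain ⟨a, b, c, ha, hb, hc, hab, hac, hbc⟩ :=
      Finset.two_lt_card_iff.1 (exists_three_primes n h)
    simp only [Finset.mem_filter, Finset.mem_Ioc] at ha hb hc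
    have pa := ha.2.eq_two_or_odd
    have pb := hb.2.eq_two_or_odd
    have pc := hc.2.eq_two_or_odd
    rcases (show a + 3 ≤ b ∨ b + 3 ≤ a ∨ a + 3 ≤ c ∨ c + 3 ≤ a ∨ b + 3 ≤ c ∨ c + 3 ≤ b by omega) with
      h | h | h | h | h | h
    · exact ⟨a, b, ha.2, hb.2, ha.1.1, h, hb.1.2⟩
    · exact ⟨b, a, hb.2, ha.2, hb.1.1, h, ha.1.2⟩
    · exact ⟨a, c, ha.2, hc.2, ha.1.1, h, hc.1.2⟩
    · exact ⟨c, a, hc.2, ha.2, hc.1.1, h, ha.1.2⟩
    · exact ⟨b, c, hb.2, hc.2, hb.1.1, h, hc.1.2⟩
    · exact ⟨c, b, hc.2, hb.2, hc.1.1, h, hb.1.2⟩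

end H56
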