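import Mathlib
import Cfsg.Agent.H3.MinNormal
import Cfsg.Agent.H59.A5Char
import Cfsg.Agent.H58.JordanCriterion
import Cfsg.Agent.H58.SharplyTwo
import Cfsg.Agent.H60.PrimFit
import Cfsg.Agent.H5.Burnside
import Cfsg.Agent.H33.TwoPrime
import Cfsg.Agent.H56.BurnsideMinimal

/-!
Groups of even permutations generated by elements of two prime orders, both more than half the degree.
-/

set_option autoImplicit false

namespace H56

open Equiv MulAction
open scoped Pointwise

variable {β : Type*} [Fintype β] [DecidableEq β]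

/-- A transitive group containing a cycle of prime length exceeding half the degree is primitive. -/
theorem primitive_of_big_prime_cycle (S : Subgroup (Perm β)) [hS : IsPretransitive S β] {y : Perm β}
    (hy : y.IsCycle) (hyS : y ∈ S) {q : ℕ} (hq : q.Prime) (hyq : y.support.card = q)
    (hbig : Fintype.card β < 2 * q) : IsPreprimitive S β := by
  classical
  refine { isTrivialBlock_of_isBlock := ?_ }
  intro B hB
  rcases Set.eq_empty_or_nonempty B with rfl | ⟨b, hb⟩
  · exact Or.inl Set.subsingleton_empty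
  obtain ⟨a, ha⟩ := hy.nonempty_support
  obtain ⟨g, hg⟩ := exists_smul_eq S b a
  -- the translated block
  have hB' : IsBlock S (g • B) := hB.translate g
  have haB : a ∈ g • B := ⟨b, hb, hg⟩
  suffices h : IsTrivialBlock (g • B) by
    rcases h with h | h
    · refine Or.inl fun u hu v hv => MulAction.injective g ?_
      exact h ⟨u, hu, rfl⟩ ⟨v, hv, rfl⟩
    · refine Or.inr (Set.eq_univ_of_forall fun u => ?_)
      obtain ⟨w, hw, he⟩ := (h.symm ▸ Set.mem_univ (g • u) : g • u ∈ g • B)
      exact MulAction.injective g he ▸ hw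
  set C := g • B
  have hord : orderOf y = q := by rw [hy.orderOf, hyq]
  let ys : S := ⟨y, hyS⟩
  have hys : orderOf ys = q := by rw [← hord]; exact Subgroup.orderOf_mk y hyS
  have : Fact q.Prime := ⟨hq⟩
  by_cases hfix : ys • C = C
  · -- the block contains the whole support
    have hall : ∀ i : ℕ, (y ^ i) a ∈ C := by
      intro i
      induction i with
      | zero => simpa using haB
      | succ i ih =>
        rw [pow_succ', Perm.mul_apply]
        have : ys • (y ^ i) a ∈ ys • C := Set.smul_mem_smul_set ih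
        rwa [hfix] at this
    have hsub : (y.support : Set β) ⊆ C := by
      intro x hx
      obtain ⟨i, hi⟩ := hy.exists_pow_eq (Perm.mem_support.1 ha) (Perm.mem_support.1 hx)
      exact hi ▸ hall i
    have hcard : q ≤ C.ncard := by
      rw [← hyq, ← Set.ncard_coe_finset]
      exact Set.ncard_le_ncard hsub
    refine Or.inr ?_
    obtain ⟨t, ht⟩ := hB'.ncard_dvd_card ⟨a, haB⟩
    rw [Nat.card_eq_fintype_card] at ht
    have ht1 : t = 1 := by
      rcases Nat.lt_or_ge t 2 with h | h
      · interval_cases t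
        · have := Fintype.card_pos_iff.2 ⟨a⟩
          omega
        · rfl
      · have := Nat.mul_le_mul hcard h
        omega
    rw [ht1, mul_one] at ht
    refine Set.eq_of_subset_of_ncard_le (Set.subset_univ _) ?_
    rw [Set.ncard_univ, Nat.card_eq_fintype_card, ht]
  · -- the translates of the block are disjoint
    have hfix' : ∀ i, 0 < i → i < q → ys ^ i • C ≠ C := by
      intro i h1 h2 h
      apply hfix
      obtain ⟨j, hj⟩ := Nat.exists_mul_mod_eq_one_of_coprime
        ((hq.coprime_iff_not_dvd.2 (Nat.not_dvd_of_pos_of_lt h1 h2)).symm) hq.one_lt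
      have hmem : ys ^ i ∈ stabilizer S C := h
      have := pow_mem hmem j
      rw [← pow_mul, ← Nat.div_add_mod (i * j) q, hj.2, pow_add, pow_mul, ← hys, pow_orderOf_eq_one,
        one_pow, one_mul, pow_one] at this
      exact this
    have hdisj : (Set.range fun i : Fin q => ys ^ (i : ℕ) • C).PairwiseDisjoint id := by
      rintro _ ⟨i, rfl⟩ _ ⟨j, rfl⟩ hne
      exact hB'.smul_eq_smul_or_disjoint (ys ^ (i : ℕ)) (ys ^ (j : ℕ)) |>.resolve_left hne
    refine Or.inl ?_
    by_contra hns
    rw [Set.not_subsingleton_iff] at hns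
    obtain ⟨u, hu, v, hv, huv⟩ := hns
    have hinj : Function.Injective (fun p : Fin q × Fin 2 => ys ^ (p.1 : ℕ) • (![u, v] p.2)) := by
      rintro ⟨i, s⟩ ⟨j, t⟩ h
      simp only at h
      have hi : ys ^ (i : ℕ) • (![u, v] s) ∈ ys ^ (i : ℕ) • C :=
        Set.smul_mem_smul_set (by fin_cases s <;> assumption)
      have hj : ys ^ (i : ℕ) • (![u, v] s) ∈ ys ^ (j : ℕ) • C :=
        h ▸ Set.smul_mem_smul_set (by fin_cases t <;> assumption)
      have hij : i = j := by
        rcases hB'.smul_eq_smul_or_disjoint (ys ^ (i : ℕ)) (ys ^ (j : ℕ)) with he | he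
        · by_contra hne
          have hne' : (i : ℕ) ≠ (j : ℕ) := fun e => hne (Fin.ext e)
          rcases Nat.lt_or_gt_of_ne hne' with hlt | hlt
          · refine hfix' ((j : ℕ) - i) (by omega) (by omega) ?_
            apply MulAction.injective (ys ^ (i : ℕ))
            show ys ^ (i : ℕ) • (ys ^ ((j : ℕ) - i) • C) = ys ^ (i : ℕ) • C
            rw [smul_smul, ← pow_add, Nat.add_sub_cancel' hlt.le, ← he]
          · refine hfix' ((i : ℕ) - j) (by omega) (by omega) ?_
            apply MulAction.injective (ys ^ (j : ℕ))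
            show ys ^ (j : ℕ) • (ys ^ ((i : ℕ) - j) • C) = ys ^ (j : ℕ) • C
            rw [smul_smul, ← pow_add, Nat.add_sub_cancel' hlt.le, he]
        · exact absurd hj (Set.disjoint_left.1 he hi)
      subst hij
      have := MulAction.injective _ h
      fin_cases s <;> fin_cases t <;> simp_all
    have := Fintype.card_le_of_injective _ hinj
    simp at this
    omega

/-- A subgroup of small index in a simple group is everything. -/
theorem eq_top_of_small_index {G : Type*} [Group G] [Finite G] [IsSimpleGroup G] (K : Subgroup G)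
    (h : Nat.factorial K.index < Nat.card G) : K = ⊤ := by
  by_contra hK
  rcases IsSimpleGroup.eq_bot_or_eq_top_of_normal K.normalCore inferInstance with h1 | h1
  · have hinj : Function.Injective (toPermHom G (G ⧸ K)) := by
      rw [← MonoidHom.ker_eq_bot_iff, ← Subgroup.normalCore_eq_ker, h1]
    have := Nat.card_le_card_of_injective _ hinj
    rw [Nat.card_perm, ← Subgroup.index_eq_card] at this
    omega
  · exact hK (top_le_iff.1 (h1 ▸ K.normalCore_le))

theorem eq_alt_of_card_ge (hβ : 5 ≤ Fintype.card β) (S : Subgroup (Perm β))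
    (hS : S ≤ alternatingGroup β) (j : ℕ) (hj : (Fintype.card β).factorial ≤ 2 * j * Nat.card S)
    (hjf : 2 * j.factorial < (Fintype.card β).factorial) : S = alternatingGroup β := by
  classical
  have : Nontrivial β := Fintype.one_lt_card_iff_nontrivial.1 (by omega)
  have : IsSimpleGroup (alternatingGroup β) :=
    alternatingGroup.isSimpleGroup (by rw [Nat.card_eq_fintype_card]; omega)
  have hA : 2 * Nat.card (alternatingGroup β) = (Fintype.card β).factorial := by
    rw [two_mul_nat_card_alternatingGroup, Nat.card_perm, Nat.card_eq_fintype_card]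
  set K := S.subgroupOf (alternatingGroup β) with hK
  have hKc : Nat.card K = Nat.card S := Nat.card_congr (Subgroup.subgroupOfEquivOfLe hS).toEquiv
  have hi := K.index_mul_card
  have hij : K.index ≤ j := by
    by_contra h
    have h2 : (j + 1) * Nat.card S ≤ Nat.card (alternatingGroup β) := by
      rw [← hi, hKc]; exact Nat.mul_le_mul_right _ (by omega)
    have : 0 < Nat.card S := Nat.card_pos
    nlinarith
  have htop : K = ⊤ := eq_top_of_small_index K (by
    have := Nat.factorial_le hij
    omega)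
  exact le_antisymm hS (Subgroup.subgroupOf_eq_top.1 htop)

/-- A solvable primitive group has prime power degree. -/
theorem card_of_solvable_primitive (S : Subgroup (Perm β)) [IsPreprimitive S β] [Group.IsSolvable S]
    (hβ : 2 ≤ Fintype.card β) : ∃ p j : ℕ, p.Prime ∧ Fintype.card β = p ^ j := by
  classical
  have : Nontrivial β := Fintype.one_lt_card_iff_nontrivial.1 (by omega)
  have : Nontrivial S := by
    obtain ⟨a, b, hab⟩ := exists_pair_ne β
    obtain ⟨g, hg⟩ := exists_smul_eq S a b
    exact ⟨g, 1, fun h => hab (by rw [← hg, h, one_smul])⟩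
  obtain ⟨N, hNn, hN1, hNmin⟩ := H3.exists_minNormal (G := S)
  obtain ⟨hab, p, hp, -, -, d, -, hd⟩ := H3.minNormal_elementary N hN1 hNmin
  refine ⟨p, d, hp, ?_⟩
  rw [← hd, H60.card_eq_of_abelian_normal (X := β) hNn hN1 (fun a ha b hb => setLike_mul_comm ha hb),
    Nat.card_eq_fintype_card]

theorem exists_orderOf_eq_of_dvd {G : Type*} [Group G] [Finite G] {p : ℕ} (hp : p.Prime)
    (h : p ∣ Nat.card G) : ∃ g : G, orderOf g = p := by
  have : Fact p.Prime := ⟨hp⟩
  exact exists_prime_orderOf_dvd_card' p h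

/-- Six points. -/
theorem alt_six (h6 : Fintype.card β = 6) (S : Subgroup (Perm β)) (hS : S ≤ alternatingGroup β)
    [IsPreprimitive S β] (h15 : 15 ∣ Nat.card S) :
    (S = alternatingGroup β) ∨ Nonempty (S ≃* alternatingGroup (Fin 5)) := by
  classical
  have : Nontrivial β := Fintype.one_lt_card_iff_nontrivial.1 (by omega)
  have hA : Nat.card (alternatingGroup β) = 360 := by
    have := two_mul_nat_card_alternatingGroup (α := β)
    rw [Nat.card_perm, Nat.card_eq_fintype_card (α := β), h6, show Nat.factorial 6 = 720 from rfl] at this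
    omega
  have hdvd : Nat.card S ∣ 360 := hA ▸ Subgroup.card_dvd_of_le hS
  by_cases hbig : 72 ≤ Nat.card S
  · left
    exact eq_alt_of_card_ge (by omega) S hS 5 (by rw [h6, show Nat.factorial 6 = 720 from rfl]; omega)
      (by rw [h6]; decide)
  right
  have hns : ¬ Group.IsSolvable S := by
    intro h
    obtain ⟨p, j, hp, hpj⟩ := card_of_solvable_primitive S (by omega)
    rw [h6] at hpj
    have h2 := (Nat.prime_dvd_prime_iff_eq Nat.prime_two hp).1
      (Nat.prime_two.dvd_of_dvd_pow (show 2 ∣ p ^ j from hpj ▸ by norm_num))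
    have h3 := (Nat.prime_dvd_prime_iff_eq Nat.prime_three hp).1
      (Nat.prime_three.dvd_of_dvd_pow (show 3 ∣ p ^ j from hpj ▸ by norm_num))
    omega
  have h60 : Nat.card S = 60 := by
    obtain ⟨t, ht⟩ := h15
    have ht4 : t ≤ 4 := by omega
    interval_cases t
    · have : 0 < Nat.card S := Nat.card_pos
      omega
    · exact absurd (H59.solvable_of_card (G := S) (by omega) (by rw [ht]; norm_num)) hns
    · exact absurd (H59.solvable_of_card (G := S) (by omega) (by rw [ht]; norm_num)) hns
    · -- order 45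
      refine absurd (H33.isSolvable_of_two_primes Nat.prime_three (by norm_num : Nat.Prime 5)
        fun r hr hrd => ?_) hns
      rw [ht, show 15 * 3 = 3 ^ 2 * 5 by norm_num] at hrd
      rcases (Nat.Prime.dvd_mul hr).1 hrd with h | h
      · exact Or.inl ((Nat.prime_dvd_prime_iff_eq hr Nat.prime_three).1 (hr.dvd_of_dvd_pow h))
      · exact Or.inr ((Nat.prime_dvd_prime_iff_eq hr (by norm_num)).1 h)
    · exact ht
  have := H59.simple_of_nonsolvable_60 h60 hns
  exact H59.simple60_iso h60

/-- Some non-trivial element fixing the two given points and a third one. -/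
theorem three_point_stab_ne_bot (S : Subgroup (Perm β)) (h3 : IsMultiplyPretransitive S β 3)
    (h3c : 3 ≤ Fintype.card β)
    (hnpp : ¬ ∃ p j : ℕ, p.Prime ∧ Fintype.card β - 1 = p ^ j) {a b c : β} (hab : a ≠ b) (hac : a ≠ c)
    (hbc : b ≠ c) : ∃ g ∈ S, g ≠ 1 ∧ g a = a ∧ g b = b ∧ g c = c := by
  classical
  by_contra hno
  push Not at hno
  apply hnpp
  have h1 : IsPretransitive S β := by
    rw [← is_one_pretransitive_iff]
    exact isMultiplyPretransitive_of_le (n := 3) (by norm_num) (by rwa [Nat.card_eq_fintype_card])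
  have h2 : IsMultiplyPretransitive (stabilizer S a) (SubMulAction.ofStabilizer S a) 2 :=
    SubMulAction.ofStabilizer.isMultiplyPretransitive.1 h3
  have hfix : ∀ (g : stabilizer S a) (u v : SubMulAction.ofStabilizer S a), u ≠ v → g • u = u →
      g • v = v → g = 1 := by
    intro g u v huv hu hv
    let w : Fin 3 ↪ β := ⟨![a, u, v], by
      intro i j h
      have hu' : (u : β) ≠ a := u.2
      have hv' : (v : β) ≠ a := v.2
      have huv' : (u : β) ≠ v := fun e => huv (Subtype.ext e)
      fin_cases i <;> fin_cases j <;> first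
        | rfl
        | exact absurd h hu'
        | exact absurd h.symm hu'
        | exact absurd h hv'
        | exact absurd h.symm hv'
        | exact absurd h huv'
        | exact absurd h.symm huv'⟩
    let w' : Fin 3 ↪ β := ⟨![a, b, c], by
      intro i j h
      fin_cases i <;> fin_cases j <;> first
        | rfl
        | exact absurd h hab
        | exact absurd h.symm hab
        | exact absurd h hac
        | exact absurd h.symm hac
        | exact absurd h hbc
        | exact absurd h.symm hbc⟩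
    obtain ⟨k, hk⟩ := h3.exists_smul_eq w w'
    have hka : (k : Perm β) a = a := DFunLike.congr_fun hk 0
    have hku : (k : Perm β) u = b := DFunLike.congr_fun hk 1
    have hkv : (k : Perm β) v = c := DFunLike.congr_fun hk 2
    have hu0 : ((g : S) : Perm β) u = u := congrArg Subtype.val hu
    have hv0 : ((g : S) : Perm β) v = v := congrArg Subtype.val hv
    have hg0 : ((g : S) : Perm β) a = a := g.2
    by_contra hg1
    refine hno ((k : Perm β) * (g : S) * (k : Perm β)⁻¹)
      (mul_mem (mul_mem k.2 (g : S).2) (inv_mem k.2)) ?_ ?_ ?_ ?_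
    · rw [Ne, conj_eq_one_iff]
      exact fun h => hg1 (Subtype.ext (Subtype.ext h))
    · rw [Perm.mul_apply, Perm.mul_apply, Perm.inv_eq_iff_eq.2 hka.symm, hg0, hka]
    · rw [Perm.mul_apply, Perm.mul_apply, Perm.inv_eq_iff_eq.2 hku.symm, hu0, hku]
    · rw [Perm.mul_apply, Perm.mul_apply, Perm.inv_eq_iff_eq.2 hkv.symm, hv0, hkv]
  have hcard : Fintype.card (SubMulAction.ofStabilizer S a) = Fintype.card β - 1 := by
    have := SubMulAction.nat_card_ofStabilizer_add_one_eq (G := S) a
    simp only [Nat.card_eq_fintype_card] at this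
    omega
  obtain ⟨N, -, -, -, -, -, -, p, j, hp, -, hpj, -⟩ := H58.sharplyTwo_kernel h2 hfix (by omega)
  exact ⟨p, j, hp, hcard ▸ hpj⟩

/-- The order of a 3-transitive group. -/
theorem dvd_card_of_three_transitive (S : Subgroup (Perm β)) (h3 : IsMultiplyPretransitive S β 3)
    (h3c : 3 ≤ Fintype.card β) {a b c : β} (hab : a ≠ b) (hac : a ≠ c) (hbc : b ≠ c) :
    Nat.card S = Fintype.card β * (Fintype.card β - 1) * (Fintype.card β - 2) *
      Nat.card (fixingSubgroup S ({a, b, c} : Set β)) := by
  classical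
  have hs : ({a, b, c} : Set β).ncard = 3 := by
    rw [Set.ncard_eq_three]; exact ⟨a, b, c, hab, hac, hbc, rfl⟩
  have := IsMultiplyPretransitive.index_of_fixingSubgroup_eq (G := S) ({a, b, c} : Set β) (hs.symm ▸ h3)
  rw [hs, mul_comm, ← Nat.descFactorial_eq_factorial_mul_choose, Nat.card_eq_fintype_card] at this
  rw [← Subgroup.index_mul_card (fixingSubgroup S ({a, b, c} : Set β)), this]
  simp only [Nat.descFactorial_succ, Nat.descFactorial_zero, Nat.sub_zero, mul_one]
  ring

/-- A cycle of prime length `n - 2` and primitivity give triple transitivity. -/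
theorem three_transitive_of_cycle (S : Subgroup (Perm β)) (hS : IsPreprimitive S β) {x : Perm β}
    (hx : x.IsCycle) (hxS : x ∈ S) {p : ℕ} (hp : p.Prime) (hxp : x.support.card = p)
    (hd : Fintype.card β = p + 2) : IsMultiplyPretransitive S β 3 := by
  classical
  have h : IsMultiplyPreprimitive S β (1 + 2) := by
    refine IsPreprimitive.isMultiplyPreprimitive hS (s := (x.supportᶜ : Set β)) ?_ ?_ ?_
    · have := Set.ncard_add_ncard_compl (x.support : Set β)
      rw [Set.ncard_coe_finset, hxp, Nat.card_eq_fintype_card, hd] at this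
      omega
    · rw [Nat.card_eq_fintype_card, hd]
      have := hp.two_le
      omega
    · have := Perm.isPretransitive_of_isCycle_mem hx hxS
      refine IsPreprimitive.of_prime_card ?_
      convert hp
      rw [Nat.card_eq_fintype_card, Fintype.card_subtype, ← hxp]
      apply congrArg
      ext y
      simp [SubMulAction.mem_ofFixingSubgroup_iff]
  exact h.isMultiplyPretransitive

/-- Seven points. -/
theorem alt_seven (h7 : Fintype.card β = 7) (S : Subgroup (Perm β)) (hS : S ≤ alternatingGroup β)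
    (hprim : IsPreprimitive S β) {x : Perm β} (hx : x.IsCycle) (hxS : x ∈ S)
    (hxp : x.support.card = 5) : S = alternatingGroup β := by
  classical
  have h3 := three_transitive_of_cycle S hprim hx hxS (by norm_num) hxp (by omega)
  obtain ⟨a, b, c, hab, hac, hbc⟩ := Fintype.two_lt_card_iff.1 (show 2 < Fintype.card β by omega)
  have hc := dvd_card_of_three_transitive S h3 (by omega) hab hac hbc
  obtain ⟨g, hg, hg1, hga, hgb, hgc⟩ := three_point_stab_ne_bot S h3 (by omega) (by
    rintro ⟨p, j, hp, hpj⟩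
    rw [h7] at hpj
    have h2 := (Nat.prime_dvd_prime_iff_eq Nat.prime_two hp).1
      (Nat.prime_two.dvd_of_dvd_pow (show 2 ∣ p ^ j from hpj ▸ by norm_num))
    have h3 := (Nat.prime_dvd_prime_iff_eq Nat.prime_three hp).1
      (Nat.prime_three.dvd_of_dvd_pow (show 3 ∣ p ^ j from hpj ▸ by norm_num))
    omega) hab hac hbc
  have h2 : 2 ≤ Nat.card (fixingSubgroup S ({a, b, c} : Set β)) := by
    rw [Nat.succ_le_iff, Finite.one_lt_card_iff_nontrivial]
    refine ⟨⟨⟨g, hg⟩, (mem_fixingSubgroup_iff S).2 ?_⟩, 1, fun h => hg1 ?_⟩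
    · rintro y (rfl | rfl | rfl)
      exacts [hga, hgb, hgc]
    · exact congrArg (fun z : fixingSubgroup S ({a, b, c} : Set β) => ((z : S) : Perm β)) h
  refine eq_alt_of_card_ge (by omega) S hS 6 ?_ (by rw [h7]; decide)
  rw [hc, h7, show Nat.factorial 7 = 5040 from rfl]
  omega

/-- An involution fixing two points and inverting an 11-cycle on the other points is odd. -/
theorem sign_inverting (h13 : Fintype.card β = 13) {x g : Perm β} (hx : x.IsCycle)
    (hxp : x.support.card = 11) (hg2 : g ^ 2 = 1) (hgx : g * x * g⁻¹ = x⁻¹)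
    (hfix : ∀ y, y ∉ x.support → g y = y) : Perm.sign g = -1 := by
  classical
  have h11 : x ^ 11 = 1 := by rw [← hxp, ← hx.orderOf, pow_orderOf_eq_one]
  have hcnj : ∀ (i : ℕ) (z : β), g ((x ^ i) z) = (x ^ i)⁻¹ (g z) := by
    intro i z
    have h1 : g * x ^ i * g⁻¹ = (x ^ i)⁻¹ := by rw [← conj_pow, hgx, inv_pow]
    rw [← h1, Perm.mul_apply, Perm.mul_apply, Perm.inv_eq_iff_eq.2 rfl]
  have hmod := Perm.card_compl_support_modEq (α := β) (p := 2) (n := 1) (σ := g) (by simpa using hg2)
  have hsub : x.supportᶜ ⊆ g.supportᶜ := fun y hy => by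
    rw [Finset.mem_compl] at hy ⊢
    exact Perm.notMem_support.2 (hfix y hy)
  have hxc : x.supportᶜ.card = 2 := by rw [Finset.card_compl, hxp, h13]
  obtain ⟨c, hcg, hcx⟩ : ∃ c, g c = c ∧ c ∈ x.support := by
    by_contra h
    push Not at h
    have heq : g.supportᶜ = x.supportᶜ := Finset.Subset.antisymm (fun y hy => by
      rw [Finset.mem_compl] at hy ⊢
      exact h y (Perm.notMem_support.1 hy)) hsub
    rw [heq, hxc, h13] at hmod
    exact absurd hmod (by decide)
  have heq : g.supportᶜ = insert c x.supportᶜ := by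
    refine Finset.Subset.antisymm (fun y hy => ?_) (Finset.insert_subset
      (by rw [Finset.mem_compl]; exact Perm.notMem_support.2 hcg) hsub)
    rw [Finset.mem_compl, Perm.notMem_support] at hy
    by_cases hyx : y ∈ x.support
    · obtain ⟨i, rfl⟩ := hx.exists_pow_eq (Perm.mem_support.1 hcx) (Perm.mem_support.1 hyx)
      rw [hcnj, hcg, Perm.inv_eq_iff_eq, ← Perm.mul_apply, ← pow_add] at hy
      have hdvd : 11 ∣ i + i := by
        rw [← hxp, ← hx.orderOf, orderOf_dvd_iff_pow_eq_one]
        exact hx.pow_eq_one_iff.2 ⟨c, Perm.mem_support.1 hcx, hy.symm⟩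
      obtain ⟨t, rfl⟩ : 11 ∣ i := by omega
      rw [pow_mul, h11, one_pow, Perm.one_apply]
      exact Finset.mem_insert_self _ _
    · exact Finset.mem_insert_of_mem (Finset.mem_compl.2 hyx)
  have hfp : Fintype.card (Function.fixedPoints g) = 3 := by
    have hset : Function.fixedPoints g = ((g.supportᶜ : Finset β) : Set β) := by
      ext y; simp [Function.IsFixedPt]
    simp only [hset, Finset.coe_sort_coe, Fintype.card_coe]
    rw [heq, Finset.card_insert_of_notMem (by rw [Finset.mem_compl]; exact fun h => h hcx), hxc]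
  rw [Perm.sign_of_pow_two_eq_one hg2, h13, hfp]
  rfl

/-- Thirteen points: five divides the order of the stabiliser of the two points off the 11-cycle. -/
theorem five_dvd_two_point (h13 : Fintype.card β = 13) (S : Subgroup (Perm β))
    (hS : S ≤ alternatingGroup β) {x : Perm β} (hx : x.IsCycle) (hxS : x ∈ S) (hxp : x.support.card = 11)
    (hne : ∃ g ∈ S, g ≠ 1 ∧ (∀ y, y ∉ x.support → g y = y) ∧ ∃ c ∈ x.support, g c = c) :
    5 ∣ Nat.card (fixingSubgroup S ((x.supportᶜ : Finset β) : Set β)) := by
  classical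
  have : Fact (Nat.Prime 11) := ⟨by norm_num⟩
  set U := fixingSubgroup S ((x.supportᶜ : Finset β) : Set β) with hU
  have hmemU : ∀ g : S, g ∈ U ↔ ∀ y, y ∉ x.support → (g : Perm β) y = y := by
    intro g
    rw [hU, mem_fixingSubgroup_iff]
    simp only [Finset.coe_compl, Set.mem_compl_iff, Finset.mem_coe]
    rfl
  have hUmem : ∀ (u : U) (y : β), y ∈ x.support → (((u : S) : Perm β)) y ∈ x.support := by
    intro u y hy
    by_contra h
    have h' := (hmemU u).1 u.2 _ h
    exact h (by rwa [(((u : S) : Perm β)).injective h'])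
  let xs : U := ⟨⟨x, hxS⟩, (hmemU _).2 fun y hy => Perm.notMem_support.1 hy⟩
  have hxord : orderOf xs = 11 := by
    rw [← Subgroup.orderOf_coe, ← Subgroup.orderOf_coe]
    show orderOf x = 11
    rw [hx.orderOf, hxp]
  obtain ⟨P, hP⟩ : ∃ P : Sylow 11 U, Subgroup.zpowers xs ≤ P :=
    IsPGroup.exists_le_sylow (IsPGroup.of_card (n := 1) (by rw [Nat.card_zpowers, hxord, pow_one]))
  -- restriction to the eleven points
  let f : U →* Perm x.support :=
    { toFun := fun u => ((u : S) : Perm β).subtypePerm (p := fun y => y ∈ x.support) (fun y => ⟨fun h => by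
        by_contra hn
        exact hn (by rwa [(hmemU u).1 u.2 y hn] at h), fun h => hUmem u y h⟩)
      map_one' := rfl
      map_mul' := fun u v => rfl }
  have hfinj : Function.Injective f := by
    intro u v h
    refine Subtype.ext (Subtype.ext (Equiv.ext fun y => ?_))
    by_cases hy : y ∈ x.support
    · exact congrArg Subtype.val (Perm.congr_fun h ⟨y, hy⟩)
    · rw [(hmemU u).1 u.2 y hy, (hmemU v).1 v.2 y hy]
  have hUd : Nat.card U ∣ Nat.factorial 11 := by
    have := Subgroup.card_dvd_of_injective f hfinj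
    rwa [Nat.card_perm, Nat.card_eq_fintype_card (α := x.support), Fintype.card_coe, hxp] at this
  have hPc : Nat.card P = 11 := by
    obtain ⟨n, hn⟩ := IsPGroup.iff_card.1 P.isPGroup'
    have h11 : 11 ∣ Nat.card P := by
      have := Subgroup.card_dvd_of_le hP
      rwa [Nat.card_zpowers, hxord] at this
    have hd : 11 ^ n ∣ Nat.factorial 11 := hn ▸ (Subgroup.card_subgroup_dvd_card _).trans hUd
    rcases Nat.lt_or_ge n 2 with h | h
    · interval_cases n
      · rw [hn] at h11; norm_num at h11
      · rw [hn, pow_one]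
    · have := (pow_dvd_pow 11 h).trans hd
      norm_num [Nat.factorial] at this
  have hPeq : (P : Subgroup U) = Subgroup.zpowers xs :=
    (Subgroup.eq_of_le_of_card_ge hP (by rw [Nat.card_zpowers, hxord, hPc])).symm
  set NP := Subgroup.normalizer ((P : Subgroup U) : Set U) with hNP
  have hact : ∀ u : U, Commute u xs → u ∈ (P : Subgroup U) := by
    intro u hu
    rw [hPeq]
    obtain ⟨a, ha⟩ := hx.nonempty_support
    obtain ⟨i, hi⟩ := hx.exists_pow_eq (Perm.mem_support.1 ha) (Perm.mem_support.1 (hUmem u a ha))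
    refine ⟨i, ?_⟩
    show xs ^ (i : ℤ) = u
    rw [zpow_natCast]
    refine Subtype.ext (Subtype.ext (Equiv.ext fun y => ?_))
    show (x ^ i) y = (((u : S) : Perm β)) y
    by_cases hy : y ∈ x.support
    · obtain ⟨j, rfl⟩ := hx.exists_pow_eq (Perm.mem_support.1 ha) (Perm.mem_support.1 hy)
      have hc : Commute ((u : S) : Perm β) (x ^ j) :=
        Commute.pow_right (congrArg (fun z : U => ((z : S) : Perm β)) hu.eq) j
      rw [← Perm.mul_apply, ← Perm.mul_apply, hc.eq, Perm.mul_apply (x ^ j), ← hi, ← Perm.mul_apply,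
        (Commute.pow_pow_self x i j).eq]
    · rw [(hmemU u).1 u.2 y hy, Perm.pow_apply_eq_self_of_apply_eq_self (Perm.notMem_support.1 hy)]
  obtain ⟨g, hg, hg1, hgfix, c, hc, hgc⟩ := hne
  let gs : U := ⟨⟨g, hg⟩, (hmemU _).2 hgfix⟩
  have hgs : gs ≠ 1 := fun h => hg1 (congrArg (fun z : U => ((z : S) : Perm β)) h)
  by_contra h5
  -- the normaliser is larger than `P`
  obtain ⟨w, hwN, hwP⟩ : ∃ w ∈ NP, w ∉ (P : Subgroup U) := by
    by_contra h
    push Not at h
    have hle : NP ≤ Subgroup.centralizer ((P : Subgroup U) : Set U) := by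
      intro w hw
      refine Subgroup.mem_centralizer_iff.2 fun z hz => ?_
      have hw' := h w hw
      rw [hPeq] at hw'
      rw [SetLike.mem_coe, hPeq] at hz
      obtain ⟨i, rfl⟩ := hw'
      obtain ⟨j, rfl⟩ := hz
      exact (Commute.zpow_zpow (Commute.refl xs) j i).eq
    have hK := MonoidHom.ker_transferSylow_isComplement' P hle
    set K := (MonoidHom.transferSylow P hle).ker
    have hKc : Nat.card K * 11 = Nat.card U := hPc ▸ hK.card_mul
    have h11K : ¬ 11 ∣ Nat.card K := by
      intro hd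
      have h121 : 11 * 11 ∣ Nat.factorial 11 :=
        dvd_trans (hKc ▸ Nat.mul_dvd_mul_right hd 11) hUd
      norm_num [Nat.factorial] at h121
    -- orbits of a normal subgroup are trivial
    have hKfix : ∀ k ∈ K, ∀ y ∈ x.support, (((k : U) : S) : Perm β) y = y := by
      have hKn : K.Normal := MonoidHom.normal_ker _
      intro k hk y hy
      set m := Nat.card (MulAction.orbit K y) with hm
      have hall : ∀ z ∈ x.support, Nat.card (MulAction.orbit K z) = m := by
        intro z hz
        obtain ⟨i, rfl⟩ := hx.exists_pow_eq (Perm.mem_support.1 hy) (Perm.mem_support.1 hz)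
        have hset : MulAction.orbit K ((x ^ i) y) = (fun u : β => (x ^ i) u) '' MulAction.orbit K y := by
          ext u
          constructor
          · rintro ⟨⟨l, hl⟩, rfl⟩
            refine ⟨_, ⟨⟨(xs ^ i)⁻¹ * l * xs ^ i, by
              simpa using hKn.conj_mem l hl (xs ^ i)⁻¹⟩, rfl⟩, ?_⟩
            show (x ^ i) (((x ^ i)⁻¹ * ((l : S) : Perm β) * x ^ i) y) = ((l : S) : Perm β) ((x ^ i) y)
            rw [Perm.mul_apply, Perm.mul_apply, ← Perm.mul_apply, mul_inv_cancel, Perm.one_apply]
          · rintro ⟨_, ⟨⟨l, hl⟩, rfl⟩, rfl⟩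
            refine ⟨⟨xs ^ i * l * (xs ^ i)⁻¹, hKn.conj_mem l hl _⟩, ?_⟩
            show (x ^ i * ((l : S) : Perm β) * (x ^ i)⁻¹) ((x ^ i) y) = (x ^ i) (((l : S) : Perm β) y)
            rw [Perm.mul_apply, Perm.mul_apply, ← Perm.mul_apply (x ^ i)⁻¹, inv_mul_cancel, Perm.one_apply]
        rw [hset, Nat.card_image_of_injective (x ^ i).injective, hm]
      have hm11 : m ∣ 11 := by
        have := dvd_card_of_invariant (H := K) (x.support : Set β)
          (fun l u hu => hUmem l.1 u hu) hall
        rwa [Nat.card_coe_set_eq, Set.ncard_coe_finset, hxp] at this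
      have hmK : m ∣ Nat.card K := by
        rw [hm, Nat.card_congr (MulAction.orbitEquivQuotientStabilizer K y), ← Subgroup.index_eq_card]
        exact Subgroup.index_dvd_card _
      have hm1 : m = 1 := ((Nat.dvd_prime (by norm_num : Nat.Prime 11)).1 hm11).resolve_right
        fun h => h11K (h ▸ hmK)
      rw [hm, Nat.card_eq_one_iff_unique] at hm1
      have := hm1.1
      exact congrArg Subtype.val (Subsingleton.elim
        (⟨_, ⟨⟨k, hk⟩, rfl⟩⟩ : MulAction.orbit K y) ⟨y, MulAction.mem_orbit_self y⟩)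
    have hKbot : K = ⊥ := by
      rw [Subgroup.eq_bot_iff_forall]
      intro k hk
      refine hfinj (Equiv.ext fun y => Subtype.ext ?_)
      exact hKfix k hk y.1 y.2
    rw [hKbot, Subgroup.isComplement'_bot_left] at hK
    have hgP : gs ∈ (P : Subgroup U) := hK ▸ Subgroup.mem_top gs
    rw [hPeq] at hgP
    rw [(isOfFinOrder_of_finite xs).mem_zpowers_iff_mem_range_orderOf, Finset.mem_image] at hgP
    obtain ⟨i, -, hi⟩ := hgP
    have hgi : g = x ^ i := (congrArg (fun z : U => ((z : S) : Perm β)) hi).symm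
    refine hg1 (by rw [hgi]; exact hx.pow_eq_one_iff.2 ⟨c, Perm.mem_support.1 hc, hgi ▸ hgc⟩)
  -- the element inverting `x`
  obtain ⟨r, hr⟩ : ∃ r : ℕ, w * xs * w⁻¹ = xs ^ r := by
    have hxP : xs ∈ (P : Subgroup U) := hP (Subgroup.mem_zpowers xs)
    have := (Subgroup.mem_normalizer_iff.1 hwN xs).1 hxP
    rw [hPeq, (isOfFinOrder_of_finite xs).mem_zpowers_iff_mem_range_orderOf, Finset.mem_image] at this
    obtain ⟨r, -, hr⟩ := this
    exact ⟨r, hr.symm⟩
  have hrn : ∀ n : ℕ, w ^ n * xs * (w ^ n)⁻¹ = xs ^ (r ^ n) := by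
    intro n
    induction n with
    | zero => simp
    | succ n ih =>
      rw [pow_succ w, show w ^ n * w * xs * (w ^ n * w)⁻¹ = w ^ n * (w * xs * w⁻¹) * (w ^ n)⁻¹ by group,
        hr, ← conj_pow, ih, ← pow_mul, ← pow_succ]
  set v := w ^ 5 with hv
  have hvP : v ∉ (P : Subgroup U) := by
    intro h
    apply hwP
    obtain ⟨t, ht⟩ := Nat.exists_mul_mod_eq_one_of_coprime
      (((by norm_num : Nat.Prime 5).coprime_iff_not_dvd.2 fun hd =>
        h5 (hd.trans (orderOf_dvd_natCard w)))) (by
        rcases Nat.lt_or_ge (orderOf w) 2 with h' | h'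
        · exfalso
          have : 0 < orderOf w := orderOf_pos w
          have hw1 : w = 1 := orderOf_eq_one_iff.1 (by omega)
          exact hwP (hw1 ▸ one_mem _)
        · exact h')
    have := pow_mem h t
    rwa [hv, ← pow_mul, ← pow_mod_orderOf, ht.2, pow_one] at this
  have hcases : r ^ 5 % 11 = 1 ∨ r ^ 5 % 11 = 10 := by
    have h : ∀ s < 11, s = 0 ∨ s ^ 5 % 11 = 1 ∨ s ^ 5 % 11 = 10 := by decide
    rw [Nat.pow_mod]
    rcases h (r % 11) (Nat.mod_lt _ (by norm_num)) with h0 | h1
    · exfalso
      have : xs ^ r = 1 := by rw [← pow_mod_orderOf, hxord, h0, pow_zero]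
      rw [this, conj_eq_one_iff] at hr
      rw [hr, orderOf_one] at hxord
      omega
    · exact h1
  have hvx : v * xs * v⁻¹ = xs ^ (r ^ 5 % 11) := by
    rw [hv, hrn 5, ← pow_mod_orderOf xs (r ^ 5), hxord]
  rcases hcases with h | h
  · rw [h, pow_one, mul_inv_eq_iff_eq_mul] at hvx
    exact hvP (hact v hvx)
  have hinv : xs ^ 10 = xs⁻¹ := by
    rw [eq_inv_iff_mul_eq_one, ← pow_succ]
    have := pow_orderOf_eq_one xs
    rwa [hxord] at this
  rw [h, hinv] at hvx
  have hv2 : v ^ 2 ∈ (P : Subgroup U) := hact _ (by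
    show v ^ 2 * xs = xs * v ^ 2
    have h1 : v * xs = xs⁻¹ * v := mul_inv_eq_iff_eq_mul.1 hvx
    have h2 : v * xs⁻¹ = xs * v := by
      have := congrArg (·⁻¹) hvx
      simp only [mul_inv_rev, inv_inv] at this
      exact mul_inv_eq_iff_eq_mul.1 (by rwa [← mul_assoc] at this)
    rw [pow_two, mul_assoc, h1, ← mul_assoc, h2, mul_assoc])
  have hv22 : (v ^ 11) ^ 2 = 1 := by
    rw [← pow_mul, mul_comm, pow_mul]
    rw [← hPc]
    exact congrArg Subtype.val (pow_card_eq_one' (G := (P : Subgroup U)) (x := ⟨v ^ 2, hv2⟩))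
  have hgx : v ^ 11 * xs * (v ^ 11)⁻¹ = xs⁻¹ := by
    rw [show (11 : ℕ) = 2 * 5 + 1 from rfl, pow_succ, pow_mul]
    rw [show (v ^ 2) ^ 5 * v * xs * ((v ^ 2) ^ 5 * v)⁻¹ = (v ^ 2) ^ 5 * (v * xs * v⁻¹) * ((v ^ 2) ^ 5)⁻¹ by group,
      hvx]
    have hc : Commute ((v ^ 2) ^ 5) xs⁻¹ := by
      have h' := pow_mem hv2 5
      rw [hPeq] at h'
      obtain ⟨i, hi⟩ := h'
      rw [← hi]
      exact ((Commute.refl xs).zpow_left i).inv_right
    rw [hc.eq, mul_inv_cancel_right]
  have hsign := sign_inverting h13 hx hxp (g := (((v ^ 11 : U) : S) : Perm β))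
    (congrArg (fun z : U => ((z : S) : Perm β)) hv22) (congrArg (fun z : U => ((z : S) : Perm β)) hgx)
    ((hmemU _).1 (v ^ 11).2)
  have heven : Perm.sign (((v ^ 11 : U) : S) : Perm β) = 1 :=
    Perm.mem_alternatingGroup.1 (hS ((v ^ 11 : U) : S).2)
  rw [hsign] at heven
  exact absurd heven (by decide)

/-- The square of a permutation commuting with a product of two 5-cycles keeps the orbits. -/
theorem sq_keeps_orbit {u w : Perm β} (hu : u ^ 5 = 1) (hu10 : u.support.card = 10) (hc : Commute w u)
    {e : β} (he : e ∈ u.support) : ∃ i : ℕ, w (w e) = (u ^ i) e := by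
  classical
  let O : β → Finset β := fun z => (Finset.range 5).image fun i => (u ^ i) z
  have hmodu : ∀ n : ℕ, u ^ n = u ^ (n % 5) := fun n => by
    conv_lhs => rw [← Nat.div_add_mod n 5, pow_add, pow_mul, hu, one_pow, one_mul]
  have hcn : ∀ (n : ℕ) (z : β), w ((u ^ n) z) = (u ^ n) (w z) := fun n z => by
    rw [← Perm.mul_apply, (hc.pow_right n).eq, Perm.mul_apply]
  have hOmem : ∀ z n, (u ^ n) z ∈ O z := fun z n =>
    Finset.mem_image.2 ⟨n % 5, Finset.mem_range.2 (Nat.mod_lt _ (by norm_num)), by rw [← hmodu]⟩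
  have hsub : ∀ z ∈ u.support, O z ⊆ u.support := fun z hz y hy => by
    obtain ⟨i, -, rfl⟩ := Finset.mem_image.1 hy
    exact Perm.pow_apply_mem_support.2 hz
  have hOcard : ∀ z ∈ u.support, (O z).card = 5 := by
    intro z hz
    rw [Finset.card_image_of_injOn, Finset.card_range]
    intro i hi j hj hij
    simp only [Finset.coe_range, Set.mem_Iio] at hi hj
    by_contra hne
    have key : ∀ p q : ℕ, p < q → q < 5 → (u ^ p) z = (u ^ q) z → False := by
      intro p q hlt hq hpq
      have h1 : (u ^ (q - p)) z = z := by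
        apply (u ^ p).injective
        rw [← Perm.mul_apply, ← pow_add, Nat.add_sub_cancel' hlt.le]
        exact hpq.symm
      obtain ⟨l, hl⟩ := Nat.exists_mul_mod_eq_one_of_coprime
        (((by norm_num : Nat.Prime 5).coprime_iff_not_dvd.2
          (Nat.not_dvd_of_pos_of_lt (show 0 < q - p by omega) (by omega))).symm) (by norm_num : 1 < 5)
      have h2 := Perm.pow_apply_eq_self_of_apply_eq_self h1 l
      rw [← pow_mul, hmodu, hl.2, pow_one] at h2
      exact Perm.mem_support.1 hz h2
    rcases Nat.lt_or_gt_of_ne hne with h | h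
    exacts [key i j h hj hij, key j i h hi hij.symm]
  have hwe : w e ∈ u.support := by
    rw [Perm.mem_support] at he ⊢
    intro h
    apply he
    apply w.injective
    rw [show w (u e) = u (w e) by simpa using hcn 1 e, h]
  by_cases h1 : w e ∈ O e
  · obtain ⟨i, -, hi⟩ := Finset.mem_image.1 h1
    exact ⟨i + i, by rw [← hi, hcn, ← hi, pow_add, Perm.mul_apply]⟩
  have hdisj : Disjoint (O e) (O (w e)) := by
    rw [Finset.disjoint_left]
    intro y hy hy'
    obtain ⟨i, hi, hiy⟩ := Finset.mem_image.1 hy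
    obtain ⟨j, hj, hjy⟩ := Finset.mem_image.1 hy'
    rw [Finset.mem_range] at hi hj
    apply h1
    have : w e = (u ^ (5 - j + i)) e := by
      rw [pow_add, Perm.mul_apply, hiy, ← hjy, ← Perm.mul_apply, ← pow_add,
        Nat.sub_add_cancel hj.le, hu, Perm.one_apply]
    rw [this]
    exact hOmem _ _
  have hwwe : w (w e) ∈ u.support := by
    rw [Perm.mem_support] at hwe ⊢
    intro h
    apply hwe
    apply w.injective
    rw [show w (u (w e)) = u (w (w e)) by simpa using hcn 1 (w e), h]
  have hun : O e ∪ O (w e) = u.support := by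
    refine Finset.eq_of_subset_of_card_le (Finset.union_subset (hsub e he) (hsub _ hwe)) ?_
    rw [Finset.card_union_of_disjoint hdisj, hOcard e he, hOcard _ hwe, hu10]
  rw [← hun, Finset.mem_union] at hwwe
  rcases hwwe with h | h
  · obtain ⟨i, -, hi⟩ := Finset.mem_image.1 h
    exact ⟨i, hi.symm⟩
  · exfalso
    obtain ⟨i, -, hi⟩ := Finset.mem_image.1 h
    rw [← hcn] at hi
    exact h1 (w.injective hi ▸ hOmem e i)

theorem five_support {u : Perm β} (h5 : u ^ 5 = 1) (hu1 : u ≠ 1) (hle : u.support.card ≤ 10) :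
    (u.IsCycle ∧ u.support.card = 5) ∨ u.support.card = 10 := by
  have : Fact (Nat.Prime 5) := ⟨by norm_num⟩
  have hord : orderOf u = 5 := orderOf_eq_prime h5 hu1
  obtain ⟨n, hn⟩ := Perm.cycleType_prime_order (σ := u) (by rw [hord]; norm_num)
  have hs := Perm.sum_cycleType u
  rw [hn, Multiset.sum_replicate, hord, smul_eq_mul] at hs
  rcases (show n = 0 ∨ n = 1 by omega) with rfl | rfl
  · exact Or.inl ⟨Perm.card_cycleType_eq_one.1 (by rw [hn]; simp), by omega⟩
  · exact Or.inr (by omega)

/-- Thirteen points. -/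
theorem alt_thirteen (h13 : Fintype.card β = 13) (S : Subgroup (Perm β)) (hS : S ≤ alternatingGroup β)
    (hprim : IsPreprimitive S β) {x : Perm β} (hx : x.IsCycle) (hxS : x ∈ S)
    (hxp : x.support.card = 11) : alternatingGroup β ≤ S := by
  classical
  have : Fact (Nat.Prime 5) := ⟨by norm_num⟩
  have jordan5 : ∀ v ∈ S, v ^ 5 = 1 → v ≠ 1 → v.support.card ≤ 5 → alternatingGroup β ≤ S := by
    intro v hv h5 hv1 hle
    rcases five_support h5 hv1 (by omega) with ⟨hc, hcard⟩ | h
    · exact H58.alternating_le_of_prime_cycle S hprim (by norm_num : Nat.Prime 5) (by omega) hc hcard hv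
    · omega
  have h3 := three_transitive_of_cycle S hprim hx hxS (by norm_num) hxp (by omega)
  obtain ⟨a, b, hab, hxc⟩ := Finset.card_eq_two.1
    (show x.supportᶜ.card = 2 by rw [Finset.card_compl, hxp, h13])
  have hmemc : ∀ y, y ∉ x.support ↔ y = a ∨ y = b := fun y => by
    rw [← Finset.mem_compl, hxc]; simp
  have ha : a ∉ x.support := (hmemc a).2 (Or.inl rfl)
  have hb : b ∉ x.support := (hmemc b).2 (Or.inr rfl)
  obtain ⟨c₀, hc₀⟩ := hx.nonempty_support
  obtain ⟨g, hg, hg1, hga, hgb, hgc⟩ := three_point_stab_ne_bot S h3 (by omega) (by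
    rintro ⟨p, j, hp, hpj⟩
    rw [h13] at hpj
    have h2 := (Nat.prime_dvd_prime_iff_eq Nat.prime_two hp).1
      (Nat.prime_two.dvd_of_dvd_pow (show 2 ∣ p ^ j from hpj ▸ by norm_num))
    have h3 := (Nat.prime_dvd_prime_iff_eq Nat.prime_three hp).1
      (Nat.prime_three.dvd_of_dvd_pow (show 3 ∣ p ^ j from hpj ▸ by norm_num))
    omega) hab (show a ≠ c₀ from fun h => ha (h ▸ hc₀)) (show b ≠ c₀ from fun h => hb (h ▸ hc₀))
  have h5U := five_dvd_two_point h13 S hS hx hxS hxp ⟨g, hg, hg1, fun y hy => by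
    rcases (hmemc y).1 hy with rfl | rfl
    exacts [hga, hgb], c₀, hc₀, hgc⟩
  obtain ⟨⟨⟨u, huS⟩, huU⟩, huo⟩ := exists_orderOf_eq_of_dvd (by norm_num : Nat.Prime 5) h5U
  rw [Subgroup.orderOf_mk, Subgroup.orderOf_mk] at huo
  have hufix : ∀ y, y ∉ x.support → u y = y := fun y hy =>
    (mem_fixingSubgroup_iff S).1 huU y (by simpa using hy)
  have hu5 : u ^ 5 = 1 := huo ▸ pow_orderOf_eq_one u
  have hu1 : u ≠ 1 := fun h => by rw [h, orderOf_one] at huo; omega
  have hsub : u.support ⊆ x.support := fun y hy => by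
    by_contra h
    exact Perm.mem_support.1 hy (hufix y h)
  have hle10 : u.support.card ≤ 10 := by
    have h11 : u.support.card ≤ 11 := hxp ▸ Finset.card_le_card hsub
    have hd : 5 ∣ u.support.card := by
      rw [← Perm.sum_cycleType, Perm.cycleType_of_pow_prime_eq_one (p := 5) hu5, Multiset.sum_replicate]
      exact Dvd.intro_left _ rfl
    omega
  rcases five_support hu5 hu1 hle10 with ⟨hc, hcard⟩ | hu10
  · exact jordan5 u huS hu5 hu1 hcard.le
  obtain ⟨c, hcx, hcu⟩ : ∃ c ∈ x.support, c ∉ u.support := by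
    by_contra h
    push Not at h
    have := Finset.card_le_card h
    omega
  have hac : a ≠ c := fun h => ha (h ▸ hcx)
  have hbc : b ≠ c := fun h => hb (h ▸ hcx)
  have hucomp : ∀ y, y ∉ u.support ↔ y = a ∨ y = b ∨ y = c := by
    intro y
    have hsub3 : ({a, b, c} : Finset β) ⊆ u.supportᶜ := by
      intro z hz
      simp only [Finset.mem_insert, Finset.mem_singleton] at hz
      rw [Finset.mem_compl]
      rcases hz with rfl | rfl | rfl
      exacts [fun h => ha (hsub h), fun h => hb (hsub h), hcu]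
    have heq : ({a, b, c} : Finset β) = u.supportᶜ := by
      refine Finset.eq_of_subset_of_card_le hsub3 ?_
      rw [Finset.card_compl, hu10, h13, Finset.card_eq_three.2 ⟨a, b, c, hab, hac, hbc, rfl⟩]
    rw [← Finset.mem_compl, ← heq]; simp
  set F := fixingSubgroup S ({a, b, c} : Set β) with hF
  have hFmem : ∀ k : S, k ∈ F ↔ (k : Perm β) a = a ∧ (k : Perm β) b = b ∧ (k : Perm β) c = c := by
    intro k
    rw [hF, mem_fixingSubgroup_iff]
    simp only [Set.mem_insert_iff, Set.mem_singleton_iff, forall_eq_or_imp, forall_eq]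
    rfl
  have hFfix : ∀ (k : F) (y : β), y ∉ u.support → ((k : S) : Perm β) y = y := fun k y hy => by
    obtain ⟨h1, h2, h3'⟩ := (hFmem k).1 k.2
    rcases (hucomp y).1 hy with rfl | rfl | rfl
    exacts [h1, h2, h3']
  let us : F := ⟨⟨u, huS⟩, (hFmem _).2 ⟨hufix a ha, hufix b hb, Perm.notMem_support.1 hcu⟩⟩
  have husord : orderOf us = 5 := by
    rw [← Subgroup.orderOf_coe, ← Subgroup.orderOf_coe]
    exact huo
  obtain ⟨Q, hQ⟩ : ∃ Q : Sylow 5 F, Subgroup.zpowers us ≤ Q :=
    IsPGroup.exists_le_sylow (IsPGroup.of_card (n := 1) (by rw [Nat.card_zpowers, husord, pow_one]))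
  have hQ5 : ∀ w ∈ (Q : Subgroup F), w ^ 5 = 1 := by
    intro w hw
    obtain ⟨k, hk⟩ := Q.isPGroup' ⟨w, hw⟩
    have hk' : (((w : F) : S) : Perm β) ^ 5 ^ k = 1 :=
      congrArg (fun z : Q => (((z : F) : S) : Perm β)) hk
    have : (((w : F) : S) : Perm β) ^ 5 = 1 := by
      rw [Perm.pow_prime_eq_one_iff]
      intro n hn
      obtain ⟨l, -, rfl⟩ := (Nat.dvd_prime_pow (by norm_num : Nat.Prime 5)).1
        ((Perm.dvd_of_mem_cycleType hn).trans (orderOf_dvd_of_pow_eq_one hk'))
      have h1 := Perm.le_card_support_of_mem_cycleType hn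
      have hs : (((w : F) : S) : Perm β).support ⊆ u.support := fun y hy => by
        by_contra h
        exact Perm.mem_support.1 hy (hFfix w y h)
      have h2 := Finset.card_le_card hs
      have h3' := Perm.one_lt_of_mem_cycleType hn
      rcases Nat.lt_or_ge l 2 with h | h
      · interval_cases l <;> simp_all
      · have := Nat.pow_le_pow_right (show 0 < 5 by norm_num) h
        omega
    exact Subtype.ext (Subtype.ext this)
  have hperm : ∀ {k l : F}, k = l → ((k : S) : Perm β) = ((l : S) : Perm β) := fun h => by rw [h]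
  by_cases hbig : ∃ w ∈ (Q : Subgroup F), w ∉ Subgroup.zpowers us ∧ Commute w us
  · obtain ⟨w, hw, hwu, hwc⟩ := hbig
    obtain ⟨e, he⟩ : u.support.Nonempty := Finset.card_pos.1 (by omega)
    have hwc' : Commute ((w : S) : Perm β) u := hperm hwc.eq
    obtain ⟨i, hi⟩ := sq_keeps_orbit hu5 hu10 hwc' he
    set v : F := w ^ 2 * (us ^ i)⁻¹ with hv
    have hvc : Commute (w ^ 2) (us ^ i)⁻¹ := ((hwc.pow_left 2).pow_right i).inv_right
    have hv1 : v ≠ 1 := by
      intro h
      apply hwu
      rw [hv, mul_inv_eq_one] at h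
      have h2 := pow_mem (h ▸ Subgroup.npow_mem_zpowers us i : w ^ 2 ∈ Subgroup.zpowers us) 3
      rwa [← pow_mul, show 2 * 3 = 5 + 1 from rfl, pow_succ, hQ5 w hw, one_mul] at h2
    have hv5 : v ^ 5 = 1 := by
      have h5 : us ^ 5 = 1 := husord ▸ pow_orderOf_eq_one us
      rw [hv, hvc.mul_pow, ← pow_mul, mul_comm 2 5, pow_mul, hQ5 w hw, one_pow, one_mul, inv_pow, ← pow_mul,
        mul_comm i 5, pow_mul, h5, one_pow, inv_one]
    have hvO : ∀ n : ℕ, ((v : S) : Perm β) ((u ^ n) e) = (u ^ n) e := by
      intro n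
      show (((w : S) : Perm β) ^ 2 * (u ^ i)⁻¹) ((u ^ n) e) = (u ^ n) e
      have hcc : Commute (((w : S) : Perm β) ^ 2 * (u ^ i)⁻¹) (u ^ n) :=
        ((hwc'.pow_left 2).pow_right n).mul_left ((Commute.pow_pow_self u i n).inv_left)
      rw [← Perm.mul_apply, hcc.eq, Perm.mul_apply]
      congr 1
      rw [((hwc'.pow_left 2).pow_right i).inv_right.eq, Perm.mul_apply, pow_two, Perm.mul_apply, hi,
        ← Perm.mul_apply, inv_mul_cancel, Perm.one_apply]
    let O := (Finset.range 5).image fun n => (u ^ n) e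
    have hOc : 5 ≤ (u.supportᶜ ∪ O).card - 3 := by
      have hd : Disjoint u.supportᶜ O := by
        rw [Finset.disjoint_left]
        intro y hy hy'
        obtain ⟨n, -, rfl⟩ := Finset.mem_image.1 hy'
        exact Finset.mem_compl.1 hy (Perm.pow_apply_mem_support.2 he)
      rw [Finset.card_union_of_disjoint hd, Finset.card_compl, hu10, h13]
      have hinj : O.card = 5 := by
        rw [Finset.card_image_of_injOn, Finset.card_range]
        intro p hp q hq hpq
        simp only [Finset.coe_range, Set.mem_Iio] at hp hq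
        by_contra hne
        have key : ∀ p q : ℕ, p < q → q < 5 → (u ^ p) e = (u ^ q) e → False := by
          intro p q hlt hq hpq
          have h1 : (u ^ (q - p)) e = e := by
            apply (u ^ p).injective
            rw [← Perm.mul_apply, ← pow_add, Nat.add_sub_cancel' hlt.le]
            exact hpq.symm
          obtain ⟨l, hl⟩ := Nat.exists_mul_mod_eq_one_of_coprime
            (((by norm_num : Nat.Prime 5).coprime_iff_not_dvd.2
              (Nat.not_dvd_of_pos_of_lt (show 0 < q - p by omega) (by omega))).symm) (by norm_num : 1 < 5)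
          have h2 := Perm.pow_apply_eq_self_of_apply_eq_self h1 l
          rw [← pow_mul, ← Nat.div_add_mod ((q - p) * l) 5, hl.2, pow_add, pow_mul, hu5, one_pow, one_mul,
            pow_one] at h2
          exact Perm.mem_support.1 he h2
        rcases Nat.lt_or_gt_of_ne hne with h | h
        exacts [key p q h hq hpq, key q p h hp hpq.symm]
      omega
    refine jordan5 _ (v : S).2 (hperm hv5) (fun h => hv1 (Subtype.ext (Subtype.ext h))) ?_
    have hs : ((v : S) : Perm β).support ⊆ (u.supportᶜ ∪ O)ᶜ := by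
      intro y hy
      rw [Finset.mem_compl, Finset.mem_union, not_or]
      refine ⟨fun h => Perm.mem_support.1 hy (hFfix v y (Finset.mem_compl.1 h)), fun h => ?_⟩
      obtain ⟨n, -, rfl⟩ := Finset.mem_image.1 h
      exact Perm.mem_support.1 hy (hvO n)
    have := Finset.card_le_card hs
    rw [Finset.card_compl, h13] at this
    omega
  -- the Sylow subgroup is generated by `u`
  push Not at hbig
  have hQeq : (Q : Subgroup F) = Subgroup.zpowers us := by
    refine le_antisymm ?_ hQ
    have : Nontrivial Q := (Subgroup.nontrivial_iff_ne_bot _).2 fun h => by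
      rw [h, le_bot_iff, Subgroup.zpowers_eq_bot] at hQ
      rw [hQ, orderOf_one] at husord
      omega
    have := Q.isPGroup'.center_nontrivial
    obtain ⟨⟨z, hz⟩, hz1⟩ := exists_ne (1 : Subgroup.center (Q : Subgroup F))
    have huQ : us ∈ (Q : Subgroup F) := hQ (Subgroup.mem_zpowers us)
    have hzc : ∀ k ∈ (Q : Subgroup F), Commute (z : F) k := fun k hk =>
      (congrArg Subtype.val (Subgroup.mem_center_iff.1 hz ⟨k, hk⟩)).symm
    have hzu : (z : F) ∈ Subgroup.zpowers us := by
      by_contra h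
      exact hbig _ z.2 h (hzc us huQ)
    have hus : us ∈ Subgroup.zpowers (z : F) := by
      have hle : Subgroup.zpowers (z : F) ≤ Subgroup.zpowers us := Subgroup.zpowers_le.2 hzu
      have hzo : orderOf (z : F) = 5 := orderOf_eq_prime (hQ5 _ z.2) (fun h => hz1 (Subtype.ext (Subtype.ext h)))
      rw [Subgroup.eq_of_le_of_card_ge hle (by rw [Nat.card_zpowers, Nat.card_zpowers, husord, hzo])]
      exact Subgroup.mem_zpowers us
    intro w hw
    by_contra h
    obtain ⟨l, hl⟩ := hus
    exact hbig w hw h (by rw [← hl]; exact ((hzc w hw).zpow_left l).symm)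
  obtain ⟨k, hk⟩ : ∃ k : S, (k : Perm β) a = b ∧ (k : Perm β) b = c ∧ (k : Perm β) c = a := by
    let w1 : Fin 3 ↪ β := ⟨![a, b, c], by
      intro i j h
      fin_cases i <;> fin_cases j <;> first
        | rfl
        | exact absurd h hab
        | exact absurd h.symm hab
        | exact absurd h hac
        | exact absurd h.symm hac
        | exact absurd h hbc
        | exact absurd h.symm hbc⟩
    let w2 : Fin 3 ↪ β := ⟨![b, c, a], by
      intro i j h
      fin_cases i <;> fin_cases j <;> first
        | rfl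
        | exact absurd h hab
        | exact absurd h.symm hab
        | exact absurd h hac
        | exact absurd h.symm hac
        | exact absurd h hbc
        | exact absurd h.symm hbc⟩
    obtain ⟨k, hk⟩ := h3.exists_smul_eq w1 w2
    exact ⟨k, DFunLike.congr_fun hk 0, DFunLike.congr_fun hk 1, DFunLike.congr_fun hk 2⟩
  obtain ⟨hka, hkb, hkc⟩ := hk
  have hconjF : k * (us : S) * k⁻¹ ∈ F := by
    rw [hFmem]
    simp only [Subgroup.coe_mul, Subgroup.coe_inv, Perm.mul_apply]
    rw [Perm.inv_eq_iff_eq.2 hkc.symm, Perm.inv_eq_iff_eq.2 hka.symm, Perm.inv_eq_iff_eq.2 hkb.symm]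
    obtain ⟨e1, e2, e3⟩ := (hFmem us).1 us.2
    rw [e1, e2, e3]
    exact ⟨hkc, hka, hkb⟩
  set u' : F := ⟨k * (us : S) * k⁻¹, hconjF⟩ with hu'
  obtain ⟨Q', hQ'⟩ : ∃ Q' : Sylow 5 F, Subgroup.zpowers u' ≤ Q' := by
    refine IsPGroup.exists_le_sylow (IsPGroup.of_card (n := 1) ?_)
    rw [Nat.card_zpowers, ← Subgroup.orderOf_coe, pow_one]
    show orderOf (k * (us : S) * k⁻¹) = 5
    rw [← MulAut.conj_apply, MulEquiv.orderOf_eq, Subgroup.orderOf_coe, husord]
  obtain ⟨n, hn⟩ := MulAction.exists_smul_eq F Q' Q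
  have hn' : n * u' * n⁻¹ ∈ Subgroup.zpowers us := by
    rw [← hQeq, ← hn]
    exact ⟨u', hQ' (Subgroup.mem_zpowers u'), rfl⟩
  rw [(isOfFinOrder_of_finite us).mem_zpowers_iff_mem_range_orderOf, Finset.mem_image] at hn'
  obtain ⟨r, -, hr⟩ := hn'
  set s : Perm β := ((n : S) : Perm β) * k with hs
  have hsu : s * u * s⁻¹ = u ^ r := by
    have := congrArg (fun z : F => ((z : S) : Perm β)) hr
    simp only [hu', Subgroup.coe_mul, SubmonoidClass.coe_pow, Subgroup.coe_inv] at this
    rw [hs, mul_inv_rev]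
    simp only [← mul_assoc] at this ⊢
    exact this.symm
  obtain ⟨hna, hnb, hnc⟩ := (hFmem n).1 n.2
  have hsa : s a = b := by rw [hs, Perm.mul_apply, hka, hnb]
  have hsb : s b = c := by rw [hs, Perm.mul_apply, hkb, hnc]
  have hsc : s c = a := by rw [hs, Perm.mul_apply, hkc, hna]
  have hsS : s ∈ S := mul_mem (n : S).2 k.2
  have hpow : ∀ l : ℕ, s ^ l * u * (s ^ l)⁻¹ = u ^ (r ^ l) := by
    intro l
    induction l with
    | zero => simp
    | succ l ih =>
      rw [pow_succ s, show s ^ l * s * u * (s ^ l * s)⁻¹ = s ^ l * (s * u * s⁻¹) * (s ^ l)⁻¹ by group,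
        hsu, ← conj_pow, ih, ← pow_mul, ← pow_succ]
  have hr4 : r ^ 4 % 5 = 1 := by
    have h : ∀ t < 5, t = 0 ∨ t ^ 4 % 5 = 1 := by decide
    rw [Nat.pow_mod]
    rcases h (r % 5) (Nat.mod_lt _ (by norm_num)) with h0 | h1
    · exfalso
      apply hu1
      rw [← Nat.div_add_mod r 5, h0, add_zero, pow_mul, hu5, one_pow, conj_eq_one_iff] at hsu
      exact hsu
    · exact h1
  have hc4 : Commute (s ^ 4) u := by
    have := hpow 4
    rw [← Nat.div_add_mod (r ^ 4) 5, hr4, pow_add, pow_mul, hu5, one_pow, one_mul, pow_one,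
      mul_inv_eq_iff_eq_mul] at this
    exact this
  set T := s ^ 40 with hT
  have hTu : ∀ e ∈ u.support, T e = e := by
    intro e he
    obtain ⟨i, hi⟩ := sq_keeps_orbit hu5 hu10 hc4 he
    have h8 : ∀ l : ℕ, (((s ^ 4) ^ 2) ^ l) e = (u ^ (i * l)) e := by
      intro l
      induction l with
      | zero => simp
      | succ l ih =>
        rw [pow_succ', Perm.mul_apply, ih, ← Perm.mul_apply, ((hc4.pow_left 2).pow_right (i * l)).eq,
          Perm.mul_apply, pow_two, Perm.mul_apply, hi, ← Perm.mul_apply, ← pow_add, Nat.mul_succ, add_comm]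
    have := h8 5
    rwa [mul_comm i 5, pow_mul u 5, hu5, one_pow, Perm.one_apply, ← pow_mul, ← pow_mul] at this
  have h3a : ∀ z, (z = a ∨ z = b ∨ z = c) → (s ^ 3) z = z := by
    rintro z (rfl | rfl | rfl) <;>
      simp [pow_succ, Perm.mul_apply, hsa, hsb, hsc]
  have hTabc : ∀ z, (z = a ∨ z = b ∨ z = c) → T z = s z := by
    intro z hz
    rw [hT, show 40 = 1 + 3 * 13 from rfl, pow_add, pow_one, Perm.mul_apply, pow_mul,
      Perm.pow_apply_eq_self_of_apply_eq_self (h3a z hz)]
  have hT3 : T.support = ({a, b, c} : Finset β) := by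
    ext y
    simp only [Perm.mem_support, Finset.mem_insert, Finset.mem_singleton]
    refine ⟨fun h => (hucomp y).1 fun hy => h (hTu y hy), fun h => ?_⟩
    rw [hTabc y h]
    rcases h with rfl | rfl | rfl
    · rw [hsa]; exact hab.symm
    · rw [hsb]; exact hbc.symm
    · rw [hsc]; exact hac
  have hcyc : T.IsThreeCycle :=
    card_support_eq_three_iff.1 (by rw [hT3]; exact Finset.card_eq_three.2 ⟨a, b, c, hab, hac, hbc, rfl⟩)
  exact Perm.alternatingGroup_le_of_isPreprimitive_of_isThreeCycle_mem hprim hcyc (pow_mem hsS 40)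

end H56
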