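import Mathlib
import Cfsg.Agent.H56.TwoCycles
import Cfsg.Agent.H56.ThreePrimes

/-!
Two primes in `[m/2, m]` whose elements always generate an alternating group.
-/

set_option autoImplicit false

namespace H56

open Equiv MulAction

variable {β : Type*} [Fintype β] [DecidableEq β]

theorem alt_five (h5 : Fintype.card β = 5) (S : Subgroup (Perm β)) (hS : S ≤ alternatingGroup β)
    (h15 : 15 ∣ Nat.card S) : S = alternatingGroup β := by
  refine eq_alt_of_card_ge (by omega) S hS 4 ?_ (by rw [h5]; decide)
  have : 0 < Nat.card S := Nat.card_pos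
  rw [h5, show Nat.factorial 5 = 120 from rfl]
  omega

/-- Admissible pairs of primes. -/
def GoodPair (m p q : ℕ) : Prop :=
  (p + 3 ≤ q ∧ (m < 2 * p ∨ q + 3 ≤ m)) ∨ (p = 3 ∧ q = 5 ∧ m ≤ 6) ∨ (p = 5 ∧ q = 7 ∧ m ≤ 10) ∨
    (p = 11 ∧ q = 13 ∧ m ≤ 16)

theorem exists_good_pair (m : ℕ) (hm : 5 ≤ m) :
    ∃ p q : ℕ, p.Prime ∧ q.Prime ∧ m ≤ 2 * p ∧ p < q ∧ q ≤ m ∧ GoodPair m p q := by
  unfold GoodPair
  rcases Nat.lt_or_ge m 7 with h | h
  · exact ⟨3, 5, by norm_num, by norm_num, by omega, by omega, by omega, by omega⟩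
  rcases Nat.lt_or_ge m 11 with h | h
  · exact ⟨5, 7, by norm_num, by norm_num, by omega, by omega, by omega, by omega⟩
  rcases Nat.lt_or_ge m 15 with h | h
  · exact ⟨7, 11, by norm_num, by norm_num, by omega, by omega, by omega, by omega⟩
  rcases Nat.lt_or_ge m 17 with h | h
  · exact ⟨11, 13, by norm_num, by norm_num, by omega, by omega, by omega, by omega⟩
  rcases Nat.lt_or_ge m 22 with h | h
  · exact ⟨11, 17, by norm_num, by norm_num, by omega, by omega, by omega, by omega⟩
  rcases Nat.lt_or_ge m 24 with h | h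
  · exact ⟨13, 19, by norm_num, by norm_num, by omega, by omega, by omega, by omega⟩
  obtain ⟨p, q, hp, hq, h1, h2, h3⟩ := exists_gap_primes (m / 2) (by omega)
  exact ⟨p, q, hp, hq, by omega, by omega, by omega, Or.inl ⟨h2, Or.inl (by omega)⟩⟩

/-- The group on the union of the supports. -/
theorem two_primes_alt {m p q : ℕ} (hp : p.Prime) (hq : q.Prime) (hmp : m ≤ 2 * p) (hpq : p < q)
    (hgood : GoodPair m p q) (hqd : q ≤ Fintype.card β) (hdm : Fintype.card β ≤ m)
    {x y : Perm β} (hxs : Perm.sign x = 1) (hys : Perm.sign y = 1) (hox : orderOf x = p)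
    (hoy : orderOf y = q) (hcover : ∀ z, z ∈ x.support ∨ z ∈ y.support) :
    ∃ d, 5 ≤ d ∧ Nonempty (Subgroup.closure ({x, y} : Set (Perm β)) ≃* alternatingGroup (Fin d)) := by
  classical
  have hp2 := hp.two_le
  set S := Subgroup.closure ({x, y} : Set (Perm β)) with hSdef
  have hxS : x ∈ S := Subgroup.subset_closure (by simp)
  have hyS : y ∈ S := Subgroup.subset_closure (by simp)
  have hS : S ≤ alternatingGroup β := by
    rw [hSdef, Subgroup.closure_le]
    rintro z (rfl | rfl)
    · exact Perm.mem_alternatingGroup.2 hxs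
    · exact Perm.mem_alternatingGroup.2 hys
  have hyc : y.IsCycle := Perm.isCycle_of_prime_order' (hoy ▸ hq) (by rw [hoy]; omega)
  have hyq : y.support.card = q := by rw [← hyc.orderOf, hoy]
  have : Fact p.Prime := ⟨hp⟩
  obtain ⟨n, hn⟩ := Perm.cycleType_prime_order (σ := x) (hox ▸ hp)
  have hxsum := Perm.sum_cycleType x
  rw [hn, Multiset.sum_replicate, hox, smul_eq_mul] at hxsum
  have hxle : x.support.card ≤ Fintype.card β := Finset.card_le_univ _
  have hn1 : n ≤ 1 := by
    by_contra h
    have := Nat.mul_le_mul_right p (show 3 ≤ n + 1 by omega)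
    omega
  -- every point is joined to a point moved by `y`
  obtain ⟨a, ha⟩ := hyc.nonempty_support
  have hxp : x ^ p = 1 := hox ▸ pow_orderOf_eq_one x
  have hreach : ∀ z, ∃ g ∈ S, g a = z := by
    intro z
    by_cases hz : z ∈ y.support
    · obtain ⟨i, hi⟩ := hyc.exists_pow_eq (Perm.mem_support.1 ha) (Perm.mem_support.1 hz)
      exact ⟨y ^ i, pow_mem hyS i, hi⟩
    · have hzx := (hcover z).resolve_right hz
      obtain ⟨i, hi⟩ : ∃ i : ℕ, (x ^ i) z ∈ y.support := by
        by_contra hno
        push Not at hno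
        let O := (Finset.range p).image fun i => (x ^ i) z
        have hO : O.card = p := by
          rw [Finset.card_image_of_injOn, Finset.card_range]
          intro i hi j hj hij
          simp only [Finset.coe_range, Set.mem_Iio] at hi hj
          by_contra hne
          have key : ∀ i j : ℕ, i < j → j < p → (x ^ i) z = (x ^ j) z → False := by
            intro i j hlt hj hij
            have h1 : (x ^ (j - i)) z = z := by
              apply (x ^ i).injective
              rw [← Perm.mul_apply, ← pow_add, Nat.add_sub_cancel' hlt.le]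
              exact hij.symm
            obtain ⟨l, hl⟩ := Nat.exists_mul_mod_eq_one_of_coprime
              ((hp.coprime_iff_not_dvd.2
                (Nat.not_dvd_of_pos_of_lt (show 0 < j - i by omega) (by omega))).symm) hp.one_lt
            have h2 := Perm.pow_apply_eq_self_of_apply_eq_self h1 l
            rw [← pow_mul, ← Nat.div_add_mod ((j - i) * l) p, hl.2, pow_add, pow_mul, hxp, one_pow, one_mul,
              pow_one] at h2
            exact Perm.mem_support.1 hzx h2
          rcases Nat.lt_or_gt_of_ne hne with h | h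
          exacts [key i j h hj hij, key j i h hi hij.symm]
        have hd : Disjoint O y.support := by
          rw [Finset.disjoint_left]
          intro w hw
          obtain ⟨i, -, rfl⟩ := Finset.mem_image.1 hw
          exact hno i
        have := Finset.card_le_univ (O ∪ y.support)
        rw [Finset.card_union_of_disjoint hd, hO, hyq] at this
        omega
      obtain ⟨j, hj⟩ := hyc.exists_pow_eq (Perm.mem_support.1 ha) (Perm.mem_support.1 hi)
      refine ⟨(x ^ i)⁻¹ * y ^ j, mul_mem (inv_mem (pow_mem hxS i)) (pow_mem hyS j), ?_⟩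
      rw [Perm.mul_apply, hj, ← Perm.mul_apply, inv_mul_cancel, Perm.one_apply]
  have : IsPretransitive S β := by
    refine (isPretransitive_iff_base a).2 fun z => ?_
    obtain ⟨g, hg, hgz⟩ := hreach z
    exact ⟨⟨g, hg⟩, hgz⟩
  have hprim := primitive_of_big_prime_cycle S hyc hyS hq hyq (by omega)
  have hjy : q + 3 ≤ Fintype.card β → alternatingGroup β ≤ S := fun h =>
    H58.alternating_le_of_prime_cycle S hprim hq h hyc hyq hyS
  have hjx : n = 0 → p + 3 ≤ Fintype.card β → alternatingGroup β ≤ S := fun h0 h =>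
    H58.alternating_le_of_prime_cycle S hprim hp h
      (Perm.card_cycleType_eq_one.1 (by rw [hn, h0]; simp)) (by rw [← hxsum, h0]; simp) hxS
  have finish_ : S = alternatingGroup β → 5 ≤ Fintype.card β →
      ∃ d, 5 ≤ d ∧ Nonempty (S ≃* alternatingGroup (Fin d)) := fun h h5 =>
    ⟨Fintype.card β, h5, ⟨(MulEquiv.subgroupCongr h).trans (Equiv.altCongrHom (Fintype.equivFin β))⟩⟩
  have hcyc : n = 0 → x.IsCycle ∧ x.support.card = p := fun h0 =>
    ⟨Perm.card_cycleType_eq_one.1 (by rw [hn, h0]; simp), by rw [← hxsum, h0]; simp⟩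
  rcases hgood with ⟨h3, h4⟩ | ⟨rfl, rfl, hm6⟩ | ⟨rfl, rfl, hm10⟩ | ⟨rfl, rfl, hm16⟩
  · refine finish_ (le_antisymm hS ?_) (by omega)
    rcases (show n = 0 ∨ n = 1 by omega) with h | h
    · exact hjx h (by omega)
    · subst h
      exact hjy (by omega)
  · -- the primes three and five
    have h15 : 15 ∣ Nat.card S := by
      have h3 : 3 ∣ Nat.card S := hox ▸ (Subgroup.orderOf_mk x hxS ▸ orderOf_dvd_natCard (⟨x, hxS⟩ : S))
      have h5 : 5 ∣ Nat.card S := hoy ▸ (Subgroup.orderOf_mk y hyS ▸ orderOf_dvd_natCard (⟨y, hyS⟩ : S))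
      exact Nat.Coprime.mul_dvd_of_dvd_of_dvd (by norm_num : Nat.Coprime 3 5) h3 h5
    rcases (show Fintype.card β = 5 ∨ Fintype.card β = 6 by omega) with h | h
    · exact finish_ (alt_five h S hS h15) (by omega)
    · rcases alt_six h S hS h15 with h' | h'
      · exact finish_ h' (by omega)
      · exact ⟨5, le_rfl, h'⟩
  · rcases (show n = 0 ∨ n = 1 by omega) with h | h
    · obtain ⟨hc, hcard⟩ := hcyc h
      by_cases h7 : Fintype.card β = 7
      · exact finish_ (alt_seven h7 S hS hprim hc hxS hcard) (by omega)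
      · exact finish_ (le_antisymm hS (hjx h (by omega))) (by omega)
    · subst h
      exact finish_ (le_antisymm hS (hjy (by omega))) (by omega)
  · rcases (show n = 0 ∨ n = 1 by omega) with h | h
    · obtain ⟨hc, hcard⟩ := hcyc h
      by_cases h13 : Fintype.card β = 13
      · exact finish_ (le_antisymm hS (alt_thirteen h13 S hS hprim hc hxS hcard)) (by omega)
      · exact finish_ (le_antisymm hS (hjx h (by omega))) (by omega)
    · subst h
      omega

theorem generate_alternating (m : ℕ) (hm : 5 ≤ m) :
    ∃ p q : ℕ, p.Prime ∧ q.Prime ∧ m ≤ 2 * p ∧ p < q ∧ q ≤ m ∧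
      ∀ x y : alternatingGroup (Fin m), orderOf x = p → orderOf y = q →
        ∃ d : ℕ, 5 ≤ d ∧ Nonempty (Subgroup.closure ({x, y} : Set (alternatingGroup (Fin m))) ≃*
          alternatingGroup (Fin d)) := by
  classical
  obtain ⟨p, q, hp, hq, h1, h2, h3, hgood⟩ := exists_good_pair m hm
  refine ⟨p, q, hp, hq, h1, h2, h3, fun x y hox hoy => ?_⟩
  set H := Subgroup.closure ({x, y} : Set (alternatingGroup (Fin m))) with hH
  let U : Finset (Fin m) := (x : Perm (Fin m)).support ∪ (y : Perm (Fin m)).support
  have hfix : ∀ g : alternatingGroup (Fin m), g ∈ H → ∀ z, z ∉ U → (g : Perm (Fin m)) z = z := by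
    intro g hg
    induction hg using Subgroup.closure_induction with
    | mem g hg =>
      intro z hz
      simp only [U, Finset.mem_union, not_or] at hz
      rcases hg with rfl | rfl
      · exact Perm.notMem_support.1 hz.1
      · exact Perm.notMem_support.1 hz.2
    | one => simp
    | mul g h _ _ hg hh =>
      intro z hz
      rw [Subgroup.coe_mul, Perm.mul_apply, hh z hz, hg z hz]
    | inv g _ hg =>
      intro z hz
      rw [Subgroup.coe_inv, Perm.inv_eq_iff_eq]
      exact (hg z hz).symm
  have hpres : ∀ g : H, ∀ z : Fin m, (((g : alternatingGroup (Fin m)) : Perm (Fin m)) z ∈ U ↔ z ∈ U) := by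
    intro g z
    constructor
    · intro h
      by_contra hz
      rw [hfix g.1 g.2 z hz] at h
      exact hz h
    · intro hz
      by_contra h
      exact h (by rwa [((g : alternatingGroup (Fin m)) : Perm (Fin m)).injective (hfix g.1 g.2 _ h)])
  let φ : H →* Perm U :=
    { toFun := fun g => ((g : alternatingGroup (Fin m)) : Perm (Fin m)).subtypePerm (p := fun z => z ∈ U) (hpres g)
      map_one' := rfl
      map_mul' := fun g h => rfl }
  have hinj : Function.Injective φ := by
    intro g h he
    refine Subtype.ext (Subtype.ext (Equiv.ext fun z => ?_))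
    by_cases hz : z ∈ U
    · exact congrArg Subtype.val (Perm.congr_fun he ⟨z, hz⟩)
    · rw [hfix g.1 g.2 z hz, hfix h.1 h.2 z hz]
  let xH : H := ⟨x, Subgroup.subset_closure (by simp)⟩
  let yH : H := ⟨y, Subgroup.subset_closure (by simp)⟩
  have hrange : φ.range = Subgroup.closure ({φ xH, φ yH} : Set (Perm U)) := by
    have htop : Subgroup.closure ({xH, yH} : Set H) = ⊤ := by
      have := Subgroup.closure_closure_coe_preimage (k := ({x, y} : Set (alternatingGroup (Fin m))))
      rw [← this]
      congr 1
      ext g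
      simp only [Set.mem_preimage, Set.mem_insert_iff, Set.mem_singleton_iff, SetLike.mem_coe]
      first
        | exact or_congr ⟨fun h => congrArg Subtype.val h, fun h => Subtype.ext h⟩
            ⟨fun h => congrArg Subtype.val h, fun h => Subtype.ext h⟩
        | exact or_congr ⟨fun h => Subtype.ext h, fun h => congrArg Subtype.val h⟩
            ⟨fun h => Subtype.ext h, fun h => congrArg Subtype.val h⟩
    rw [MonoidHom.range_eq_map, ← htop, MonoidHom.map_closure, Set.image_pair]
  have hord : ∀ g : H, orderOf (φ g) = orderOf (g : alternatingGroup (Fin m)) := fun g => by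
    rw [orderOf_injective φ hinj, Subgroup.orderOf_coe]
  have hsign : ∀ g : H, Perm.sign (φ g) = 1 := fun g => by
    show Perm.sign (((g : alternatingGroup (Fin m)) : Perm (Fin m)).subtypePerm (p := fun z => z ∈ U) (hpres g)) = 1
    have hs := (Perm.sign_subtypePerm ((g : alternatingGroup (Fin m)) : Perm (Fin m)) (hpres g) (fun z hz => by
      by_contra h
      exact hz (hfix g.1 g.2 z h))).trans
      (Perm.mem_alternatingGroup.1 (g : alternatingGroup (Fin m)).2)
    convert hs
  have hcover : ∀ z : U, z ∈ (φ xH).support ∨ z ∈ (φ yH).support := by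
    intro z
    rcases Finset.mem_union.1 z.2 with h | h
    · left
      rw [Perm.mem_support] at h ⊢
      exact fun he => h (congrArg Subtype.val he)
    · right
      rw [Perm.mem_support] at h ⊢
      exact fun he => h (congrArg Subtype.val he)
  have hU : Fintype.card U = U.card := Fintype.card_coe U
  have hqU : q ≤ U.card := by
    refine le_trans ?_ (Finset.card_le_card (Finset.subset_union_right))
    have hoy' : orderOf (y : Perm (Fin m)) = q := by rw [Subgroup.orderOf_coe, hoy]
    have hc := Perm.isCycle_of_prime_order' (σ := (y : Perm (Fin m))) (hoy' ▸ hq) (by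
      rw [hoy', Fintype.card_fin]; omega)
    rw [← hc.orderOf, hoy']
  have hUm : U.card ≤ m := (Finset.card_le_univ U).trans (le_of_eq (Fintype.card_fin m))
  obtain ⟨d, hd, ⟨e⟩⟩ := two_primes_alt (β := U) hp hq h1 h2 hgood (hU ▸ hqU) (hU ▸ hUm) (hsign xH) (hsign yH)
    (by rw [hord]; exact hox) (by rw [hord]; exact hoy) hcover
  exact ⟨d, hd, ⟨((MonoidHom.ofInjective hinj).trans (MulEquiv.subgroupCongr hrange)).trans e⟩⟩

end H56
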